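import Cfsg.Agent.Lib.Sporadic.SmallSets
import Cfsg.Agent.Lib.ThreeTrans.PlaneFourData

/-!
The reference plane of order four on 21 points.
-/

set_option autoImplicit false
set_option maxRecDepth 100000

namespace CfsgLib.ThreeTrans.PlaneFour

open Cfsg CfsgLib.Sporadic
open scoped Pointwise

/-- The transposition of the third and fourth infinite points. -/
def swapPts : ℕ := 984818244535754528103549039457470496

/-- A cell of a packed square. -/
noncomputable def cell (A n : ℕ) : ℕ := Nat.land (Nat.shiftRight A (Nat.mul 2 n)) 3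

/-- The label of the line through the `k`-th infinite point and a cell. -/
noncomputable def lab (A B C k n : ℕ) : ℕ := [Nat.div n 4, Nat.mod n 4, cell A n, cell B n, cell C n].getD k 0

/-- The mask of a line. -/
noncomputable def lineMask (A B C k s : ℕ) : ℕ :=
  Nat.lor (Nat.shiftLeft 1 k) (Nat.rec 0 (fun n acc =>
    cond (Nat.beq (lab A B C k n) s) (Nat.lor acc (Nat.shiftLeft 1 (Nat.add 5 n))) acc) 16)

/-- All lines of a triple of squares. -/
noncomputable def solLines (A B C : ℕ) : List ℕ :=
  31 :: [0, 1, 2, 3, 4].flatMap fun k => [0, 1, 2, 3].map fun s => lineMask A B C k s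

/-- Two lists have the same members. -/
noncomputable def sameList (a b : List ℕ) : Bool :=
  a.all (fun x => b.any (Nat.beq x)) && b.all (fun x => a.any (Nat.beq x))

noncomputable def orthSq (A B : ℕ) : Bool :=
  forallLt 16 fun n => forallLt 16 fun m =>
    Nat.beq n m || !(Nat.beq (cell A n) (cell A m) && Nat.beq (cell B n) (cell B m))

noncomputable def normSq (A : ℕ) : Bool := forallLt 4 fun i => Nat.beq (cell A (Nat.mul 4 i)) i

/-- A latin square with first row in order. -/
noncomputable def latinSq (A : ℕ) : Bool :=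
  forallLt 4 fun i => forallLt 4 fun j => forallLt 4 fun l =>
    Nat.beq j l || (!Nat.beq (cell A (Nat.add (Nat.mul 4 i) j)) (cell A (Nat.add (Nat.mul 4 i) l)) &&
      !Nat.beq (cell A (Nat.add (Nat.mul 4 j) i)) (cell A (Nat.add (Nat.mul 4 l) i)))

noncomputable def rowOK (r : ℕ) : Bool :=
  forallLt 4 fun j => forallLt 4 fun l => Nat.beq j l || !Nat.beq (cell r j) (cell r l)

theorem rows_complete : forallLt 256 (fun r => !rowOK r || rowCodes.any (Nat.beq r)) = true := by
  decide +kernel

theorem squares_complete : rowCodes.all (fun r1 => rowCodes.all fun r2 => rowCodes.all fun r3 =>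
    let A := Nat.lor (Nat.lor 228 (Nat.shiftLeft r1 8)) (Nat.lor (Nat.shiftLeft r2 16) (Nat.shiftLeft r3 24))
    !latinSq A || squareCodes.any (Nat.beq A)) = true := by
  decide +kernel

theorem solutions_ok : squareCodes.all (fun A => !normSq A || squareCodes.all fun B =>
    !orthSq A B || squareCodes.all fun C => !(orthSq A C && orthSq B C) ||
      (sameList (solLines A B C) planeLines ||
        sameList ((solLines A B C).map (mimg swapPts)) planeLines)) = true := by
  decide +kernel

theorem square_mem {A : ℕ} (hlt : A < 2 ^ 32) (hl : latinSq A = true) (h0 : A % 256 = 228) :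
    A ∈ squareCodes := by
  have hrow : ∀ i, i < 4 → A / 2 ^ (8 * i) % 256 ∈ rowCodes := by
    intro i hi
    have h := forallLt_elim rows_complete (show A / 2 ^ (8 * i) % 256 < 256 from Nat.mod_lt _ (by norm_num))
    have hok : rowOK (A / 2 ^ (8 * i) % 256) = true := by
      have e : ∀ j, j < 4 → cell (A / 2 ^ (8 * i) % 256) j = cell A (4 * i + j) := by
        intro j hj
        show (A / 2 ^ (8 * i) % 256) >>> (2 * j) &&& 3 = A >>> (2 * (4 * i + j)) &&& 3
        apply Nat.eq_of_testBit_eq
        intro b
        simp only [Nat.testBit_and, Nat.testBit_shiftRight, show (256 : ℕ) = 2 ^ 8 from rfl,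
          Nat.testBit_mod_two_pow, ← Nat.shiftRight_eq_div_pow]
        rw [show (3 : ℕ) = 2 ^ 2 - 1 from rfl, Nat.testBit_two_pow_sub_one]
        by_cases hb : b < 2
        · simp [hb, show 2 * j + b < 8 by omega, show 8 * i + (2 * j + b) = 2 * (4 * i + j) + b by ring]
        · simp [hb]
      rw [rowOK, forallLt_iff]
      intro j hj
      rw [forallLt_iff]
      intro l hl'
      have := forallLt_elim (forallLt_elim (forallLt_elim hl hi) hj) hl'
      simp only [Bool.or_eq_true, Bool.and_eq_true] at this ⊢
      rcases this with h | h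
      · exact Or.inl h
      · refine Or.inr ?_
        rw [e j hj, e l hl']
        exact h.1
    rw [hok] at h
    simp only [Bool.not_true, Bool.false_or, List.any_eq_true, Nat.beq_eq] at h
    obtain ⟨r, hr, e⟩ := h
    exact e ▸ hr
  have h := List.all_eq_true.1 (List.all_eq_true.1 (List.all_eq_true.1 squares_complete _
    (hrow 1 (by norm_num))) _ (hrow 2 (by norm_num))) _ (hrow 3 (by norm_num))
  have e : Nat.lor (Nat.lor 228 (Nat.shiftLeft (A / 2 ^ (8 * 1) % 256) 8))
      (Nat.lor (Nat.shiftLeft (A / 2 ^ (8 * 2) % 256) 16) (Nat.shiftLeft (A / 2 ^ (8 * 3) % 256) 24)) = A := by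
    show (228 ||| (A / 2 ^ (8 * 1) % 256) <<< 8) |||
      ((A / 2 ^ (8 * 2) % 256) <<< 16 ||| (A / 2 ^ (8 * 3) % 256) <<< 24) = A
    rw [← h0]
    apply Nat.eq_of_testBit_eq
    intro b
    simp only [Nat.testBit_or, Nat.testBit_shiftLeft, show (256 : ℕ) = 2 ^ 8 from rfl,
      Nat.testBit_mod_two_pow, ← Nat.shiftRight_eq_div_pow, Nat.testBit_shiftRight]
    by_cases h32 : b < 32
    · by_cases h8 : b < 8
      · simp [h8, show ¬ 8 ≤ b by omega, show ¬ 16 ≤ b by omega, show ¬ 24 ≤ b by omega]
      by_cases h16 : b < 16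
      · simp [h8, show 8 ≤ b by omega, show b - 8 < 8 by omega, show ¬ 16 ≤ b by omega,
          show ¬ 24 ≤ b by omega, show 8 * 1 + (b - 8) = b by omega]
      by_cases h24 : b < 24
      · simp [h8, show ¬ b - 8 < 8 by omega, show 16 ≤ b by omega, show b - 16 < 8 by omega,
          show ¬ 24 ≤ b by omega, show 8 * 2 + (b - 16) = b by omega]
      · simp [h8, show ¬ b - 8 < 8 by omega, show ¬ b - 16 < 8 by omega, show 24 ≤ b by omega,
          show b - 24 < 8 by omega, show 8 * 3 + (b - 24) = b by omega]
    · have hz : A.testBit b = false := Nat.testBit_lt_two_pow (lt_of_lt_of_le hlt (Nat.pow_le_pow_right (by norm_num) (by omega)))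
      simp [hz, show ¬ b < 8 by omega, show ¬ b - 8 < 8 by omega, show ¬ b - 16 < 8 by omega,
        show ¬ b - 24 < 8 by omega]
  simp only [e, hl, Bool.not_true, Bool.false_or, List.any_eq_true, Nat.beq_eq] at h
  obtain ⟨r, hr, e'⟩ := h
  exact e' ▸ hr

/-! ### independent sets -/

/-- No line of the model meets the mask in more than two points. -/
noncomputable def indM (m : ℕ) : Bool := planeLines.all fun l => Nat.ble (popc (Nat.land l m)) 2

/-- The union of the lines meeting the mask at least twice. -/
noncomputable def secM (m : ℕ) : ℕ :=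
  planeLines.foldr (fun l acc => cond (Nat.ble 2 (popc (Nat.land l m))) (Nat.lor acc l) acc) 0

theorem ovals_ok : ovals.length = 168 ∧ distinctList ovals = true ∧
    ovals.all (fun m => Nat.blt m 2097152 && Nat.beq (popc m) 6 && indM m) = true := by
  decide +kernel

/-- Each hyperoval is the image of an earlier one. -/
theorem tree_ok : forallLt 167 (fun k => Nat.blt (ovalTree.getD k (0, 0)).1 (Nat.succ k) &&
    Nat.blt (ovalTree.getD k (0, 0)).2 6 &&
    Nat.beq (ovals.getD (Nat.succ k) 0) (mimg (planeGens.getD (ovalTree.getD k (0, 0)).2 pone)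
      (ovals.getD (ovalTree.getD k (0, 0)).1 0))) = true ∧ ovals.getD 0 0 = ovalRoot := by
  decide +kernel

theorem four_ok : combAll (fun m => !indM m || ovals.any (fun o => Nat.beq (Nat.land o m) m &&
    Nat.beq (Nat.lor (secM m) o) 2097151)) 4 21 0 = true := by
  decide +kernel

theorem gens_ok : planeGens.all (fun p => okPerm p && Nat.beq (mimg p 2097151) 2097151 &&
    planeLines.all (fun l => planeLines.any (Nat.beq (mimg p l)))) = true ∧
    ovalPts.length = 6 ∧
    forallLt 5 (fun a => let p := planeGens.getD a pone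
      forallLt 6 fun b => Nat.beq (pget p (ovalPts.getD b 0))
        (ovalPts.getD (cond (Nat.beq b a) (Nat.add a 1) (cond (Nat.beq b (Nat.add a 1)) a b)) 0)) = true ∧
    forallLt 6 (fun b => Nat.beq (bitAt ovalRoot (ovalPts.getD b 0)) 1) = true ∧
    distinctList ovalPts = true ∧ okPerm swapPts = true ∧ mimg swapPts 2097151 = 2097151 ∧
    planeLines.length = 21 ∧ planeLines.all (fun l => Nat.blt l 2097152) = true := by
  decide +kernel

end CfsgLib.ThreeTrans.PlaneFour
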