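import Cfsg.Agent.Lib.ThreeTrans.Steiner
import Cfsg.Agent.Lib.ThreeTrans.PlaneFourModel

/-!
Projective planes of order four: coordinates, hyperovals, their stabilisers.
-/

set_option autoImplicit false
set_option maxRecDepth 4000

namespace CfsgLib.ThreeTrans.PlaneFour

open Cfsg CfsgLib.Sporadic Finset
open scoped Pointwise

variable {α : Type*} [Fintype α] [DecidableEq α] {L : Set (Finset α)}

/-! ### the line through two points -/

theorem line_unique (hL : IsSteinerSystem 2 5 L) {a b : Finset α} {x y : α} (hxy : x ≠ y)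
    (ha : a ∈ L) (hb : b ∈ L) (hxa : x ∈ a) (hya : y ∈ a) (hxb : x ∈ b) (hyb : y ∈ b) : a = b :=
  (hL.2 {x, y} (card_pair hxy)).unique ⟨ha, by simp [insert_subset_iff, hxa, hya]⟩
    ⟨hb, by simp [insert_subset_iff, hxb, hyb]⟩

theorem line_exists (hL : IsSteinerSystem 2 5 L) {x y : α} (hxy : x ≠ y) : ∃ a ∈ L, x ∈ a ∧ y ∈ a := by
  obtain ⟨a, ⟨ha, hs⟩, -⟩ := hL.2 {x, y} (card_pair hxy)
  exact ⟨a, ha, hs (by simp), hs (by simp)⟩

theorem lines_through (hL : IsSteinerSystem 2 5 L) (hα : Fintype.card α = 21) (x : α) :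
    ((blocksF L).filter (fun a => x ∈ a)).card = 5 := by
  have h := steiner_count hL (T := {x}) (by simp)
  simp only [card_singleton, hα, Finset.singleton_subset_iff] at h
  norm_num at h
  omega

/-- A set with five points outside a point `x`, no two collinear with `x`, meets every line through `x`. -/
theorem meets_line (hL : IsSteinerSystem 2 5 L) (hα : Fintype.card α = 21) {x : α} {S : Finset α}
    (hS : S.card = 5) (hxS : x ∉ S)
    (hind : ∀ a ∈ L, x ∈ a → ∀ y ∈ S, ∀ z ∈ S, y ∈ a → z ∈ a → y = z) {a : Finset α}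
    (ha : a ∈ L) (hxa : x ∈ a) : ∃ y ∈ S, y ∈ a := by
  have hne : ∀ y ∈ S, x ≠ y := fun y hy e => hxS (e ▸ hy)
  choose f hf using fun y : ↥S => line_exists hL (hne y.1 y.2)
  have hinj : Function.Injective f := fun y z e => Subtype.ext
    (hind _ (hf y).1 (hf y).2.1 _ y.2 _ z.2 (hf y).2.2 (e ▸ (hf z).2.2))
  have himg : Finset.univ.image f = (blocksF L).filter (fun a => x ∈ a) := by
    refine eq_of_subset_of_card_le ?_ ?_
    · intro b hb
      obtain ⟨y, -, rfl⟩ := mem_image.1 hb
      exact mem_filter.2 ⟨mem_blocksF.2 (hf y).1, (hf y).2.1⟩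
    · rw [lines_through hL hα, card_image_of_injective _ hinj, card_univ, Fintype.card_coe, hS]
  obtain ⟨y, -, e⟩ := mem_image.1 (himg ▸ (mem_filter.2 ⟨mem_blocksF.2 ha, hxa⟩) : a ∈ Finset.univ.image f)
  exact ⟨y, y.2, e ▸ (hf y).2.2⟩

/-! ### coordinates -/

/-- A square packed from its cells. -/
def packSq (f : ℕ → Fin 4) : ℕ := Nat.ofBits fun b : Fin 32 => (f (b.val / 2)).val.testBit (b.val % 2)

theorem testBit_packSq (f : ℕ → Fin 4) {b : ℕ} (hb : b < 32) :
    (packSq f).testBit b = (f (b / 2)).val.testBit (b % 2) := by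
  rw [packSq, Nat.testBit_ofBits_lt _ _ hb]

theorem cell_packSq (f : ℕ → Fin 4) {n : ℕ} (hn : n < 16) : cell (packSq f) n = (f n).val := by
  show (packSq f) >>> (2 * n) &&& 3 = _
  apply Nat.eq_of_testBit_eq
  intro b
  rw [Nat.testBit_and, Nat.testBit_shiftRight, show (3 : ℕ) = 2 ^ 2 - 1 from rfl,
    Nat.testBit_two_pow_sub_one]
  by_cases hb : b < 2
  · rw [testBit_packSq f (by omega), show (2 * n + b) / 2 = n by omega, show (2 * n + b) % 2 = b by omega]
    simp [hb]
  · have h0 : (f n).val.testBit b = false := Nat.testBit_lt_two_pow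
      (lt_of_lt_of_le (f n).isLt (le_trans (show 4 ≤ 2 ^ 2 by norm_num) (Nat.pow_le_pow_right (by norm_num) (by omega))))
    simp [hb, h0]

theorem packSq_mod (f : ℕ → Fin 4) (h : ∀ n, n < 4 → (f n).val = n) : packSq f % 256 = 228 := by
  apply Nat.eq_of_testBit_eq
  intro b
  rw [show (256 : ℕ) = 2 ^ 8 from rfl, Nat.testBit_mod_two_pow]
  by_cases hb : b < 8
  · rw [testBit_packSq f (by omega), h _ (by omega)]
    interval_cases b <;> decide
  · have h0 : (228 : ℕ).testBit b = false := Nat.testBit_lt_two_pow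
      (lt_of_lt_of_le (show 228 < 2 ^ 8 by norm_num) (Nat.pow_le_pow_right (by norm_num) (by omega)))
    simp [hb, h0]

theorem lineMask_loop (A B C k s i : ℕ) : ∀ n : ℕ,
    ((Nat.rec 0 (fun n acc => cond (Nat.beq (lab A B C k n) s)
      (Nat.lor acc (Nat.shiftLeft 1 (Nat.add 5 n))) acc) n : ℕ)).testBit i = true ↔
      5 ≤ i ∧ i < 5 + n ∧ lab A B C k (i - 5) = s
  | 0 => by simp; omega
  | n + 1 => by
    have ih := lineMask_loop A B C k s i n
    show (cond (Nat.beq (lab A B C k n) s) ((Nat.rec 0 (fun n acc => cond (Nat.beq (lab A B C k n) s)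
      (Nat.lor acc (Nat.shiftLeft 1 (Nat.add 5 n))) acc) n : ℕ) ||| 1 <<< (5 + n))
      (Nat.rec 0 (fun n acc => cond (Nat.beq (lab A B C k n) s)
      (Nat.lor acc (Nat.shiftLeft 1 (Nat.add 5 n))) acc) n : ℕ)).testBit i = true ↔ _
    by_cases hi : i = 5 + n
    · subst hi
      rw [show (5 + n) - 5 = n by omega] at ih ⊢
      cases hb : Nat.beq (lab A B C k n) s
      · have hne : lab A B C k n ≠ s := Nat.ne_of_beq_eq_false hb
        simp only [cond_false, ih]
        exact iff_of_false (fun h => hne h.2.2) (fun h => hne h.2.2)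
      · simp only [cond_true, Nat.testBit_or, Bool.or_eq_true, Nat.one_shiftLeft, Nat.testBit_two_pow_self]
        exact iff_of_true (Or.inr trivial) ⟨by omega, by omega, Nat.eq_of_beq_eq_true hb⟩
    · cases hb : Nat.beq (lab A B C k n) s <;>
        simp only [cond_false, cond_true, Nat.testBit_or, Bool.or_eq_true, ih, Nat.one_shiftLeft,
          Nat.testBit_two_pow_of_ne (Ne.symm hi), Bool.false_eq_true, or_false] <;>
        exact ⟨fun h => ⟨h.1, by omega, h.2.2⟩, fun h => ⟨h.1, by omega, h.2.2⟩⟩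

theorem testBit_lineMask (A B C k s i : ℕ) : (lineMask A B C k s).testBit i = true ↔
    i = k ∨ (5 ≤ i ∧ i < 21 ∧ lab A B C k (i - 5) = s) := by
  show ((1 <<< k) ||| (Nat.rec 0 (fun n acc => cond (Nat.beq (lab A B C k n) s)
    (Nat.lor acc (Nat.shiftLeft 1 (Nat.add 5 n))) acc) 16 : ℕ)).testBit i = true ↔ _
  rw [Nat.testBit_or, Bool.or_eq_true, lineMask_loop, Nat.one_shiftLeft, Nat.testBit_two_pow,
    decide_eq_true_iff, eq_comm]

theorem mem_mask21 (x : GolayPt) : x ∈ setOfMask 2097151 ↔ ix x < 21 := by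
  rw [mem_setOfMask, show (2097151 : ℕ) = 2 ^ 21 - 1 from rfl, Nat.testBit_two_pow_sub_one,
    decide_eq_true_iff]

/-- A bijection with the points of the model. -/
structure Chart (L : Set (Finset α)) where
  e : α → GolayPt
  inj : Function.Injective e
  img : ∀ x, ix (e x) < 21
  surj : ∀ y, ix y < 21 → ∃ x, e x = y
  lines : ∀ a, a ∈ L ↔ maskOf (a.image e) ∈ planeLines

theorem exists_chart (hα : Fintype.card α = 21) (hL : IsSteinerSystem 2 5 L) :
    Nonempty (Chart L) := by
  classical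
  obtain ⟨a₀, b₀, hab⟩ := Fintype.exists_pair_of_one_lt_card (show 1 < Fintype.card α by omega)
  obtain ⟨l, hl, -, -⟩ := line_exists hL hab
  have hl5 : l.card = 5 := hL.1 l hl
  obtain ⟨p, hpi, hpl⟩ : ∃ p : Fin 5 → α, Function.Injective p ∧ ∀ x, x ∈ l ↔ ∃ k, p k = x := by
    refine ⟨fun k => ((l.equivFinOfCardEq hl5).symm k).1, fun a b h => ?_, fun x => ⟨fun h => ?_, ?_⟩⟩
    · exact (l.equivFinOfCardEq hl5).symm.injective (Subtype.ext h)
    · exact ⟨l.equivFinOfCardEq hl5 ⟨x, h⟩, by simp⟩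
    · rintro ⟨k, rfl⟩
      exact ((l.equivFinOfCardEq hl5).symm k).2
  have hpmem : ∀ k, p k ∈ l := fun k => (hpl _).2 ⟨k, rfl⟩
  let Af := {x : α // x ∉ l}
  have hAf : Fintype.card Af = 16 := by
    rw [Fintype.card_subtype_compl, Fintype.card_coe, hl5, hα]
  have hne : ∀ (x : Af) k, x.1 ≠ p k := fun x k e => x.2 (e ▸ hpmem k)
  choose J hJ using fun (k : Fin 5) (x : Af) => line_exists hL (hne x k)
  have hJl : ∀ k x, J k x ≠ l := fun k x e => x.2 (by have h := (hJ k x).2.1; rwa [e] at h)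
  have hJon : ∀ k k' x, p k' ∈ J k x → k' = k := fun k k' x h => by
    by_contra hk
    exact hJl k x (line_unique hL (hpi.ne hk) (hJ k x).1 hl h (hJ k x).2.2 (hpmem _) (hpmem _))
  have hJinj : ∀ k k', k ≠ k' → ∀ x y, J k x = J k y → J k' x = J k' y → x = y := by
    intro k k' hk x y e e'
    by_contra hxy
    have h := line_unique hL (fun h => hxy (Subtype.ext h)) (hJ k x).1 (hJ k' x).1 (hJ k x).2.1
      (e ▸ (hJ k y).2.1) (hJ k' x).2.1 (e' ▸ (hJ k' y).2.1)
    exact hk (hJon k' k x (h ▸ (hJ k x).2.2))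
  let P : Fin 5 → Finset (Finset α) := fun k => ((blocksF L).filter (fun a => p k ∈ a)).erase l
  have hP : ∀ k, (P k).card = 4 := fun k => by
    rw [card_erase_of_mem (mem_filter.2 ⟨mem_blocksF.2 hl, hpmem k⟩), lines_through hL hα]
  have hJP : ∀ k x, J k x ∈ P k := fun k x =>
    mem_erase.2 ⟨hJl k x, mem_filter.2 ⟨mem_blocksF.2 (hJ k x).1, (hJ k x).2.2⟩⟩
  let ψ : Fin 5 → Af → Fin 4 := fun k x => (P k).equivFinOfCardEq (hP k) ⟨J k x, hJP k x⟩
  have hψ : ∀ k x y, ψ k x = ψ k y ↔ J k x = J k y := fun k x y => by simp [ψ]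
  have hbij : ∀ (φ : Fin 5 → Af → Fin 4), (∀ k x y, φ k x = φ k y ↔ J k x = J k y) → ∀ k k', k ≠ k' →
      Function.Bijective fun x => (φ k x, φ k' x) := by
    intro φ hφ k k' hk
    refine (Fintype.bijective_iff_injective_and_card _).2 ⟨fun x y h => ?_, by simp [hAf]⟩
    rw [Prod.mk.injEq, hφ, hφ] at h
    exact hJinj k k' hk x y h.1 h.2
  -- normalise the labels
  let T := Equiv.ofBijective _ (hbij ψ hψ 0 1 (by decide))
  let row : Fin 4 → Af := fun j => T.symm (0, j)
  have hT : ∀ i j, ψ 0 (T.symm (i, j)) = i ∧ ψ 1 (T.symm (i, j)) = j := fun i j => by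
    have h := T.apply_symm_apply (i, j)
    rw [Equiv.ofBijective_apply, Prod.mk.injEq] at h
    exact h
  have hrow : ∀ k, k ≠ 0 → Function.Injective fun j => ψ k (row j) := by
    intro k hk j j' h
    have e : row j = row j' := (hbij ψ hψ 0 k hk.symm).1 (Prod.ext ((hT 0 j).1.trans (hT 0 j').1.symm) h)
    exact (Prod.ext_iff.1 (T.symm.injective e)).2
  let π : ∀ k : Fin 5, k ≠ 0 → Fin 4 ≃ Fin 4 := fun k hk =>
    Equiv.ofBijective _ (Finite.injective_iff_bijective.1 (hrow k hk))
  let χ : Fin 5 → Af → Fin 4 := fun k x => if hk : k = 0 then ψ k x else (π k hk).symm (ψ k x)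
  have hχ : ∀ k x y, χ k x = χ k y ↔ J k x = J k y := fun k x y => by
    by_cases hk : k = 0 <;> simp [χ, hk, hψ]
  have hχrow : ∀ k, k ≠ 0 → ∀ j, χ k (row j) = j := fun k hk j => by
    simp only [χ, dif_neg hk]
    exact (π k hk).symm_apply_apply j
  have hχ0 : ∀ x, χ 0 x = ψ 0 x := fun x => by simp [χ]
  have hρinj : Function.Injective fun i => χ 2 (T.symm (i, 0)) := by
    intro i i' h
    have h1 : χ 1 (T.symm (i, 0)) = χ 1 (T.symm (i', 0)) := by
      rw [hχ, ← hψ, (hT i 0).2, (hT i' 0).2]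
    have e := (hbij χ hχ 1 2 (by decide)).1 (Prod.ext h1 h)
    exact (Prod.ext_iff.1 (T.symm.injective e)).1
  let ρ : Fin 4 ≃ Fin 4 := Equiv.ofBijective _ (Finite.injective_iff_bijective.1 hρinj)
  let φ : Fin 5 → Af → Fin 4 := fun k x => if k = 0 then ρ (χ k x) else χ k x
  have hφ : ∀ k x y, φ k x = φ k y ↔ J k x = J k y := fun k x y => by
    by_cases hk : k = 0 <;> simp [φ, hk, hχ]
  let U := Equiv.ofBijective _ (hbij φ hφ 0 1 (by decide))
  have hU : ∀ i j, φ 0 (U.symm (i, j)) = i ∧ φ 1 (U.symm (i, j)) = j := fun i j => by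
    have h := U.apply_symm_apply (i, j)
    rw [Equiv.ofBijective_apply, Prod.mk.injEq] at h
    exact h
  have hρ0 : ρ 0 = 0 := hχrow 2 (by decide) 0
  have hnormRow : ∀ k, k ≠ 0 → ∀ j, φ k (U.symm (0, j)) = j := by
    intro k hk j
    have h0 := (hU 0 j).1
    have h1 := (hU 0 j).2
    simp only [φ, if_pos, if_neg (show (1 : Fin 5) ≠ 0 by decide)] at h0 h1
    have h0 : χ 0 (U.symm (0, j)) = 0 := ρ.injective (h0.trans hρ0.symm)
    have e : U.symm (0, j) = row j := (hbij χ hχ 0 1 (by decide)).1 (Prod.ext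
      (h0.trans ((hχ0 _).trans (hT 0 j).1).symm) (h1.trans (hχrow 1 (by decide) j).symm))
    simp only [φ, if_neg hk, e, hχrow k hk]
  have hnormCol : ∀ i, φ 2 (U.symm (i, 0)) = i := by
    intro i
    have h0 := (hU i 0).1
    have h1 := (hU i 0).2
    simp only [φ, if_pos, if_neg (show (1 : Fin 5) ≠ 0 by decide)] at h0 h1
    have e : U.symm (i, 0) = T.symm (ρ.symm i, 0) := by
      refine (hbij χ hχ 0 1 (by decide)).1 (Prod.ext ?_ ?_)
      · show χ 0 _ = χ 0 _
        rw [hχ0 (T.symm _), (hT _ _).1, Equiv.eq_symm_apply]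
        exact h0
      · show χ 1 _ = χ 1 _
        rw [h1]
        have : χ 1 (T.symm (ρ.symm i, 0)) = χ 1 (row 0) := by rw [hχ, ← hψ, (hT _ _).2, (hT _ _).2]
        rw [this, hχrow 1 (by decide)]
    simp only [φ, if_neg (show (2 : Fin 5) ≠ 0 by decide), e]
    exact ρ.apply_symm_apply i
  -- the squares
  let c : ℕ → Fin 4 × Fin 4 := fun n => (⟨n / 4 % 4, Nat.mod_lt _ (by norm_num)⟩, ⟨n % 4, Nat.mod_lt _ (by norm_num)⟩)
  let S : Fin 5 → ℕ := fun k => packSq fun n => φ k (U.symm (c n))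
  have hS : ∀ k n, n < 16 → cell (S k) n = (φ k (U.symm (c n))).val := fun k n hn => cell_packSq _ hn
  have hc : ∀ n m, n < 16 → m < 16 → c n = c m → n = m := fun n m hn hm h => by
    simp only [c, Prod.mk.injEq, Fin.ext_iff] at h; omega
  have hcU : ∀ n, n < 16 → (φ 0 (U.symm (c n))).val = n / 4 ∧ (φ 1 (U.symm (c n))).val = n % 4 := fun n hn =>
    ⟨by rw [(hU _ _).1]; exact Nat.mod_eq_of_lt (by omega), by rw [(hU _ _).2]⟩
  have hlt : ∀ k, S k < 2 ^ 32 := fun k => Nat.ofBits_lt_two_pow _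
  have h228 : ∀ k, k ≠ 0 → S k % 256 = 228 := fun k hk => packSq_mod _ fun n hn => by
    have : c n = (0, ⟨n, hn⟩) := by
      simp only [c, Prod.mk.injEq, Fin.ext_iff, Fin.val_zero]; omega
    rw [this, hnormRow k hk]
  have hlat : ∀ k, k ≠ 0 → k ≠ 1 → latinSq (S k) = true := by
    intro k hk hk1
    rw [latinSq, forallLt_iff]; intro i hi
    rw [forallLt_iff]; intro j hj
    rw [forallLt_iff]; intro m hm
    show (Nat.beq j m || (!Nat.beq (cell (S k) (4 * i + j)) (cell (S k) (4 * i + m)) &&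
      !Nat.beq (cell (S k) (4 * j + i)) (cell (S k) (4 * m + i)))) = true
    by_cases hjm : j = m
    · simp [hjm]
    have key : ∀ n n' k', n < 16 → n' < 16 → k' ≠ k →
        φ k' (U.symm (c n)) = φ k' (U.symm (c n')) → n ≠ n' → cell (S k) n ≠ cell (S k) n' := by
      intro n n' k' hn hn' hk' e hnn h
      rw [hS k n hn, hS k n' hn', Fin.val_inj] at h
      exact hnn (hc n n' hn hn' (U.symm.injective ((hbij φ hφ k' k hk').1 (Prod.ext e h))))
    rw [Bool.or_eq_true, Bool.and_eq_true, Bool.not_eq_true', Bool.not_eq_true']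
    refine Or.inr ⟨?_, ?_⟩
    · exact Bool.eq_false_iff.2 fun h => key (4 * i + j) (4 * i + m) 0 (by omega) (by omega) hk.symm
        (Fin.ext (by rw [(hcU _ (by omega)).1, (hcU _ (by omega)).1]; omega)) (by omega)
        (Nat.eq_of_beq_eq_true h)
    · exact Bool.eq_false_iff.2 fun h => key (4 * j + i) (4 * m + i) 1 (by omega) (by omega) hk1.symm
        (Fin.ext (by rw [(hcU _ (by omega)).2, (hcU _ (by omega)).2]; omega)) (by omega)
        (Nat.eq_of_beq_eq_true h)
  have horth : ∀ k k', k ≠ k' → orthSq (S k) (S k') = true := by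
    intro k k' hk
    rw [orthSq, forallLt_iff]; intro n hn
    rw [forallLt_iff]; intro m hm
    by_cases hnm : n = m
    · simp [hnm]
    rw [Bool.or_eq_true, Bool.not_eq_true']
    refine Or.inr (Bool.eq_false_iff.2 fun h => ?_)
    rw [Bool.and_eq_true, Nat.beq_eq, Nat.beq_eq, hS k n hn, hS k m hm, hS k' n hn, hS k' m hm,
      Fin.val_inj, Fin.val_inj] at h
    exact hnm (hc n m hn hm (U.symm.injective ((hbij φ hφ k k' hk).1 (Prod.ext h.1 h.2))))
  have hnorm : normSq (S 2) = true := by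
    rw [normSq, forallLt_iff]; intro i hi
    show Nat.beq (cell (S 2) (4 * i)) i = true
    have : c (4 * i) = (⟨i, hi⟩, 0) := by
      simp only [c, Prod.mk.injEq, Fin.ext_iff, Fin.val_zero]; omega
    rw [Nat.beq_eq, hS 2 _ (by omega), this, hnormCol]
  have hmem : ∀ k, k ≠ 0 → k ≠ 1 → S k ∈ squareCodes := fun k h h1 =>
    square_mem (hlt k) (hlat k h h1) (h228 k h)
  have hsol := List.all_eq_true.1 solutions_ok (S 2) (hmem 2 (by decide) (by decide))
  rw [hnorm, Bool.not_true, Bool.false_or] at hsol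
  have hsol := List.all_eq_true.1 hsol (S 3) (hmem 3 (by decide) (by decide))
  rw [horth 2 3 (by decide), Bool.not_true, Bool.false_or] at hsol
  have hsol := List.all_eq_true.1 hsol (S 4) (hmem 4 (by decide) (by decide))
  rw [horth 2 4 (by decide), horth 3 4 (by decide), Bool.and_self, Bool.not_true, Bool.false_or] at hsol
  -- the map
  let code : Af → ℕ := fun x => 4 * (φ 0 x).val + (φ 1 x).val
  have hcode : ∀ x, code x < 16 := fun x => by
    have := (φ 0 x).isLt; have := (φ 1 x).isLt; simp only [code]; omega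
  have hccode : ∀ x, U.symm (c (code x)) = x := fun x => by
    have h0 := (φ 0 x).isLt
    have h1 := (φ 1 x).isLt
    have : c (code x) = U x := by
      show c (code x) = (φ 0 x, φ 1 x)
      simp only [c, code, Prod.mk.injEq, Fin.ext_iff]; omega
    rw [this, Equiv.symm_apply_apply]
  have hlab : ∀ (k : Fin 5) x, lab (S 2) (S 3) (S 4) k.val (code x) = (φ k x).val := by
    intro k x
    have h := hcode x
    fin_cases k
    · show code x / 4 = (φ 0 x).val
      have := (φ 1 x).isLt; simp only [code]; omega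
    · show code x % 4 = (φ 1 x).val
      have := (φ 1 x).isLt; simp only [code]; omega
    · show cell (S 2) (code x) = (φ 2 x).val
      rw [hS 2 _ h, hccode]
    · show cell (S 3) (code x) = (φ 3 x).val
      rw [hS 3 _ h, hccode]
    · show cell (S 4) (code x) = (φ 4 x).val
      rw [hS 4 _ h, hccode]
  let e₀ : α → GolayPt := fun x =>
    if h : x ∈ l then pt ((hpl x).1 h).choose.val
    else pt (5 + code ⟨x, h⟩)
  have he_p : ∀ k, ix (e₀ (p k)) = k.val := fun k => by
    have hk : ((hpl (p k)).1 (hpmem k)).choose = k := hpi ((hpl (p k)).1 (hpmem k)).choose_spec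
    have := k.isLt
    simp only [e₀, dif_pos (hpmem k), hk]
    exact ix_pt (by omega)
  have he_a : ∀ x : Af, ix (e₀ x.1) = 5 + code x := fun x => by
    have := hcode x
    simp only [e₀, dif_neg x.2]
    exact ix_pt (show 5 + code x < 24 by omega)
  have he : ∀ x, (∃ k, x = p k) ∨ ∃ y : Af, x = y.1 := fun x => by
    by_cases h : x ∈ l
    · obtain ⟨k, rfl⟩ := (hpl x).1 h
      exact Or.inl ⟨k, rfl⟩
    · exact Or.inr ⟨⟨x, h⟩, rfl⟩
  have hinj : Function.Injective e₀ := by
    intro x y h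
    have h := congrArg ix h
    rcases he x with ⟨k, rfl⟩ | ⟨x, rfl⟩ <;> rcases he y with ⟨k', rfl⟩ | ⟨y, rfl⟩ <;>
      simp only [he_p, he_a] at h
    · exact congrArg p (Fin.ext h)
    · exact absurd h (by omega)
    · exact absurd h (by omega)
    · rw [← hccode x, ← hccode y, show code x = code y by omega]
  have himg : ∀ x, ix (e₀ x) < 21 := fun x => by
    rcases he x with ⟨k, rfl⟩ | ⟨x, rfl⟩
    · rw [he_p]; have := k.isLt; omega
    · rw [he_a]; have := hcode x; omega
  have hsurj : ∀ y, ix y < 21 → ∃ x, e₀ x = y := by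
    intro y hy
    by_cases h5 : ix y < 5
    · exact ⟨p ⟨ix y, h5⟩, ix_injective (he_p _)⟩
    · have hn : ix y - 5 < 16 := by omega
      refine ⟨(U.symm (c (ix y - 5))).1, ix_injective ((he_a _).trans ?_)⟩
      have h := hcU _ hn
      simp only [code, h.1, h.2]
      omega
  -- lines
  have hline : ∀ k x, maskOf ((J k x).image e₀) = lineMask (S 2) (S 3) (S 4) k.val (φ k x).val := by
    intro k x
    refine Nat.eq_of_testBit_eq fun i => Bool.eq_iff_iff.2 ?_
    by_cases hi : i < 24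
    · rw [← ix_pt hi, testBit_maskOf, decide_eq_true_iff, ix_pt hi, testBit_lineMask, mem_image]
      constructor
      · rintro ⟨z, hz, hze⟩
        have hzi : ix (e₀ z) = i := by rw [hze, ix_pt hi]
        rcases he z with ⟨k', rfl⟩ | ⟨z, rfl⟩
        · rw [he_p] at hzi
          exact Or.inl (hzi.symm.trans (congrArg Fin.val (hJon k k' x hz)))
        · rw [he_a] at hzi
          have := hcode z
          have hJz : J k z = J k x := line_unique hL (hne z k) (hJ k z).1 (hJ k x).1 (hJ k z).2.1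
            (hJ k z).2.2 hz (hJ k x).2.2
          refine Or.inr ⟨by omega, by omega, ?_⟩
          rw [show i - 5 = code z by omega, hlab, (hφ k z x).2 hJz]
      · rintro (h | ⟨h5, h21, h⟩)
        · refine ⟨p k, (hJ k x).2.2, ix_injective ?_⟩
          rw [he_p, ix_pt hi, h]
        · obtain ⟨z, hz⟩ := hsurj (pt i) (by rw [ix_pt hi]; omega)
          have hzi : ix (e₀ z) = i := by rw [hz, ix_pt hi]
          rcases he z with ⟨k', rfl⟩ | ⟨z, rfl⟩
          · rw [he_p] at hzi; have := k'.isLt; omega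
          · rw [he_a] at hzi
            rw [show i - 5 = code z by omega, hlab, Fin.val_inj, hφ] at h
            exact ⟨z.1, h ▸ (hJ k z).2.1, hz⟩
    · have h1 : (maskOf ((J k x).image e₀)).testBit i = false := Nat.testBit_lt_two_pow
        (lt_of_lt_of_le (maskOf_lt _) (Nat.pow_le_pow_right (by norm_num) (by omega)))
      rw [h1, testBit_lineMask]
      have := k.isLt
      simp only [Bool.false_eq_true, false_iff]
      omega
  have hlinf : maskOf (l.image e₀) = 31 := by
    refine (congrArg maskOf (show l.image e₀ = setOfMask 31 from ?_)).trans (maskOf_setOfMask (by norm_num))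
    ext y
    rw [mem_image, mem_setOfMask, show (31 : ℕ) = 2 ^ 5 - 1 from rfl, Nat.testBit_two_pow_sub_one,
      decide_eq_true_iff]
    constructor
    · rintro ⟨z, hz, rfl⟩
      obtain ⟨k, rfl⟩ := (hpl z).1 hz
      rw [he_p]; exact k.isLt
    · intro hy
      exact ⟨p ⟨ix y, hy⟩, hpmem _, ix_injective (he_p _)⟩
  have hmask : ∀ a, a ∈ L ↔ maskOf (a.image e₀) ∈ solLines (S 2) (S 3) (S 4) := by
    intro a
    rw [solLines, List.mem_cons, List.mem_flatMap]
    constructor
    · intro ha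
      by_cases hal : a = l
      · exact Or.inl (hal ▸ hlinf)
      · obtain ⟨x, hxa, hxl⟩ : ∃ x ∈ a, x ∉ l := not_subset.1 fun h =>
          hal (eq_of_subset_of_card_le h (by rw [hL.1 a ha, hl5]))
        obtain ⟨y, hy, hya⟩ := meets_line hL hα hl5 hxl (fun b hb hxb y hy z hz hyb hzb => by
          by_contra hyz
          exact hxl (line_unique hL hyz hb hl hyb hzb hy hz ▸ hxb)) ha hxa
        obtain ⟨k, rfl⟩ := (hpl y).1 hy
        have haJ : a = J k ⟨x, hxl⟩ := line_unique hL (hne ⟨x, hxl⟩ k) ha (hJ k _).1 hxa hya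
          (hJ k _).2.1 (hJ k _).2.2
        refine Or.inr ⟨k.val, ?_, List.mem_map.2 ⟨(φ k ⟨x, hxl⟩).val, ?_, by rw [haJ, hline]⟩⟩
        · have := k.isLt; simp only [List.mem_cons, List.not_mem_nil, or_false]; omega
        · have := (φ k ⟨x, hxl⟩).isLt; simp only [List.mem_cons, List.not_mem_nil, or_false]; omega
    · rintro (h | ⟨k, hk, h⟩)
      · exact (image_injective hinj (maskOf_injective (h.trans hlinf.symm))) ▸ hl
      · obtain ⟨s, hs, h⟩ := List.mem_map.1 h
        simp only [List.mem_cons, List.not_mem_nil, or_false] at hk hs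
        have hk5 : k < 5 := by omega
        have hs4 : s < 4 := by omega
        obtain ⟨k', hk'⟩ := exists_ne (⟨k, hk5⟩ : Fin 5)
        obtain ⟨x, hx⟩ := (hbij φ hφ ⟨k, hk5⟩ k' hk'.symm).2 (⟨s, hs4⟩, 0)
        have hx1 := congrArg Fin.val (Prod.ext_iff.1 hx).1
        have e := hline ⟨k, hk5⟩ x
        rw [hx1, h] at e
        exact (image_injective hinj (maskOf_injective e)) ▸ (hJ _ x).1
  have same : ∀ {a b : List ℕ}, sameList a b = true → ∀ m, m ∈ a ↔ m ∈ b := by
    intro a b h m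
    simp only [sameList, Bool.and_eq_true, List.all_eq_true, List.any_eq_true, Nat.beq_eq] at h
    exact ⟨fun hm => by obtain ⟨y, hy, rfl⟩ := h.1 m hm; exact hy,
      fun hm => by obtain ⟨y, hy, rfl⟩ := h.2 m hm; exact hy⟩
  rcases Bool.or_eq_true _ _ ▸ hsol with h | h
  · exact ⟨⟨e₀, hinj, himg, hsurj, fun a => (hmask a).trans (same h _)⟩⟩
  · obtain ⟨σ, hσ⟩ := exists_rep gens_ok.2.2.2.2.2.1
    have h21 : ∀ y, ix y < 21 → ix (σ y) < 21 := fun y hy => by
      rw [← mem_mask21] at hy ⊢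
      have : σ y ∈ (setOfMask 2097151).image σ := mem_image_of_mem σ hy
      rwa [← setOfMask_mimg hσ, gens_ok.2.2.2.2.2.2.1] at this
    refine ⟨⟨σ ∘ e₀, σ.injective.comp hinj, fun x => h21 _ (himg x), fun y hy => ?_, fun a => ?_⟩⟩
    · have : y ∈ (setOfMask 2097151).image σ := by
        rw [← setOfMask_mimg hσ, gens_ok.2.2.2.2.2.2.1]; exact (mem_mask21 y).2 hy
      obtain ⟨z, hz, rfl⟩ := mem_image.1 this
      obtain ⟨x, rfl⟩ := hsurj z ((mem_mask21 z).1 hz)
      exact ⟨x, rfl⟩
    · have e : maskOf (a.image (σ ∘ e₀)) = mimg swapPts (maskOf (a.image e₀)) := by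
        rw [← image_image]; exact maskOf_smul hσ _
      rw [hmask, ← same h, e, List.mem_map]
      constructor
      · exact fun hm => ⟨_, hm, rfl⟩
      · rintro ⟨m, hm, hm'⟩
        have hmlt : m < 2 ^ 24 := by
          refine Nat.lt_pow_two_of_testBit _ fun i hi => ?_
          rw [solLines, List.mem_cons, List.mem_flatMap] at hm
          rcases hm with rfl | ⟨k, hk, hm⟩
          · exact Nat.testBit_lt_two_pow (lt_of_lt_of_le (show 31 < 2 ^ 5 by norm_num)
              (Nat.pow_le_pow_right (by norm_num) (by omega)))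
          · obtain ⟨s, -, rfl⟩ := List.mem_map.1 hm
            simp only [List.mem_cons, List.not_mem_nil, or_false] at hk
            rw [Bool.eq_false_iff, ne_eq, testBit_lineMask]
            omega
        have := congrArg setOfMask hm'
        rw [setOfMask_mimg hσ, setOfMask_mimg hσ, setOfMask_maskOf] at this
        have := image_injective σ.injective this
        rwa [← this, maskOf_setOfMask hmlt]

namespace Chart

variable (C : Chart L)

/-- The mask of a set of points. -/
def mask (C : Chart L) (s : Finset α) : ℕ := maskOf (s.image C.e)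

/-- The set of points of a mask. -/
def pre (C : Chart L) (m : ℕ) : Finset α := univ.filter fun x => C.e x ∈ setOfMask m

theorem mask_injective : Function.Injective C.mask :=
  maskOf_injective.comp (image_injective C.inj)

theorem mask_lt (s : Finset α) : C.mask s < 2097152 := by
  refine lt_of_lt_of_le (Nat.lt_pow_two_of_testBit (n := 21) _ fun i hi => ?_) (by norm_num)
  by_cases hi24 : i < 24
  · rw [← ix_pt hi24, mask, testBit_maskOf, decide_eq_false_iff_not, mem_image]
    rintro ⟨x, -, hx⟩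
    have := C.img x
    rw [hx, ix_pt hi24] at this
    omega
  · exact Nat.testBit_lt_two_pow
      (lt_of_lt_of_le (maskOf_lt _) (Nat.pow_le_pow_right (by norm_num) (by omega)))

theorem mask_pre {m : ℕ} (hm : m < 2097152) : C.mask (C.pre m) = m := by
  rw [mask, ← maskOf_setOfMask (lt_trans hm (by norm_num) : m < 2 ^ 24)]
  congr 1
  rw [maskOf_setOfMask (lt_trans hm (by norm_num) : m < 2 ^ 24)]
  ext y
  simp only [pre, mem_image, mem_filter, mem_univ, true_and]
  constructor
  · rintro ⟨x, hx, rfl⟩; exact hx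
  · intro hy
    have h21 : ix y < 21 := by
      by_contra hlt
      rw [mem_setOfMask, Nat.testBit_lt_two_pow (lt_of_lt_of_le (show m < 2 ^ 21 from hm)
        (Nat.pow_le_pow_right (by norm_num) (by omega)))] at hy
      exact Bool.false_ne_true hy
    obtain ⟨x, rfl⟩ := C.surj y h21
    exact ⟨x, hy, rfl⟩

theorem pre_mask (s : Finset α) : C.pre (C.mask s) = s :=
  C.mask_injective (C.mask_pre (C.mask_lt s))

theorem popc_mask (s : Finset α) : popc (C.mask s) = s.card := by
  rw [mask, popc_maskOf, card_image_of_injective _ C.inj]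

theorem card_pre {m : ℕ} (hm : m < 2097152) : (C.pre m).card = popc m := by
  rw [← C.popc_mask, C.mask_pre hm]

theorem mask_inter (s t : Finset α) : C.mask (s ∩ t) = C.mask s &&& C.mask t := by
  rw [mask, image_inter _ _ C.inj, maskOf_inter]; rfl

theorem line_mask {a : Finset α} : a ∈ L ↔ C.mask a ∈ planeLines := C.lines a

theorem planeLine_lt {m : ℕ} (hm : m ∈ planeLines) : m < 2097152 := by
  have := List.all_eq_true.1 gens_ok.2.2.2.2.2.2.2.2 m hm
  rwa [Nat.blt_eq] at this

/-- No line meets the set in more than two points. -/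
theorem ind_iff (S : Finset α) : (∀ l ∈ L, (l ∩ S).card ≤ 2) ↔ indM (C.mask S) = true := by
  simp only [indM, List.all_eq_true, Nat.ble_eq]
  constructor
  · intro h m hm
    have h' := h (C.pre m) ((C.line_mask).2 (by rw [C.mask_pre (planeLine_lt hm)]; exact hm))
    rw [← C.popc_mask, C.mask_inter, C.mask_pre (planeLine_lt hm)] at h'
    exact h'
  · intro h a ha
    rw [← C.popc_mask, C.mask_inter]
    exact h _ ((C.line_mask).1 ha)

theorem secM_testBit {m i : ℕ} (h : (secM m).testBit i = true) :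
    ∃ a ∈ planeLines, 2 ≤ popc (a &&& m) ∧ a.testBit i = true := by
  unfold secM at h
  generalize planeLines = ls at h
  induction ls with
  | nil => simp at h
  | cons a ls ih =>
    rw [List.foldr_cons] at h
    cases hb : Nat.ble 2 (popc (Nat.land a m))
    · rw [hb, cond_false] at h
      obtain ⟨b, hb', hb''⟩ := ih h
      exact ⟨b, List.mem_cons_of_mem _ hb', hb''⟩
    · rw [hb, cond_true] at h
      rw [Nat.ble_eq] at hb
      change ((_ : ℕ) ||| a).testBit i = true at h
      rw [Nat.testBit_or, Bool.or_eq_true] at h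
      rcases h with h | h
      · obtain ⟨b, hb', hb''⟩ := ih h
        exact ⟨b, List.mem_cons_of_mem _ hb', hb''⟩
      · exact ⟨a, List.mem_cons_self, hb, h⟩

/-- Every independent four-set determines a listed hyperoval containing all its extensions. -/
theorem exists_oval {S : Finset α} (h4 : S.card = 4) (hS : ∀ l ∈ L, (l ∩ S).card ≤ 2) :
    ∃ o ∈ ovals, S ⊆ C.pre o ∧
      ∀ H : Finset α, H.card = 6 → (∀ l ∈ L, (l ∩ H).card ≤ 2) → S ⊆ H → H = C.pre o := by
  have hc := combAll_spec _ 4 21 0 four_ok (S.image C.e) (by rw [card_image_of_injective _ C.inj, h4])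
    (fun y hy => by obtain ⟨x, -, rfl⟩ := mem_image.1 hy; exact C.img x)
  rw [Nat.zero_or] at hc
  rw [show maskOf (S.image C.e) = C.mask S from rfl] at hc
  change (!indM (C.mask S) || _) = true at hc
  rw [(C.ind_iff S).1 hS, Bool.not_true, Bool.false_or, List.any_eq_true] at hc
  obtain ⟨o, ho, hc⟩ := hc
  rw [Bool.and_eq_true, Nat.beq_eq, Nat.beq_eq] at hc
  have ho' := List.all_eq_true.1 ovals_ok.2.2 o ho
  simp only [Bool.and_eq_true, Nat.blt_eq, Nat.beq_eq] at ho'
  have hsub : S ⊆ C.pre o := by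
    intro x hx
    have hx' : x ∈ C.pre (o &&& C.mask S) := by
      show x ∈ C.pre (Nat.land o (C.mask S))
      rw [hc.1, C.pre_mask]; exact hx
    simp only [pre, mem_filter, mem_univ, true_and, setOfMask_land, mem_inter] at hx' ⊢
    exact hx'.1
  refine ⟨o, ho, hsub, fun H h6 hH hSH => eq_of_subset_of_card_le ?_ ?_⟩
  · intro x hx
    by_contra hxo
    have hxS : x ∉ S := fun h => hxo (hsub h)
    have hfull : ((secM (C.mask S)) ||| o).testBit (ix (C.e x)) = true := by
      show (Nat.lor (secM (C.mask S)) o).testBit (ix (C.e x)) = true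
      rw [hc.2, show (2097151 : ℕ) = 2 ^ 21 - 1 from rfl, Nat.testBit_two_pow_sub_one,
        decide_eq_true_iff]
      exact C.img x
    rw [Nat.testBit_or, Bool.or_eq_true] at hfull
    rcases hfull with h | h
    · obtain ⟨a, ha, h2, hax⟩ := secM_testBit h
      have haL : C.pre a ∈ L := (C.line_mask).2 (by rw [C.mask_pre (planeLine_lt ha)]; exact ha)
      have h2' : 2 ≤ (C.pre a ∩ S).card := by
        rw [← C.popc_mask, C.mask_inter, C.mask_pre (planeLine_lt ha)]; exact h2
      have hxa : x ∈ C.pre a := by simp [pre, hax]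
      have h3 : insert x (C.pre a ∩ S) ⊆ C.pre a ∩ H := insert_subset (mem_inter.2 ⟨hxa, hx⟩)
        (inter_subset_inter le_rfl hSH)
      have := card_le_card h3
      rw [card_insert_of_notMem (fun h => hxS (mem_inter.1 h).2)] at this
      have := hH _ haL
      omega
    · exact hxo (by simp [pre, h])
  · rw [h6, C.card_pre ho'.1.1, ho'.1.2]

theorem hyperoval_iff (H : Finset α) :
    (H.card = 6 ∧ ∀ l ∈ L, (l ∩ H).card ≤ 2) ↔ C.mask H ∈ ovals := by
  constructor
  · rintro ⟨h6, hH⟩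
    obtain ⟨S, hSH, h4⟩ := exists_subset_card_eq (show 4 ≤ H.card by omega)
    obtain ⟨o, ho, -, hu⟩ := C.exists_oval h4 fun l hl =>
      le_trans (card_le_card (inter_subset_inter le_rfl hSH)) (hH l hl)
    have ho' := List.all_eq_true.1 ovals_ok.2.2 o ho
    simp only [Bool.and_eq_true, Nat.blt_eq] at ho'
    rw [hu H h6 hH hSH, C.mask_pre ho'.1.1]
    exact ho
  · intro h
    have ho' := List.all_eq_true.1 ovals_ok.2.2 _ h
    simp only [Bool.and_eq_true, Nat.blt_eq, Nat.beq_eq] at ho'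
    exact ⟨(C.popc_mask H).symm.trans ho'.1.2, (C.ind_iff H).2 ho'.2⟩

end Chart

theorem hyperovals (hα : Fintype.card α = 21) (hL : IsSteinerSystem 2 5 L) :
    {S : Finset α | (S.card = 4 ∧ ∀ l ∈ L, (l ∩ S).card ≤ 2)}.ncard = 2520 ∧
    {H : Finset α | (H.card = 6 ∧ ∀ l ∈ L, (l ∩ H).card ≤ 2)}.ncard = 168 ∧
    ∀ S : Finset α, (S.card = 4 ∧ ∀ l ∈ L, (l ∩ S).card ≤ 2) →
      ∃! H : Finset α, (H.card = 6 ∧ ∀ l ∈ L, (l ∩ H).card ≤ 2) ∧ S ⊆ H := by
  classical
  obtain ⟨C⟩ := exists_chart hα hL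
  have hlt : ∀ o ∈ ovals, o < 2097152 := fun o ho => by
    have ho' := List.all_eq_true.1 ovals_ok.2.2 o ho
    simp only [Bool.and_eq_true, Nat.blt_eq] at ho'
    exact ho'.1.1
  let F : Finset (Finset α) := ovals.toFinset.image C.pre
  have hF : ∀ H, H ∈ F ↔ (H.card = 6 ∧ ∀ l ∈ L, (l ∩ H).card ≤ 2) := by
    intro H
    simp only [F, mem_image, List.mem_toFinset, C.hyperoval_iff]
    exact ⟨fun ⟨o, ho, e⟩ => e ▸ by rw [C.mask_pre (hlt o ho)]; exact ho,
      fun h => ⟨_, h, C.pre_mask H⟩⟩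
  have hFcard : F.card = 168 := by
    rw [card_image_of_injOn, List.toFinset_card_of_nodup (nodup_of_distinctList ovals_ok.2.1)]
    · exact ovals_ok.1
    · intro a ha b hb e
      simp only [List.coe_toFinset, Set.mem_setOf_eq] at ha hb
      rw [← C.mask_pre (hlt a ha), ← C.mask_pre (hlt b hb), e]
  have hex : ∀ S : Finset α, (S.card = 4 ∧ ∀ l ∈ L, (l ∩ S).card ≤ 2) →
      ∃! H : Finset α, (H.card = 6 ∧ ∀ l ∈ L, (l ∩ H).card ≤ 2) ∧ S ⊆ H := by
    rintro S ⟨h4, hS⟩
    obtain ⟨o, ho, hsub, hu⟩ := C.exists_oval h4 hS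
    exact ⟨C.pre o, ⟨(hF _).1 (mem_image_of_mem _ (List.mem_toFinset.2 ho)), hsub⟩,
      fun H hH => hu H hH.1.1 hH.1.2 hH.2⟩
  refine ⟨?_, ?_, hex⟩
  · have hfour : {S : Finset α | (S.card = 4 ∧ ∀ l ∈ L, (l ∩ S).card ≤ 2)} =
        ↑(F.biUnion fun H => H.powersetCard 4) := by
      ext S
      simp only [Set.mem_setOf_eq, coe_biUnion, Set.mem_iUnion, mem_coe, mem_powersetCard]
      constructor
      · intro hS
        obtain ⟨H, ⟨hH, hSH⟩, -⟩ := hex S hS
        exact ⟨H, (hF H).2 hH, hSH, hS.1⟩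
      · rintro ⟨H, hH, hSH, h4⟩
        exact ⟨h4, fun l hl => le_trans (card_le_card (inter_subset_inter le_rfl hSH)) (((hF H).1 hH).2 l hl)⟩
    rw [hfour, Set.ncard_coe_finset, card_biUnion, sum_const_nat (m := 15), hFcard]
    · intro H hH
      rw [card_powersetCard, ((hF H).1 hH).1]; rfl
    · intro H hH H' hH' hne
      refine Finset.disjoint_left.2 fun S hS hS' => hne ?_
      rw [mem_powersetCard] at hS hS'
      exact (hex S ⟨hS.2, fun l hl => le_trans (card_le_card (inter_subset_inter le_rfl hS.1))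
        (((hF H).1 hH).2 l hl)⟩).unique ⟨(hF H).1 hH, hS.1⟩ ⟨(hF H').1 hH', hS'.1⟩
  · rw [← hFcard, ← Set.ncard_coe_finset]
    exact congrArg Set.ncard (Set.ext fun H => (hF H).symm)

/-! ### the stabiliser of a hyperoval -/

/-- An automorphism fixing a hyperoval pointwise is trivial. -/
theorem fix_hyperoval (hα : Fintype.card α = 21) (hL : IsSteinerSystem 2 5 L) {H : Finset α}
    (h6 : H.card = 6) (hH : ∀ l ∈ L, (l ∩ H).card ≤ 2) {f : Equiv.Perm α} (hf : f ∈ setSystemAut L)
    (hfix : ∀ x ∈ H, f x = x) : f = 1 := by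
  refine Equiv.ext fun x => ?_
  rw [Equiv.Perm.one_apply]
  by_cases hx : x ∈ H
  · exact hfix x hx
  have three : ∀ a ∈ L, ∀ u ∈ H, ∀ v ∈ H, ∀ w ∈ H, u ∈ a → v ∈ a → w ∈ a →
      u = v ∨ u = w ∨ v = w := by
    intro a ha u hu v hv w hw hua hva hwa
    by_contra hne
    push Not at hne
    have : ({u, v, w} : Finset α) ⊆ a ∩ H := by
      simp [insert_subset_iff, hu, hv, hw, hua, hva, hwa]
    have hc := card_le_card this
    rw [card_insert_of_notMem (by simp [hne.1, hne.2.1]), card_pair hne.2.2] at hc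
    have := hH a ha
    omega
  have hsec : ∀ h ∈ H, ∃ h' ∈ H, h' ≠ h ∧ ∃ a ∈ L, x ∈ a ∧ h ∈ a ∧ h' ∈ a := by
    intro h hh
    obtain ⟨a, ha, hxa, hha⟩ := line_exists hL (show x ≠ h from fun e => hx (e ▸ hh))
    obtain ⟨y, hy, hya⟩ := meets_line hL hα (S := H.erase h) (x := h)
      (by rw [card_erase_of_mem hh, h6]) (notMem_erase h H) (fun b hb hhb y hy z hz hyb hzb => by
        rw [mem_erase] at hy hz
        rcases three b hb h hh y hy.2 z hz.2 hhb hyb hzb with e | e | e
        · exact absurd e.symm hy.1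
        · exact absurd e.symm hz.1
        · exact e) ha hha
    rw [mem_erase] at hy
    exact ⟨y, hy.2, hy.1, a, ha, hxa, hha, hya⟩
  have hmapsto : ∀ a ∈ L, ∀ u ∈ H, ∀ v ∈ H, u ≠ v → u ∈ a → v ∈ a → x ∈ a → f x ∈ a := by
    intro a ha u hu v hv huv hua hva hxa
    have hfa : a.image f ∈ L := by
      have hs : f • L = L := hf
      exact hs ▸ (Set.smul_mem_smul_set ha : f • a ∈ f • L)
    have e : a.image f = a := line_unique hL huv hfa ha
      (by rw [← hfix u hu]; exact mem_image_of_mem f hua)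
      (by rw [← hfix v hv]; exact mem_image_of_mem f hva) hua hva
    rw [← e]; exact mem_image_of_mem f hxa
  obtain ⟨h₁, hh₁⟩ := card_pos.1 (show 0 < H.card by omega)
  obtain ⟨h₂, hh₂, hne, a, ha, hxa, h1a, h2a⟩ := hsec h₁ hh₁
  obtain ⟨h₃, hh₃, hh₃'⟩ := exists_mem_notMem_of_card_lt_card (s := ({h₁, h₂} : Finset α)) (t := H)
    (by rw [card_pair hne.symm]; omega)
  simp only [mem_insert, mem_singleton, not_or] at hh₃'
  obtain ⟨h₄, hh₄, hne', b, hb, hxb, h3b, h4b⟩ := hsec h₃ hh₃
  have hab : a ≠ b := by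
    rintro rfl
    rcases three a ha h₁ hh₁ h₂ hh₂ h₃ hh₃ h1a h2a h3b with e | e | e
    · exact hne e.symm
    · exact hh₃'.1 e.symm
    · exact hh₃'.2 e.symm
  by_contra hfx
  exact hab (line_unique hL hfx ha hb (hmapsto a ha _ hh₁ _ hh₂ hne.symm h1a h2a hxa) hxa
    (hmapsto b hb _ hh₃ _ hh₄ hne'.symm h3b h4b hxb) hxb)

theorem Chart.exists_aut (C : Chart L) {p : ℕ} (hp : p ∈ planeGens) :
    ∃ g : Equiv.Perm α, g ∈ setSystemAut L ∧ ∀ x, ix (C.e (g x)) = pget p (ix (C.e x)) := by
  have h := List.all_eq_true.1 gens_ok.1 p hp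
  simp only [Bool.and_eq_true, Nat.beq_eq, List.all_eq_true, List.any_eq_true] at h
  obtain ⟨⟨hok, h21⟩, hlines⟩ := h
  obtain ⟨τ, hτ⟩ := exists_rep hok
  have hto : ∀ x, ∃ y, C.e y = τ (C.e x) := fun x => by
    refine C.surj _ ((mem_mask21 _).1 ?_)
    rw [← h21, setOfMask_mimg hτ]
    exact mem_image_of_mem τ ((mem_mask21 _).2 (C.img x))
  choose g hg using hto
  have hgi : Function.Injective g := fun x y e => by
    have := congrArg C.e e
    rw [hg, hg] at this
    exact C.inj (τ.injective this)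
  refine ⟨Equiv.ofBijective g (Finite.injective_iff_bijective.1 hgi), ?_, fun x => ?_⟩
  · show _ • L = L
    refine Set.eq_of_subset_of_ncard_le ?_ ?_ (Set.toFinite _)
    · rintro _ ⟨a, ha, rfl⟩
      rw [C.line_mask] at ha ⊢
      obtain ⟨m, hm, e⟩ := hlines _ ha
      have : C.mask (Equiv.ofBijective g (Finite.injective_iff_bijective.1 hgi) • a) = mimg p (C.mask a) := by
        rw [Chart.mask, Chart.mask, ← maskOf_smul hτ]
        congr 1
        show (a.image g).image C.e = (a.image C.e).image τ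
        rw [image_image, image_image]
        exact image_congr fun x _ => hg x
      rw [this, e]; exact hm
    · rw [← Set.image_smul, Set.ncard_image_of_injective _ (MulAction.injective _)]
  · show ix (C.e (g x)) = _
    rw [hg, hτ]

theorem hyperoval_extend (hα : Fintype.card α = 21) (hL : IsSteinerSystem 2 5 L) (H : Finset α)
    (hH : (H.card = 6 ∧ ∀ l ∈ L, (l ∩ H).card ≤ 2)) (σ : Equiv.Perm ↥H) :
    ∃! g : Equiv.Perm α, g ∈ setSystemAut L ∧ ∀ p : ↥H, g p = σ p := by
  classical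
  obtain ⟨C⟩ := exists_chart hα hL
  have hgen : ∀ k, k < 6 → planeGens.getD k pone ∈ planeGens := by decide
  have hpts : ∀ b : Fin 6, ∃ x, ix (C.e x) = ovalPts.getD b.val 0 := by
    intro b
    have hlt : ∀ b : Fin 6, ovalPts.getD b.val 0 < 21 := by decide
    obtain ⟨x, hx⟩ := C.surj (pt (ovalPts.getD b.val 0))
      (by rw [ix_pt (lt_trans (hlt b) (by norm_num))]; exact hlt b)
    exact ⟨x, by rw [hx, ix_pt (lt_trans (hlt b) (by norm_num))]⟩
  choose pts hp using hpts
  have hptsInj : Function.Injective pts := fun a b e => by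
    have := congrArg (fun x => ix (C.e x)) e
    simp only [hp] at this
    exact (by decide : ∀ a b : Fin 6, ovalPts.getD a.val 0 = ovalPts.getD b.val 0 → a = b) a b this
  let M : Submonoid (Equiv.Perm (Fin 6)) :=
    { carrier := {τ | ∃ g ∈ setSystemAut L, ∀ b, g (pts b) = pts (τ b)}
      one_mem' := ⟨1, one_mem _, fun _ => rfl⟩
      mul_mem' := by
        rintro τ τ' ⟨g, hg, h⟩ ⟨g', hg', h'⟩
        exact ⟨g * g', mul_mem hg hg', fun b => by rw [Equiv.Perm.mul_apply, h', h]; rfl⟩ }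
  have hM : M = ⊤ := by
    rw [eq_top_iff, ← Equiv.Perm.mclosure_swap_castSucc_succ 5, Submonoid.closure_le]
    rintro _ ⟨a, rfl⟩
    obtain ⟨g, hg, h⟩ := C.exists_aut (hgen a.val (by omega))
    refine ⟨g, hg, fun b => C.inj (ix_injective ?_)⟩
    rw [h, hp, hp]
    have hs := forallLt_elim (forallLt_elim gens_ok.2.2.1 a.isLt) b.isLt
    rw [Nat.eq_of_beq_eq_true hs]
    exact (by decide : ∀ (a : Fin 5) (b : Fin 6),
      ovalPts.getD (cond (Nat.beq b.val a.val) (Nat.add a.val 1) (cond (Nat.beq b.val (Nat.add a.val 1)) a.val b.val)) 0 =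
        ovalPts.getD (Equiv.swap a.castSucc a.succ b).val 0) a b
  have hroot : ∀ k, k < 168 → ∃ g ∈ setSystemAut L, ∀ b, bitAt (ovals.getD k 0) (ix (C.e (g (pts b)))) = 1 := by
    intro k
    induction k using Nat.strong_induction_on with
    | _ k ih =>
      intro hk
      rcases k with _ | k
      · refine ⟨1, one_mem _, fun b => ?_⟩
        rw [Equiv.Perm.one_apply, hp, tree_ok.2]
        exact Nat.eq_of_beq_eq_true (forallLt_elim gens_ok.2.2.2.1 b.isLt)
      · have h := forallLt_elim tree_ok.1 (show k < 167 by omega)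
        simp only [Bool.and_eq_true, Nat.blt_eq, Nat.beq_eq] at h
        obtain ⟨⟨hpar, hgi⟩, hov⟩ := h
        obtain ⟨g, hg, hgb⟩ := ih _ hpar (by omega)
        obtain ⟨g', hg', h'⟩ := C.exists_aut (hgen _ hgi)
        refine ⟨g' * g, mul_mem hg' hg, fun b => ?_⟩
        have hx := hgb b
        rw [bitAt_eq] at hx ⊢
        rw [Equiv.Perm.mul_apply, h', hov, if_pos]
        refine (testBit_mimg _ _ _).2 ⟨_, ix_lt _, ?_, rfl⟩
        by_contra hne
        rw [if_neg hne] at hx
        omega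
  obtain ⟨k, hk, hkH⟩ := List.getElem_of_mem ((C.hyperoval_iff H).1 hH)
  obtain ⟨g, hg, hgb⟩ := hroot k (ovals_ok.1 ▸ hk)
  have hq : ∀ b, g (pts b) ∈ H := fun b => by
    have := hgb b
    rw [List.getD_eq_getElem _ _ hk, hkH, Chart.mask, ← mem_iff_bitAt, mem_image] at this
    obtain ⟨y, hy, e⟩ := this
    exact C.inj e ▸ hy
  let q : Fin 6 ≃ ↥H := Equiv.ofBijective (fun b => ⟨g (pts b), hq b⟩)
    ((Fintype.bijective_iff_injective_and_card _).2 ⟨fun a b e => hptsInj (g.injective (congrArg Subtype.val e)),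
      by rw [Fintype.card_fin, Fintype.card_coe, hH.1]⟩)
  obtain ⟨g', hg', h'⟩ : (q.trans σ).trans q.symm ∈ M := hM ▸ Submonoid.mem_top _
  have hext : ∀ p : ↥H, (g * g' * g⁻¹) p = σ p := by
    intro p
    obtain ⟨b, rfl⟩ := q.surjective p
    show g (g' (g⁻¹ (g (pts b)))) = _
    rw [← Equiv.Perm.mul_apply g⁻¹, inv_mul_cancel, Equiv.Perm.one_apply, h']
    exact congrArg Subtype.val (q.apply_symm_apply (σ (q b)))
  refine ⟨g * g' * g⁻¹, ⟨mul_mem (mul_mem hg hg') (inv_mem hg), hext⟩, ?_⟩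
  rintro f ⟨hf, hfp⟩
  have := fix_hyperoval hα hL hH.1 hH.2 (mul_mem (inv_mem hf) (mul_mem (mul_mem hg hg') (inv_mem hg)))
    (fun x hx => by
      rw [Equiv.Perm.mul_apply, hext ⟨x, hx⟩, ← hfp ⟨x, hx⟩]
      rw [← Equiv.Perm.mul_apply, inv_mul_cancel, Equiv.Perm.one_apply])
  exact inv_mul_eq_one.1 this

end CfsgLib.ThreeTrans.PlaneFour
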