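import Cfsg.Agent.Lib.ThreeTrans.LeechIrred
import Cfsg.Agent.Lib.Sporadic.ConwayOrbits
import Cfsg.Prelude.Def_Spor_Conway

/-!
The lattice modulo twice itself seen from a short vector `u = 4e_∞ - 4e_0`: no nonzero totally
isotropic invariant section of `u^⊥ / u`, and no nontrivial normal 2-subgroup of the stabilizer
of the class of `u` (owner: lead).
-/

set_option autoImplicit false

namespace CfsgLib.ThreeTrans.Leech.UPerp

open Cfsg Finset CfsgLib.Sporadic
open scoped Pointwise

/-- The short vector. -/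
abbrev U : Vec := Spor.vecU'

/-- Eight times the point at infinity. -/
abbrev F8 : Vec := pairVec none none

/-- Congruence modulo twice the lattice. -/
def Cong (x y : Vec) : Prop := ∃ z, IsL z ∧ x - y = z + z

/-- The inner product is even. -/
def Bev (x y : Vec) : Prop := (16 : ℤ) ∣ dotInt x y

/-- The classes `0` and `u`. -/
def InK (x : Vec) : Prop := Cong x 0 ∨ Cong x U

/-- Even entries, all congruent modulo four. -/
def InW (x : Vec) : Prop := IsL x ∧ x none % 2 = 0 ∧ ∀ i, (x i - x none) % 4 = 0

theorem isL_sub {x y : Vec} (hx : IsL x) (hy : IsL y) : IsL (x - y) := by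
  rw [sub_eq_add_neg]; exact isL_add hx (isL_neg hy)

theorem Cong.rfl' {x : Vec} : Cong x x := ⟨0, isL_zero, by simp⟩

theorem Cong.symm {x y : Vec} (h : Cong x y) : Cong y x := by
  obtain ⟨z, hz, e⟩ := h
  exact ⟨-z, isL_neg hz, by rw [← neg_sub, e, neg_add]⟩

theorem Cong.trans {x y z : Vec} (h : Cong x y) (h' : Cong y z) : Cong x z := by
  obtain ⟨a, ha, e⟩ := h
  obtain ⟨b, hb, e'⟩ := h'
  exact ⟨a + b, isL_add ha hb, by rw [← sub_add_sub_cancel x y z, e, e']; abel⟩

theorem Cong.add {x y x' y' : Vec} (h : Cong x y) (h' : Cong x' y') : Cong (x + x') (y + y') := by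
  obtain ⟨a, ha, e⟩ := h
  obtain ⟨b, hb, e'⟩ := h'
  exact ⟨a + b, isL_add ha hb, by
    rw [show x + x' - (y + y') = (x - y) + (x' - y') by abel, e, e']; abel⟩

theorem cong_neg {x : Vec} (hx : IsL x) : Cong (-x) x := ⟨-x, isL_neg hx, by abel⟩

theorem cong_self_add {x : Vec} (hx : IsL x) : Cong (x + x) 0 := ⟨x, hx, by simp⟩

theorem isL_U : IsL U := mem_iff.1 (AddSubgroup.subset_closure Spor.vecU'_mem_leechSet)

theorem Cong.isL {x y : Vec} (h : Cong x y) (hy : IsL y) : IsL x := by
  obtain ⟨z, hz, e⟩ := h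
  rw [sub_eq_iff_eq_add] at e
  rw [e]; exact isL_add (isL_add hz hz) hy

theorem InK.isL {x : Vec} (h : InK x) : IsL x := h.elim (fun h => h.isL isL_zero) fun h => h.isL isL_U

theorem InK.add {x y : Vec} (hx : InK x) (hy : InK y) : InK (x + y) := by
  rcases hx with hx | hx <;> rcases hy with hy | hy
  · exact Or.inl (by simpa using hx.add hy)
  · exact Or.inr (by simpa using hx.add hy)
  · exact Or.inr (by simpa using hx.add hy)
  · exact Or.inl ((hx.add hy).trans (cong_self_add isL_U))

theorem InK.neg {x : Vec} (hx : InK x) : InK (-x) := by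
  rcases hx with h | h
  · exact Or.inl ((cong_neg (h.isL isL_zero)).trans h)
  · exact Or.inr ((cong_neg (h.isL isL_U)).trans h)

theorem InK.of_cong {x y : Vec} (h : Cong x y) (hy : InK y) : InK x :=
  hy.elim (fun h' => Or.inl (h.trans h')) fun h' => Or.inr (h.trans h')

/-! ### inner products -/

theorem dot_add_right (x y z : Vec) : dotInt x (y + z) = dotInt x y + dotInt x z := by
  simp only [dotInt, Pi.add_apply, mul_add, Finset.sum_add_distrib]

theorem dot_neg_right' (x y : Vec) : dotInt x (-y) = -dotInt x y := by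
  simp only [dotInt, Pi.neg_apply, mul_neg, Finset.sum_neg_distrib]

theorem dot_comm' (x y : Vec) : dotInt x y = dotInt y x := Finset.sum_congr rfl fun i _ => mul_comm _ _

theorem norm_add' (x y : Vec) : sqNorm (x + y) = sqNorm x + 2 * dotInt x y + sqNorm y := by
  simp only [sqNorm, dotInt, Finset.mul_sum, ← Finset.sum_add_distrib, Pi.add_apply]
  exact Finset.sum_congr rfl fun i _ => by ring

theorem eight_dvd_dot {x y : Vec} (hx : IsL x) (hy : IsL y) : (8 : ℤ) ∣ dotInt x y := by
  have := norm_dvd hx; have := norm_dvd hy; have := norm_dvd (isL_add hx hy)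
  rw [norm_add'] at this
  omega

theorem Bev.comm {x y : Vec} (h : Bev x y) : Bev y x := by rwa [Bev, dot_comm']

theorem Bev.add_right {x y z : Vec} (h : Bev x y) (h' : Bev x z) : Bev x (y + z) := by
  rw [Bev, dot_add_right]; exact dvd_add h h'

theorem Bev.neg_right {x y : Vec} (h : Bev x y) : Bev x (-y) := by
  rw [Bev, dot_neg_right']; exact (dvd_neg).2 h

theorem Bev.sub_right {x y z : Vec} (h : Bev x y) (h' : Bev x z) : Bev x (y - z) := by
  rw [sub_eq_add_neg]; exact h.add_right h'.neg_right

theorem bev_zero (x : Vec) : Bev x 0 := by simp [Bev, dotInt]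

theorem bev_two {x y : Vec} (hx : IsL x) (hy : IsL y) : Bev x (y + y) := by
  have := eight_dvd_dot hx hy
  rw [Bev, dot_add_right]; omega

theorem bev_of_cong {x y y' : Vec} (hx : IsL x) (h : Cong y y') (h' : Bev x y') : Bev x y := by
  obtain ⟨z, hz, e⟩ := h
  rw [sub_eq_iff_eq_add] at e
  rw [e]; exact (bev_two hx hz).add_right h'

theorem bev_UU : Bev U U := by unfold Bev; decide +kernel

theorem bev_of_inK {x y : Vec} (hx : IsL x) (h : Bev x U) (hy : InK y) : Bev x y :=
  hy.elim (fun h' => bev_of_cong hx h' (bev_zero x)) fun h' => bev_of_cong hx h' h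

theorem dot_pair (x : Vec) (i j : GolayPt) : dotInt x (pairVec i j) = 4 * (x i + x j) := by
  simp only [dotInt, pairVec, mul_add, Finset.sum_add_distrib, mul_ite, mul_one, mul_zero,
    Finset.sum_ite_eq', Finset.mem_univ, if_true]
  ring

theorem dot_octVec (x : Vec) (s : Finset GolayPt) : dotInt x (octVec s) = 2 * ∑ i ∈ s, x i := by
  simp only [dotInt, octVec, mul_ite, mul_zero, Finset.sum_ite_mem, Finset.univ_inter, Finset.mul_sum]
  exact Finset.sum_congr rfl fun i _ => mul_comm _ _

theorem dot_U (x : Vec) : dotInt x U = 4 * (x none - x (some 0)) := by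
  have : U = pairVec none none - pairVec none (some 0) := by decide +kernel
  rw [this, sub_eq_add_neg, dot_add_right, dot_neg_right', dot_pair, dot_pair]
  ring

/-! ### code words seen from the two points -/

/-- Octads missing both points. -/
def avoidList : List ℕ :=
  [4845570, 7221256, 5210132, 6475812, 3698756, 2019456, 4038912, 8077824, 6644740, 3610628,
    525274, 1060490, 4361520, 5939296]

/-- A basis of the code: ten octads missing both points and two separating them. -/
def newBasis : List ℕ :=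
  [4845570, 7221256, 5210132, 6475812, 3698756, 2019456, 4038912, 8077824, 6644740, 3610628,
    13938692, 1302533]

theorem avoid_ok : ∀ m ∈ avoidList, inCode m = true ∧ popc m = 8 ∧ bitAt m 23 = 0 ∧ bitAt m 0 = 0 := by
  decide +kernel

theorem sep_ok : inCode 13938692 = true ∧ popc 13938692 = 8 ∧ bitAt 13938692 23 = 1 ∧ bitAt 13938692 0 = 0 ∧
    bitAt 13938692 1 = 0 ∧
    inCode 1302533 = true ∧ bitAt 1302533 23 = 0 ∧ bitAt 1302533 0 = 1 := by decide +kernel

theorem basis_cert : ∀ i < 12, basisMask i = xorComb (fun n => newBasis.getD n 0)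
    ([3072, 1, 1024, 2, 1028, 1032, 1040, 32, 64, 128, 1280, 1536].getD i 0) 12 := by decide +kernel

theorem meets_table : forallLt 4096 (fun k => Nat.beq (enc k) 0 || Nat.beq (enc k) 16777215 ||
    !Nat.beq (bitAt (enc k) 23) (bitAt (enc k) 0) ||
    avoidList.any fun m => Nat.beq (popc (Nat.land m (enc k))) 2 || Nat.beq (popc (Nat.land m (enc k))) 4) = true := by
  decide +kernel

theorem avoid_supports {m : ℕ} (hm : m ∈ avoidList) :
    setOfMask m ∈ supports (golayCode : Set (GolayPt → ZMod 2)) ∧ (none : GolayPt) ∉ setOfMask m ∧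
      (some 0 : GolayPt) ∉ setOfMask m ∧ (setOfMask m).card = 8 := by
  obtain ⟨h1, h2, h3, h4⟩ := avoid_ok m hm
  have e : maskOf (setOfMask m) = m := maskOf_setOfMask (inCode_lt h1)
  refine ⟨by rw [mem_supports_iff, e]; exact h1, ?_, ?_, by rw [card_setOfMask, h2]⟩
  · rw [mem_iff_bitAt, e, show ix none = 23 from rfl, h3]; norm_num
  · rw [mem_iff_bitAt, e, show ix (some 0) = 0 from rfl, h4]; norm_num

/-- A functional on words vanishing on the ten octads, corrected at the two points, vanishes on the code. -/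
theorem code_or_shift {v : Golay.Word} (hev : ∑ i, v i = 0)
    (h : ∀ m ∈ avoidList, ∑ i ∈ setOfMask m, v i = 0) :
    v ∈ golayCode ∨ v + Golay.pairWord none (some 0) ∈ golayCode := by
  classical
  let α : ZMod 2 := ∑ i ∈ setOfMask 13938692, v i
  let β : ZMod 2 := ∑ i ∈ setOfMask 1302533, v i
  let v' : Golay.Word := v + α • Pi.single none 1 + β • Pi.single (some 0) 1
  let L : ℕ → ZMod 2 := fun m => ∑ i, v' i * wordOf m i
  have hL : ∀ m, L m = ∑ i ∈ setOfMask m, v' i := fun m => by
    simp only [L, wordOf, mul_ite, mul_one, mul_zero, ← Finset.sum_filter]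
    rfl
  have hLx : ∀ a b, L (a ^^^ b) = L a + L b := fun a b => by
    simp only [L, wordOf_xor, Pi.add_apply, mul_add, Finset.sum_add_distrib]
  have hL0 : L 0 = 0 := by simp [L, wordOf_zero]
  have hsingle : ∀ (p : GolayPt) (c : ZMod 2) (s : Finset GolayPt),
      ∑ i ∈ s, (c • Pi.single p (1 : ZMod 2) : Golay.Word) i = if p ∈ s then c else 0 := by
    intro p c s
    simp only [Pi.smul_apply, smul_eq_mul, Pi.single_apply, mul_ite, mul_one, mul_zero,
      Finset.sum_ite_eq']
  have hmem : ∀ m, m < 2 ^ 24 → ∀ p, (p ∈ setOfMask m ↔ bitAt m (ix p) = 1) := fun m hm p => by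
    rw [mem_iff_bitAt, maskOf_setOfMask hm]
  have hbasis : ∀ n < 12, L (newBasis.getD n 0) = 0 := by
    obtain ⟨a1, -, a2, a3, -, b1, b2, b3⟩ := sep_ok
    have key : ∀ m, m < 2 ^ 24 → L m = (∑ i ∈ setOfMask m, v i) +
        (if bitAt m 23 = 1 then α else 0) + (if bitAt m 0 = 1 then β else 0) := by
      intro m hm
      rw [hL]
      simp only [v', Pi.add_apply, Finset.sum_add_distrib, hsingle, hmem m hm]
      rfl
    intro n hn
    have hz : ∀ n < 10, newBasis.getD n 0 ∈ avoidList := by decide
    by_cases h10 : n < 10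
    · obtain ⟨h1, -, h3, h4⟩ := avoid_ok _ (hz n h10)
      rw [key _ (inCode_lt h1), h3, h4, h _ (hz n h10)]
      simp
    · rcases (show n = 10 ∨ n = 11 by omega) with rfl | rfl
      · show L 13938692 = 0
        rw [key _ (by norm_num), a2, a3]
        simp [α, CharTwo.add_self_eq_zero]
      · show L 1302533 = 0
        rw [key _ (by norm_num), b2, b3]
        simp [β, CharTwo.add_self_eq_zero]
  have hcomb : ∀ (f : ℕ → ℕ) (c n : ℕ), (∀ i < n, L (f i) = 0) → L (xorComb f c n) = 0 := by
    intro f c n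
    induction n with
    | zero => exact fun _ => hL0
    | succ n ih =>
      intro hf
      rw [xorComb_succ, hLx, ih (fun i hi => hf i (by omega)), bitAt_eq, zero_add]
      split
      · rw [one_mul, hf n (by omega)]
      · rw [zero_mul, hL0]
  have hcode : ∀ w ∈ golayCode, ∑ i, v' i * w i = 0 := by
    intro w hw
    obtain ⟨k, -, rfl⟩ := mem_golayCode_iff.1 hw
    refine hcomb basisMask k 12 fun i hi => ?_
    rw [basis_cert i hi]
    exact hcomb _ _ 12 hbasis
  have hv' : v' ∈ golayCode := Uniq.mem_of_orth CfsgLib.Sporadic.Conway.golay_good hcode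
  have hab : α = β := by
    have := hcode 1 one_mem_code
    simp only [Pi.one_apply, mul_one, v', Pi.add_apply, Finset.sum_add_distrib, hsingle,
      Finset.mem_univ, if_true, hev, zero_add] at this
    exact CharTwo.add_eq_zero.1 this
  rcases (show α = 0 ∨ α = 1 by generalize α = t; revert t; decide) with h0 | h1
  · left
    simpa [v', ← hab, h0] using hv'
  · right
    simpa [v', ← hab, h1, Golay.pairWord, add_assoc] using hv'

theorem red_sum (d : Vec) (s : Finset GolayPt) : ∑ i ∈ s, red d i = ((∑ i ∈ s, d i : ℤ) : ZMod 2) := by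
  simp [red]

theorem isL_four {e : Vec} (he : (∑ i, e i) % 2 = 0) : IsL ((4 : ℤ) • e) := by
  refine ⟨0, (2 : ℤ) • e, fun i => by simp; ring, ?_, ?_⟩
  · have : red ((2 : ℤ) • e) = 0 := by funext i; simp [red, CharTwo.two_eq_zero]
    rw [this]; exact zero_mem _
  · simp only [Pi.smul_apply, smul_eq_mul, ← Finset.mul_sum, Int.ModEq]
    omega

theorem cong_four_code {e : Vec} (hc : red e ∈ golayCode) :
    Cong ((4 : ℤ) • e) 0 ∨ Cong ((4 : ℤ) • e) F8 := by
  have key : ∀ f : Vec, red f ∈ golayCode → (∑ i, f i) % 4 = 0 → Cong ((4 : ℤ) • f) 0 := by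
    intro f hf h4
    refine ⟨(2 : ℤ) • f, ⟨0, f, fun i => by simp, hf, ?_⟩, by rw [sub_zero, ← add_smul]; rfl⟩
    simp only [Pi.smul_apply, smul_eq_mul, ← Finset.mul_sum, Int.ModEq]
    omega
  have hev : (∑ i, e i) % 2 = 0 := by
    have h1 := dvd_sum_red e (n := 2) rfl
    have h2 := (weight hc).2
    omega
  by_cases h4 : (∑ i, e i) % 4 = 0
  · exact Or.inl (key e hc h4)
  · right
    let f : Vec := fun i => e i - if i = none then 2 else 0
    have hf : red f = red e := by
      funext i; simp only [red, f]; split_ifs <;> simp [CharTwo.two_eq_zero]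
    have hk := key f (hf ▸ hc) (by
      simp only [f, Finset.sum_sub_distrib, Finset.sum_ite_eq', Finset.mem_univ, if_true]; omega)
    have e' : (4 : ℤ) • e = (4 : ℤ) • f + F8 := by
      funext i
      simp only [Pi.smul_apply, Pi.add_apply, smul_eq_mul, pairVec, f]
      split_ifs <;> ring
    rw [e']
    simpa using hk.add (Cong.rfl' (x := F8))

/-- The classes of four times an even vector. -/
theorem class_four {e : Vec} (he : (∑ i, e i) % 2 = 0) :
    (∃ m ∈ avoidList, (∑ i ∈ setOfMask m, e i) % 2 = 1) ∨ InK ((4 : ℤ) • e) ∨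
      InK ((4 : ℤ) • e - F8) := by
  by_cases hm : ∃ m ∈ avoidList, (∑ i ∈ setOfMask m, e i) % 2 = 1
  · exact Or.inl hm
  push Not at hm
  right
  have h1 : ∀ m ∈ avoidList, ∑ i ∈ setOfMask m, red e i = 0 := fun m hmem => by
    rw [red_sum, ZMod.intCast_zmod_eq_zero_iff_dvd]
    have := hm m hmem; omega
  have h0 : ∑ i, red e i = 0 := by
    rw [red_sum, ZMod.intCast_zmod_eq_zero_iff_dvd]; omega
  have hsub : ∀ x y : Vec, Cong x y → Cong (x - F8) (y - F8) := fun x y h => by
    obtain ⟨z, hz, e⟩ := h; exact ⟨z, hz, by rw [← e]; abel⟩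
  have hz : Cong (F8 - F8) 0 := by rw [sub_self]; exact Cong.rfl'
  rcases code_or_shift h0 h1 with hc | hc
  · rcases cong_four_code hc with h | h
    · exact Or.inl (Or.inl h)
    · exact Or.inr (Or.inl ((hsub _ _ h).trans hz))
  · let f : Vec := fun i => e i - (if i = none then 1 else 0) + (if i = some 0 then 1 else 0)
    have hf : red f = red e + Golay.pairWord none (some 0) := by
      funext i
      simp only [red, f, Golay.pairWord, Pi.add_apply, Pi.single_apply]
      push_cast [apply_ite]
      by_cases a : i = none <;> by_cases b : i = some 0 <;> simp [a, b, CharTwo.sub_eq_add]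
    have e' : (4 : ℤ) • e = (4 : ℤ) • f + U := by
      funext i
      simp only [Pi.smul_apply, Pi.add_apply, smul_eq_mul, f, U, Spor.vecU']
      by_cases a : i = none
      · subst a; simp; ring
      · by_cases b : i = some 0
        · subst b; simp; ring
        · simp [a, b]
    rw [e']
    rcases cong_four_code (hf ▸ hc : red f ∈ golayCode) with h | h
    · exact Or.inl (Or.inr (by simpa using h.add (Cong.rfl' (x := U))))
    · refine Or.inr (Or.inr ?_)
      have := (hsub _ _ (h.add (Cong.rfl' (x := U))))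
      rwa [show F8 + U - F8 = U by abel] at this

theorem InW.decomp {x : Vec} (hx : InW x) :
    ∃ e : Vec, (∑ i, e i) % 2 = 0 ∧ Cong x ((4 : ℤ) • e) := by
  obtain ⟨hL, hp, h4⟩ := hx
  let t : ℤ := x none / 2
  let e : Vec := fun i => (x i - 2 * t * omegaVec i) / 4
  have he : ∀ i, x i = 2 * t * omegaVec i + 4 * e i := fun i => by
    have h1 := omega_norm_facts i
    obtain ⟨q, hq⟩ : ∃ q, omegaVec i = 2 * q + 1 := ⟨omegaVec i / 2, by omega⟩
    have := h4 i
    show x i = 2 * t * omegaVec i + 4 * ((x i - 2 * t * omegaVec i) / 4)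
    rw [hq, show 2 * t * (2 * q + 1) = 4 * (t * q) + 2 * t by ring]
    simp only [t]
    omega
  have hx' : x = (t • omegaVec + t • omegaVec) + (4 : ℤ) • e := by
    funext i
    simp only [Pi.add_apply, Pi.smul_apply, smul_eq_mul]
    rw [he i]; ring
  refine ⟨e, ?_, t • omegaVec, isL_smul isL_omega t, by nth_rewrite 1 [hx']; abel⟩
  have h4L : IsL ((4 : ℤ) • e) := by
    have : (4 : ℤ) • e = x - (t • omegaVec + t • omegaVec) :=
      eq_sub_of_add_eq (by rw [add_comm]; exact hx'.symm)
    rw [this]
    exact isL_sub hL (isL_add (isL_smul isL_omega t) (isL_smul isL_omega t))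
  obtain ⟨m, d, k1, -, k3⟩ := h4L
  have hm : m % 2 = 0 := by have := k1 none; simp only [Pi.smul_apply, smul_eq_mul] at this; omega
  simp only [Pi.smul_apply, smul_eq_mul, ← Finset.mul_sum, Int.ModEq] at k3
  omega

/-! ### invariant subgroups -/

/-- A subgroup between twice the lattice and the vectors orthogonal to `u`, invariant under the
stabilizer of `u`. -/
structure InvX (X : AddSubgroup Vec) : Prop where
  le : ∀ x ∈ X, IsL x
  perp : ∀ x ∈ X, Bev x U
  two : ∀ x, IsL x → x + x ∈ X
  u : U ∈ X
  perm : ∀ σ ∈ M24, σ none = none → σ (some 0) = some 0 → ∀ x ∈ X, permVec σ x ∈ X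
  flip : ∀ m ∈ avoidList, ∀ x ∈ X, flipVec (setOfMask m) x ∈ X
  xi : ∀ x ∈ X, Leech.xi x ∈ X

variable {X : AddSubgroup Vec}

theorem InvX.of_cong (h : InvX X) {x y : Vec} (hc : Cong x y) (hy : y ∈ X) : x ∈ X := by
  obtain ⟨z, hz, e⟩ := hc
  rw [sub_eq_iff_eq_add] at e
  rw [e]; exact X.add_mem (h.two z hz) hy

theorem InvX.inK_mem (h : InvX X) {x : Vec} (hx : InK x) : x ∈ X :=
  hx.elim (fun hc => h.of_cong hc X.zero_mem) fun hc => h.of_cong hc h.u

theorem InvX.flip_diff (h : InvX X) {m : ℕ} (hm : m ∈ avoidList) {x : Vec} (hx : x ∈ X) :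
    (fun i => if i ∈ setOfMask m then 2 * x i else 0) ∈ X := by
  rw [← sub_flip]; exact X.sub_mem hx (h.flip m hm x hx)

theorem InvX.eight_of_four (h : InvX X) {e : Vec} (hx : (4 : ℤ) • e ∈ X) (hne : ¬ InK ((4 : ℤ) • e))
    (he : (∑ i, e i) % 2 = 0) : F8 ∈ X := by
  rcases class_four he with ⟨m, hm, hodd⟩ | hK | hK
  · have hy := h.flip_diff hm hx
    let g : Vec := fun i => (if i ∈ setOfMask m then e i else 0) - (if i = none then 1 else 0)
    have hg : IsL ((4 : ℤ) • g) := isL_four (by
      simp only [g, Finset.sum_sub_distrib, Finset.sum_ite_mem, Finset.univ_inter, Finset.sum_ite_eq',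
        Finset.mem_univ, if_true]
      omega)
    have := X.sub_mem hy (h.two _ hg)
    convert this using 1
    funext i
    simp only [pairVec, Pi.sub_apply, Pi.add_apply, Pi.smul_apply, smul_eq_mul, g]
    split_ifs <;> ring
  · exact absurd hK hne
  · have := X.sub_mem hx (h.inK_mem hK)
    rwa [sub_sub_cancel] at this

theorem InvX.eight_mem (h : InvX X) {x : Vec} (hx : x ∈ X) (hne : ¬ InK x) : F8 ∈ X := by
  have four : ∀ e : Vec, (4 : ℤ) • e ∈ X → ¬ InK ((4 : ℤ) • e) → F8 ∈ X := by
    intro e he hne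
    refine h.eight_of_four he hne ?_
    obtain ⟨m, d, k1, -, k3⟩ := h.le _ he
    have hm : m % 2 = 0 := by have := k1 none; simp only [Pi.smul_apply, smul_eq_mul] at this; omega
    simp only [Pi.smul_apply, smul_eq_mul, ← Finset.mul_sum, Int.ModEq] at k3
    omega
  have even : ∀ x ∈ X, (∀ i, x i % 2 = 0) → ¬ InK x → F8 ∈ X := by
    intro x hx hev hne
    obtain ⟨m, d', h1, h2, h3⟩ := h.le x hx
    by_cases hW : ∀ i, (x i - x none) % 4 = 0
    · obtain ⟨e, he, hc⟩ := InW.decomp ⟨h.le x hx, hev none, hW⟩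
      exact four e (h.of_cong hc.symm hx) fun hk => hne (InK.of_cong hc hk)
    let d : Vec := fun i => x i / 2
    have hd : ∀ i, x i = 2 * d i := fun i => by show x i = 2 * (x i / 2); have := hev i; omega
    have hm2 : ∀ i, d i = d' i + m / 2 := fun i => by
      show x i / 2 = _; have := hev i; have := h1 i; omega
    have hdC : red d ∈ golayCode := by
      have : red d = red d' + ((m / 2 : ℤ) : ZMod 2) • (1 : Golay.Word) := by
        funext i; simp [red, hm2]
      rw [this]; exact add_mem h2 (Submodule.smul_mem _ _ one_mem_code)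
    obtain ⟨k, hk, hke⟩ := mem_golayCode_iff.1 hdC
    have hmask : ∀ i, (bitAt (enc k) (ix i) = 1 ↔ d i % 2 = 1) := fun i => by
      rw [← cast_ne_zero_iff]
      show _ ↔ red d i ≠ 0
      rw [← hke, wordOf, bitAt_eq]
      split_ifs <;> simp
    have htab := forallLt_elim meets_table hk
    simp only [Bool.or_eq_true, Bool.not_eq_true', List.any_eq_true] at htab
    rcases htab with ((h0 | h1') | hb) | ⟨q, hq, hpc⟩
    · exfalso
      apply hW
      intro i
      have hz := Nat.eq_of_beq_eq_true h0
      have e1 : d i % 2 ≠ 1 := fun h' => by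
        have := (hmask i).2 h'; rw [hz, bitAt_eq] at this; simp at this
      have e2 : d none % 2 ≠ 1 := fun h' => by
        have := (hmask none).2 h'; rw [hz, bitAt_eq] at this; simp at this
      have := hd i; have := hd none; omega
    · exfalso
      apply hW
      intro i
      have hz := Nat.eq_of_beq_eq_true h1'
      have hall : ∀ p, bitAt 16777215 (ix p) = 1 := by decide +kernel
      have e1 := (hmask i).1 (hz ▸ hall i)
      have e2 := (hmask none).1 (hz ▸ hall none)
      have := hd i; have := hd none; omega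
    · exfalso
      have hu := h.perp x hx
      rw [Bev, dot_U] at hu
      have h23 := hmask none
      have h00 := hmask (some 0)
      have hne' : bitAt (enc k) 23 ≠ bitAt (enc k) 0 := fun e => by
        rw [e, Nat.beq_refl] at hb; exact Bool.noConfusion hb
      rw [bitAt_eq, bitAt_eq] at hne'
      rw [show ix none = 23 from rfl, bitAt_eq] at h23
      rw [show ix (some 0) = 0 from rfl, bitAt_eq] at h00
      have := hd none; have := hd (some 0)
      revert hne' h23 h00
      split_ifs <;> simp <;> omega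
    · obtain ⟨hsup, hn, h0', hcard⟩ := avoid_supports hq
      let e : Vec := fun i => if i ∈ setOfMask q then d i else 0
      have hy : (4 : ℤ) • e ∈ X := by
        convert h.flip_diff hq hx using 1
        funext i
        simp only [Pi.smul_apply, smul_eq_mul, e]
        split_ifs
        · rw [hd]; ring
        · ring
      refine four e hy fun hK => ?_
      have hsupp : support₂ (red e) = setOfMask (Nat.land q (enc k)) := by
        rw [show Nat.land q (enc k) = q &&& enc k from rfl, setOfMask_land]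
        ext i
        rw [support_red, Finset.mem_inter, mem_iff_bitAt (setOfMask (enc k)),
          maskOf_setOfMask (enc_lt hk), hmask i]
        simp only [e]
        by_cases hi : i ∈ setOfMask q <;> simp [hi]
      have hcard' : (support₂ (red e)).card = 2 ∨ (support₂ (red e)).card = 4 := by
        rw [hsupp, card_setOfMask]
        exact hpc.imp Nat.eq_of_beq_eq_true Nat.eq_of_beq_eq_true
      rcases hK with ⟨z, ⟨m', d'', k1, k2, -⟩, ez⟩ | ⟨z, ⟨m', d'', k1, k2, -⟩, ez⟩
      · have hc2 : red e ∈ golayCode := by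
          have : red e = red d'' + ((m' / 2 : ℤ) : ZMod 2) • (1 : Golay.Word) := by
            funext i
            have := congrFun ez i
            have hn' := congrFun ez none
            simp only [Pi.sub_apply, Pi.smul_apply, smul_eq_mul, Pi.zero_apply, Pi.add_apply, k1] at this hn'
            simp only [Pi.add_apply, Pi.smul_apply, Pi.one_apply, red, smul_eq_mul, mul_one, ← Int.cast_add]
            congr 1
            omega
          rw [this]; exact add_mem k2 (Submodule.smul_mem _ _ one_mem_code)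
        rcases (weight hc2).1 with hwt | hwt
        · rw [hwt] at hcard'
          simp [support₂] at hcard'
        · omega
      · let e' : Vec := fun i => e i - (if i = none then 1 else 0) + (if i = some 0 then 1 else 0)
        have hc2 : red e' ∈ golayCode := by
          have : red e' = red d'' + ((m' / 2 : ℤ) : ZMod 2) • (1 : Golay.Word) := by
            funext i
            have := congrFun ez i
            simp only [Pi.sub_apply, Pi.smul_apply, smul_eq_mul, Pi.add_apply, k1, U, Spor.vecU'] at this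
            have hn' := congrFun ez none
            simp only [Pi.sub_apply, Pi.smul_apply, smul_eq_mul, Pi.add_apply, k1, U, Spor.vecU', if_true] at hn'
            simp only [Pi.add_apply, Pi.smul_apply, Pi.one_apply, red, smul_eq_mul, mul_one, ← Int.cast_add]
            congr 1
            simp only [e']
            by_cases a : i = none
            · subst a; simp at this ⊢; omega
            · by_cases b : i = some 0
              · subst b; simp at this ⊢; omega
              · simp [a, b] at this ⊢; omega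
          rw [this]; exact add_mem k2 (Submodule.smul_mem _ _ one_mem_code)
        have hs' : support₂ (red e') = insert none (insert (some 0) (support₂ (red e))) := by
          ext i
          simp only [Finset.mem_insert, support_red, e', e]
          by_cases a : i = none
          · subst a; simp [hn]
          · by_cases b : i = some 0
            · subst b; simp [h0']
            · simp [a, b]
        have hd2 : (none : GolayPt) ∉ insert (some 0) (support₂ (red e)) := by
          rw [Finset.mem_insert, support_red]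
          simp only [e, if_neg hn]
          simp
        have hd3 : (some 0 : GolayPt) ∉ support₂ (red e) := by
          rw [support_red]
          simp only [e, if_neg h0']
          simp
        have hwt : (support₂ (red e')).card = 0 ∨ 8 ≤ (support₂ (red e')).card :=
          (weight hc2).1.imp_left fun h' => by rw [h']; simp [support₂]
        rw [hs', Finset.card_insert_of_notMem hd2, Finset.card_insert_of_notMem hd3] at hwt
        omega
  obtain ⟨m, d, h1, -, -⟩ := h.le x hx
  by_cases hpar : x none % 2 = 0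
  · exact even x hx (fun i => by have := h1 i; have := h1 none; omega) hne
  · have hodd : ∀ i, x i % 2 = 1 := fun i => by have := h1 i; have := h1 none; omega
    have hq : (4845570 : ℕ) ∈ avoidList := by decide
    obtain ⟨-, hn, -, hcard⟩ := avoid_supports hq
    have hy := h.flip_diff hq hx
    refine even _ hy (fun i => by split_ifs <;> omega) fun hK => ?_
    have hyW : ¬ ∀ i, ((fun i => if i ∈ setOfMask 4845570 then 2 * x i else 0) i -
        (fun i => if i ∈ setOfMask 4845570 then 2 * x i else 0) none) % 4 = 0 := by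
      intro hall
      obtain ⟨i, hi⟩ : ∃ i, i ∈ setOfMask 4845570 := Finset.card_pos.1 (by rw [hcard]; norm_num)
      have := hall i
      simp only [if_pos hi, if_neg hn, sub_zero] at this
      have := hodd i; omega
    apply hyW
    intro i
    rcases hK with ⟨z, ⟨m', d'', k1, -, -⟩, ez⟩ | ⟨z, ⟨m', d'', k1, -, -⟩, ez⟩
    all_goals
      have e1 := congrFun ez i
      have e2 := congrFun ez none
      simp only [Pi.sub_apply, Pi.add_apply, Pi.zero_apply, k1, U, Spor.vecU'] at e1 e2 ⊢
      revert e1 e2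
      generalize (if i ∈ setOfMask 4845570 then 2 * x i else 0) = A
      generalize (if (none : GolayPt) ∈ setOfMask 4845570 then 2 * x none else 0) = B
      intro e1 e2
      first
        | omega
        | (simp only [if_true] at e2; split_ifs at e1 <;> omega)

theorem InvX.pairs_outside (h : InvX X) (h8 : F8 ∈ X) {i j : GolayPt} (hi : i ≠ none) (hi0 : i ≠ some 0)
    (hj : j ≠ none) (hj0 : j ≠ some 0) : pairVec i j ∈ X := by
  have hdiag : ∀ k, pairVec k k ∈ X := by
    intro k
    refine h.of_cong ?_ h8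
    refine ⟨pairVec k none - pairVec none none, isL_sub (isL_pair _ _) (isL_pair _ _), ?_⟩
    funext l; simp only [pairVec, Pi.sub_apply, Pi.add_apply]; ring
  by_cases hij : i = j
  · subst hij; exact hdiag i
  have h12 : pairVec (some 1) (some 2) ∈ X := by
    have hx := h.xi _ h8
    have e : U - Leech.xi F8 = pairVec (some 1) (some 2) := by decide +kernel
    rw [← e]
    exact X.sub_mem h.u hx
  obtain ⟨g, hg⟩ := exists_map_list (xs := [none, some 0, some 1, some 2]) (ys := [none, some 0, i, j])
    (by decide) (by simp [Ne.symm hi, Ne.symm hi0, Ne.symm hj, Ne.symm hj0, hij]) rfl (by simp)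
  simp only [List.map_cons, List.map_nil, List.cons.injEq] at hg
  change g.1 _ = _ ∧ g.1 _ = _ ∧ g.1 _ = _ ∧ g.1 _ = _ ∧ _ at hg
  obtain ⟨e1, e2, e3, e4, -⟩ := hg
  have := h.perm g.1 g.2 e1 e2 _ h12
  have hp : permVec g.1 (pairVec (some 1) (some 2)) = pairVec i j := by
    funext l
    simp only [permVec, pairVec, Equiv.symm_apply_eq, e3, e4]
  rwa [hp] at this

theorem InvX.pairs_mem (h : InvX X) (h8 : F8 ∈ X) (i j : GolayPt) : pairVec i j ∈ X := by
  have hdiag : ∀ k, pairVec k k ∈ X := by
    intro k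
    refine h.of_cong ?_ h8
    refine ⟨pairVec k none - pairVec none none, isL_sub (isL_pair _ _) (isL_pair _ _), ?_⟩
    funext l; simp only [pairVec, Pi.sub_apply, Pi.add_apply]; ring
  -- every pair through `some 1`
  have hone : ∀ k, pairVec k (some 1) ∈ X := by
    obtain ⟨c1, c2, c3, c4, c5, -, -, -⟩ := sep_ok
    set C := setOfMask 13938692 with hC
    have hCe : maskOf C = 13938692 := maskOf_setOfMask (by norm_num)
    have hCs : C ∈ supports (golayCode : Set (GolayPt → ZMod 2)) := by rw [mem_supports_iff, hCe]; exact c1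
    have hCn : (none : GolayPt) ∈ C := by rw [mem_iff_bitAt, hCe]; exact c3
    have hC0 : (some 0 : GolayPt) ∉ C := by rw [mem_iff_bitAt, hCe, show ix (some 0) = 0 from rfl, c4]; norm_num
    have hC1 : (some 1 : GolayPt) ∉ C := by rw [mem_iff_bitAt, hCe, show ix (some 1) = 1 from rfl, c5]; norm_num
    have hn1 : pairVec none (some 1) ∈ X := by
      have hsum : ∑ j ∈ C.erase none, pairVec j (some 1) ∈ X := X.sum_mem fun j hj => by
        obtain ⟨hj1, hj2⟩ := Finset.mem_erase.1 hj
        exact h.pairs_outside h8 hj1 (fun e => hC0 (e ▸ hj2)) (by simp) (by decide)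
      have e : pairVec none (some 1) = octVec C + octVec C - ∑ j ∈ C.erase none, pairVec j (some 1) +
          (4 : ℤ) • pairVec (some 1) (some 1) := by
        have hc7 : (C.erase none).card = 7 := by
          rw [Finset.card_erase_of_mem hCn, hC, card_setOfMask, c2]
        funext l
        simp only [Pi.add_apply, Pi.sub_apply, Finset.sum_apply, Pi.smul_apply, smul_eq_mul, pairVec, octVec,
          ← Finset.mul_sum, Finset.sum_add_distrib, Finset.sum_const, hc7, Finset.sum_ite_eq,
          Finset.mem_erase]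
        by_cases a : l = none
        · subst a; simp [hCn]
        · by_cases b : l = some 1
          · subst b; simp [hC1]
          · by_cases c : l ∈ C <;> simp [a, b, c]
      rw [e]
      exact X.add_mem (X.sub_mem (h.two _ (isL_octVec hCs)) hsum) (X.zsmul_mem (hdiag _) 4)
    intro k
    by_cases a : k = none
    · subst a; exact hn1
    by_cases b : k = some 0
    · subst b
      have e : pairVec (some 0) (some 1) = pairVec none (some 1) - U := by decide +kernel
      rw [e]
      exact X.sub_mem hn1 h.u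
    exact h.pairs_outside h8 a b (by simp) (by decide)
  have e : pairVec i j = pairVec i (some 1) + pairVec j (some 1) - pairVec (some 1) (some 1) := by
    funext l; simp only [pairVec, Pi.add_apply, Pi.sub_apply]; ring
  rw [e]
  exact X.sub_mem (X.add_mem (hone i) (hone j)) (hdiag _)

/-- An invariant subgroup with more than `0, u` contains all of `W`. -/
theorem InvX.inW_le (h : InvX X) {x : Vec} (hx : x ∈ X) (hne : ¬ InK x) {w : Vec} (hw : InW w) : w ∈ X := by
  have h8 := h.eight_mem hx hne
  obtain ⟨e, he, hc⟩ := hw.decomp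
  refine h.of_cong hc ?_
  have : (4 : ℤ) • e = (∑ j, e j • pairVec j none) - ((∑ j, e j) / 2) • pairVec none none := by
    rw [show (4 : ℤ) • e = fun k => 4 * e k from rfl, single_four none e]
    congr 1
    funext k
    simp only [Pi.smul_apply, smul_eq_mul, pairVec]
    obtain ⟨t, ht⟩ : ∃ t, (∑ j, e j) = 2 * t := ⟨(∑ j, e j) / 2, by omega⟩
    rw [ht]
    split_ifs <;> simp <;> ring
  rw [this]
  exact X.sub_mem (X.sum_mem fun j _ => X.zsmul_mem (h.pairs_mem h8 j none) _)
    (X.zsmul_mem (h.pairs_mem h8 none none) _)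

theorem inW_pair (i j : GolayPt) : InW (pairVec i j) := by
  refine ⟨isL_pair i j, ?_, fun k => ?_⟩ <;> simp only [pairVec] <;> omega

theorem inW_of_perp {y : Vec} (hy : IsL y) (h : ∀ w, InW w → Bev y w) : InW y := by
  have h' : ∀ i j : GolayPt, (y i + y j) % 4 = 0 := fun i j => by
    have := h _ (inW_pair i j)
    rw [Bev, dot_pair] at this
    omega
  refine ⟨hy, ?_, fun i => ?_⟩
  · have := h' none none; omega
  · have := h' i none; have := h' none none; omega

theorem xi_escape : ¬ InW (Leech.xi (pairVec (some 4) (some 3))) := by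
  rintro ⟨-, -, h⟩
  exact absurd h (by decide +kernel)

/-- An invariant subgroup orthogonal to an invariant one with more than `0, u` lies in `0, u`. -/
theorem InvX.inK_of_perp {Y : AddSubgroup Vec} (hY : InvX Y)
    (hperp : ∀ y ∈ Y, ∀ w, InW w → Bev y w) {y : Vec} (hy : y ∈ Y) : InK y := by
  by_contra hne
  have hmem : Leech.xi (pairVec (some 4) (some 3)) ∈ Y := hY.xi _ (hY.inW_le hy hne (inW_pair _ _))
  exact xi_escape (inW_of_perp (hY.le _ hmem) (hperp _ hmem))

/-- An invariant totally isotropic subgroup lies in `0, u`. -/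
theorem InvX.inK_of_isotropic (h : InvX X) (hiso : ∀ x ∈ X, ∀ y ∈ X, Bev x y) {x : Vec} (hx : x ∈ X) :
    InK x := by
  by_contra hne
  exact hne (h.inK_of_perp (fun y hy w hw => hiso y hy w (h.inW_le hx hne hw)) hx)

theorem short_test : LTest (fun i : GolayPt => if i = some 1 then -3 else 1) ∧
    sqNorm (fun i : GolayPt => if i = some 1 then (-3 : ℤ) else 1) = 32 ∧
    dotInt (fun i : GolayPt => if i = some 1 then (-3 : ℤ) else 1) U = 0 ∧
    dotInt F8 (fun i : GolayPt => if i = some 1 then (-3 : ℤ) else 1) = 8 := by decide +kernel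

/-- A vector orthogonal to all short vectors orthogonal to `u` is `0` or `u`. -/
theorem inK_of_short {w : Vec} (hw : IsL w) (hu : Bev w U)
    (h : ∀ x, IsL x → sqNorm x = 32 → dotInt x U = 0 → Bev w x) : InK w := by
  have hn32 : ∀ i j : GolayPt, i ≠ j → sqNorm (pairVec i j) = 32 := by decide +kernel
  have houts : ∀ i j : GolayPt, i ≠ j → i ≠ none → i ≠ some 0 → j ≠ none → j ≠ some 0 →
      (w i + w j) % 4 = 0 := by
    intro i j hij a b c d
    have := h _ (isL_pair i j) (hn32 i j hij) (by
      rw [dot_comm', dot_pair]; simp [U, Spor.vecU', a, b, c, d])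
    rw [Bev, dot_pair] at this
    omega
  have hab : (w none + w (some 0)) % 4 = 0 := by
    have := h _ (isL_pair none (some 0)) (hn32 _ _ (by simp)) (by decide +kernel)
    rw [Bev, dot_pair] at this
    omega
  rw [Bev, dot_U] at hu
  obtain ⟨m, d, h1, h2, h3⟩ := id hw
  have hev : ∀ i, w i % 2 = 0 := by
    have := houts (some 1) (some 2) (by decide) (by simp) (by decide) (by simp) (by decide)
    have := houts (some 2) (some 3) (by decide) (by simp) (by decide) (by simp) (by decide)
    have := houts (some 1) (some 3) (by decide) (by simp) (by decide) (by simp) (by decide)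
    intro i
    have := h1 i; have := h1 (some 1)
    omega
  -- the word relative to the point one
  let c : Golay.Word := red fun i => (w i - w (some 1)) / 2
  have hc : c ∈ golayCode := by
    have : c = red d + ((d (some 1) : ℤ) : ZMod 2) • (1 : Golay.Word) := by
      funext i
      simp only [c, red, Pi.add_apply, Pi.smul_apply, Pi.one_apply, smul_eq_mul, mul_one, h1]
      rw [show (m + 2 * d i - (m + 2 * d (some 1))) / 2 = d i - d (some 1) by omega, Int.cast_sub,
        CharTwo.sub_eq_add]
    rw [this]; exact add_mem h2 (Submodule.smul_mem _ _ one_mem_code)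
  have hsup : support₂ c ⊆ {none, some 0} := by
    intro i hi
    rw [support_red] at hi
    by_contra hn
    simp only [Finset.mem_insert, Finset.mem_singleton, not_or] at hn
    by_cases h1i : i = some 1
    · subst h1i; simp at hi
    · have := houts i (some 1) h1i hn.1 hn.2 (by simp) (by decide)
      have := hev i; have := hev (some 1)
      omega
  have hc0 : support₂ c = ∅ := by
    have h2' := Finset.card_le_card hsup
    have h2'' : ({none, some 0} : Finset GolayPt).card = 2 := by decide
    rcases (weight hc).1 with h' | h'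
    · rw [h']; simp [support₂]
    · omega
  have hall : ∀ i, (w i - w none) % 4 = 0 := fun i => by
    have e1 : i ∉ support₂ c := by simp [hc0]
    have e2 : (none : GolayPt) ∉ support₂ c := by simp [hc0]
    rw [support_red] at e1 e2
    have := hev i; have := hev none; have := hev (some 1)
    omega
  obtain ⟨e, he, hce⟩ := InW.decomp ⟨hw, hev none, hall⟩
  rcases class_four he with ⟨q, hq, hodd⟩ | hK | hK
  · exfalso
    obtain ⟨hsup', hn, h0, hcard⟩ := avoid_supports hq
    have hoct : setOfMask q ∈ octads := ⟨hsup', hcard⟩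
    have hb := h _ (isL_octVec hsup') (by
        simp only [sqNorm, octVec, ite_pow, Finset.sum_ite_mem, Finset.univ_inter, zero_pow two_ne_zero,
          Finset.sum_const, hcard]; rfl)
      (by rw [dot_U]; simp [octVec, hn, h0])
    have hb' : Bev (octVec (setOfMask q)) ((4 : ℤ) • e) :=
      bev_of_cong (isL_octVec hsup') hce.symm hb.comm
    rw [Bev, dot_comm', dot_octVec] at hb'
    simp only [Pi.smul_apply, smul_eq_mul, ← Finset.mul_sum] at hb'
    omega
  · exact InK.of_cong hce hK
  · exfalso
    obtain ⟨ht, hn, hu0, h8⟩ := short_test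
    have hxL := isL_of_test ht
    have hb := h _ hxL hn hu0
    have hb' : Bev (fun i : GolayPt => if i = some 1 then (-3 : ℤ) else 1) ((4 : ℤ) • e) :=
      bev_of_cong hxL hce.symm hb.comm
    have hK' := bev_of_inK hxL (by rw [Bev, hu0]; exact dvd_zero _) hK
    have := hb'.sub_right hK'
    rw [sub_sub_cancel, Bev, dot_comm', h8] at this
    norm_num at this

/-! ### automorphisms acting on vectors -/

open Classical in
/-- An automorphism as a map on vectors (zero off the lattice). -/
noncomputable def ap (g : ↥Co0) (x : Vec) : Vec :=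
  if h : x ∈ leechLattice then ((g • (⟨x, h⟩ : ↥leechLattice) : ↥leechLattice) : Vec) else 0

theorem ap_coe (g : ↥Co0) (v : ↥leechLattice) : ap g (v : Vec) = ((g • v : ↥leechLattice) : Vec) := by
  rw [ap, dif_pos v.2]

theorem ap_mk (g : ↥Co0) {x : Vec} (hx : IsL x) :
    ap g x = ((g • (⟨x, mem_iff.2 hx⟩ : ↥leechLattice) : ↥leechLattice) : Vec) := ap_coe g ⟨x, mem_iff.2 hx⟩

theorem ap_isL (g : ↥Co0) {x : Vec} (hx : IsL x) : IsL (ap g x) := by
  rw [ap_mk g hx]; exact mem_iff.1 (SetLike.coe_mem _)

theorem ap_add (g : ↥Co0) {x y : Vec} (hx : IsL x) (hy : IsL y) : ap g (x + y) = ap g x + ap g y := by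
  rw [ap_mk g hx, ap_mk g hy, ap_mk g (isL_add hx hy)]
  exact congrArg Subtype.val (g.2.1 ⟨x, mem_iff.2 hx⟩ ⟨y, mem_iff.2 hy⟩)

theorem ap_zero (g : ↥Co0) : ap g 0 = 0 := by
  have := ap_add g isL_zero isL_zero
  rw [add_zero] at this
  exact left_eq_add.1 this

theorem ap_neg (g : ↥Co0) {x : Vec} (hx : IsL x) : ap g (-x) = -ap g x := by
  have := ap_add g hx (isL_neg hx)
  rw [add_neg_cancel, ap_zero] at this
  exact eq_neg_of_add_eq_zero_right this.symm

theorem ap_sub (g : ↥Co0) {x y : Vec} (hx : IsL x) (hy : IsL y) : ap g (x - y) = ap g x - ap g y := by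
  rw [sub_eq_add_neg, ap_add g hx (isL_neg hy), ap_neg g hy, ← sub_eq_add_neg]

theorem ap_mul (g h : ↥Co0) {x : Vec} (hx : IsL x) : ap (g * h) x = ap g (ap h x) := by
  rw [ap_mk _ hx, ap_mk h hx, ap_coe, mul_smul]

theorem ap_one {x : Vec} (hx : IsL x) : ap 1 x = x := by
  rw [ap_mk _ hx, one_smul]

theorem ap_norm (g : ↥Co0) {x : Vec} (hx : IsL x) : sqNorm (ap g x) = sqNorm x := by
  rw [ap_mk g hx]; exact g.2.2 _

theorem ap_dot (g : ↥Co0) {x y : Vec} (hx : IsL x) (hy : IsL y) : dotInt (ap g x) (ap g y) = dotInt x y := by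
  have h := ap_norm g (isL_add hx hy)
  rw [ap_add g hx hy, norm_add', norm_add', ap_norm g hx, ap_norm g hy] at h
  omega

theorem ap_inv (g : ↥Co0) {x : Vec} (hx : IsL x) : ap g (ap g⁻¹ x) = x := by
  rw [← ap_mul _ _ hx, mul_inv_cancel, ap_one hx]

theorem ap_inv' (g : ↥Co0) {x : Vec} (hx : IsL x) : ap g⁻¹ (ap g x) = x := by
  rw [← ap_mul _ _ hx, inv_mul_cancel, ap_one hx]

theorem Cong.ap {x y : Vec} (h : Cong x y) (hy : IsL y) (g : ↥Co0) : Cong (ap g x) (ap g y) := by
  have hx := h.isL hy
  obtain ⟨z, hz, e⟩ := h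
  exact ⟨UPerp.ap g z, ap_isL g hz, by rw [← ap_sub g hx hy, e, ap_add g hz hz]⟩

theorem InK.ap {x : Vec} (h : InK x) {g : ↥Co0} (hg : Cong (UPerp.ap g U) U) : InK (ap g x) := by
  rcases h with h | h
  · exact Or.inl (by simpa [ap_zero] using h.ap isL_zero g)
  · exact Or.inr ((h.ap isL_U g).trans hg)

theorem bev_ap {g : ↥Co0} {x y : Vec} (hx : IsL x) (hy : IsL y) (h : Bev x y) :
    Bev (UPerp.ap g x) (UPerp.ap g y) := by rwa [Bev, ap_dot g hx hy]

theorem bev_ap_U {g : ↥Co0} (hg : Cong (UPerp.ap g U) U) {x : Vec} (hx : IsL x) (h : Bev x U) :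
    Bev (UPerp.ap g x) U := bev_of_cong (ap_isL g hx) hg.symm (bev_ap hx isL_U h)

theorem gens_fix {g : ↥Co0} (h : UPerp.ap g U = U) : Cong (UPerp.ap g U) U := by rw [h]; exact Cong.rfl'

theorem permElt_U {σ : Equiv.Perm GolayPt} (hσ : σ ∈ M24) (h1 : σ none = none) (h2 : σ (some 0) = some 0) :
    ap (permElt hσ) U = U := by
  rw [ap_mk _ isL_U, permElt_apply]
  funext i
  simp only [permVec, U, Spor.vecU', Equiv.symm_apply_eq, h1, h2]

theorem flipElt_U {m : ℕ} (hm : m ∈ avoidList) : ap (flipElt (avoid_supports hm).1) U = U := by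
  obtain ⟨-, hn, h0, -⟩ := avoid_supports hm
  rw [ap_mk _ isL_U, flipElt_apply]
  funext i
  simp only [flipVec, U, Spor.vecU']
  by_cases hi : i ∈ setOfMask m
  · simp [hi, show i ≠ none from fun e => hn (e ▸ hi), show i ≠ some 0 from fun e => h0 (e ▸ hi)]
  · simp [hi]

theorem xiElt_U : ap xiElt U = U := by
  rw [ap_mk _ isL_U, xiElt_apply]
  decide +kernel

/-- Invariance under all automorphisms fixing `u` gives the invariance used here. -/
theorem InvX.of_stab {X : AddSubgroup Vec} (le : ∀ x ∈ X, IsL x) (perp : ∀ x ∈ X, Bev x U)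
    (two : ∀ x, IsL x → x + x ∈ X) (hu : U ∈ X)
    (hinv : ∀ g : ↥Co0, UPerp.ap g U = U → ∀ x ∈ X, UPerp.ap g x ∈ X) : InvX X where
  le := le
  perp := perp
  two := two
  u := hu
  perm σ hσ h1 h2 x hx := by
    have := hinv _ (permElt_U hσ h1 h2) x hx
    rwa [ap_mk _ (le x hx), permElt_apply] at this
  flip m hm x hx := by
    have := hinv _ (flipElt_U hm) x hx
    rwa [ap_mk _ (le x hx), flipElt_apply] at this
  xi x hx := by
    have := hinv _ xiElt_U x hx
    rwa [ap_mk _ (le x hx), xiElt_apply] at this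

theorem bev_pair12 : Bev (pairVec (some 1) (some 2)) U ∧ sqNorm (pairVec (some 1) (some 2)) = 32 ∧
    sqNorm U = 32 ∧ pairVec (some 1) (some 2) ≠ U ∧ pairVec (some 1) (some 2) ≠ -U := by
  unfold Bev
  decide +kernel

theorem notInK12 : ¬ InK (pairVec (some 1) (some 2)) := by
  obtain ⟨-, hp, hu, hne, hne'⟩ := bev_pair12
  rintro (⟨z, hz, e⟩ | ⟨z, hz, e⟩)
  · have := (short_congr (w := 0) isL_zero hz (by rw [hp]; norm_num) (by simp [sqNorm])
      (by rw [two_smul]; exact e)).1
    rw [hp] at this
    simp [sqNorm] at this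
  · rcases (short_congr isL_U hz (by rw [hp]; norm_num) (by rw [hu]; norm_num)
      (by rw [two_smul]; exact e)).2 (by rw [hp]; norm_num) with h | h
    · exact hne h.symm
    · exact hne' (by rw [h, neg_neg])

/-- A 2-group fixing the class of `u` fixes a further class orthogonal to it, modulo `0, u`. -/
theorem exists_fixed_class : ∀ (n : ℕ) (R : Subgroup ↥Co0), Nat.card R = 2 ^ n →
    (∀ r ∈ R, Cong (UPerp.ap r U) U) →
    ∃ x, IsL x ∧ Bev x U ∧ ¬ InK x ∧ ∀ r ∈ R, InK (UPerp.ap r x - x) := by
  intro n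
  induction n with
  | zero =>
    intro R hR _
    refine ⟨_, isL_pair _ _, bev_pair12.1, notInK12, fun r hr => ?_⟩
    rw [pow_zero, Subgroup.card_eq_one] at hR
    rw [hR, Subgroup.mem_bot] at hr
    subst hr
    rw [ap_one (isL_pair _ _), sub_self]
    exact Or.inl Cong.rfl'
  | succ n ih =>
    intro R hR hfix
    haveI : Fact (Nat.Prime 2) := ⟨Nat.prime_two⟩
    haveI : Finite R := Nat.finite_of_card_ne_zero (by rw [hR]; positivity)
    obtain ⟨M, hM⟩ := Sylow.exists_subgroup_card_pow_prime 2 (G := R) (n := n)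
      (by rw [hR]; exact pow_dvd_pow 2 (Nat.le_succ n))
    have hMi : M.index = 2 := by
      have := Subgroup.card_mul_index M
      rw [hM, hR, pow_succ] at this
      exact Nat.eq_of_mul_eq_mul_left (by positivity) this
    haveI hMn : M.Normal := Subgroup.normal_of_index_eq_two hMi
    obtain ⟨x, hx, hxu, hxK, hfx⟩ := ih (M.map R.subtype)
      (by rw [Subgroup.card_map_of_injective R.subtype_injective, hM])
      (fun r hr => hfix r (Subgroup.map_subtype_le M hr))
    obtain ⟨r0, hr0⟩ : ∃ r0 : R, r0 ∉ M := by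
      by_contra h
      push Not at h
      rw [show M = ⊤ from eq_top_iff.2 fun r _ => h r, Subgroup.index_top] at hMi
      omega
    let a : Vec := UPerp.ap (r0 : ↥Co0) x
    have haL : IsL a := ap_isL _ hx
    have hsq : InK (UPerp.ap (r0 : ↥Co0) a - x) := by
      have := hfx _ ⟨r0 * r0, Subgroup.mul_self_mem_of_index_two hMi r0, rfl⟩
      rwa [Subgroup.coe_subtype, Subgroup.coe_mul, ap_mul _ _ hx] at this
    have hMa : ∀ m : R, m ∈ M → InK (UPerp.ap (m : ↥Co0) a - a) := by
      intro m hm
      have hc : r0⁻¹ * m * r0 ∈ M := by simpa using hMn.conj_mem m hm r0⁻¹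
      have h2 := (hfx _ ⟨_, hc, rfl⟩).ap (hfix _ r0.2)
      rwa [ap_sub _ (ap_isL _ hx) hx, Subgroup.coe_subtype, ← ap_mul _ _ hx, ← Subgroup.coe_mul,
        show r0 * (r0⁻¹ * m * r0) = m * r0 by group, Subgroup.coe_mul, ap_mul _ _ hx] at h2
    have key : ∀ y, IsL y → (∀ m : R, m ∈ M → InK (UPerp.ap (m : ↥Co0) y - y)) →
        InK (UPerp.ap (r0 : ↥Co0) y - y) → ∀ r ∈ R, InK (UPerp.ap r y - y) := by
      intro y hy hMy hr0y r hr
      by_cases hrM : (⟨r, hr⟩ : R) ∈ M
      · exact hMy _ hrM
      · have hmem : (⟨r, hr⟩ : R) * r0⁻¹ ∈ M := by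
          rw [Subgroup.mul_mem_iff_of_index_two hMi, inv_mem_iff]
          exact iff_of_false hrM hr0
        have h1 := hMy _ hmem
        have h2 := hr0y.ap (hfix _ (show (((⟨r, hr⟩ : R) * r0⁻¹ : R) : ↥Co0) ∈ R from SetLike.coe_mem _))
        rw [ap_sub _ (ap_isL _ hy) hy, ← ap_mul _ _ hy, ← Subgroup.coe_mul, inv_mul_cancel_right] at h2
        have h3 := h2.add h1
        rwa [sub_add_sub_cancel] at h3
    by_cases hy : InK (a - x)
    · exact ⟨x, hx, hxu, hxK, key x hx (fun m hm => hfx _ ⟨m, hm, rfl⟩) hy⟩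
    refine ⟨a + x, isL_add haL hx, (bev_ap_U (hfix _ r0.2) hx hxu).comm.add_right hxu.comm |>.comm,
      fun h => hy ?_, key _ (isL_add haL hx) (fun m hm => ?_) ?_⟩
    · exact InK.of_cong ⟨-x, isL_neg hx, by abel⟩ h
    · rw [ap_add _ haL hx, add_sub_add_comm]
      exact (hMa m hm).add (hfx _ ⟨m, hm, rfl⟩)
    · rw [ap_add _ haL hx, show UPerp.ap (r0 : ↥Co0) a + UPerp.ap (r0 : ↥Co0) x - (a + x) =
        UPerp.ap (r0 : ↥Co0) a - x by simp only [a]; abel]
      exact hsq

theorem y_facts : dotInt (octVec (setOfMask 13938692)) U = 8 ∧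
    sqNorm (octVec (setOfMask 13938692)) = 32 := by decide +kernel

/-- An automorphism fixing the class of `u` and trivial modulo `0, u` on its orthogonal is central. -/
theorem central_of_perp {r : ↥Co0} (hfix : Cong (UPerp.ap r U) U)
    (hperp : ∀ x, IsL x → Bev x U → InK (UPerp.ap r x - x)) : r ∈ Subgroup.center ↥Co0 := by
  obtain ⟨t1, t2⟩ := y_facts
  set y0 := octVec (setOfMask 13938692) with hy0def
  have hy0 : IsL y0 := isL_octVec (by
    rw [mem_supports_iff, maskOf_setOfMask (by norm_num)]; exact sep_ok.1)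
  have hy0K : InK (UPerp.ap r y0 - y0) := by
    refine inK_of_short (isL_sub (ap_isL r hy0) hy0) ?_ fun x hx hxn hxu => ?_
    · obtain ⟨z, hz, e⟩ := hfix
      have h1 : Bev (UPerp.ap r y0) (UPerp.ap r U - U) := by
        rw [e]; exact bev_two (ap_isL r hy0) hz
      rw [Bev, sub_eq_add_neg, dot_add_right, dot_neg_right', ap_dot r hy0 isL_U] at h1
      rw [Bev, sub_eq_add_neg, dot_comm', dot_add_right, dot_neg_right', dot_comm' U, dot_comm' U]
      omega
    · have hxu' : Bev x U := by rw [Bev, hxu]; exact dvd_zero _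
      rcases hperp x hx hxu' with h | h
      · have h1 : Bev (UPerp.ap r y0) (UPerp.ap r x - x) :=
          bev_of_cong (ap_isL r hy0) h (bev_zero _)
        rw [Bev, sub_eq_add_neg, dot_add_right, dot_neg_right', ap_dot r hy0 hx] at h1
        rw [Bev, sub_eq_add_neg, dot_comm', dot_add_right, dot_neg_right', dot_comm' x, dot_comm' x]
        omega
      · exfalso
        obtain ⟨z, hz, e⟩ := h
        have hn : sqNorm (x + U) = 64 := by rw [norm_add', hxn, hxu, bev_pair12.2.2.1]; norm_num
        have := (short_congr (v := UPerp.ap r x) (w := x + U) (isL_add hx isL_U) hz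
          (by rw [ap_norm r hx, hxn]; norm_num) (by rw [hn])
          (by rw [two_smul, ← e]; abel)).1
        rw [ap_norm r hx, hxn, hn] at this
        norm_num at this
  have hy0c : Cong (UPerp.ap r y0) y0 := by
    rcases hy0K with ⟨z, hz, e⟩ | ⟨z, hz, e⟩
    · exact ⟨z, hz, by rw [← e]; abel⟩
    · exfalso
      have hn : sqNorm (y0 + -U) = 48 := by
        rw [norm_add', t2, dot_neg_right', t1, show sqNorm (-U) = sqNorm U by simp [sqNorm], bev_pair12.2.2.1]
        norm_num
      have := (short_congr (v := UPerp.ap r y0) (w := y0 + -U) (isL_add hy0 (isL_neg isL_U))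
        (isL_add hz isL_U) (by rw [ap_norm r hy0, t2]; norm_num) (by rw [hn]; norm_num)
        (by rw [two_smul, show z + U + (z + U) = (z + z) + (U + U) by abel, ← e]; abel)).1
      rw [ap_norm r hy0, t2, hn] at this
      norm_num at this
  have hpc : ∀ x, IsL x → Bev x U → Cong (UPerp.ap r x) x := by
    intro x hx hxu
    rcases hperp x hx hxu with ⟨z, hz, e⟩ | h
    · exact ⟨z, hz, by rw [← e]; abel⟩
    · exfalso
      have h1 : Bev y0 (UPerp.ap r x - x - U) := by
        obtain ⟨z, hz, e⟩ := h
        rw [e]; exact bev_two hy0 hz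
      have h2 : Bev (UPerp.ap r x) (UPerp.ap r y0 - y0) := by
        obtain ⟨z, hz, e⟩ := hy0c
        rw [e]; exact bev_two (ap_isL r hx) hz
      rw [Bev, sub_eq_add_neg, sub_eq_add_neg, dot_add_right, dot_add_right, dot_neg_right', dot_neg_right', t1] at h1
      rw [Bev, sub_eq_add_neg, dot_add_right, dot_neg_right', ap_dot r hx hy0, dot_comm' x, dot_comm' (UPerp.ap r x)] at h2
      omega
  refine Leech.faithful r fun v => ?_
  have hv := mem_iff.1 v.2
  have hc : Cong (UPerp.ap r (v : Vec)) (v : Vec) := by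
    by_cases hb : Bev (v : Vec) U
    · exact hpc _ hv hb
    · have h8 := eight_dvd_dot hv isL_U
      have hd : Bev ((v : Vec) - y0) U := by
        rw [Bev, sub_eq_add_neg, dot_comm', dot_add_right, dot_neg_right', dot_comm' U, dot_comm' U, t1]
        rw [Bev] at hb
        omega
      have := (hpc _ (isL_sub hv hy0) hd).add hy0c
      rwa [sub_add_cancel, ap_sub _ hv hy0, sub_add_cancel] at this
  obtain ⟨z, hz, e⟩ := hc
  exact ⟨⟨z, mem_iff.2 hz⟩, by rw [← ap_coe, e, two_smul]⟩

/-- No nontrivial normal 2-subgroup of the stabilizer of the class of `u`, modulo the centre. -/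
theorem stab_two_core (R : Subgroup ↥Co0) {n : ℕ} (hR : Nat.card R = 2 ^ n)
    (hfix : ∀ r ∈ R, Cong (UPerp.ap r U) U)
    (hnorm : ∀ g : ↥Co0, UPerp.ap g U = U → ∀ r ∈ R, g * r * g⁻¹ ∈ R) :
    R ≤ Subgroup.center ↥Co0 := by
  obtain ⟨x0, hx0, hx0u, hx0K, hx0f⟩ := exists_fixed_class n R hR hfix
  -- the classes fixed modulo `0, u`
  let X : AddSubgroup Vec :=
    { carrier := {x | IsL x ∧ Bev x U ∧ ∀ r ∈ R, InK (UPerp.ap r x - x)}
      zero_mem' := ⟨isL_zero, (bev_zero U).comm, fun r _ => by
        rw [ap_zero, sub_zero]; exact Or.inl Cong.rfl'⟩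
      add_mem' := fun {a b} ⟨a1, a2, a3⟩ ⟨b1, b2, b3⟩ => ⟨isL_add a1 b1, (a2.comm.add_right b2.comm).comm,
        fun r hr => by rw [ap_add _ a1 b1, add_sub_add_comm]; exact (a3 r hr).add (b3 r hr)⟩
      neg_mem' := fun {a} ⟨a1, a2, a3⟩ => ⟨isL_neg a1, a2.comm.neg_right.comm, fun r hr => by
        rw [ap_neg _ a1, ← neg_sub', ]; exact (a3 r hr).neg⟩ }
  have hXinv : InvX X := InvX.of_stab (fun x hx => hx.1) (fun x hx => hx.2.1)
    (fun x hx => ⟨isL_add hx hx, (bev_two isL_U hx).comm, fun r _ => Or.inl (by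
      rw [ap_add _ hx hx, add_sub_add_comm]; exact cong_self_add (isL_sub (ap_isL r hx) hx))⟩)
    ⟨isL_U, bev_UU, fun r hr => Or.inl (by
      obtain ⟨z, hz, e⟩ := hfix r hr; exact ⟨z, hz, by rw [sub_zero, e]⟩)⟩
    (fun g hg x ⟨x1, x2, x3⟩ => ⟨ap_isL g x1, bev_ap_U (gens_fix hg) x1 x2, fun r hr => by
      have hg' : UPerp.ap g⁻¹ U = U := by
        conv_lhs => rw [← hg]
        rw [ap_inv' g isL_U]
      have h1 := (x3 _ (hnorm _ hg' r hr)).ap (gens_fix hg)
      rwa [ap_sub _ (ap_isL _ x1) x1, ← ap_mul _ _ x1, inv_inv, show g * (g⁻¹ * r * g) = r * g by group,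
        ap_mul _ _ x1] at h1⟩)
  have hW : ∀ w, InW w → w ∈ X := fun w hw => hXinv.inW_le (x := x0) ⟨hx0, hx0u, hx0f⟩ hx0K hw
  -- the orthogonal of those
  let Y : AddSubgroup Vec :=
    { carrier := {y | IsL y ∧ Bev y U ∧ ∀ x ∈ X, Bev y x}
      zero_mem' := ⟨isL_zero, (bev_zero U).comm, fun x _ => (bev_zero x).comm⟩
      add_mem' := fun {a b} ⟨a1, a2, a3⟩ ⟨b1, b2, b3⟩ => ⟨isL_add a1 b1, (a2.comm.add_right b2.comm).comm,
        fun x hx => ((a3 x hx).comm.add_right (b3 x hx).comm).comm⟩
      neg_mem' := fun {a} ⟨a1, a2, a3⟩ => ⟨isL_neg a1, a2.comm.neg_right.comm,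
        fun x hx => (a3 x hx).comm.neg_right.comm⟩ }
  have hYinv : InvX Y := InvX.of_stab (fun y hy => hy.1) (fun y hy => hy.2.1)
    (fun y hy => ⟨isL_add hy hy, (bev_two isL_U hy).comm, fun x hx => (bev_two hx.1 hy).comm⟩)
    ⟨isL_U, bev_UU, fun x hx => hx.2.1.comm⟩
    (fun g hg y ⟨y1, y2, y3⟩ => ⟨ap_isL g y1, bev_ap_U (gens_fix hg) y1 y2, fun x hx => by
      have hg' : UPerp.ap g⁻¹ U = U := by
        conv_lhs => rw [← hg]
        rw [ap_inv' g isL_U]
      have hx' : UPerp.ap g⁻¹ x ∈ X := by
        refine ⟨ap_isL _ hx.1, bev_ap_U (gens_fix hg') hx.1 hx.2.1, fun r hr => ?_⟩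
        have h1 := (hx.2.2 _ (hnorm _ hg r hr)).ap (gens_fix hg')
        rwa [ap_sub _ (ap_isL _ hx.1) hx.1, ← ap_mul _ _ hx.1, show g⁻¹ * (g * r * g⁻¹) = r * g⁻¹ by group,
          ap_mul _ _ hx.1] at h1
      have h2 := bev_ap (g := g) y1 hx'.1 (y3 _ hx')
      rwa [ap_inv g hx.1] at h2⟩)
  -- trivial modulo `0, u` on the vectors orthogonal to `u`
  have hperp : ∀ r ∈ R, ∀ x, IsL x → Bev x U → InK (UPerp.ap r x - x) := by
    intro r hr x hx hxu
    refine hYinv.inK_of_perp (fun y hy w hw => hy.2.2 w (hW w hw)) ⟨isL_sub (ap_isL r hx) hx,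
      ((bev_ap_U (hfix r hr) hx hxu).comm.sub_right hxu.comm).comm, fun x' hx' => ?_⟩
    have h1 : Bev (UPerp.ap r x) (UPerp.ap r x' - x') :=
      bev_of_inK (ap_isL r hx) (bev_ap_U (hfix r hr) hx hxu) (hx'.2.2 r hr)
    have h2 := ap_dot r hx hx'.1
    rw [Bev, sub_eq_add_neg, dot_add_right, dot_neg_right'] at h1
    rw [Bev, sub_eq_add_neg, dot_comm', dot_add_right, dot_neg_right', dot_comm' x', dot_comm' x']
    omega
  intro r hr
  exact central_of_perp (hfix r hr) (hperp r hr)

end CfsgLib.ThreeTrans.Leech.UPerp
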