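import Cfsg.Agent.Lib.ThreeTrans.Basic

set_option autoImplicit false

/-!
Homomorphisms from the symmetric groups of degree 3 and 4 given by the Coxeter relations (owner: helper28).
-/

namespace CfsgLib.ThreeTrans

/-- A map to a group is built from a multiplication table of a finite group on words in generators. -/
theorem exists_hom_of_table {P G ι X : Type*} [Group P] [Group G] (s : ι → P) (g : ι → G)
    (W : X → List ι) (T : X → ι → X) (hW : Function.Bijective fun x => ((W x).map s).prod)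
    (hT : ∀ x i, ((W (T x i)).map s).prod = ((W x).map s).prod * s i)
    (hG : ∀ x i, ((W (T x i)).map g).prod = ((W x).map g).prod * g i)
    (x₀ : X) (h₀ : W x₀ = []) :
    ∃ φ : P →* G, ∀ i, φ (s i) = g i := by
  let E := Equiv.ofBijective _ hW
  let F : P → G := fun σ => ((W (E.symm σ)).map g).prod
  have hE : ∀ x, F (((W x).map s).prod) = ((W x).map g).prod := fun x => by
    show ((W (E.symm (E x))).map g).prod = _
    rw [E.symm_apply_apply]
  have hsurj : ∀ σ, ∃ x, ((W x).map s).prod = σ := fun σ => hW.2 σ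
  have step : ∀ σ i, F (σ * s i) = F σ * g i := by
    intro σ i
    obtain ⟨x, rfl⟩ := hsurj σ
    rw [← hT, hE, hE, hG]
  have h1 : F 1 = 1 := by
    have := hE x₀
    rwa [h₀, List.map_nil, List.map_nil, List.prod_nil, List.prod_nil] at this
  have mul : ∀ (l : List ι) σ, F (σ * (l.map s).prod) = F σ * (l.map g).prod := by
    intro l
    induction l with
    | nil => intro σ; simp
    | cons i l ih =>
      intro σ
      simp only [List.map_cons, List.prod_cons, ← mul_assoc]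
      rw [ih, step]
  refine ⟨MonoidHom.mk' F ?_, fun i => ?_⟩
  · intro σ τ
    obtain ⟨x, rfl⟩ := hsurj τ
    rw [mul, hE]
  · have := step 1 i
    rw [one_mul, h1, one_mul] at this
    exact this

/-- Two involutions satisfying the braid relation give a homomorphism from the symmetric group of degree 3. -/
theorem exists_hom_perm_three {G : Type*} [Group G] {a b : G} (haa : a * a = 1) (hbb : b * b = 1)
    (hab : a * b * a = b * a * b) :
    ∃ φ : Equiv.Perm (Fin 3) →* G, φ (Equiv.swap 0 1) = a ∧ φ (Equiv.swap 1 2) = b := by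
  have a2 : ∀ t, a * (a * t) = t := fun t => by rw [← mul_assoc, haa, one_mul]
  have b2 : ∀ t, b * (b * t) = t := fun t => by rw [← mul_assoc, hbb, one_mul]
  have r1 : b * (a * b) = a * (b * a) := by rw [← mul_assoc, ← mul_assoc, hab]
  have r1' : ∀ t, b * (a * (b * t)) = a * (b * (a * t)) := fun t => by
    simp only [← mul_assoc] at *; rw [hab]
  obtain ⟨φ, hφ⟩ := exists_hom_of_table
    (![Equiv.swap 0 1, Equiv.swap 1 2] : Fin 2 → Equiv.Perm (Fin 3)) (![a, b] : Fin 2 → G)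
    (![[], [1], [1, 0], [0], [0, 1], [0, 1, 0]] : Fin 6 → List (Fin 2))
    (![![3, 1], ![2, 0], ![1, 5], ![0, 4], ![5, 3], ![4, 2]] : Fin 6 → Fin 2 → Fin 6)
    (by decide) (by decide)
    (by
      intro x i
      fin_cases x <;> fin_cases i <;> simp [mul_assoc, haa, hbb, a2, b2, r1, r1'])
    0 rfl
  exact ⟨φ, hφ 0, hφ 1⟩

/-- Three involutions satisfying the Coxeter relations of type A₃ give a homomorphism from the symmetric
group of degree 4. -/
theorem exists_hom_perm_four {G : Type*} [Group G] {a b c : G} (haa : a * a = 1) (hbb : b * b = 1)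
    (hcc : c * c = 1) (hac : a * c = c * a) (hab : a * b * a = b * a * b) (hbc : b * c * b = c * b * c) :
    ∃ φ : Equiv.Perm (Fin 4) →* G,
      φ (Equiv.swap 0 1) = a ∧ φ (Equiv.swap 1 2) = b ∧ φ (Equiv.swap 2 3) = c := by
  have a2 : ∀ t, a * (a * t) = t := fun t => by rw [← mul_assoc, haa, one_mul]
  have b2 : ∀ t, b * (b * t) = t := fun t => by rw [← mul_assoc, hbb, one_mul]
  have c2 : ∀ t, c * (c * t) = t := fun t => by rw [← mul_assoc, hcc, one_mul]
  have r0 : c * a = a * c := hac.symm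
  have r0' : ∀ t, c * (a * t) = a * (c * t) := fun t => by rw [← mul_assoc, ← mul_assoc, hac]
  have r1 : b * (a * b) = a * (b * a) := by rw [← mul_assoc, ← mul_assoc, hab]
  have r1' : ∀ t, b * (a * (b * t)) = a * (b * (a * t)) := fun t => by
    simp only [← mul_assoc] at *; rw [hab]
  have r2 : c * (b * c) = b * (c * b) := by rw [← mul_assoc, ← mul_assoc, hbc]
  have r2' : ∀ t, c * (b * (c * t)) = b * (c * (b * t)) := fun t => by
    simp only [← mul_assoc] at *; rw [hbc]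
  have r3 : c * (b * (a * c)) = b * (c * (b * a)) := by rw [hac, r2']
  have r3' : ∀ t, c * (b * (a * (c * t))) = b * (c * (b * (a * t))) := fun t => by rw [← r0', r2']
  obtain ⟨φ, hφ⟩ := exists_hom_of_table
    (![Equiv.swap 0 1, Equiv.swap 1 2, Equiv.swap 2 3] : Fin 3 → Equiv.Perm (Fin 4)) (![a, b, c] : Fin 3 → G)
    (![[], [2], [2, 1], [2, 1, 0], [1], [1, 2], [1, 2, 1], [1, 2, 1, 0], [1, 0], [1, 0, 2], [1, 0, 2, 1], [1, 0, 2, 1, 0], [0], [0, 2], [0, 2, 1], [0, 2, 1, 0], [0, 1], [0, 1, 2], [0, 1, 2, 1], [0, 1, 2, 1, 0], [0, 1, 0], [0, 1, 0, 2], [0, 1, 0, 2, 1], [0, 1, 0, 2, 1, 0]] : Fin 24 → List (Fin 3))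
    (![![12, 4, 1], ![13, 2, 0], ![3, 1, 6], ![2, 15, 7], ![8, 0, 5], ![9, 6, 4], ![7, 5, 2], ![6, 11, 3], ![4, 20, 9], ![5, 10, 8], ![11, 9, 22], ![10, 7, 23], ![0, 16, 13], ![1, 14, 12], ![15, 13, 18], ![14, 3, 19], ![20, 12, 17], ![21, 18, 16], ![19, 17, 14], ![18, 23, 15], ![16, 8, 21], ![17, 22, 20], ![23, 21, 10], ![22, 19, 11]] : Fin 24 → Fin 3 → Fin 24)
    (by decide) (by decide)
    (by
      intro x i
      fin_cases x <;> fin_cases i <;>
        simp [mul_assoc, haa, hbb, hcc, a2, b2, c2, r0, r0', r1, r1', r2, r2', r3, r3'])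
    0 rfl
  exact ⟨φ, hφ 0, hφ 1, hφ 2⟩

theorem injective_of_perm_three {G : Type*} [Group G] (φ : Equiv.Perm (Fin 3) →* G)
    (h : φ (Equiv.swap 0 1 * Equiv.swap 1 2) ≠ 1) : Function.Injective φ := by
  refine (injective_iff_map_eq_one φ).2 fun σ hσ => ?_
  by_contra hne
  apply h
  have key : ∀ σ : Equiv.Perm (Fin 3), σ ≠ 1 →
      ∃ τ, σ * τ * σ⁻¹ * τ⁻¹ = Equiv.swap 0 1 * Equiv.swap 1 2 ∨
        σ = Equiv.swap 0 1 * Equiv.swap 1 2 ∨ σ⁻¹ = Equiv.swap 0 1 * Equiv.swap 1 2 := by decide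
  obtain ⟨τ, h1 | h1 | h1⟩ := key σ hne <;> rw [← h1] <;> simp [hσ]

theorem injective_of_perm_four {G : Type*} [Group G] (φ : Equiv.Perm (Fin 4) →* G)
    (h : φ (Equiv.swap 0 1 * Equiv.swap 2 3) ≠ 1) : Function.Injective φ := by
  refine (injective_iff_map_eq_one φ).2 fun σ hσ => ?_
  by_contra hne
  apply h
  have conjs : ∀ v : Equiv.Perm (Fin 4), v ≠ 1 → v * v = 1 → Equiv.Perm.sign v = 1 →
      ∃ τ : Equiv.Perm (Fin 4), τ * v * τ⁻¹ = Equiv.swap 0 1 * Equiv.swap 2 3 := by decide +kernel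
  have key : ∀ σ : Equiv.Perm (Fin 4), σ ≠ 1 → (σ * σ = 1 ∧ Equiv.Perm.sign σ = 1) ∨
      ∃ τ, σ * τ * σ⁻¹ * τ⁻¹ ≠ 1 ∧ (σ * τ * σ⁻¹ * τ⁻¹) * (σ * τ * σ⁻¹ * τ⁻¹) = 1 ∧
        Equiv.Perm.sign (σ * τ * σ⁻¹ * τ⁻¹) = 1 := by decide +kernel
  rcases key σ hne with ⟨h1, h2⟩ | ⟨τ, h1, h2, h3⟩
  · obtain ⟨ρ, hρ⟩ := conjs σ hne h1 h2
    rw [← hρ]; simp [hσ]
  · obtain ⟨ρ, hρ⟩ := conjs _ h1 h2 h3
    rw [← hρ]; simp [hσ]

end CfsgLib.ThreeTrans
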