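import Cfsg.Agent.Lib.Sporadic.SubOrbits
import Cfsg.Agent.Lib.Sporadic.Census
import Cfsg.Agent.S0358

/-!
The binary code of length 24 as a module for its automorphism group: invariant subspaces, and
stabilisers of code words have no fixed points on the cocode.
-/

set_option autoImplicit false

namespace CfsgLib.ThreeTrans.Golay

open Cfsg CfsgLib.Sporadic MulAction
open scoped Pointwise

/-- Words on the 24 points. -/
abbrev Word := GolayPt → ZMod 2

/-- Permuting a word. -/
def act (σ : Equiv.Perm GolayPt) (w : Word) : Word := fun p => w (σ.symm p)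

/-- The mask of a word. -/
def mk (w : Word) : ℕ := maskOf (support₂ w)

/-- A subspace invariant under the automorphism group of the code. -/
def Invariant (W : Submodule (ZMod 2) Word) : Prop := ∀ σ ∈ M24, ∀ w ∈ W, act σ w ∈ W

theorem support_act (σ : Equiv.Perm GolayPt) (w : Word) : support₂ (act σ w) = σ • support₂ w := by
  ext x
  rw [Finset.mem_smul_finset]
  simp only [support₂, Finset.mem_filter, Finset.mem_univ, true_and, Equiv.Perm.smul_def]
  constructor
  · intro h
    exact ⟨σ.symm x, h, σ.apply_symm_apply x⟩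
  · rintro ⟨y, hy, rfl⟩
    show w (σ.symm (σ y)) ≠ 0
    rwa [Equiv.symm_apply_apply]

theorem mk_act {σ : Equiv.Perm GolayPt} {p : ℕ} (h : Rep σ p) (w : Word) :
    mk (act σ w) = mimg p (mk w) := by
  rw [mk, mk, support_act, maskOf_smul h]

theorem wordOf_mk (w : Word) : wordOf (mk w) = w := wordOf_maskOf w

theorem mk_injective : Function.Injective mk := fun v w h => by
  rw [← wordOf_mk v, h, wordOf_mk]

theorem mk_wordOf {m : ℕ} (hm : m < 2 ^ 24) : mk (wordOf m) = m := by
  rw [mk, support₂_wordOf, maskOf_setOfMask hm]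

theorem mk_lt (w : Word) : mk w < 2 ^ 24 := maskOf_lt _

theorem mk_add (v w : Word) : mk (v + w) = mk v ^^^ mk w := by
  conv_lhs => rw [← wordOf_mk v, ← wordOf_mk w, ← wordOf_xor]
  exact mk_wordOf (Nat.xor_lt_two_pow (mk_lt v) (mk_lt w))

theorem mk_zero : mk 0 = 0 := by rw [← wordOf_zero, mk_wordOf (by norm_num)]

theorem mk_one : mk 1 = 16777215 := by decide +kernel

theorem mem_code_iff (w : Word) : w ∈ golayCode ↔ inCode (mk w) = true := mem_golayCode

theorem one_mem : (1 : Word) ∈ golayCode := Submodule.subset_span (Or.inr rfl)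

theorem add_self (w : Word) : w + w = 0 := funext fun _ => CharTwo.add_self_eq_zero _

theorem act_add (σ : Equiv.Perm GolayPt) (v w : Word) : act σ (v + w) = act σ v + act σ w := rfl

theorem act_mul (σ τ : Equiv.Perm GolayPt) (w : Word) : act (σ * τ) w = act σ (act τ w) := rfl

theorem act_mem_code {σ : Equiv.Perm GolayPt} (hσ : σ ∈ M24) {w : Word} :
    act σ w ∈ golayCode ↔ w ∈ golayCode := by
  rw [mem_code_iff, mem_code_iff, mk, mk, support_act, ← mem_supports_iff, ← mem_supports_iff,
    smul_mem_supports hσ]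

theorem act_code {σ : Equiv.Perm GolayPt} (hσ : σ ∈ M24) {w : Word} (hw : w ∈ golayCode) :
    act σ w ∈ golayCode := (act_mem_code hσ).2 hw

/-! ### invariant subspaces of the code -/

theorem basis_octad : ∀ i < 12, popc (enc (2 ^ i)) = 8 := by decide +kernel

theorem dodecad_step : forallLt 4096 (fun k => !Nat.beq (popc (enc k)) 12 ||
    m24Trans0.any (fun p => Nat.beq (popc (Nat.xor (enc k) (mimg p (enc k)))) 8 ||
      Nat.beq (popc (Nat.xor (enc k) (mimg p (enc k)))) 16)) = true := by decide +kernel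

theorem octad_mem {W : Submodule (ZMod 2) Word} (hW : Invariant W) {c : Word} (hc : c ∈ W)
    (ho : support₂ c ∈ octads) {o : Word} (ho' : support₂ o ∈ octads) : o ∈ W := by
  obtain ⟨g, hg, e⟩ := exists_smul_octad ho ho'
  have h := hW g hg c hc
  have : act g c = o := mk_injective (by rw [mk, mk, support_act, e])
  rwa [this] at h

theorem octad_span {W : Submodule (ZMod 2) Word}
    (h : ∀ o : Word, support₂ o ∈ octads → o ∈ W) : golayCode ≤ W := by
  have key : ∀ n ≤ 12, ∀ k < 2 ^ n, wordOf (enc k) ∈ W := by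
    intro n
    induction n with
    | zero =>
      intro _ k hk
      obtain rfl : k = 0 := by simpa using hk
      rw [show enc 0 = 0 by decide +kernel, wordOf_zero]; exact zero_mem W
    | succ n ih =>
      intro hn k hk
      by_cases hlt : k < 2 ^ n
      · exact ih (by omega) k hlt
      have hb : k.testBit n = true := by
        rw [Nat.testBit_eq_decide_div_mod_eq, decide_eq_true_iff]
        have h1 : k / 2 ^ n = 1 := by
          rw [Nat.div_eq_iff (Nat.two_pow_pos n)]; rw [pow_succ] at hk; omega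
        rw [h1]
      have hsplit : k = (k ^^^ 2 ^ n) ^^^ 2 ^ n := by simp
      have hsmall : k ^^^ 2 ^ n < 2 ^ n := by
        refine Nat.lt_pow_two_of_testBit _ fun i hi => ?_
        rw [Nat.testBit_xor, Nat.testBit_two_pow]
        rcases eq_or_lt_of_le hi with rfl | hlt'
        · simp [hb]
        · rw [Nat.testBit_lt_two_pow (lt_of_lt_of_le hk (Nat.pow_le_pow_right (by norm_num) hlt'))]
          simp [ne_of_lt hlt']
      rw [hsplit, enc_xor, wordOf_xor]
      refine add_mem (ih (by omega) _ hsmall) (h _ ?_)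
      have hlt' : 2 ^ n < 4096 :=
        lt_of_lt_of_le (Nat.pow_lt_pow_right (by norm_num) (Nat.lt_succ_self n))
          ((Nat.pow_le_pow_right (by norm_num) hn).trans (by norm_num))
      rw [support₂_wordOf, mem_octads_iff, maskOf_setOfMask (enc_lt hlt')]
      exact ⟨inCode_enc hlt', basis_octad n (by omega)⟩
  intro w hw
  obtain ⟨k, hk, rfl⟩ := mem_golayCode_iff.1 hw
  exact key 12 le_rfl k hk

theorem octad_of_weight {c : Word} (hc : c ∈ golayCode) (h : popc (mk c) = 8) :
    support₂ c ∈ octads := mem_octads_iff.2 ⟨(mem_code_iff c).1 hc, h⟩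

theorem popc_compl : forallLt 4096 (fun k =>
    Nat.beq (Nat.add (popc (enc k)) (popc (Nat.xor 16777215 (enc k)))) 24) = true := by
  decide +kernel

theorem exists_enc {c : Word} (hc : c ∈ golayCode) : ∃ k < 4096, enc k = mk c :=
  inCode_iff.1 ((mem_code_iff c).1 hc)

theorem weights {c : Word} (hc : c ∈ golayCode) :
    popc (mk c) = 0 ∨ popc (mk c) = 8 ∨ popc (mk c) = 12 ∨ popc (mk c) = 16 ∨ popc (mk c) = 24 :=
  popc_inCode ((mem_code_iff c).1 hc)

theorem popc_add_one {c : Word} (hc : c ∈ golayCode) :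
    popc (mk (c + 1)) + popc (mk c) = 24 := by
  obtain ⟨k, hk, e⟩ := exists_enc hc
  have := Nat.eq_of_beq_eq_true (forallLt_elim popc_compl hk)
  rw [mk_add, mk_one, Nat.xor_comm, ← e, add_comm]
  exact this

theorem eq_zero_of_popc {c : Word} (h : popc (mk c) = 0) : c = 0 := by
  rw [mk, popc_maskOf, Finset.card_eq_zero] at h
  apply mk_injective
  rw [mk_zero, mk, h, maskOf_empty]

/-- A nontrivial word of the code together with the all-ones word generates the code. -/
theorem code_le {W : Submodule (ZMod 2) Word} (hW : Invariant W) (h1 : (1 : Word) ∈ W) {c : Word}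
    (hc : c ∈ W) (hcC : c ∈ golayCode) (hc0 : c ≠ 0) (hc1 : c ≠ 1) : golayCode ≤ W := by
  suffices h : ∃ o ∈ W, support₂ o ∈ octads by
    obtain ⟨o, ho, hoo⟩ := h
    exact octad_span fun _ ho' => octad_mem hW ho hoo ho'
  have fin : ∀ d ∈ W, d ∈ golayCode → popc (mk d) = 8 ∨ popc (mk d) = 16 →
      ∃ o ∈ W, support₂ o ∈ octads := by
    intro d hd hdC h
    rcases h with h | h
    · exact ⟨d, hd, octad_of_weight hdC h⟩
    · have := popc_add_one hdC
      exact ⟨d + 1, add_mem hd h1, octad_of_weight (add_mem hdC one_mem) (by omega)⟩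
  rcases weights hcC with h | h | h | h | h
  · exact absurd (eq_zero_of_popc h) hc0
  · exact fin c hc hcC (Or.inl h)
  · obtain ⟨k, hk, e⟩ := exists_enc hcC
    have ht := forallLt_elim dodecad_step hk
    rw [e, h] at ht
    simp only [show Nat.beq 12 12 = true from rfl, Bool.not_true, Bool.false_or,
      List.any_eq_true, Bool.or_eq_true] at ht
    obtain ⟨p, hp, ht⟩ := ht
    obtain ⟨σ, hσ, hrep⟩ := m24Trans_mem m24Trans0 (by simp [m24Trans]) p hp
    refine fin (c + act σ c) (add_mem hc (hW σ hσ c hc)) (add_mem hcC (act_code hσ hcC)) ?_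
    rw [mk_add, mk_act hrep]
    rcases ht with h' | h'
    · exact Or.inl (Nat.eq_of_beq_eq_true h')
    · exact Or.inr (Nat.eq_of_beq_eq_true h')
  · exact fin c hc hcC (Or.inr h)
  · exfalso
    have := popc_add_one hcC
    have h0 := eq_zero_of_popc (c := c + 1) (by omega)
    exact hc1 (by rw [← sub_eq_zero]; simpa [CharTwo.sub_eq_add, sub_eq_add_neg] using h0)

theorem mem_span_one {c : Word} :
    c ∈ Submodule.span (ZMod 2) {(1 : Word)} ↔ c = 0 ∨ c = 1 := by
  rw [Submodule.mem_span_singleton]
  constructor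
  · rintro ⟨a, rfl⟩
    rcases (show a = 0 ∨ a = 1 by revert a; decide) with rfl | rfl
    · exact Or.inl (zero_smul _ _)
    · exact Or.inr (one_smul _ _)
  · rintro (rfl | rfl)
    · exact ⟨0, zero_smul _ _⟩
    · exact ⟨1, one_smul _ _⟩

theorem invariant_in_code {W : Submodule (ZMod 2) Word} (hW : Invariant W) (h1 : (1 : Word) ∈ W)
    (hC : W ≤ golayCode) : W = Submodule.span (ZMod 2) {(1 : Word)} ∨ W = golayCode := by
  by_cases h : ∀ c ∈ W, c = 0 ∨ c = 1
  · exact Or.inl (le_antisymm (fun c hc => mem_span_one.2 (h c hc))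
      (by rw [Submodule.span_singleton_le_iff_mem]; exact h1))
  · push Not at h
    obtain ⟨c, hc, h0, h1'⟩ := h
    exact Or.inr (le_antisymm hC (code_le hW h1 hc (hC hc) h0 h1'))

theorem trio_table : ∃ k < 4096, ∃ l < 4096, popc (enc k) = 8 ∧ popc (enc l) = 8 ∧
    popc (enc (k ^^^ l)) = 8 :=
  ⟨1, by norm_num, 2, by norm_num, by decide +kernel⟩

/-- A nontrivial invariant subspace of the code contains the all-ones word. -/
theorem one_mem_of_code {W : Submodule (ZMod 2) Word} (hW : Invariant W)
    (hne : ∃ c ∈ W, c ∈ golayCode ∧ c ≠ 0) : (1 : Word) ∈ W := by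
  by_contra h1
  obtain ⟨c, hc, hcC, hc0⟩ := hne
  have hc1 : c ≠ 1 := fun e => h1 (e ▸ hc)
  let W' := W ⊔ Submodule.span (ZMod 2) {(1 : Word)}
  have hW' : Invariant W' := by
    intro σ hσ w hw
    rw [Submodule.mem_sup] at hw ⊢
    obtain ⟨a, ha, b, hb, rfl⟩ := hw
    refine ⟨act σ a, hW σ hσ a ha, b, hb, ?_⟩
    rcases mem_span_one.1 hb with rfl | rfl <;> rfl
  have hall : ∀ o : Word, o ∈ golayCode → o ∈ W ∨ o + 1 ∈ W := by
    intro o ho
    have := code_le hW' (Submodule.mem_sup_right (Submodule.mem_span_singleton_self _))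
      (Submodule.mem_sup_left hc) hcC hc0 hc1 ho
    rw [Submodule.mem_sup] at this
    obtain ⟨a, ha, b, hb, e⟩ := this
    rcases mem_span_one.1 hb with rfl | rfl
    · left; rw [← e, add_zero]; exact ha
    · right; rw [← e, add_assoc, add_self, add_zero]; exact ha
  obtain ⟨k, hk, l, hl, h8, h8', h8''⟩ := trio_table
  have hkl : k ^^^ l < 4096 := Nat.xor_lt_two_pow (n := 12) hk hl
  have hmem : ∀ j < 4096, wordOf (enc j) ∈ golayCode := fun j hj =>
    mem_golayCode_iff.2 ⟨j, hj, rfl⟩
  have hoct : ∀ j < 4096, popc (enc j) = 8 → support₂ (wordOf (enc j)) ∈ octads := fun j hj h => by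
    refine octad_of_weight (hmem j hj) ?_
    rwa [mk_wordOf (enc_lt hj)]
  rcases hall _ (hmem k hk) with hk' | hk'
  · -- all octads in `W`
    have hall' : ∀ o : Word, support₂ o ∈ octads → o ∈ W := fun o ho =>
      octad_mem hW hk' (hoct k hk h8) ho
    exact h1 (octad_span hall' one_mem)
  · -- all complements in `W`
    have tr : ∀ o o' : Word, o + 1 ∈ W → support₂ o ∈ octads → support₂ o' ∈ octads →
        o' + 1 ∈ W := by
      intro o o' ho h h'
      obtain ⟨g, hg, e⟩ := exists_smul_octad h h'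
      have := hW g hg _ ho
      have e' : act g o = o' := mk_injective (by rw [mk, mk, support_act, e])
      rw [act_add, e'] at this
      exact this
    have h3 := add_mem (tr _ _ hk' (hoct k hk h8) (hoct k hk h8))
      (tr _ _ hk' (hoct k hk h8) (hoct l hl h8'))
    have h3' := tr _ _ hk' (hoct k hk h8) (hoct _ hkl h8'')
    rw [enc_xor, wordOf_xor] at h3'
    have := add_mem h3 h3'
    rw [show wordOf (enc k) + 1 + (wordOf (enc l) + 1) + (wordOf (enc k) + wordOf (enc l) + 1) =
      (wordOf (enc k) + wordOf (enc k)) + (wordOf (enc l) + wordOf (enc l)) + (1 + 1) + 1 by abel,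
      add_self, add_self, add_self] at this
    simp only [zero_add] at this
    exact h1 this

/-! ### invariant subspaces of the whole space -/

/-- The word of a pair of points. -/
def pairWord (x y : GolayPt) : Word := Pi.single x 1 + Pi.single y 1

theorem act_pair (σ : Equiv.Perm GolayPt) (x y : GolayPt) :
    act σ (pairWord x y) = pairWord (σ x) (σ y) := by
  have hs : ∀ z : GolayPt, act σ (Pi.single z (1 : ZMod 2)) = Pi.single (σ z) 1 := by
    intro z
    funext p
    simp only [act, Pi.single_apply, Equiv.symm_apply_eq]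
  rw [pairWord, act_add, hs, hs]; rfl

/-- The even words. -/
def evenSub : Submodule (ZMod 2) Word where
  carrier := {w | ∑ p, w p = 0}
  zero_mem' := by simp
  add_mem' {a b} ha hb := by
    show ∑ p, (a + b) p = 0
    simp only [Pi.add_apply, Finset.sum_add_distrib, show (∑ p, a p) = 0 from ha,
      show (∑ p, b p) = 0 from hb, add_zero]
  smul_mem' a {w} hw := by
    show ∑ p, (a • w) p = 0
    simp only [Pi.smul_apply, ← Finset.smul_sum, show (∑ p, w p) = 0 from hw, smul_zero]

theorem even_le {W : Submodule (ZMod 2) Word} (h : ∀ x y, pairWord x y ∈ W) : evenSub ≤ W := by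
  intro w hw
  have e : w = ∑ p, w p • pairWord p none := by
    funext q
    have h0 : (∑ p, w p • (Pi.single (none : GolayPt) (1 : ZMod 2) : Word)) = 0 := by
      rw [← Finset.sum_smul, show (∑ p, w p) = 0 from hw, zero_smul]
    simp only [pairWord, smul_add, Finset.sum_add_distrib, h0, add_zero]
    simp [Finset.sum_apply, Pi.single_apply]
  rw [e]
  exact sum_mem fun p _ => W.smul_mem _ (h p none)

theorem eq_even_or_top {W : Submodule (ZMod 2) Word} (h : evenSub ≤ W) :
    W = evenSub ∨ W = ⊤ := by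
  by_cases h' : W ≤ evenSub
  · exact Or.inl (le_antisymm h' h)
  obtain ⟨w, hw, hwe⟩ := SetLike.not_le_iff_exists.1 h'
  refine Or.inr (eq_top_iff.2 fun v _ => ?_)
  have hw1 : ∑ p, w p = 1 := Sporadic.eq_one_of_ne_zero hwe
  by_cases hv : ∑ p, v p = 0
  · exact h hv
  · have : v + w ∈ evenSub := by
      show ∑ p, (v + w) p = 0
      rw [show ∑ p, (v + w) p = (∑ p, v p) + ∑ p, w p from Finset.sum_add_distrib, hw1,
        Sporadic.eq_one_of_ne_zero hv]
      rfl
    have := add_mem (h this) hw
    rwa [add_assoc, add_self, add_zero] at this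

theorem syn_points : forallLt 4096 (fun s => Nat.beq s 0 ||
    m24Gens.any (fun p => !Nat.beq (syn (mimg p (Nat.shiftLeft s 12))) s)) = true := by
  decide +kernel

theorem syn_octad : forallLt 4096 (fun s => Nat.beq s 0 ||
    octStGens.any (fun p => !Nat.beq (syn (mimg p (Nat.shiftLeft s 12))) s)) = true := by
  decide +kernel

theorem syn_dodecad : forallLt 4096 (fun s => Nat.beq s 0 ||
    dodStGens.any (fun p => !Nat.beq (syn (mimg p (Nat.shiftLeft s 12))) s)) = true := by
  decide +kernel

theorem syn_shift : forallLt 4096 (fun s => Nat.beq (syn (Nat.shiftLeft s 12)) s) = true := by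
  decide +kernel

theorem oct_gens_ok : octStGens.all (fun p => isAut p && Nat.beq (mimg p stdO) stdO) = true := by
  decide +kernel

theorem dod_gens_ok : dodStGens.all (fun p => isAut p && Nat.beq (mimg p stdD) stdD) = true := by
  decide +kernel

theorem gens_ok : m24Gens.all (fun p => isAut p && Nat.beq (mimg p 0) 0) = true := by
  decide +kernel

/-- A perm list fixing the mask `u` and fixing no nonzero syndrome moves every word off the code. -/
theorem moves_of_table {L : List ℕ} {u : ℕ} (hu : u < 2 ^ 24)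
    (hok : L.all (fun p => isAut p && Nat.beq (mimg p u) u) = true)
    (ht : forallLt 4096 (fun s => Nat.beq s 0 ||
      L.any (fun p => !Nat.beq (syn (mimg p (Nat.shiftLeft s 12))) s)) = true)
    {w : Word} (hw : w ∉ golayCode) :
    ∃ σ ∈ M24, act σ (wordOf u) = wordOf u ∧ act σ w + w ∉ golayCode := by
  let s := syn (mk w)
  have hs : s < 4096 := syn_lt (mk_lt w)
  have hs0 : s ≠ 0 := fun e => hw ((mem_code_iff w).2 ((syn_eq_zero_iff _).1 e))
  have h := forallLt_elim ht hs
  simp only [Bool.or_eq_true, List.any_eq_true, Bool.not_eq_true'] at h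
  rcases h with h | ⟨p, hp, h⟩
  · exact absurd (Nat.eq_of_beq_eq_true h) hs0
  rw [List.all_eq_true] at hok
  have hp' := hok p hp
  rw [Bool.and_eq_true] at hp'
  obtain ⟨σ, hσ, hrep⟩ := exists_mem_M24 hp'.1
  refine ⟨σ, hσ, ?_, fun hmem => ?_⟩
  · apply mk_injective
    rw [mk_act hrep, mk_wordOf hu]
    exact Nat.eq_of_beq_eq_true hp'.2
  · -- the coset of `w` has the representative `s <<< 12`
    let r := Nat.shiftLeft s 12
    have hr : r < 2 ^ 24 := by
      show s <<< 12 < _
      rw [Nat.shiftLeft_eq]; omega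
    have hsr : syn r = s := Nat.eq_of_beq_eq_true (forallLt_elim syn_shift hs)
    have hwr : w + wordOf r ∈ golayCode := by
      rw [mem_code_iff, mk_add, mk_wordOf hr, ← syn_eq_iff, hsr]
    have h2 := act_code hσ hwr
    rw [act_add] at h2
    have h3 : act σ (wordOf r) + wordOf r ∈ golayCode := by
      have := add_mem (add_mem h2 hwr) hmem
      rwa [show act σ w + act σ (wordOf r) + (w + wordOf r) + (act σ w + w) =
        (act σ w + act σ w) + (w + w) + (act σ (wordOf r) + wordOf r) by abel, add_self, add_self,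
        add_zero, zero_add] at this
    rw [mem_code_iff, mk_add, mk_act hrep, mk_wordOf hr, ← syn_eq_iff, hsr] at h3
    rw [h3] at h
    simp at h

/-- Stabilisers of code words fix no nonzero element of the cocode. -/
theorem exists_moving {u : Word} (hu : u ∈ golayCode) {w : Word} (hw : w ∉ golayCode) :
    ∃ σ ∈ M24, act σ u = u ∧ act σ w + w ∉ golayCode := by
  -- conjugate to a standard word
  have conj : ∀ (g : Equiv.Perm GolayPt) (u₀ : Word), g ∈ M24 → act g u₀ = u →
      (∀ v : Word, v ∉ golayCode → ∃ σ ∈ M24, act σ u₀ = u₀ ∧ act σ v + v ∉ golayCode) →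
      ∃ σ ∈ M24, act σ u = u ∧ act σ w + w ∉ golayCode := by
    intro g u₀ hg hgu hstd
    have hv : act g⁻¹ w ∉ golayCode := fun h => hw ((act_mem_code (inv_mem hg)).1 h)
    obtain ⟨σ, hσ, hfix, hmove⟩ := hstd _ hv
    refine ⟨g * σ * g⁻¹, mul_mem (mul_mem hg hσ) (inv_mem hg), ?_, fun h => hmove ?_⟩
    · rw [act_mul, act_mul, ← hgu, ← act_mul g⁻¹ g, inv_mul_cancel, show act 1 u₀ = u₀ from rfl,
        hfix]
    · have := act_code (inv_mem hg) h
      rwa [act_add, ← act_mul, ← mul_assoc, ← mul_assoc, inv_mul_cancel, one_mul, act_mul] at this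
  have compl : ∀ u₁ : Word, (∃ σ ∈ M24, act σ (u₁ + 1) = u₁ + 1 ∧ act σ w + w ∉ golayCode) →
      ∃ σ ∈ M24, act σ u₁ = u₁ ∧ act σ w + w ∉ golayCode := by
    rintro u₁ ⟨σ, hσ, h1, h2⟩
    refine ⟨σ, hσ, ?_, h2⟩
    rw [act_add, show act σ (1 : Word) = 1 from rfl] at h1
    exact add_right_cancel h1
  have oct : ∀ u₁ : Word, u₁ ∈ golayCode → popc (mk u₁) = 8 → u = u₁ →
      ∃ σ ∈ M24, act σ u = u ∧ act σ w + w ∉ golayCode := by
    intro u₁ h1 h8 e
    obtain ⟨g, hg, hge⟩ := exists_smul_octad stdO_mem (octad_of_weight h1 h8)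
    refine conj g (wordOf stdO) hg ?_ fun v hv =>
      moves_of_table (by norm_num [stdO]) oct_gens_ok syn_octad hv
    rw [e]
    apply mk_injective
    rw [mk, mk, support_act, support₂_wordOf, hge]
  have zero : ∀ v : Word, v ∉ golayCode → ∃ σ ∈ M24, act σ (0 : Word) = 0 ∧
      act σ v + v ∉ golayCode := fun v hv => by
    have := moves_of_table (u := 0) (by norm_num) gens_ok syn_points hv
    rwa [wordOf_zero] at this
  rcases weights hu with h | h | h | h | h
  · rw [eq_zero_of_popc h]; exact zero w hw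
  · exact oct u hu h rfl
  · have hd : support₂ u ∈ dodecads := mem_dodecads_iff.2 ⟨(mem_code_iff u).1 hu, h⟩
    obtain ⟨g, hge⟩ := exists_smul_stdD hd
    refine conj g.1 (wordOf stdD) g.2 ?_ fun v hv =>
      moves_of_table (by norm_num [stdD]) dod_gens_ok syn_dodecad hv
    apply mk_injective
    rw [mk, mk, support_act, support₂_wordOf]
    exact congrArg maskOf hge
  · refine compl u ?_
    have h' := popc_add_one hu
    obtain ⟨g, hg, hge⟩ := exists_smul_octad stdO_mem
      (octad_of_weight (add_mem hu one_mem) (c := u + 1) (by omega))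
    obtain ⟨σ, hσ, h1, h2⟩ := conj g (wordOf stdO + 1) hg (by
      rw [act_add, show act g (1 : Word) = 1 from rfl]
      have : act g (wordOf stdO) = u + 1 :=
        mk_injective (by rw [mk, mk, support_act, support₂_wordOf, hge])
      rw [this, add_assoc, add_self, add_zero]) fun v hv => by
        obtain ⟨σ, hσ, h1, h2⟩ :=
          moves_of_table (by norm_num [stdO]) oct_gens_ok syn_octad hv
        exact ⟨σ, hσ, by rw [act_add, h1]; rfl, h2⟩
    exact ⟨σ, hσ, by rw [act_add, h1]; rfl, h2⟩
  · refine compl u ?_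
    have h' := popc_add_one hu
    rw [eq_zero_of_popc (c := u + 1) (by omega)]
    exact zero w hw

theorem exists_stab_pair_moving {c : Word} (hc : c ∈ golayCode) (h0 : c ≠ 0) (h1 : c ≠ 1)
    (x y : GolayPt) :
    ∃ σ ∈ M24, act σ (pairWord x y) = pairWord x y ∧ act σ c ≠ c ∧ act σ c ≠ c + 1 := by
  have hin : 2 < (support₂ c \ {x, y}).card ∧ 2 < ((support₂ c)ᶜ \ {x, y}).card := by
    have e1 := Finset.le_card_sdiff {x, y} (support₂ c)
    have e2 := Finset.le_card_sdiff {x, y} (support₂ c)ᶜ
    have e3 : ({x, y} : Finset GolayPt).card ≤ 2 := Finset.card_le_two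
    have e4 : (support₂ c)ᶜ.card = 24 - (support₂ c).card := by rw [Finset.card_compl]; rfl
    have e5 := popc_add_one hc
    have hw := weights hc
    rw [mk, popc_maskOf] at hw
    have : (support₂ c).card ≠ 0 := fun e => h0 (eq_zero_of_popc (by rw [mk, popc_maskOf, e]))
    have : (support₂ c).card ≠ 24 := fun e => h1 (by
      rw [mk, mk, popc_maskOf, popc_maskOf, e] at e5
      have := eq_zero_of_popc (c := c + 1) (by rw [mk, popc_maskOf]; omega)
      have h' := congrArg (· + (1 : Word)) this
      simpa [add_assoc, add_self] using h')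
    omega
  obtain ⟨a, ha, b, hb, hab⟩ := Finset.one_lt_card.1 (by omega : 1 < (support₂ c \ {x, y}).card)
  obtain ⟨d, hd⟩ := Finset.card_pos.1 (by omega : 0 < ((support₂ c)ᶜ \ {x, y}).card)
  simp only [Finset.mem_sdiff, Finset.mem_compl, Finset.mem_insert, Finset.mem_singleton,
    not_or] at ha hb hd
  obtain ⟨hac, hax, hay⟩ := ha
  obtain ⟨hbc, hbx, hby⟩ := hb
  obtain ⟨hdc, hdx, hdy⟩ := hd
  have had : a ≠ d := fun e => hdc (e ▸ hac)
  obtain ⟨σ, hσ, hx, hy, ha', hb'⟩ :
      ∃ σ ∈ M24, σ x = x ∧ σ y = y ∧ σ a = a ∧ σ b = d := by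
    by_cases hxy : x = y
    · subst hxy
      obtain ⟨g, hg⟩ := exists_map_list (xs := [x, a, b]) (ys := [x, a, d])
        (by simp [Ne.symm hax, Ne.symm hbx, hab]) (by simp [Ne.symm hax, Ne.symm hdx, had]) rfl
        (by simp)
      simp only [List.map_cons, List.map_nil, List.cons.injEq] at hg
      exact ⟨g.1, g.2, hg.1, hg.1, hg.2.1, hg.2.2.1⟩
    · obtain ⟨g, hg⟩ := exists_map_list (xs := [x, y, a, b]) (ys := [x, y, a, d])
        (by simp [hxy, Ne.symm hax, Ne.symm hbx, Ne.symm hay, Ne.symm hby, hab])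
        (by simp [hxy, Ne.symm hax, Ne.symm hdx, Ne.symm hay, Ne.symm hdy, had]) rfl (by simp)
      simp only [List.map_cons, List.map_nil, List.cons.injEq] at hg
      exact ⟨g.1, g.2, hg.1, hg.2.1, hg.2.2.1, hg.2.2.2.1⟩
  refine ⟨σ, hσ, by rw [act_pair, hx, hy], fun e => ?_, fun e => ?_⟩
  · have := congrFun e d
    simp only [support₂, Finset.mem_filter, Finset.mem_univ, true_and, not_not] at hbc hdc
    rw [act, show σ.symm d = b from σ.symm_apply_eq.2 hb'.symm, hdc] at this
    exact hbc this
  · have := congrFun e a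
    rw [act, show σ.symm a = a from σ.symm_apply_eq.2 ha'.symm, Pi.add_apply] at this
    simp at this

theorem single_add_self (a : GolayPt) :
    (Pi.single a (1 : ZMod 2) : Word) + Pi.single a 1 = 0 := add_self _

theorem act_single (σ : Equiv.Perm GolayPt) (z : GolayPt) :
    act σ (Pi.single z (1 : ZMod 2)) = Pi.single (σ z) 1 := by
  funext p
  simp only [act, Pi.single_apply, Equiv.symm_apply_eq]

theorem word_of_support (v : Word) : v = ∑ p ∈ support₂ v, Pi.single p (1 : ZMod 2) := by
  funext q
  simp only [Finset.sum_apply, Pi.single_apply, Finset.sum_ite_eq]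
  by_cases h : v q = 0
  · simp [support₂, h]
  · simp [support₂, h, Sporadic.eq_one_of_ne_zero h]

/-- A word off the code gives a pair of points modulo the code. -/
theorem exists_pair_of_not_mem {W : Submodule (ZMod 2) Word} (hW : Invariant W) {w : Word}
    (hw : w ∈ W) (hwC : w ∉ golayCode) :
    ∃ x y : GolayPt, x ≠ y ∧ ∃ c ∈ golayCode, pairWord x y + c ∈ W := by
  obtain ⟨m, hm, hp, hc⟩ := exists_light (mk_lt w)
  let v := wordOf m
  have hwv : w + v ∈ golayCode := by rw [mem_code_iff, mk_add, mk_wordOf hm]; exact hc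
  have hcard : (support₂ v).card ≤ 4 := by
    rwa [support₂_wordOf, card_setOfMask]
  -- moving all points but one
  have move : ∀ l : List GolayPt, l.Nodup → l ≠ [] → l.length ≤ 3 ∨ l.length = 4 →
      (∃ c ∈ golayCode, (l.map fun p => (Pi.single p 1 : Word)).sum + c ∈ W) →
      ∃ x y : GolayPt, x ≠ y ∧ ∃ c ∈ golayCode, pairWord x y + c ∈ W := by
    rintro (_ | ⟨a, l⟩) hl hne hlen ⟨c, hc, hmem⟩
    · exact absurd rfl hne
    obtain ⟨d, -, hd⟩ := Finset.exists_mem_notMem_of_card_lt_card
      (s := (a :: l).toFinset) (t := Finset.univ) (by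
        refine lt_of_le_of_lt (List.toFinset_card_le _) ?_
        rw [Finset.card_univ]
        exact lt_of_le_of_lt (show (a :: l).length ≤ 4 by omega) (by decide))
    rw [List.mem_toFinset, List.mem_cons, not_or] at hd
    rw [List.nodup_cons] at hl
    obtain ⟨g, hg⟩ := exists_map_list (xs := a :: l) (ys := d :: l)
      (List.nodup_cons.2 hl) (List.nodup_cons.2 ⟨hd.2, hl.2⟩) rfl (by omega)
    simp only [List.map_cons, List.cons.injEq] at hg
    refine ⟨a, d, Ne.symm hd.1, c + act g.1 c, add_mem hc (act_code g.2 hc), ?_⟩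
    have h2 := add_mem hmem (hW g.1 g.2 _ hmem)
    have hfix : act g.1 ((l.map fun p => (Pi.single p 1 : Word)).sum) =
        (l.map fun p => (Pi.single p 1 : Word)).sum := by
      have hgen : ∀ m : List GolayPt, act g.1 ((m.map fun p => (Pi.single p 1 : Word)).sum) =
          ((m.map fun p => g • p).map fun p => (Pi.single p 1 : Word)).sum := by
        intro m
        induction m with
        | nil => rfl
        | cons z m ih =>
          simp only [List.map_cons, List.sum_cons, act_add, ih, act_single]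
          rfl
      rw [hgen, hg.2]
    rw [List.map_cons, List.sum_cons, act_add, act_add, act_single, hfix,
      show (g.1 : Equiv.Perm GolayPt) a = d from hg.1] at h2
    rw [pairWord]
    convert h2 using 1
    generalize (l.map fun p => (Pi.single p 1 : Word)).sum = S
    rw [show Pi.single a (1 : ZMod 2) + S + c + (Pi.single d 1 + S + act g.1 c) =
      Pi.single a (1 : ZMod 2) + Pi.single d 1 + (c + act g.1 c) + (S + S) by abel, add_self,
      add_zero]
  by_cases hv0 : v = 0
  · exact absurd (by simpa [hv0] using hwv) hwC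
  refine move (support₂ v).toList (Finset.nodup_toList _) ?_ ?_ ⟨w + v, hwv, ?_⟩
  · rw [Ne, Finset.toList_eq_nil]
    intro e
    exact hv0 (by rw [word_of_support v, e, Finset.sum_empty])
  · rw [Finset.length_toList]; omega
  · rw [Finset.sum_map_toList, ← word_of_support]
    rwa [show v + (w + v) = w + (v + v) by abel, add_self, add_zero]

theorem even_le_of_not_le {W : Submodule (ZMod 2) Word} (hW : Invariant W)
    (hle : ¬ W ≤ golayCode) : evenSub ≤ W := by
  obtain ⟨w, hw, hwC⟩ := SetLike.not_le_iff_exists.1 hle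
  obtain ⟨x₀, y₀, hne, c₀, hc₀, hmem₀⟩ := exists_pair_of_not_mem hW hw hwC
  refine even_le fun x y => ?_
  by_cases hxy : x = y
  · subst hxy; rw [pairWord, single_add_self]; exact zero_mem W
  by_cases hC : ∃ c ∈ W, c ∈ golayCode ∧ c ≠ 0 ∧ c ≠ 1
  · obtain ⟨c, hc, hcC, h0, h1⟩ := hC
    have hCW := code_le hW (one_mem_of_code hW ⟨c, hc, hcC, h0⟩) hc hcC h0 h1
    have hp0 : pairWord x₀ y₀ ∈ W := by
      have := add_mem hmem₀ (hCW hc₀)
      rwa [add_assoc, add_self, add_zero] at this
    obtain ⟨⟨g, hg⟩, e1, e2⟩ := exists_map_two hne hxy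
    change g _ = _ at e1 e2
    have := hW g hg _ hp0
    rwa [act_pair, e1, e2] at this
  push Not at hC
  have hc01 : c₀ = 0 ∨ c₀ = 1 := by
    by_contra h
    rw [not_or] at h
    obtain ⟨σ, hσ, hfix, hne1, hne2⟩ := exists_stab_pair_moving hc₀ h.1 h.2 x₀ y₀
    have h2 := add_mem hmem₀ (hW σ hσ _ hmem₀)
    rw [act_add, hfix, show pairWord x₀ y₀ + c₀ + (pairWord x₀ y₀ + act σ c₀) =
      pairWord x₀ y₀ + pairWord x₀ y₀ + (c₀ + act σ c₀) by abel, add_self, zero_add] at h2
    have hC' := hC _ h2 (add_mem hc₀ (act_code hσ hc₀))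
    by_cases h3 : c₀ + act σ c₀ = 0
    · apply hne1
      have := congrArg (c₀ + ·) h3
      simpa [← add_assoc, add_self] using this
    · apply hne2
      have := congrArg (c₀ + ·) (hC' h3)
      simpa [← add_assoc, add_self] using this
  have htr : ∀ x y : GolayPt, x ≠ y → pairWord x y + c₀ ∈ W := by
    intro x y hxy
    obtain ⟨⟨g, hg⟩, e1, e2⟩ := exists_map_two hne hxy
    change g _ = _ at e1 e2
    have := hW g hg _ hmem₀
    rw [act_add, act_pair, e1, e2] at this
    rcases hc01 with rfl | rfl <;> exact this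
  rcases hc01 with rfl | rfl
  · simpa using htr x y hxy
  · obtain ⟨z, -, hz⟩ := Finset.exists_mem_notMem_of_card_lt_card
      (s := ({x, y} : Finset GolayPt)) (t := Finset.univ)
      (lt_of_le_of_lt Finset.card_le_two (by decide))
    simp only [Finset.mem_insert, Finset.mem_singleton, not_or] at hz
    have h3 := add_mem (add_mem (htr x y hxy) (htr y z (Ne.symm hz.2))) (htr x z (Ne.symm hz.1))
    have e : pairWord x y + pairWord y z + pairWord x z = 0 := by
      simp only [pairWord]
      rw [show Pi.single x (1 : ZMod 2) + Pi.single y 1 + (Pi.single y 1 + Pi.single z 1) +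
        (Pi.single x 1 + Pi.single z 1) = (Pi.single x 1 + Pi.single x 1) +
        (Pi.single y 1 + Pi.single y 1) + ((Pi.single z 1 + Pi.single z 1) : Word) by abel]
      simp only [single_add_self, add_zero]
    rw [show pairWord x y + 1 + (pairWord y z + 1) + (pairWord x z + 1) =
      pairWord x y + pairWord y z + pairWord x z + ((1 + 1) + (1 : Word)) by abel, e, add_self,
      zero_add, zero_add] at h3
    have := add_mem (htr x y hxy) h3
    rwa [add_assoc, add_self, add_zero] at this

theorem classification (W : Submodule (ZMod 2) Word) (hW : Invariant W) :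
    W = ⊥ ∨ W = Submodule.span (ZMod 2) {(1 : Word)} ∨ W = golayCode ∨ W = evenSub ∨ W = ⊤ := by
  by_cases hle : W ≤ golayCode
  · by_cases hb : W = ⊥
    · exact Or.inl hb
    obtain ⟨c, hc, hc0⟩ := Submodule.exists_mem_ne_zero_of_ne_bot hb
    have h1 := one_mem_of_code hW ⟨c, hc, hle hc, hc0⟩
    rcases invariant_in_code hW h1 hle with h | h
    · exact Or.inr (Or.inl h)
    · exact Or.inr (Or.inr (Or.inl h))
  suffices h : evenSub ≤ W by
    rcases eq_even_or_top h with h | h
    · exact Or.inr (Or.inr (Or.inr (Or.inl h)))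
    · exact Or.inr (Or.inr (Or.inr (Or.inr h)))
  exact even_le_of_not_le hW hle

end CfsgLib.ThreeTrans.Golay
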