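import Cfsg.Agent.Lib.ZStar.Main
import Cfsg.Agent.Lib.Transfer.ThompsonTransfer
import Cfsg.Agent.Lib.PGroups.Basic
import Cfsg.Agent.Lib.TwoGroups.Recognition

/-!
A simple group with a Sylow 2-subgroup that is the centralizer of an involution generating its Frattini
subgroup has dihedral Sylow 2-subgroups of order eight (owner: helper28).
-/

set_option autoImplicit false

namespace CfsgLib.ThreeTrans.SylowSmallFrattini

open Cfsg

variable {L : Type*} [Group L] [Finite L]

/-- Index two subgroups avoiding an element, above a subgroup, when squares and commutators lie below. -/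
theorem exists_index_two {R D : Subgroup L} {k : L} (hD : D ≤ R) (hk : k ∈ R) (hkD : k ∉ D)
    (hsq : ∀ a ∈ R, a * a ∈ D) (hcm : ∀ a ∈ R, ∀ b ∈ R, a * b * a⁻¹ * b⁻¹ ∈ D) :
    ∃ N : Subgroup L, D ≤ N ∧ N ≤ R ∧ k ∉ N ∧ N.relIndex R = 2 := by
  obtain ⟨N, ⟨hDN, hNR, hkN⟩, hmax⟩ := (Set.toFinite {N : Subgroup L | D ≤ N ∧ N ≤ R ∧ k ∉ N}).exists_maximal
    ⟨D, le_rfl, hD, hkD⟩
  have hnorm : ∀ a ∈ R, ∀ b ∈ N, a * b * a⁻¹ ∈ N := fun a ha b hb => by
    have := mul_mem (hDN (hcm a ha b (hNR hb))) hb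
    rwa [inv_mul_cancel_right] at this
  have hdich : ∀ a ∈ R, a ∉ N → k * a ∈ N := by
    intro a ha haN
    have hainv : ∀ b ∈ N, a * b ∈ {g : L | g ∈ N ∨ a * g ∈ N} := fun b hb => Or.inr (by
      show a * (a * b) ∈ N
      rw [← mul_assoc]; exact mul_mem (hDN (hsq a ha)) hb)
    have hswap : ∀ b, a * b ∈ N → b * a ∈ N := fun b hb => by
      have := hnorm a⁻¹ (inv_mem ha) _ hb
      rwa [inv_mul_cancel_left, inv_inv] at this
    let N' : Subgroup L :=
      { carrier := {g | g ∈ N ∨ a * g ∈ N}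
        one_mem' := Or.inl (one_mem N)
        mul_mem' := fun {g g'} hg hg' => by
          rcases hg with hg | hg <;> rcases hg' with hg' | hg'
          · exact Or.inl (mul_mem hg hg')
          · refine Or.inr ?_
            have := mul_mem (hnorm a ha g hg) hg'
            rwa [show a * g * a⁻¹ * (a * g') = a * (g * g') by group] at this
          · exact Or.inr (by rw [← mul_assoc]; exact mul_mem hg hg')
          · refine Or.inl ?_
            have h1 := mul_mem (mul_mem (hswap g hg) (inv_mem (hDN (hsq a ha)))) hg'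
            rwa [show g * a * (a * a)⁻¹ * (a * g') = g * g' by group] at h1
        inv_mem' := fun {g} hg => by
          rcases hg with hg | hg
          · exact Or.inl (inv_mem hg)
          · refine Or.inr ?_
            have h1 := mul_mem (hDN (hsq a ha)) (inv_mem (hswap g hg))
            rwa [show a * a * (g * a)⁻¹ = a * g⁻¹ by group] at h1 }
    have hN'R : N' ≤ R := by
      rintro g (hg | hg)
      · exact hNR hg
      · have := mul_mem (inv_mem ha) (hNR hg)
        rwa [inv_mul_cancel_left] at this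
    have haN' : a ∈ N' := Or.inr (hDN (hsq a ha))
    by_contra hka
    have hkN' : k ∉ N' := by
      rintro (h | h)
      · exact hkN h
      · exact hka (hswap k h)
    exact haN (hmax (y := N') ⟨fun g hg => Or.inl (hDN hg), hN'R, hkN'⟩ (fun g hg => Or.inl hg) haN')
  refine ⟨N, hDN, hNR, hkN, Subgroup.index_eq_two_iff.2 ⟨⟨k, hk⟩, fun b => ?_⟩⟩
  simp only [Subgroup.mem_subgroupOf, Subgroup.coe_mul]
  by_cases hb : (b : L) ∈ N
  · refine Or.inr ⟨hb, fun h => hkN ?_⟩
    exact (N.mul_mem_cancel_left hb).1 h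
  · refine Or.inl ⟨?_, hb⟩
    have h := hdich _ (inv_mem b.2) fun h' => hb (by simpa using inv_mem h')
    have h' := inv_mem h
    rw [mul_inv_rev, inv_inv] at h'
    have h2 := mul_mem h' (hDN (hsq k hk))
    rwa [show (b : L) * k⁻¹ * (k * k) = b * k by group] at h2

/-- Adjusting an index two subgroup by the centralizer of an element. -/
theorem adjust {R N : Subgroup L} (hNR : N ≤ R) {k c w : L} (hk : k ∈ R) (hkN : k ∉ N) (hidx : N.relIndex R = 2)
    (hkc : Commute k c) (hw : w ∈ R) (hwN : w ∉ N) (hwc : ¬ Commute w c)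
    (hC : ∀ a ∈ R, ∀ b ∈ R, ¬ Commute a c → ¬ Commute b c → Commute (a * b) c) :
    ∃ N' : Subgroup L, N' ≤ R ∧ k ∉ N' ∧ N'.relIndex R = 2 ∧ w ∈ N' ∧ ∀ a ∈ N, Commute a c → a ∈ N' := by
  have hNmul : ∀ a ∈ R, ∀ b ∈ R, (a * b ∈ N ↔ (a ∈ N ↔ b ∈ N)) := fun a ha b hb =>
    Subgroup.mul_mem_iff_of_index_two (H := N.subgroupOf R) hidx (a := ⟨a, ha⟩) (b := ⟨b, hb⟩)
  have hCmul : ∀ a ∈ R, ∀ b ∈ R, (Commute (a * b) c ↔ (Commute a c ↔ Commute b c)) := by
    intro a ha b hb
    by_cases h1 : Commute a c <;> by_cases h2 : Commute b c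
    · simp only [h1, h2, iff_true]; exact h1.mul_left h2
    · simp only [h1, h2, iff_false, not_true]
      intro h; apply h2
      have := h1.inv_left.mul_left h
      rwa [inv_mul_cancel_left] at this
    · simp only [h1, h2, iff_true, iff_false]
      intro h; apply h1
      have := h.mul_left h2.inv_left
      rwa [mul_inv_cancel_right] at this
    · simp only [h1, h2, iff_true]; exact hC a ha b hb h1 h2
  let N' : Subgroup L :=
    { carrier := {a | a ∈ R ∧ (a ∈ N ↔ Commute a c)}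
      one_mem' := ⟨one_mem R, iff_of_true (one_mem N) (Commute.one_left c)⟩
      mul_mem' := fun {a b} ha hb => ⟨mul_mem ha.1 hb.1, by
        rw [hNmul a ha.1 b hb.1, hCmul a ha.1 b hb.1, ha.2, hb.2]⟩
      inv_mem' := fun {a} ha => ⟨inv_mem ha.1, by rw [inv_mem_iff, Commute.inv_left_iff, ha.2]⟩ }
  have hmem : ∀ a, a ∈ N' ↔ a ∈ R ∧ (a ∈ N ↔ Commute a c) := fun a => Iff.rfl
  refine ⟨N', fun a ha => ha.1, fun h => hkN (h.2.2 hkc), Subgroup.index_eq_two_iff.2 ⟨⟨k, hk⟩, fun b => ?_⟩,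
    ⟨hw, iff_of_false hwN hwc⟩, fun a ha hac => ⟨hNR ha, iff_of_true ha hac⟩⟩
  simp only [Subgroup.mem_subgroupOf, Subgroup.coe_mul, hmem, mul_mem b.2 hk, b.2, true_and,
    hNmul _ b.2 _ hk, hCmul _ b.2 _ hk, hkN, hkc, iff_false, iff_true]
  unfold Xor
  tauto

theorem main [IsSimpleGroup L] (hL : ¬ IsMulCommutative L) (z : L) (hz : orderOf z = 2) (R : Sylow 2 L)
    (hR : (R : Subgroup L) = Subgroup.centralizer ({z} : Set L))
    (hΦ : (frattini ↥(R : Subgroup L)).map (R : Subgroup L).subtype = Subgroup.zpowers z) :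
    Nonempty (↥(R : Subgroup L) ≃* DihedralGroup 4) := by
  haveI : Fact (Nat.Prime 2) := ⟨Nat.prime_two⟩
  have hz2 : z * z = 1 := by rw [← pow_two, ← hz]; exact pow_orderOf_eq_one z
  have hzinv : z⁻¹ = z := inv_eq_of_mul_eq_one_left hz2
  have hz1 : z ≠ 1 := fun e => by rw [e, orderOf_one] at hz; omega
  have hpow : ∀ {w : L}, w ∈ Subgroup.zpowers z → w = 1 ∨ w = z := by
    intro w hw
    obtain ⟨i, rfl⟩ := hw
    rcases Int.even_or_odd' i with ⟨j, rfl | rfl⟩
    · left; show z ^ (2 * j) = 1; rw [zpow_mul, zpow_two, hz2, one_zpow]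
    · right; show z ^ (2 * j + 1) = z; rw [zpow_add, zpow_mul, zpow_two, hz2, one_zpow, one_mul, zpow_one]
  have hR' : ∀ {a : L}, a ∈ (R : Subgroup L) ↔ a * z = z * a := fun {a} => by
    rw [hR, Subgroup.mem_centralizer_singleton_iff]
  have hzR : z ∈ (R : Subgroup L) := hR'.2 rfl
  have hRp : IsPGroup 2 (R : Subgroup L) := R.isPGroup'
  have hΦmem : ∀ {w : (R : Subgroup L)}, w ∈ frattini ↥(R : Subgroup L) → (w : L) ∈ Subgroup.zpowers z :=
    fun hw => hΦ ▸ Subgroup.mem_map_of_mem _ hw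
  have hsq : ∀ a ∈ (R : Subgroup L), a * a ∈ Subgroup.zpowers z := fun a ha => by
    have := hΦmem (CfsgLib.PGroups.pow_mem_frattini hRp (⟨a, ha⟩ : (R : Subgroup L)))
    rwa [pow_two] at this
  have hcm : ∀ a ∈ (R : Subgroup L), ∀ b ∈ (R : Subgroup L), a * b * a⁻¹ * b⁻¹ ∈ Subgroup.zpowers z := fun a ha b hb => by
    have h := Subgroup.commutator_mem_commutator (Subgroup.mem_top (⟨a, ha⟩ : (R : Subgroup L))) (Subgroup.mem_top ⟨b, hb⟩)
    rw [← commutator_def] at h
    exact hΦmem (CfsgLib.PGroups.commutator_le_frattini' hRp h)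
  obtain ⟨s, hs, hsz⟩ : ∃ a ∈ (R : Subgroup L), a * a = z := by
    by_contra h
    push Not at h
    have hexp : ∀ a ∈ (R : Subgroup L), a * a = 1 := fun a ha => (hpow (hsq a ha)).resolve_right (h a ha)
    have hbot : frattini ↥(R : Subgroup L) = ⊥ := by
      refine le_bot_iff.1 (CfsgLib.PGroups.frattini_le_of_elementary (p := 2) ?_ fun a => ?_)
      · rw [commutator_def, Subgroup.commutator_le]
        intro a _ b _
        rw [Subgroup.mem_bot, commutatorElement_def]
        have ha' : a⁻¹ = a := inv_eq_of_mul_eq_one_left (Subtype.ext (hexp a a.2))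
        have hb' : b⁻¹ = b := inv_eq_of_mul_eq_one_left (Subtype.ext (hexp b b.2))
        rw [ha', hb', mul_assoc (a * b)]
        exact Subtype.ext (hexp (a * b : (R : Subgroup L)) (a * b).2)
      · rw [Subgroup.mem_bot, pow_two]
        exact Subtype.ext (hexp a a.2)
    rw [hbot, Subgroup.map_bot, eq_comm, Subgroup.zpowers_eq_bot] at hΦ
    exact hz1 hΦ
  -- elements conjugate to `z` in `R`, and their centralizers
  have hstr : ∀ g : L, g * z * g⁻¹ ∈ (R : Subgroup L) → g * z * g⁻¹ ≠ z →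
      (∃ t ∈ (R : Subgroup L), t * (g * z * g⁻¹) * t⁻¹ = z * (g * z * g⁻¹)) ∧
      (∃ t' : L, t' * (g * z * g⁻¹) * t'⁻¹ = g * z * g⁻¹ ∧ t' * z * t'⁻¹ = (g * z * g⁻¹) * z ∧
        (∀ c ∈ (R : Subgroup L), Commute c (g * z * g⁻¹) → t' * c * t'⁻¹ = c ∨ t' * c * t'⁻¹ = (g * z * g⁻¹) * c)) ∧
      ∀ a ∈ (R : Subgroup L), Commute a (g * z * g⁻¹) → a * a = 1 := by
    intro g hxR hxz
    generalize hx : g * z * g⁻¹ = x at hxR hxz
    have hC : ∀ {a : L}, a * x = x * a ↔ g⁻¹ * a * g ∈ (R : Subgroup L) := by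
      intro a
      rw [hR', ← hx]
      constructor
      · intro h
        calc g⁻¹ * a * g * z = g⁻¹ * (a * (g * z * g⁻¹)) * g := by group
          _ = g⁻¹ * (g * z * g⁻¹ * a) * g := by rw [h]
          _ = z * (g⁻¹ * a * g) := by group
      · intro h
        calc a * (g * z * g⁻¹) = g * (g⁻¹ * a * g * z) * g⁻¹ := by group
          _ = g * (z * (g⁻¹ * a * g)) * g⁻¹ := by rw [h]
          _ = g * z * g⁻¹ * a := by group
    have hpowx : ∀ {w : L}, g⁻¹ * w * g ∈ Subgroup.zpowers z → w = 1 ∨ w = x := by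
      intro w hw
      rcases hpow hw with e | e
      · left; rw [show w = g * (g⁻¹ * w * g) * g⁻¹ by group, e, mul_one, mul_inv_cancel]
      · right; rw [show w = g * (g⁻¹ * w * g) * g⁻¹ by group, e, hx]
    have hnot : ∃ t ∈ (R : Subgroup L), ¬ t * x = x * t := by
      by_contra hall
      push Not at hall
      have hle : (R : Subgroup L) ≤ (R : Subgroup L).map (MulAut.conj g).toMonoidHom := fun a ha =>
        ⟨g⁻¹ * a * g, hC.1 (hall a ha), by show g * (g⁻¹ * a * g) * g⁻¹ = a; group⟩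
      have heq : (R : Subgroup L).map (MulAut.conj g).toMonoidHom = (R : Subgroup L) :=
        (Subgroup.eq_of_le_of_card_ge hle (Nat.card_congr ((R : Subgroup L).equivMapOfInjective _ (MulAut.conj g).injective).toEquiv).ge).symm
      have hmem : g * s * g⁻¹ ∈ (R : Subgroup L) := heq ▸ ⟨s, hs, rfl⟩
      have h := hsq _ hmem
      rw [show g * s * g⁻¹ * (g * s * g⁻¹) = g * (s * s) * g⁻¹ by group, hsz, hx] at h
      rcases hpow h with e | e
      · rw [← hx, conj_eq_one_iff] at e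
        exact hz1 e
      · exact hxz e
    obtain ⟨t, ht, htx⟩ := hnot
    refine ⟨⟨t, ht, ?_⟩, ?_, fun a ha hax => ?_⟩
    · rcases hpow (hcm t ht x hxR) with e | e
      · exact absurd (mul_inv_eq_iff_eq_mul.1 (mul_inv_eq_one.1 e)) htx
      · exact mul_inv_eq_iff_eq_mul.1 e
    · have hzx : g⁻¹ * z * g ∈ (R : Subgroup L) := hC.1 (hR'.1 hxR).symm
      have hne : ∃ t' : L, t' * x = x * t' ∧ ¬ t' * z = z * t' := by
        by_contra hall
        push Not at hall
        have hle : (R : Subgroup L).map (MulAut.conj g).toMonoidHom ≤ (R : Subgroup L) := by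
          rintro _ ⟨a, ha, rfl⟩
          refine hR'.2 (hall _ (hC.2 ?_))
          show g⁻¹ * (g * a * g⁻¹) * g ∈ (R : Subgroup L)
          rwa [show g⁻¹ * (g * a * g⁻¹) * g = a by group]
        have heq := Subgroup.eq_of_le_of_card_ge hle (Nat.card_congr ((R : Subgroup L).equivMapOfInjective _ (MulAut.conj g).injective).toEquiv).le
        have htR : t ∈ (R : Subgroup L).map (MulAut.conj g).toMonoidHom := heq.symm ▸ ht
        obtain ⟨a, ha, rfl⟩ := htR
        refine htx (hC.2 ?_)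
        show g⁻¹ * (g * a * g⁻¹) * g ∈ (R : Subgroup L)
        rwa [show g⁻¹ * (g * a * g⁻¹) * g = a by group]
      obtain ⟨t', ht', ht'z⟩ := hne
      have hcomm' : ∀ c : L, c * x = x * c → t' * c * t'⁻¹ = c ∨ t' * c * t'⁻¹ = x * c := by
        intro c hc
        have h := hcm _ (hC.1 ht') _ (hC.1 hc)
        rw [show g⁻¹ * t' * g * (g⁻¹ * c * g) * (g⁻¹ * t' * g)⁻¹ * (g⁻¹ * c * g)⁻¹ =
          g⁻¹ * (t' * c * t'⁻¹ * c⁻¹) * g by group] at h
        rcases hpowx h with e | e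
        · exact Or.inl (mul_inv_eq_one.1 e)
        · exact Or.inr (mul_inv_eq_iff_eq_mul.1 e)
      refine ⟨t', mul_inv_eq_iff_eq_mul.2 ht', ?_, fun c _ hc => hcomm' c hc⟩
      rcases hcomm' z (hR'.1 hxR).symm with e | e
      · exact absurd (mul_inv_eq_iff_eq_mul.1 e) ht'z
      · exact e
    · rcases hpow (hsq a ha) with e | e
      · exact e
      · exfalso
        have h := hsq _ (hC.1 hax)
        rw [show g⁻¹ * a * g * (g⁻¹ * a * g) = g⁻¹ * (a * a) * g by group, e] at h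
        rcases hpowx h with e' | e'
        · exact hz1 e'
        · exact hxz e'.symm
  -- a noncentral conjugate of `z` in `R`
  obtain ⟨g, hxR, hxz⟩ : ∃ g : L, g * z * g⁻¹ ∈ (R : Subgroup L) ∧ g * z * g⁻¹ ≠ z := by
    by_contra h
    push Not at h
    have hO : oddCore L = ⊥ := by
      rcases (CfsgLib.Core.normal_pPrimeCore 2 L).eq_bot_or_eq_top with e | e
      · exact e
      · exfalso
        have h1 := CfsgLib.ZStar.odd_card_oddCore L
        change Odd (Nat.card (pPrimeCore 2 L)) at h1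
        rw [e, Subgroup.card_top] at h1
        exact (Nat.not_even_iff_odd.2 h1) (even_iff_two_dvd.2 (hz ▸ orderOf_dvd_natCard z))
    have hcen : z ∈ Subgroup.center L := Subgroup.mem_center_iff.2 fun y => by
      have := CfsgLib.ZStar.mem_oddCore_of_sylow R hz hzR h y
      rw [hO, Subgroup.mem_bot] at this
      exact (mul_inv_eq_iff_eq_mul.1 (mul_inv_eq_one.1 this)).symm
    rcases (Subgroup.center L).normal_of_characteristic.eq_bot_or_eq_top with e | e
    · exact hz1 (by rw [e] at hcen; exact hcen)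
    · exact hL (Subgroup.center_eq_top_iff.1 e)
  obtain ⟨⟨t, ht, htx⟩, -, hexp⟩ := hstr g hxR hxz
  generalize hx : g * z * g⁻¹ = x at hxR hxz htx hexp
  have hxx : x * x = 1 := by
    rw [← hx, show g * z * g⁻¹ * (g * z * g⁻¹) = g * (z * z) * g⁻¹ by group, hz2, mul_one, mul_inv_cancel]
  have hxzc : Commute x z := hR'.1 hxR
  -- central elements of `R` with different classes
  have hZuniq : ∀ {a b : L}, a ∈ (R : Subgroup L) → b ∈ (R : Subgroup L) →
      (∀ r ∈ (R : Subgroup L), Commute r a) → (∀ r ∈ (R : Subgroup L), Commute r b) →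
      ∀ h : L, h * a * h⁻¹ = b → a = b := by
    intro a b _ _ ha hb h e
    obtain ⟨m, hm, em⟩ := Sylow.conj_eq_normalizer_conj_of_mem_centralizer R a h⁻¹
      (Subgroup.mem_centralizer_iff.2 fun r hr => ha r hr)
      (by rw [inv_inv, e]; exact Subgroup.mem_centralizer_iff.2 fun r hr => hb r hr)
    rw [inv_inv, e] at em
    have hmR : m ∈ (R : Subgroup L) := by
      rw [hR']
      have h1 := hsq _ ((Subgroup.mem_normalizer_iff.1 hm s).1 hs)
      rw [show m * s * m⁻¹ * (m * s * m⁻¹) = m * (s * s) * m⁻¹ by group, hsz] at h1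
      rcases hpow h1 with e' | e'
      · rw [conj_eq_one_iff] at e'; exact absurd e' hz1
      · exact mul_inv_eq_iff_eq_mul.1 e'
    rw [em, mul_assoc, ← (ha m hmR).eq, inv_mul_cancel_left]
  -- basic consequences
  have hconjR : ∀ {w c : L}, w ∈ (R : Subgroup L) → c ∈ (R : Subgroup L) → ¬ Commute w c → w * c * w⁻¹ = z * c := by
    intro w c hw hc hwc
    rcases hpow (hcm w hw c hc) with e | e
    · exact absurd (mul_inv_eq_iff_eq_mul.1 (mul_inv_eq_one.1 e)) hwc
    · exact mul_inv_eq_iff_eq_mul.1 e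
  have hC2 : ∀ {c : L}, c ∈ (R : Subgroup L) → ∀ a ∈ (R : Subgroup L), ∀ b ∈ (R : Subgroup L),
      ¬ Commute a c → ¬ Commute b c → Commute (a * b) c := by
    intro c hc a ha b hb h1 h2
    refine mul_inv_eq_iff_eq_mul.1 ?_
    calc a * b * c * (a * b)⁻¹ = a * (b * c * b⁻¹) * a⁻¹ := by group
      _ = a * z * c * a⁻¹ := by rw [hconjR hb hc h2]; group
      _ = z * (a * c * a⁻¹) := by rw [hR'.1 ha]; group
      _ = c := by rw [hconjR ha hc h1, ← mul_assoc, hz2, one_mul]
  have hconjsq : ∀ {w : L}, (∃ f : L, f * z * f⁻¹ = w) → w * w = 1 := by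
    rintro w ⟨f, rfl⟩
    rw [show f * z * f⁻¹ * (f * z * f⁻¹) = f * (z * z) * f⁻¹ by group, hz2, mul_one, mul_inv_cancel]
  have hsplit : ∀ {y a : L}, (∃ f : L, f * z * f⁻¹ = y) → y ∈ (R : Subgroup L) → y ≠ z → a ∈ (R : Subgroup L) →
      Commute a y → (∃ r ∈ (R : Subgroup L), ¬ Commute r a) → ∀ r ∈ (R : Subgroup L), Commute r (y * a) := by
    rintro y a ⟨f, rfl⟩ hy hyz ha hay ⟨r₀, hr₀, hr₀a⟩
    obtain ⟨-, -, he⟩ := hstr f hy hyz
    have hel : ∀ {b c : L}, b ∈ (R : Subgroup L) → c ∈ (R : Subgroup L) → Commute b (f * z * f⁻¹) →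
        Commute c (f * z * f⁻¹) → Commute b c := by
      intro b c hb hc hby hcy
      have h1 := he b hb hby
      have h2 := he c hc hcy
      have h3 := he _ (mul_mem hb hc) (hby.mul_left hcy)
      calc b * c = (b * c)⁻¹ := (inv_eq_of_mul_eq_one_left h3).symm
        _ = c * b := by rw [mul_inv_rev, inv_eq_of_mul_eq_one_left h1, inv_eq_of_mul_eq_one_left h2]
    intro r hr
    by_cases hry : Commute r (f * z * f⁻¹)
    · exact hry.mul_right (hel hr ha hry hay)
    · have hr₀y : ¬ Commute r₀ (f * z * f⁻¹) := fun h => hr₀a (hel hr₀ ha h hay)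
      have hra : ¬ Commute r a := fun h => by
        have h1 := hel (mul_mem hr hr₀) ha (hC2 hy r hr r₀ hr₀ hry hr₀y) hay
        have h2 := h.inv_left.mul_left h1
        rw [inv_mul_cancel_left] at h2
        exact hr₀a h2
      refine mul_inv_eq_iff_eq_mul.1 ?_
      calc r * (f * z * f⁻¹ * a) * r⁻¹ = (r * (f * z * f⁻¹) * r⁻¹) * (r * a * r⁻¹) := by group
        _ = z * (f * z * f⁻¹) * (z * a) := by rw [hconjR hr hy hry, hconjR hr ha hra]
        _ = z * ((f * z * f⁻¹) * z) * a := by group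
        _ = z * (z * (f * z * f⁻¹)) * a := by rw [hR'.1 hy]
        _ = f * z * f⁻¹ * a := by rw [← mul_assoc z z, hz2, one_mul]
  have hnoncentral : ∀ {f : L}, f * z * f⁻¹ ∈ (R : Subgroup L) → f * z * f⁻¹ ≠ z →
      ∃ r ∈ (R : Subgroup L), ¬ Commute r (f * z * f⁻¹) := by
    intro f h1 h2
    obtain ⟨⟨r, hr, e⟩, -⟩ := hstr f h1 h2
    exact ⟨r, hr, fun hc => hz1 (mul_eq_right.1 (e.symm.trans (mul_inv_eq_iff_eq_mul.2 hc.eq)))⟩
  have htxc : ¬ Commute t x := fun hc => hz1 (mul_eq_right.1 (htx.symm.trans (mul_inv_eq_iff_eq_mul.2 hc.eq)))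
  have hfuse : ∀ {y c : L}, (∃ f : L, f * z * f⁻¹ = y) → y ∈ (R : Subgroup L) → y ≠ z → c ∈ (R : Subgroup L) →
      (∀ r ∈ (R : Subgroup L), Commute r c) → ∃ h : L, h * (y * c) * h⁻¹ = c ∨ h * (y * c) * h⁻¹ = z * c := by
    rintro y c ⟨f, rfl⟩ hy hyz hc hcc
    obtain ⟨⟨r, hr, hry⟩, ⟨r', hr'y, hr'z, hr'c⟩, -⟩ := hstr f hy hyz
    have hyy := hconjsq ⟨f, rfl⟩
    rcases hr'c c hc (hcc _ hy).symm with e | e
    · refine ⟨r' * r, Or.inr ?_⟩
      calc r' * r * (f * z * f⁻¹ * c) * (r' * r)⁻¹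
          = r' * ((r * (f * z * f⁻¹) * r⁻¹) * (r * c * r⁻¹)) * r'⁻¹ := by group
        _ = r' * (z * (f * z * f⁻¹) * c) * r'⁻¹ := by rw [hry, mul_inv_eq_iff_eq_mul.2 (hcc r hr).eq]
        _ = (r' * z * r'⁻¹) * (r' * (f * z * f⁻¹) * r'⁻¹) * (r' * c * r'⁻¹) := by group
        _ = (f * z * f⁻¹) * z * (f * z * f⁻¹) * c := by rw [hr'z, hr'y, e]
        _ = z * ((f * z * f⁻¹) * (f * z * f⁻¹)) * c := by rw [hR'.1 hy]; group
        _ = z * c := by rw [hyy, mul_one]
    · refine ⟨r', Or.inl ?_⟩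
      calc r' * (f * z * f⁻¹ * c) * r'⁻¹ = (r' * (f * z * f⁻¹) * r'⁻¹) * (r' * c * r'⁻¹) := by group
        _ = c := by rw [hr'y, e, ← mul_assoc, hyy, one_mul]
  -- the centre of `R` has order two
  have hcenter : ∀ k ∈ (R : Subgroup L), (∀ r ∈ (R : Subgroup L), Commute r k) → k ∈ Subgroup.zpowers z := by
    intro k hk hkc
    by_contra hkz
    have hkk : k * k = 1 := hexp k hk (hkc x hxR).symm
    have hk2 : orderOf k = 2 := orderOf_eq_prime (by rw [pow_two]; exact hkk) fun e => hkz (e ▸ one_mem _)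
    obtain ⟨x₂, ⟨f₂, hf₂⟩, hx₂R, hx₂z, hx₂x, hcover⟩ : ∃ x₂ : L, (∃ f : L, f * z * f⁻¹ = x₂) ∧
        x₂ ∈ (R : Subgroup L) ∧ x₂ ≠ z ∧ (x₂ = x ∨ ¬ Commute x₂ x) ∧
        ∀ f : L, f * z * f⁻¹ ∈ (R : Subgroup L) → Commute (f * z * f⁻¹) x ∨ Commute (f * z * f⁻¹) x₂ := by
      by_cases h : ∀ f : L, f * z * f⁻¹ ∈ (R : Subgroup L) → Commute (f * z * f⁻¹) x
      · exact ⟨x, ⟨g, hx⟩, hxR, hxz, Or.inl rfl, fun f hf => Or.inl (h f hf)⟩
      push Not at h
      obtain ⟨f₂, h₂R, h₂x⟩ := h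
      refine ⟨_, ⟨f₂, rfl⟩, h₂R, fun e => h₂x (by rw [e]; exact hxzc.symm), Or.inr h₂x, fun f hf => ?_⟩
      by_cases hc : Commute (f * z * f⁻¹) x
      · exact Or.inl hc
      refine Or.inr ?_
      have h3 := hexp _ (mul_mem hf h₂R) (hC2 hxR _ hf _ h₂R hc h₂x)
      calc f * z * f⁻¹ * (f₂ * z * f₂⁻¹) = (f * z * f⁻¹ * (f₂ * z * f₂⁻¹))⁻¹ := (inv_eq_of_mul_eq_one_left h3).symm
        _ = _ := by
          rw [mul_inv_rev, inv_eq_of_mul_eq_one_left (hconjsq ⟨f₂, rfl⟩),
            inv_eq_of_mul_eq_one_left (hconjsq ⟨f, rfl⟩)]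
    obtain ⟨N₀, hN₀R, hkN₀, hidx, hzN, hxN, hx₂N⟩ : ∃ N : Subgroup L, N ≤ (R : Subgroup L) ∧ k ∉ N ∧
        N.relIndex (R : Subgroup L) = 2 ∧ z ∈ N ∧ x ∈ N ∧ x₂ ∈ N := by
      obtain ⟨N₁, hD, hN₁R, hkN₁, hi₁⟩ := exists_index_two (R := (R : Subgroup L)) (D := Subgroup.zpowers z)
        (Subgroup.zpowers_le.2 hzR) hk hkz hsq hcm
      obtain ⟨N₂, hN₂R, hkN₂, hi₂, hz₂, hx2⟩ : ∃ N : Subgroup L, N ≤ (R : Subgroup L) ∧ k ∉ N ∧
          N.relIndex (R : Subgroup L) = 2 ∧ z ∈ N ∧ x ∈ N := by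
        by_cases hx1 : x ∈ N₁
        · exact ⟨N₁, hN₁R, hkN₁, hi₁, hD (Subgroup.mem_zpowers z), hx1⟩
        · obtain ⟨N', h1, h2, h3, h4, h5⟩ := adjust hN₁R hk hkN₁ hi₁ (hkc t ht).symm hxR hx1
            (fun h => htxc h.symm) (hC2 ht)
          exact ⟨N', h1, h2, h3, h5 z (hD (Subgroup.mem_zpowers z)) (hR'.1 ht).symm, h4⟩
      by_cases hx22 : x₂ ∈ N₂
      · exact ⟨N₂, hN₂R, hkN₂, hi₂, hz₂, hx2, hx22⟩
      · rcases hx₂x with e | e
        · exact absurd (e ▸ hx2) hx22
        · obtain ⟨N', h1, h2, h3, h4, h5⟩ := adjust hN₂R hk hkN₂ hi₂ (hkc x hxR).symm hx₂R hx22 e (hC2 hxR)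
          exact ⟨N', h1, h2, h3, h5 z hz₂ hxzc.symm, h5 x hx2 (Commute.refl x), h4⟩
    rcases CfsgLib.Transfer.thompson_transfer R N₀ hidx hk2 with ⟨M, hM, hMi, -⟩ | ⟨h, hh⟩
    · rcases hM.eq_bot_or_eq_top with e | e
      · rw [e, Subgroup.index_bot] at hMi
        haveI := isCyclic_of_prime_card hMi
        exact hL ⟨⟨fun a b => (IsCyclic.commGroup (α := L)).mul_comm a b⟩⟩
      · rw [e, Subgroup.index_top] at hMi; omega
    generalize hy : h * k * h⁻¹ = y at hh
    have hyR : y ∈ (R : Subgroup L) := hN₀R hh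
    have hyz : Commute y z := hR'.1 hyR
    by_cases hyc : ∀ r ∈ (R : Subgroup L), Commute r y
    · exact hkN₀ ((hZuniq hk hyR hkc hyc h hy) ▸ hh)
    push Not at hyc
    -- a conjugate of `z` commuting with `y`
    obtain ⟨u, huR, huy⟩ : ∃ u : L, u ∉ (R : Subgroup L) ∧
        (u * z * u⁻¹ ∈ (R : Subgroup L) ∧ Commute (u * z * u⁻¹) y) := by
      set C : Subgroup L := Subgroup.centralizer ({y} : Set L) with hCdef
      set M : Subgroup C := (R : Subgroup L).subgroupOf C
      have hMp : IsPGroup 2 M := hRp.comap_subtype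
      obtain ⟨P, hP⟩ := hMp.exists_le_sylow
      have hle : (R : Subgroup L).map (MulAut.conj h).toMonoidHom ≤ C := by
        rintro _ ⟨r, hr, rfl⟩
        rw [hCdef, Subgroup.mem_centralizer_singleton_iff, ← hy]
        show h * r * h⁻¹ * (h * k * h⁻¹) = h * k * h⁻¹ * (h * r * h⁻¹)
        calc h * r * h⁻¹ * (h * k * h⁻¹) = h * (r * k) * h⁻¹ := by group
          _ = h * (k * r) * h⁻¹ := by rw [(hkc r hr).eq]
          _ = _ := by group
      have hp1 : IsPGroup 2 (((R : Subgroup L).map (MulAut.conj h).toMonoidHom).subgroupOf C) :=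
        (hRp.map _).comap_subtype
      obtain ⟨P₁, hP₁⟩ := hp1.exists_le_sylow
      have hcardR : Nat.card (R : Subgroup L) ≤ Nat.card P := by
        rw [Sylow.card_eq_multiplicity P, ← Sylow.card_eq_multiplicity P₁]
        refine le_trans (le_of_eq ?_) (Subgroup.card_le_of_le hP₁)
        rw [Nat.card_congr (Subgroup.subgroupOfEquivOfLe hle).toEquiv]
        exact Nat.card_congr ((R : Subgroup L).equivMapOfInjective _ (MulAut.conj h).injective).toEquiv
      have hMlt : Nat.card M < Nat.card P := by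
        refine lt_of_lt_of_le ?_ hcardR
        obtain ⟨r₀, hr₀, hr₀y⟩ := hyc
        have e : M.map C.subtype = (R : Subgroup L) ⊓ C := by
          rw [Subgroup.subgroupOf_map_subtype]
        rw [← Subgroup.card_subtype C M, e]
        by_contra hge
        have := Subgroup.eq_of_le_of_card_ge inf_le_left (not_lt.1 hge)
        exact hr₀y (Subgroup.mem_centralizer_singleton_iff.1 ((this.ge hr₀).2))
      haveI : Group.IsNilpotent P := P.isPGroup'.isNilpotent
      set MP : Subgroup P := M.subgroupOf (P : Subgroup C)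
      have hMPlt : MP < ⊤ := by
        refine lt_top_iff_ne_top.2 fun e => ?_
        have h1 : (P : Subgroup C) ≤ M := Subgroup.subgroupOf_eq_top.1 e
        exact absurd (Subgroup.card_le_of_le h1) (not_le.2 hMlt)
      obtain ⟨q, hq1, hq2⟩ := SetLike.exists_of_lt (Group.normalizerCondition_of_isNilpotent MP hMPlt)
      refine ⟨((q : C) : L), fun hqR => hq2 hqR, ?_⟩
      have hzC : z ∈ C := Subgroup.mem_centralizer_singleton_iff.2 hyz.eq.symm
      have hzP : (⟨z, hzC⟩ : C) ∈ P := hP (show z ∈ (R : Subgroup L) from hzR)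
      have hmem := (Subgroup.mem_normalizer_iff.1 hq1 ⟨⟨z, hzC⟩, hzP⟩).1 (show z ∈ (R : Subgroup L) from hzR)
      refine ⟨hmem, ?_⟩
      have hqy : Commute ((q : C) : L) y := Subgroup.mem_centralizer_singleton_iff.1 (q : C).2
      exact (hqy.mul_left hyz.symm).mul_left hqy.inv_left
    obtain ⟨huR', huy⟩ := huy
    have hune : u * z * u⁻¹ ≠ z := fun e => huR (hR'.2 (mul_inv_eq_iff_eq_mul.1 e))
    have huu := hconjsq (w := u * z * u⁻¹) ⟨u, rfl⟩
    -- this conjugate lies in `N₀`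
    have huN : u * z * u⁻¹ ∈ N₀ := by
      have key : ∀ {v : L}, (∃ f : L, f * z * f⁻¹ = v) → v ∈ (R : Subgroup L) → v ≠ z →
          (∃ r ∈ (R : Subgroup L), ¬ Commute r v) → v ∈ N₀ → Commute (u * z * u⁻¹) v → u * z * u⁻¹ ∈ N₀ := by
        intro v hvf hvR hvz hvn hvN hcv
        have hvv := hconjsq hvf
        have hcc := hsplit hvf hvR hvz huR' hcv (hnoncentral huR' hune)
        have hcR := mul_mem hvR huR'
        have huvc : u * z * u⁻¹ = v * (v * (u * z * u⁻¹)) := by rw [← mul_assoc, hvv, one_mul]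
        obtain ⟨f, hf⟩ := hfuse hvf hvR hvz hcR hcc
        rw [← huvc] at hf
        rw [huvc]
        refine mul_mem hvN ?_
        have hzc : ∀ r ∈ (R : Subgroup L), Commute r z := fun r hr => hR'.1 hr
        rcases hf with e | e
        · rw [← hZuniq hzR hcR hzc hcc (f * u) (by rw [← e]; group)]
          exact hzN
        · have h1 := hZuniq hzR (mul_mem hzR hcR) hzc (fun r hr => (hzc r hr).mul_right (hcc r hr)) (f * u)
            (by rw [← e]; group)
          have h2 : v * (u * z * u⁻¹) = 1 := left_eq_mul.1 h1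
          rw [h2]; exact one_mem _
      rcases hcover u huR' with hc | hc
      · exact key ⟨g, hx⟩ hxR hxz ⟨t, ht, htxc⟩ hxN hc
      · refine key ⟨f₂, hf₂⟩ hx₂R hx₂z ?_ hx₂N hc
        subst hf₂
        exact hnoncentral hx₂R hx₂z
    have hcc := hsplit ⟨u, rfl⟩ huR' hune hyR huy.symm hyc
    have hcR := mul_mem huR' hyR
    have hcN := mul_mem huN hh
    obtain ⟨f, hf⟩ := hfuse ⟨u, rfl⟩ huR' hune hcR hcc
    rw [← mul_assoc (u * z * u⁻¹), huu, one_mul] at hf
    have hzc : ∀ r ∈ (R : Subgroup L), Commute r z := fun r hr => hR'.1 hr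
    rcases hf with e | e
    · exact hkN₀ ((hZuniq hk hcR hkc hcc (f * h) (by rw [← e, ← hy]; group)) ▸ hcN)
    · exact hkN₀ ((hZuniq hk (mul_mem hzR hcR) hkc (fun r hr => (hzc r hr).mul_right (hcc r hr)) (f * h)
        (by rw [← e, ← hy]; group)) ▸ mul_mem hzN hcN)
  -- the group has order eight
  have hM : ∀ a ∈ (R : Subgroup L), Commute a x → a = 1 ∨ a = z ∨ a = x ∨ a = x * z := by
    intro a ha hax
    by_cases hac : ∀ r ∈ (R : Subgroup L), Commute r a
    · rcases hpow (hcenter a ha hac) with e | e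
      · exact Or.inl e
      · exact Or.inr (Or.inl e)
    push Not at hac
    have ha' : a = x * (x * a) := by rw [← mul_assoc, hxx, one_mul]
    rcases hpow (hcenter _ (mul_mem hxR ha) (hsplit ⟨g, hx⟩ hxR hxz ha hax hac)) with e | e
    · right; right; left; rw [ha', e, mul_one]
    · right; right; right; rw [ha', e]
  have hcard : Nat.card (R : Subgroup L) = 8 := by
    classical
    obtain ⟨m, hm⟩ := IsPGroup.iff_card.1 hRp
    have hup : Nat.card (R : Subgroup L) ≤ 8 := by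
      have hsub : ((R : Subgroup L) : Set L) ⊆ (([1, z, x, x * z, t, z * t, x * t, x * z * t].toFinset : Finset L) : Set L) := by
        intro a ha
        simp only [List.coe_toFinset, List.mem_cons, List.not_mem_nil, or_false, Set.mem_ofPred_eq]
        by_cases hc : Commute a x
        · rcases hM a ha hc with e | e | e | e <;> subst e <;> simp
        · have ht' : ¬ Commute t⁻¹ x := fun h => htxc (Commute.inv_left_iff.1 h)
          have := hM _ (mul_mem ha (inv_mem ht)) (hC2 hxR a ha t⁻¹ (inv_mem ht) hc ht')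
          rcases this with e | e | e | e <;> rw [mul_inv_eq_iff_eq_mul] at e <;> subst e <;> simp
      calc Nat.card (R : Subgroup L) = ((R : Subgroup L) : Set L).ncard := (Nat.card_coe_set_eq _)
        _ ≤ (([1, z, x, x * z, t, z * t, x * t, x * z * t].toFinset : Finset L) : Set L).ncard :=
          Set.ncard_le_ncard hsub (Finset.finite_toSet _)
        _ = ([1, z, x, x * z, t, z * t, x * t, x * z * t].toFinset : Finset L).card := Set.ncard_coe_finset _
        _ ≤ 8 := (List.toFinset_card_le _).trans (by simp)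
    have hlow : 2 < m := by
      by_contra hle
      have : ∀ a b : (R : Subgroup L), a * b = b * a := by
        intro a b
        rcases (show m = 0 ∨ m = 1 ∨ m = 2 by omega) with rfl | rfl | rfl
        · have : Subsingleton (R : Subgroup L) := (Nat.card_eq_one_iff_unique.1 (by simpa using hm)).1
          exact Subsingleton.elim _ _
        · haveI := isCyclic_of_prime_card (α := (R : Subgroup L)) (p := 2) (by simpa using hm)
          exact (IsCyclic.commGroup (α := (R : Subgroup L))).mul_comm a b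
        · exact (IsPGroup.commGroupOfCardEqPrimeSq hm).mul_comm a b
      exact htxc (congrArg Subtype.val (this ⟨t, ht⟩ ⟨x, hxR⟩))
    rcases Nat.lt_or_ge m 4 with h4 | h4
    · have hm3 : m = 3 := by omega
      rw [hm, hm3]
      norm_num
    · exfalso
      have : 2 ^ 4 ≤ 2 ^ m := Nat.pow_le_pow_right (by norm_num) h4
      omega
  obtain ⟨a, ha, haa, hax⟩ : ∃ a ∈ (R : Subgroup L), a * a = z ∧ a * x * a⁻¹ = z * x := by
    rcases hpow (hsq t ht) with e | e
    · refine ⟨t * x, mul_mem ht hxR, ?_, ?_⟩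
      · calc t * x * (t * x) = (t * x * t⁻¹) * (t * t) * x := by group
          _ = z * (x * x) := by rw [htx, e]; group
          _ = z := by rw [hxx, mul_one]
      · calc t * x * x * (t * x)⁻¹ = t * ((x * x) * x⁻¹) * t⁻¹ := by group
          _ = t * x * t⁻¹ := by rw [hxx, one_mul, inv_eq_of_mul_eq_one_left hxx]
          _ = z * x := htx
    · exact ⟨t, ht, e, htx⟩
  have ha4 : orderOf (⟨a, ha⟩ : (R : Subgroup L)) = 4 := by
    refine orderOf_eq_prime_pow (p := 2) (n := 1) ?_ ?_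
    · intro h
      have := congrArg Subtype.val h
      simp only [pow_one, pow_two, Subgroup.coe_mul, Subgroup.coe_one, haa] at this
      exact hz1 this
    · apply Subtype.ext
      simp only [Subgroup.coe_pow, Subgroup.coe_one]
      rw [show a ^ 2 ^ (1 + 1) = (a * a) * (a * a) by simp [pow_succ, mul_assoc], haa, hz2]
  refine CfsgLib.TwoGroups.nonempty_mulEquiv_dihedralGroup (n := 4) (a := ⟨a, ha⟩) (b := ⟨x, hxR⟩) ha4
    (Subtype.ext hxx) ?_ (Subtype.ext ?_) hcard
  · rintro ⟨i, hi⟩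
    have hc : Commute a x := by
      have := congrArg Subtype.val hi
      rw [Subgroup.coe_zpow] at this
      have hx' : x = a ^ i := this.symm
      rw [hx']
      exact (Commute.refl a).zpow_right i
    exact hz1 (mul_eq_right.1 (hax.symm.trans (mul_inv_eq_iff_eq_mul.2 hc.eq)))
  · show x * a * x⁻¹ = a⁻¹
    refine eq_inv_of_mul_eq_one_left ?_
    calc x * a * x⁻¹ * a = x * (a * x * a⁻¹) * (a * a) := by rw [inv_eq_of_mul_eq_one_left hxx]; group
      _ = x * (z * x) * z := by rw [hax, haa]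
      _ = x * (x * z) * z := by rw [hxzc.eq]
      _ = (x * x) * (z * z) := by group
      _ = 1 := by rw [hxx, hz2, one_mul]

end CfsgLib.ThreeTrans.SylowSmallFrattini
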