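import Mathlib

set_option autoImplicit false

/-!
An involution `z` and a 2-subgroup `Q` normal in the centralizer of `z` and containing it, whose centralizer
is generated by `z` (owner: helper28).
-/

namespace CfsgLib.ThreeTrans

variable {G : Type*} [Group G]

open Subgroup

theorem mem_zpowers_of_order_two {z x : G} (hz : orderOf z = 2) (hx : x ∈ zpowers z) : x = 1 ∨ x = z := by
  obtain ⟨k, hk⟩ := mem_zpowers_iff.1 hx
  rcases Int.emod_two_eq_zero_or_one k with h | h
  · left; rw [← hk, ← zpow_mod_orderOf, hz]; simp [h]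
  · right; rw [← hk, ← zpow_mod_orderOf, hz]; simp [h]

theorem mem_centralizer_singleton_iff' {z x : G} : x ∈ centralizer ({z} : Set G) ↔ x * z = z * x := by
  rw [mem_centralizer_iff]
  exact ⟨fun h => (h z rfl).symm, fun h y hy => by rw [Set.mem_singleton_iff.1 hy, h]⟩

/-- An element of 2-power order commuting with a Sylow 2-subgroup lies in it. -/
theorem mem_sylow_of_centralizing [Finite G] (P : Sylow 2 G) {t : G} (ht : orderOf t = 2)
    (h : (P : Subgroup G) ≤ centralizer ({t} : Set G)) : t ∈ (P : Subgroup G) := by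
  have hn : zpowers t ≤ normalizer ((P : Subgroup G) : Set G) := by
    refine le_trans ?_ (centralizer_le_normalizer (s := ((P : Subgroup G) : Set G)))
    rw [zpowers_le, mem_centralizer_iff]
    exact fun x hx => mem_centralizer_singleton_iff'.1 (h hx)
  have hp : IsPGroup 2 ↥((P : Subgroup G) ⊔ zpowers t) :=
    P.isPGroup'.to_sup_of_normal_left' (IsPGroup.of_card (n := 1) (by rw [Nat.card_zpowers, ht, pow_one])) hn
  rw [← P.is_maximal' hp le_sup_left]
  exact mem_sup_right (mem_zpowers t)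

/-- In this setting there is a Sylow 2-subgroup of the whole group between `Q` and the centralizer of `z`. -/
theorem exists_sylow_between [Finite G] {z : G} (hz : orderOf z = 2) {Q : Subgroup G}
    (hQC : Q ≤ centralizer ({z} : Set G))
    (hQ2 : IsPGroup 2 Q) (hzQ : z ∈ Q) (hC : centralizer (Q : Set G) ≤ zpowers z) :
    ∃ P : Sylow 2 G, Q ≤ P ∧ (P : Subgroup G) ≤ centralizer ({z} : Set G) := by
  set C := centralizer ({z} : Set G) with hCdef
  obtain ⟨S, hS⟩ := (hQ2.of_equiv (subgroupOfEquivOfLe hQC).symm).exists_le_sylow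
  set S' : Subgroup G := (S : Subgroup C).map C.subtype with hS'
  have hS'p : IsPGroup 2 S' := S.isPGroup'.map _
  have hQS : Q ≤ S' := fun q hq => ⟨⟨q, hQC hq⟩, hS (mem_subgroupOf.2 hq), rfl⟩
  obtain ⟨P, hP⟩ := hS'p.exists_le_sylow
  refine ⟨P, hQS.trans hP, ?_⟩
  set PC : Subgroup G := (P : Subgroup G) ⊓ C with hPC
  have hPCS : PC ≤ S' := by
    have h1 : IsPGroup 2 (PC.subgroupOf C) := (P.isPGroup'.to_le (inf_le_left (b := C))).of_equiv
      (subgroupOfEquivOfLe (show PC ≤ C from inf_le_right)).symm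
    have h2 : (S : Subgroup C) ≤ PC.subgroupOf C := fun s hs =>
      mem_subgroupOf.2 ⟨hP ⟨s, hs, rfl⟩, s.2⟩
    intro x hx
    have h3 := S.is_maximal' h1 h2
    exact ⟨⟨x, hx.2⟩, h3 ▸ (show (⟨x, hx.2⟩ : C) ∈ PC.subgroupOf C from mem_subgroupOf.2 hx), rfl⟩
  by_contra hne
  -- the normalizer in `P` of `S'` would be larger
  haveI := P.isPGroup'.isNilpotent
  have hlt : S'.subgroupOf P < ⊤ := by
    rw [lt_top_iff_ne_top]
    intro h
    refine hne fun x hx => ?_
    have h' : (⟨x, hx⟩ : (P : Subgroup G)) ∈ S'.subgroupOf P := h ▸ mem_top _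
    obtain ⟨s, -, hs⟩ := mem_subgroupOf.1 h'
    rw [← show (s : G) = x from hs]
    exact s.2
  obtain ⟨x, hxN, hxS⟩ := SetLike.exists_of_lt (Group.normalizerCondition_of_isNilpotent _ hlt)
  apply hxS
  rw [mem_subgroupOf]
  apply hPCS
  refine ⟨x.2, ?_⟩
  have hzS : z ∈ S' := hQS hzQ
  have hz' : (x : G) * z * (x : G)⁻¹ ∈ S' :=
    ((Subgroup.mem_normalizer_iff.1 hxN) ⟨z, hP hzS⟩).1 hzS
  have hcent : (x : G) * z * (x : G)⁻¹ ∈ centralizer (Q : Set G) := by
    rw [mem_centralizer_iff]
    intro q hq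
    have hqS : q ∈ S' := hQS hq
    have hq' : (x : G)⁻¹ * q * x ∈ S' := by
      have := (Subgroup.mem_normalizer_iff.1 hxN) ⟨(x : G)⁻¹ * q * x,
        mul_mem (mul_mem (inv_mem x.2) (hP hqS)) x.2⟩
      refine this.2 ?_
      rw [mem_subgroupOf]
      simpa [mul_assoc] using hqS
    obtain ⟨s, -, hs⟩ := hq'
    have hs' := mem_centralizer_singleton_iff'.1 s.2
    rw [show (s : G) = (x : G)⁻¹ * q * x from hs] at hs'
    calc q * ((x : G) * z * (x : G)⁻¹) = (x : G) * (((x : G)⁻¹ * q * x) * z) * (x : G)⁻¹ := by group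
      _ = (x : G) * (z * ((x : G)⁻¹ * q * x)) * (x : G)⁻¹ := by rw [hs']
      _ = (x : G) * z * (x : G)⁻¹ * q := by group
  rcases mem_zpowers_of_order_two hz (hC hcent) with h | h
  · have : z = 1 := conj_eq_one_iff.1 h
    rw [this, orderOf_one] at hz; omega
  · exact mem_centralizer_singleton_iff'.2 (mul_inv_eq_iff_eq_mul.1 h)

/-- Any involution with a centralizer containing a Sylow 2-subgroup is conjugate to `z`. -/
theorem isConj_of_two_central [Finite G] {z : G} (hz : orderOf z = 2) {Q : Subgroup G}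
    (hC : centralizer (Q : Set G) ≤ zpowers z) (P : Sylow 2 G) (hQP : Q ≤ P)
    {u : G} (hu : orderOf u = 2) (P' : Sylow 2 G) (hP' : (P' : Subgroup G) ≤ centralizer ({u} : Set G)) :
    IsConj z u := by
  obtain ⟨g, hg⟩ := MulAction.exists_smul_eq G P P'
  have huP : g⁻¹ * u * g ∈ centralizer (Q : Set G) := by
    rw [mem_centralizer_iff]
    intro q hq
    have hgq : g * q * g⁻¹ ∈ (P' : Subgroup G) := by
      rw [← hg, Sylow.coe_subgroup_smul]
      exact Subgroup.smul_mem_pointwise_smul q (MulAut.conj g) _ (hQP hq)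
    have h1 := mem_centralizer_singleton_iff'.1 (hP' hgq)
    calc q * (g⁻¹ * u * g) = g⁻¹ * ((g * q * g⁻¹) * u) * g := by group
      _ = g⁻¹ * (u * (g * q * g⁻¹)) * g := by rw [h1]
      _ = g⁻¹ * u * g * q := by group
  rcases mem_zpowers_of_order_two hz (hC huP) with h | h
  · have h' : u = 1 := by
      calc u = g * (g⁻¹ * u * g) * g⁻¹ := by group
        _ = 1 := by rw [h]; group
    rw [h', orderOf_one] at hu; omega
  · exact isConj_iff.2 ⟨g, by rw [← h]; group⟩

end CfsgLib.ThreeTrans
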