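import Cfsg.Prelude.Def_MonsterType
import Cfsg.Agent.Lib.PGroups.Extraspecial
import Cfsg.Agent.Lib.Core.Coprime
import Cfsg.Agent.Lib.Core.Cores
import Cfsg.Agent.Lib.ThreeTrans.LargeSetting
import Cfsg.Agent.S5395

set_option autoImplicit false

/-!
An extraspecial 2-subgroup with central involution `z`, self-centralizing and normal in the centralizer of
`z`: singular conjugates of `z`, their orthogonality and singular subgroups (owner: helper28).
-/

namespace CfsgLib.ThreeTrans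

open Cfsg

variable {G : Type*} [Group G]

theorem isExtraspecial_congr {E F : Type*} [Group E] [Group F] [Finite E] {p : ℕ} [Fact p.Prime]
    (hE : IsExtraspecial p E) (e : E ≃* F) : IsExtraspecial p F := by
  haveI : Finite F := Finite.of_equiv E e.toEquiv
  have hc : ∀ x : E, e x ∈ Subgroup.center F ↔ x ∈ Subgroup.center E := by
    intro x
    rw [Subgroup.mem_center_iff, Subgroup.mem_center_iff]
    constructor
    · intro hx y; apply e.injective; rw [map_mul, map_mul]; exact hx (e y)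
    · intro hx y; obtain ⟨y, rfl⟩ := e.surjective y; rw [← map_mul, ← map_mul, hx y]
  refine CfsgLib.PGroups.isExtraspecial_of (hE.1.1.of_equiv e) ?_ ?_ ?_ ?_
  · intro hcomm
    exact CfsgLib.PGroups.IsExtraspecial.not_comm hE
      ⟨⟨fun a b => e.injective (by rw [map_mul, map_mul]; exact hcomm.1.1 _ _)⟩⟩
  · rw [← hE.2]
    refine (Nat.card_congr (e.toEquiv.subtypeEquiv fun x => (hc x).symm)).symm
  · rw [commutator_def, Subgroup.commutator_le]
    intro a _ b _
    obtain ⟨a, rfl⟩ := e.surjective a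
    obtain ⟨b, rfl⟩ := e.surjective b
    rw [← map_commutatorElement, hc]
    exact CfsgLib.PGroups.IsExtraspecial.comm_mem hE a b
  · intro x
    obtain ⟨x, rfl⟩ := e.surjective x
    rw [← map_pow, hc]
    exact CfsgLib.PGroups.IsExtraspecial.pow_mem_center hE x

/-- The basic setting: `Q` is extraspecial with centre generated by the involution `z`, its centralizer is its
centre, and it is normalized by the centralizer of `z`. -/
structure LargeData (z : G) (Q : Subgroup G) : Prop where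
  hz : orderOf z = 2
  hE : IsExtraspecial 2 Q
  hcenter : (Subgroup.center Q).map Q.subtype = Subgroup.zpowers z
  hcent : Subgroup.centralizer (Q : Set G) = Subgroup.zpowers z
  hnorm : Subgroup.centralizer ({z} : Set G) ≤ Subgroup.normalizer (Q : Set G)

namespace LargeData

variable {z : G} {Q : Subgroup G} (h : LargeData z Q)
include h

theorem mul_self_z : z * z = 1 := by rw [← pow_two, ← h.hz, pow_orderOf_eq_one]

theorem inv_z : z⁻¹ = z := inv_eq_of_mul_eq_one_left h.mul_self_z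

theorem z_ne_one : z ≠ 1 := fun e => by
  have := h.hz
  rw [e, orderOf_one] at this
  omega

theorem z_mem : z ∈ Q := by
  have : z ∈ (Subgroup.center Q).map Q.subtype := h.hcenter ▸ Subgroup.mem_zpowers z
  obtain ⟨w, -, hw⟩ := this
  exact hw ▸ w.2

theorem commute_z {q : G} (hq : q ∈ Q) : Commute q z :=
  Subgroup.mem_centralizer_iff.1 (h.hcent ▸ Subgroup.mem_zpowers z) q hq

theorem le_centralizer : Q ≤ Subgroup.centralizer ({z} : Set G) := fun _ hq =>
  mem_centralizer_singleton_iff'.2 (h.commute_z hq).eq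

theorem eq_or {x : G} (hx : x ∈ Subgroup.zpowers z) : x = 1 ∨ x = z := mem_zpowers_of_order_two h.hz hx

theorem center_mem_iff (q : Q) : q ∈ Subgroup.center Q ↔ (q : G) ∈ Subgroup.zpowers z := by
  rw [← h.hcenter]
  exact ⟨fun hq => ⟨q, hq, rfl⟩, fun ⟨w, hw, e⟩ => (Subtype.ext e : w = q) ▸ hw⟩

theorem comm_mem {a b : G} (ha : a ∈ Q) (hb : b ∈ Q) : a * b * a⁻¹ * b⁻¹ ∈ Subgroup.zpowers z :=
  (h.center_mem_iff (⟨a, ha⟩ * ⟨b, hb⟩ * ⟨a, ha⟩⁻¹ * ⟨b, hb⟩⁻¹)).1
    (CfsgLib.PGroups.IsExtraspecial.comm_mem h.hE (⟨a, ha⟩ : Q) ⟨b, hb⟩)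

theorem conj_eq_or {a b : G} (ha : a ∈ Q) (hb : b ∈ Q) : a * b * a⁻¹ = b ∨ a * b * a⁻¹ = z * b := by
  rcases h.eq_or (h.comm_mem ha hb) with e | e
  · exact Or.inl (mul_inv_eq_one.1 e)
  · exact Or.inr (mul_inv_eq_iff_eq_mul.1 e)

theorem sq_mem [Finite G] {a : G} (ha : a ∈ Q) : a * a ∈ Subgroup.zpowers z := by
  haveI : Fact (Nat.Prime 2) := ⟨Nat.prime_two⟩
  have h0 := (h.center_mem_iff _).1 (CfsgLib.PGroups.IsExtraspecial.pow_mem_center h.hE (⟨a, ha⟩ : Q))
  rwa [pow_two] at h0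

theorem conj_mem {c q : G} (hc : Commute c z) (hq : q ∈ Q) : c * q * c⁻¹ ∈ Q :=
  (Subgroup.mem_normalizer_iff.1 (h.hnorm (mem_centralizer_singleton_iff'.2 hc.eq)) q).1 hq

omit h in
theorem commute_conj_iff' {g a b : G} : Commute (g * a * g⁻¹) (g * b * g⁻¹) ↔ Commute a b := by
  constructor
  · intro hc
    have := congrArg (fun t => g⁻¹ * t * g) hc.eq
    simpa [mul_assoc, Commute, SemiconjBy] using this
  · intro hc
    show g * a * g⁻¹ * (g * b * g⁻¹) = g * b * g⁻¹ * (g * a * g⁻¹)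
    calc g * a * g⁻¹ * (g * b * g⁻¹) = g * (a * b) * g⁻¹ := by group
      _ = g * (b * a) * g⁻¹ := by rw [hc.eq]
      _ = g * b * g⁻¹ * (g * a * g⁻¹) := by group

/-- The data transported by conjugation. -/
theorem conj [Finite G] (g : G) : LargeData (g * z * g⁻¹) (Q.map (MulAut.conj g).toMonoidHom) := by
  have hmem : ∀ x, x ∈ Q.map (MulAut.conj g).toMonoidHom ↔ g⁻¹ * x * g ∈ Q := by
    intro x
    constructor
    · rintro ⟨q, hq, rfl⟩
      show g⁻¹ * (g * q * g⁻¹) * g ∈ Q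
      simpa [mul_assoc] using hq
    · exact fun hx => ⟨_, hx, by show g * (g⁻¹ * x * g) * g⁻¹ = x; group⟩
  have hzp : ∀ x, x ∈ Subgroup.zpowers (g * z * g⁻¹) ↔ g⁻¹ * x * g ∈ Subgroup.zpowers z := by
    intro x
    rw [Subgroup.mem_zpowers_iff, Subgroup.mem_zpowers_iff]
    refine exists_congr fun k => ?_
    rw [conj_zpow]
    exact ⟨fun e => by rw [← e]; group, fun e => by rw [e]; group⟩
  have hcc : ∀ x y, Commute (g⁻¹ * x * g) y ↔ Commute x (g * y * g⁻¹) := by
    intro x y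
    rw [← commute_conj_iff' (g := g), show g * (g⁻¹ * x * g) * g⁻¹ = x by group]
  refine ⟨?_, ?_, ?_, ?_, ?_⟩
  · exact (orderOf_injective (MulAut.conj g).toMonoidHom (MulAut.conj g).injective z).trans h.hz
  · haveI : Fact (Nat.Prime 2) := ⟨Nat.prime_two⟩
    exact isExtraspecial_congr h.hE
      (Subgroup.equivMapOfInjective Q (MulAut.conj g).toMonoidHom (MulAut.conj g).injective)
  · ext x
    rw [hzp, ← h.hcenter]
    constructor
    · rintro ⟨⟨w, hw'⟩, hw, rfl⟩
      refine ⟨⟨g⁻¹ * w * g, (hmem w).1 hw'⟩, ?_, rfl⟩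
      rw [SetLike.mem_coe, Subgroup.mem_center_iff]
      intro q
      apply Subtype.ext
      have := congrArg Subtype.val (Subgroup.mem_center_iff.1 hw ⟨g * (q : G) * g⁻¹, q, q.2, rfl⟩)
      exact ((hcc w q).2 (Commute.symm this)).eq.symm
    · rintro ⟨w, hw, e⟩
      have hxQ : x ∈ Q.map (MulAut.conj g).toMonoidHom := (hmem x).2 (e ▸ w.2)
      refine ⟨⟨x, hxQ⟩, ?_, rfl⟩
      rw [SetLike.mem_coe, Subgroup.mem_center_iff]
      intro q
      apply Subtype.ext
      have h1 : Commute (g⁻¹ * x * g) (g⁻¹ * (q : G) * g) := by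
        have := congrArg Subtype.val (Subgroup.mem_center_iff.1 hw ⟨_, (hmem q).1 q.2⟩)
        have e' : (w : G) = g⁻¹ * x * g := e
        rw [← e']
        exact (this : _ = _).symm
      rw [hcc, show g * (g⁻¹ * (q : G) * g) * g⁻¹ = q by group] at h1
      exact h1.eq.symm
  · ext x
    rw [hzp, ← h.hcent, Subgroup.mem_centralizer_iff, Subgroup.mem_centralizer_iff]
    constructor
    · intro hx q hq
      exact ((hcc x q).2 (Commute.symm (hx (g * q * g⁻¹) ⟨q, hq, rfl⟩))).eq.symm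
    · rintro hx _ ⟨q, hq, rfl⟩
      exact ((hcc x q).1 (Commute.symm (hx q hq))).eq.symm
  · intro x hx
    have h1 : Commute (g⁻¹ * x * g) z := (hcc x z).2 (mem_centralizer_singleton_iff'.1 hx)
    rw [Subgroup.mem_normalizer_iff]
    intro q
    rw [hmem, hmem, Subgroup.mem_normalizer_iff.1 (h.hnorm (mem_centralizer_singleton_iff'.2 h1.eq)) (g⁻¹ * q * g),
      show g⁻¹ * x * g * (g⁻¹ * q * g) * (g⁻¹ * x * g)⁻¹ = g⁻¹ * (x * q * x⁻¹) * g by group]

/-- Conjugates of `z` determine the conjugates of `Q`. -/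
theorem map_conj_eq {a b : G} (he : a * z * a⁻¹ = b * z * b⁻¹) :
    Q.map (MulAut.conj a).toMonoidHom = Q.map (MulAut.conj b).toMonoidHom := by
  suffices key : ∀ a b : G, a * z * a⁻¹ = b * z * b⁻¹ →
      Q.map (MulAut.conj a).toMonoidHom ≤ Q.map (MulAut.conj b).toMonoidHom from
    le_antisymm (key a b he) (key b a he.symm)
  rintro a b he _ ⟨q, hq, rfl⟩
  refine ⟨b⁻¹ * a * q * (b⁻¹ * a)⁻¹, h.conj_mem ?_ hq, ?_⟩
  · show b⁻¹ * a * z = z * (b⁻¹ * a)
    calc b⁻¹ * a * z = b⁻¹ * (a * z * a⁻¹) * a := by group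
      _ = z * (b⁻¹ * a) := by rw [he]; group
  · show b * (b⁻¹ * a * q * (b⁻¹ * a)⁻¹) * b⁻¹ = a * q * a⁻¹
    group

/-- Some element of `Q` moves `x` to `z * x`. -/
theorem exists_move {x : G} (hx : x ∈ Q) (hxz : x ∉ Subgroup.zpowers z) :
    ∃ q ∈ Q, q * x * q⁻¹ = z * x := by
  by_contra hcon
  simp only [not_exists, not_and] at hcon
  apply hxz
  rw [← h.hcent, Subgroup.mem_centralizer_iff]
  exact fun q hq => mul_inv_eq_iff_eq_mul.1 ((h.conj_eq_or hq hx).resolve_right (hcon q hq))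

/-- Double centralizer: an element commuting with everything in `Q` that commutes with `M` lies in `M`. -/
theorem mem_of_double_centralizer [Finite G] {M : Subgroup G} (hMQ : M ≤ Q) (hzM : z ∈ M) {w : G} (hw : w ∈ Q)
    (hcomm : ∀ q ∈ Q, (∀ m ∈ M, Commute q m) → Commute q w) : w ∈ M := by
  haveI : Fact (Nat.Prime 2) := ⟨Nat.prime_two⟩
  have hZ : Subgroup.center Q ≤ M.subgroupOf Q := fun q hq => by
    rw [h.center_mem_iff] at hq
    exact Subgroup.mem_subgroupOf.2 (Subgroup.zpowers_le.2 hzM hq)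
  have hcc := CfsgLib.PGroups.IsExtraspecial.centralizer_centralizer h.hE hZ
  have : (⟨w, hw⟩ : Q) ∈ Subgroup.centralizer (Subgroup.centralizer (M.subgroupOf Q : Set Q) : Set Q) := by
    rw [Subgroup.mem_centralizer_iff]
    intro q hq
    apply Subtype.ext
    exact hcomm q q.2 fun m hm =>
      (congrArg Subtype.val (Subgroup.mem_centralizer_iff.1 hq ⟨m, hMQ hm⟩ hm)).symm
  rw [hcc] at this
  exact this

/-- An element of `Q` centralizing `M` and moving `w` by `z`. -/
theorem exists_transvection [Finite G] {M : Subgroup G} (hMQ : M ≤ Q) (hzM : z ∈ M) {w : G} (hw : w ∈ Q)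
    (hwM : w ∉ M) : ∃ q ∈ Q, (∀ m ∈ M, Commute q m) ∧ q * w * q⁻¹ = z * w := by
  by_contra hcon
  simp only [not_exists, not_and] at hcon
  exact hwM (h.mem_of_double_centralizer hMQ hzM hw fun q hq hm =>
    mul_inv_eq_iff_eq_mul.1 ((h.conj_eq_or hq hw).resolve_right (hcon q hq hm)))

/-- An element of the centralizer of `z` acting trivially modulo `z` lies in `Q`. -/
theorem mem_of_trivial [Finite G] {c : G} (hc : Commute c z)
    (ht : ∀ q ∈ Q, c * q * c⁻¹ * q⁻¹ ∈ Subgroup.zpowers z) : c ∈ Q := by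
  let φ : Q ≃* Q :=
    { toFun := fun q => ⟨c * q * c⁻¹, h.conj_mem hc q.2⟩
      invFun := fun q => ⟨c⁻¹ * q * c⁻¹⁻¹, h.conj_mem hc.inv_left q.2⟩
      left_inv := fun q => Subtype.ext (by simp [mul_assoc])
      right_inv := fun q => Subtype.ext (by simp [mul_assoc])
      map_mul' := fun p q => Subtype.ext (by simp [mul_assoc]) }
  obtain ⟨g, hg⟩ := Cfsg.Agent.S5395.result h.hE φ fun q => (h.center_mem_iff _).2 (ht q q.2)
  have h1 : (g : G)⁻¹ * c ∈ Subgroup.centralizer (Q : Set G) := by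
    rw [Subgroup.mem_centralizer_iff]
    intro q hq
    have e : c * q * c⁻¹ = (g : G) * q * (g : G)⁻¹ := congrArg Subtype.val (hg ⟨q, hq⟩)
    calc q * ((g : G)⁻¹ * c) = (g : G)⁻¹ * ((g : G) * q * (g : G)⁻¹) * c := by group
      _ = (g : G)⁻¹ * c * q := by rw [← e]; group
  rw [h.hcent] at h1
  have h2 : (g : G)⁻¹ * c ∈ Q := Subgroup.zpowers_le.2 h.z_mem h1
  have := Q.mul_mem g.2 h2
  rwa [mul_inv_cancel_left] at this

/-- Orthogonality is symmetric when some element fixing `x` swaps `z` and `z * x`. -/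
theorem mem_conj_of_swap {g a : G} (hx : g * z * g⁻¹ ∈ Q) (hxz : g * z * g⁻¹ ∉ Subgroup.zpowers z)
    (hax : Commute a (g * z * g⁻¹)) (haz : a * z * a⁻¹ = z * (g * z * g⁻¹)) :
    z ∈ Q.map (MulAut.conj g).toMonoidHom := by
  set x := g * z * g⁻¹ with hxdef
  obtain ⟨q, hq, hqx⟩ := h.exists_move hx hxz
  have hxx : x * x = 1 := by rw [hxdef, conj_mul, h.mul_self_z, mul_one, mul_inv_cancel]
  have hqz : q * z * q⁻¹ = z := by rw [(h.commute_z hq).eq, mul_inv_cancel_right]
  have hzx : Commute z x := (h.commute_z hx).symm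
  have hqa : q * a * z * (q * a)⁻¹ = x := by
    calc q * a * z * (q * a)⁻¹ = q * (a * z * a⁻¹) * q⁻¹ := by group
      _ = q * z * q⁻¹ * (q * x * q⁻¹) := by rw [haz, ← conj_mul]
      _ = x := by rw [hqz, hqx, ← mul_assoc, h.mul_self_z, one_mul]
  rw [← h.map_conj_eq hqa]
  refine ⟨z * x, Q.mul_mem h.z_mem hx, ?_⟩
  show q * a * (z * x) * (q * a)⁻¹ = z
  calc q * a * (z * x) * (q * a)⁻¹ = q * (a * z * a⁻¹ * (a * x * a⁻¹)) * q⁻¹ := by group
    _ = q * (z * x * x) * q⁻¹ := by rw [haz, hax.eq, mul_inv_cancel_right]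
    _ = z := by rw [mul_assoc z x x, hxx, mul_one, hqz]

/-- Orthogonality of singular elements is symmetric, for width at least two. -/
theorem mem_conj [Finite G] (hcard : 32 ≤ Nat.card Q) {g : G} (hx : g * z * g⁻¹ ∈ Q) :
    z ∈ Q.map (MulAut.conj g).toMonoidHom := by
  haveI : Fact (Nat.Prime 2) := ⟨Nat.prime_two⟩
  set x := g * z * g⁻¹ with hxdef
  set P := Q.map (MulAut.conj g).toMonoidHom with hPdef
  have hP : LargeData x P := h.conj g
  by_cases hxz : x ∈ Subgroup.zpowers z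
  · rcases h.eq_or hxz with e | e
    · exact absurd (conj_eq_one_iff.1 e) h.z_ne_one
    · rw [← e]; exact ⟨z, h.z_mem, rfl⟩
  by_contra hzP
  have hzx : Commute z x := (h.commute_z hx).symm
  have noswap : ∀ a ∈ P, a * z * a⁻¹ ≠ z * x := fun a ha e =>
    hzP (h.mem_conj_of_swap hx hxz (hP.commute_z ha) e)
  set R : Subgroup G := Q ⊓ Subgroup.centralizer ({x} : Set G) with hRdef
  have hRx : ∀ r ∈ R, Commute r x := fun r hr => mem_centralizer_singleton_iff'.1 hr.2
  -- the common part lies in `⟨x⟩`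
  have hE : ∀ e ∈ Q, e ∈ P → e ∈ Subgroup.zpowers x := by
    intro e he heP
    have hcR : ∀ r ∈ R, Commute r e := by
      intro r hr
      have h2 : r * e * r⁻¹ * e⁻¹ ∈ P := P.mul_mem (hP.conj_mem (hRx r hr) heP) (inv_mem heP)
      rcases h.eq_or (h.comm_mem hr.1 he) with e1 | e1
      · exact mul_inv_eq_iff_eq_mul.1 (mul_inv_eq_one.1 e1)
      · exact absurd (e1 ▸ h2) hzP
    have hM : e ∈ Subgroup.zpowers x ⊔ Subgroup.zpowers z := by
      refine h.mem_of_double_centralizer (sup_le (Subgroup.zpowers_le.2 hx) (Subgroup.zpowers_le.2 h.z_mem))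
        (Subgroup.mem_sup_right (Subgroup.mem_zpowers z)) he fun q hq hm => ?_
      exact hcR q ⟨hq, mem_centralizer_singleton_iff'.2 (hm x (Subgroup.mem_sup_left (Subgroup.mem_zpowers x))).eq⟩
    have hn : Subgroup.zpowers x ≤ Subgroup.normalizer (Subgroup.zpowers z : Set G) := by
      refine le_trans (Subgroup.zpowers_le.2 ?_) (Subgroup.centralizer_le_normalizer _)
      rw [Subgroup.mem_centralizer_iff]
      intro y hy
      obtain ⟨k, rfl⟩ := Subgroup.mem_zpowers_iff.1 hy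
      exact (hzx.zpow_left k).eq
    obtain ⟨a, ha, b, hb, rfl⟩ := (CfsgLib.Core.mem_sup_iff_mul hn).1 hM
    rcases h.eq_or hb with rfl | rfl
    · simpa using ha
    · refine absurd ?_ hzP
      have := P.mul_mem (inv_mem (Subgroup.zpowers_le.2 hP.z_mem ha)) heP
      rwa [inv_mul_cancel_left] at this
  -- the part of `P` centralizing `z` is fixed by `R` modulo `x`
  have hRS : ∀ r ∈ R, ∀ s ∈ P, Commute s z → r * s * r⁻¹ * s⁻¹ ∈ Subgroup.zpowers x := by
    intro r hr s hs hsz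
    refine hE _ ?_ (P.mul_mem (hP.conj_mem (hRx r hr) hs) (inv_mem hs))
    rw [show r * s * r⁻¹ * s⁻¹ = r * (s * r⁻¹ * s⁻¹) by group]
    exact Q.mul_mem hr.1 (h.conj_mem hsz (inv_mem hr.1))
  have hxc : ∀ ε ∈ Subgroup.zpowers x, Commute ε z := by
    intro ε hε
    rcases hP.eq_or hε with rfl | rfl
    exacts [Commute.one_left z, hzx.symm]
  -- the subgroup `S` and the orthogonal of `S`
  set S : Subgroup P := (Subgroup.centralizer ({z} : Set G)).subgroupOf P with hSdef
  have hS : ∀ {s : P}, s ∈ S ↔ Commute (s : G) z := fun {s} => mem_centralizer_singleton_iff'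
  set T : Subgroup P := Subgroup.centralizer (S : Set P) with hTdef
  have hT : ∀ {t : P}, t ∈ T ↔ ∀ s : P, Commute (s : G) z → Commute (s : G) (t : G) := by
    intro t
    rw [hTdef, Subgroup.mem_centralizer_iff]
    exact ⟨fun ht s hs => congrArg Subtype.val (ht s (hS.2 hs)), fun ht s hs => Subtype.ext (ht s (hS.1 hs))⟩
  have hfmem : ∀ a ∈ P, z * a * z * a⁻¹ ∈ P := by
    intro a ha
    have := hP.conj_mem hzx ha
    rw [h.inv_z] at this
    exact P.mul_mem this (inv_mem ha)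
  let f : P → P := fun a => ⟨z * a * z * (a : G)⁻¹, hfmem a a.2⟩
  have hzc : ∀ a b : G, z * a * z * (z * b * z) = z * (a * b) * z := by
    intro a b
    rw [show z * a * z * (z * b * z) = z * a * (z * z) * b * z by simp only [mul_assoc], h.mul_self_z, mul_one]
    simp only [mul_assoc]
  have hfS : ∀ a : P, f a ∈ S := by
    intro a
    rw [hS]
    set e : G := z * a * z * (a : G)⁻¹ with hedef
    have he : z * e * z⁻¹ = e⁻¹ := by
      rw [hedef, h.inv_z, mul_inv_rev, mul_inv_rev, mul_inv_rev, inv_inv, h.inv_z]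
      rw [show z * (z * a * z * (a : G)⁻¹) * z = z * z * a * z * (a : G)⁻¹ * z by simp only [mul_assoc],
        h.mul_self_z, one_mul]
      simp only [mul_assoc]
    have hee := hP.sq_mem (hfmem a a.2)
    rcases hP.eq_or hee with e1 | e1
    · rw [inv_eq_of_mul_eq_one_left e1] at he
      exact (mul_inv_eq_iff_eq_mul.1 he).symm
    · exfalso
      refine noswap e⁻¹ (inv_mem (hfmem a a.2)) ?_
      rw [inv_inv]
      have hze : z * e = e⁻¹ * z := mul_inv_eq_iff_eq_mul.1 he
      have hce : e⁻¹ * e⁻¹ = x := by rw [← mul_inv_rev, e1, hP.inv_z]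
      calc e⁻¹ * z * e = e⁻¹ * (z * e) := by rw [mul_assoc]
        _ = x * z := by rw [hze, ← mul_assoc, hce]
        _ = z * x := hzx.symm.eq
  have hfT : ∀ a : P, f a ∈ T := by
    intro a
    rw [hT]
    intro s hs
    show Commute (s : G) (z * a * z * (a : G)⁻¹)
    have h1 : (a : G)⁻¹ * s * a * (s : G)⁻¹ ∈ Subgroup.zpowers x := by
      have := hP.comm_mem (inv_mem a.2) s.2
      rwa [inv_inv] at this
    have hc : Commute ((a : G)⁻¹ * s * a) z := by
      have := (hxc _ h1).mul_left hs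
      rwa [inv_mul_cancel_right] at this
    have hzs : z * s * z = s := by rw [← hs.eq, mul_assoc, h.mul_self_z, mul_one]
    have hzs' : z * ((a : G)⁻¹ * s * a) * z = (a : G)⁻¹ * s * a := by
      rw [← hc.eq, mul_assoc, h.mul_self_z, mul_one]
    show (s : G) * (z * a * z * (a : G)⁻¹) = z * a * z * (a : G)⁻¹ * s
    calc (s : G) * (z * a * z * (a : G)⁻¹) = (z * s * z) * (z * a * z) * (a : G)⁻¹ := by
          rw [hzs]; simp only [mul_assoc]
      _ = z * a * z * (z * ((a : G)⁻¹ * s * a) * z) * (a : G)⁻¹ := by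
          rw [hzc, hzc]; congr 3; group
      _ = z * a * z * ((a : G)⁻¹ * s * a) * (a : G)⁻¹ := by rw [hzs']
      _ = _ := by group
  have hxT : (⟨x, hP.z_mem⟩ : P) ∈ T := hT.2 fun s _ => hP.commute_z s.2
  have hxS : (⟨x, hP.z_mem⟩ : P) ∈ S := hS.2 hzx.symm
  have hfε : ∀ (a b : P) (ε : G), ε ∈ Subgroup.zpowers x → (f a : G) = ε * (f b : G) →
      z * ((b : G)⁻¹ * a) * z = ε * ((b : G)⁻¹ * a) := by
    intro a b ε hε e
    change z * a * z * (a : G)⁻¹ = ε * (z * b * z * (b : G)⁻¹) at e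
    have hεP : ∀ y ∈ P, Commute ε y := by
      intro y hy
      rcases hP.eq_or hε with rfl | rfl
      exacts [Commute.one_left y, (hP.commute_z hy).symm]
    have hεb : Commute ε (z * b * z) := by
      have := hP.conj_mem hzx b.2
      rw [h.inv_z] at this
      exact hεP _ this
    calc z * ((b : G)⁻¹ * a) * z = (z * (b : G)⁻¹ * z) * (z * a * z) := (hzc _ _).symm
      _ = (z * b * z)⁻¹ * (z * a * z * (a : G)⁻¹ * a) := by
        rw [inv_mul_cancel_right, mul_inv_rev, mul_inv_rev, h.inv_z]; simp only [mul_assoc]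
      _ = (z * b * z)⁻¹ * (ε * (z * b * z * (b : G)⁻¹) * a) := by rw [e]
      _ = (z * b * z)⁻¹ * ε * (z * b * z) * ((b : G)⁻¹ * a) := by simp only [mul_assoc]
      _ = ε * ((b : G)⁻¹ * a) := by rw [mul_assoc _ ε, hεb.eq, inv_mul_cancel_left]
  have hne : ∀ a b : P, f a ≠ ⟨x, hP.z_mem⟩ * f b := by
    intro a b e
    have h1 := hfε a b x (Subgroup.mem_zpowers x) (congrArg Subtype.val e)
    refine noswap ((b : G)⁻¹ * a) (P.mul_mem (inv_mem b.2) a.2) ?_
    rw [mul_inv_eq_iff_eq_mul]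
    calc (b : G)⁻¹ * a * z = z * (z * ((b : G)⁻¹ * a) * z) := by
          simp only [← mul_assoc, h.mul_self_z, one_mul]
      _ = z * x * ((b : G)⁻¹ * a) := by rw [h1, ← mul_assoc]
  have hlift : ∀ a b : P, a⁻¹ * b ∈ S → f a = f b := by
    intro a b hab
    obtain ⟨c, hc, rfl⟩ : ∃ c : P, Commute (c : G) z ∧ b = a * c := ⟨a⁻¹ * b, hS.1 hab, (mul_inv_cancel_left a b).symm⟩
    refine Subtype.ext ?_
    show z * a * z * (a : G)⁻¹ = z * ((a : G) * c) * z * ((a : G) * c)⁻¹
    rw [← hzc, show z * (c : G) * z = c by rw [← hc.eq, mul_assoc, h.mul_self_z, mul_one]]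
    group
  let F : P ⧸ S → P := fun q => Quotient.liftOn' q f fun a b hab => hlift a b (QuotientGroup.leftRel_apply.1 hab)
  have hF : ∀ a : P, F (QuotientGroup.mk a) = f a := fun a => rfl
  have hcount : Nat.card T ≤ Nat.card (T ⊓ S : Subgroup P) := by
    have h1 : Nat.card T = 2 * S.index := by
      have hZ : Subgroup.center P ≤ S := fun q hq => by
        rw [hP.center_mem_iff] at hq
        exact hS.2 (hxc _ hq)
      have h2 := CfsgLib.PGroups.IsExtraspecial.card_centralizer_mul_card hP.hE hZ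
      rw [← hTdef, ← S.card_mul_index] at h2
      exact Nat.eq_of_mul_eq_mul_right (Nat.card_pos : 0 < Nat.card S) (by rw [h2]; ring)
    let J : Bool × (P ⧸ S) → (T ⊓ S : Subgroup P) := fun p => p.1.rec
      ⟨F p.2, by induction p.2 using QuotientGroup.induction_on with | _ a => exact ⟨hfT a, hfS a⟩⟩
      ⟨⟨x, hP.z_mem⟩ * F p.2, by
        induction p.2 using QuotientGroup.induction_on with
        | _ a => exact ⟨mul_mem hxT (hfT a), mul_mem hxS (hfS a)⟩⟩
    have hJ : Function.Injective J := by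
      rintro ⟨u, p⟩ ⟨v, q⟩ e
      induction p using QuotientGroup.induction_on with | _ a =>
      induction q using QuotientGroup.induction_on with | _ b =>
      have e' := congrArg Subtype.val e
      have hinj : ∀ a b : P, f a = f b → (QuotientGroup.mk a : P ⧸ S) = QuotientGroup.mk b := by
        intro a b hab
        have h3 := hfε a b 1 (one_mem _) (by rw [one_mul, hab])
        rw [one_mul] at h3
        refine (QuotientGroup.eq.2 (hS.2 ?_)).symm
        show (b : G)⁻¹ * a * z = z * ((b : G)⁻¹ * a)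
        calc (b : G)⁻¹ * a * z = z * (z * ((b : G)⁻¹ * a) * z) := by
              simp only [← mul_assoc, h.mul_self_z, one_mul]
          _ = _ := by rw [h3]
      cases u <;> cases v <;> simp only [J, hF] at e'
      · rw [hinj a b e']
      · exact absurd e' (hne a b)
      · exact absurd e'.symm (hne b a)
      · rw [hinj a b (mul_left_cancel e')]
    refine h1.le.trans (le_of_eq_of_le ?_ (Nat.card_le_card_of_injective J hJ))
    rw [Nat.card_prod, Subgroup.index]
    simp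
  have hTS : T ≤ S := by
    intro t ht
    have := Subgroup.eq_of_le_of_card_ge (inf_le_left : T ⊓ S ≤ T) hcount
    exact (this.ge ht).2
  -- the commutators of `R` with `P` fall into `S`
  have hfR : ∀ r ∈ R, ∀ a ∈ P, r * a * r⁻¹ * a⁻¹ ∈ P ∧ Commute (r * a * r⁻¹ * a⁻¹) z := by
    intro r hr a ha
    have hm : r * a * r⁻¹ * a⁻¹ ∈ P := P.mul_mem (hP.conj_mem (hRx r hr) ha) (inv_mem ha)
    refine ⟨hm, hS.1 (hTS ((hT (t := (⟨_, hm⟩ : P))).2 fun s hs => ?_))⟩
    show Commute (s : G) (r * a * r⁻¹ * a⁻¹)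
    obtain ⟨ε, hε, hrs⟩ : ∃ ε ∈ Subgroup.zpowers x, r⁻¹ * s * r = ε * s :=
      ⟨_, hRS r⁻¹ (inv_mem hr) s s.2 hs, by group⟩
    have hεc : ∀ y, Commute y x → Commute ε y := by
      intro y hy
      rcases hP.eq_or hε with rfl | rfl
      exacts [Commute.one_left y, hy.symm]
    obtain ⟨δ, hδ, has⟩ : ∃ δ ∈ Subgroup.zpowers x, a⁻¹ * s * a = δ * s := by
      refine ⟨_, hP.comm_mem (inv_mem ha) s.2, ?_⟩
      group
    have hδc : ∀ y, Commute y x → Commute δ y := by
      intro y hy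
      rcases hP.eq_or hδ with rfl | rfl
      exacts [Commute.one_left y, hy.symm]
    have hax : Commute a x := hP.commute_z ha
    have hεa : a⁻¹ * ε = ε * a⁻¹ := (hεc a⁻¹ hax.inv_left).eq.symm
    have hδr : r * δ = δ * r := (hδc r (hRx r hr)).eq.symm
    have hsr : r * s * r⁻¹ = ε⁻¹ * s := by
      have hεr : r * ε = ε * r := (hεc r (hRx r hr)).eq.symm
      calc r * s * r⁻¹ = ε⁻¹ * ε * (r * s * r⁻¹) := by group
        _ = ε⁻¹ * (r * (ε * s) * r⁻¹) := by
          rw [mul_assoc ε⁻¹ ε, show ε * (r * s * r⁻¹) = r * (ε * s) * r⁻¹ by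
            rw [← mul_assoc r ε, hεr]; simp only [mul_assoc]]
        _ = ε⁻¹ * s := by rw [← hrs]; group
    have hkey : (r * a * r⁻¹)⁻¹ * s * (r * a * r⁻¹) = a⁻¹ * s * a := by
      calc (r * a * r⁻¹)⁻¹ * s * (r * a * r⁻¹) = r * (a⁻¹ * (r⁻¹ * s * r) * a) * r⁻¹ := by group
        _ = r * (ε * (a⁻¹ * s * a)) * r⁻¹ := by
          rw [hrs, ← mul_assoc a⁻¹ ε, hεa]; simp only [mul_assoc]
        _ = r * (δ * (ε * s)) * r⁻¹ := by
          rw [has, ← mul_assoc ε δ, (hεc δ (hδc x (Commute.refl x))).eq, mul_assoc δ ε]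
        _ = δ * (ε * (r * s * r⁻¹)) := by
          rw [← mul_assoc r δ, hδr, mul_assoc δ r, mul_assoc δ, ← mul_assoc r ε,
            (hεc r (hRx r hr)).eq.symm]
          simp only [mul_assoc]
        _ = a⁻¹ * s * a := by rw [hsr, mul_inv_cancel_left, has]
    have h4 : r * a * r⁻¹ * (a⁻¹ * s * a) = s * (r * a * r⁻¹) := by rw [← hkey]; group
    show (s : G) * (r * a * r⁻¹ * a⁻¹) = r * a * r⁻¹ * a⁻¹ * s
    calc (s : G) * (r * a * r⁻¹ * a⁻¹) = s * (r * a * r⁻¹) * a⁻¹ := by simp only [mul_assoc]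
      _ = r * a * r⁻¹ * (a⁻¹ * s * a) * a⁻¹ := by rw [h4]
      _ = _ := by group
  -- `z` is a commutator in `R`
  obtain ⟨r, hr, r', hr', hrr⟩ : ∃ r ∈ R, ∃ r' ∈ R, r * r' * r⁻¹ * r'⁻¹ = z := by
    by_contra hcon
    simp only [not_exists, not_and] at hcon
    have hcomm : ∀ a ∈ R, ∀ b ∈ R, Commute a b := fun a ha b hb =>
      mul_inv_eq_iff_eq_mul.1 (mul_inv_eq_one.1 ((h.eq_or (h.comm_mem ha.1 hb.1)).resolve_right (hcon a ha b hb)))
    haveI : IsMulCommutative (R.subgroupOf Q) :=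
      ⟨⟨fun a b => Subtype.ext (Subtype.ext (hcomm _ a.2 _ b.2).eq)⟩⟩
    obtain ⟨n, hn, hn1, hn2, -⟩ := CfsgLib.PGroups.IsExtraspecial.exists_card h.hE
    have h5 := hn2 _ (inferInstance : IsMulCommutative (R.subgroupOf Q))
    have hxQ : (⟨x, hx⟩ : Q) ∉ Subgroup.center Q := fun hc => hxz ((h.center_mem_iff _).1 hc)
    have hRsub : R.subgroupOf Q = Subgroup.centralizer ({(⟨x, hx⟩ : Q)} : Set Q) := by
      ext q
      rw [Subgroup.mem_subgroupOf, hRdef, Subgroup.mem_inf, mem_centralizer_singleton_iff',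
        mem_centralizer_singleton_iff']
      exact ⟨fun hq => Subtype.ext hq.2, fun hq => ⟨q.2, congrArg Subtype.val hq⟩⟩
    have h6 := Subgroup.card_mul_index (R.subgroupOf Q)
    rw [hRsub, CfsgLib.PGroups.IsExtraspecial.index_centralizer_singleton h.hE hxQ] at h6
    rw [hn1] at h6 hcard
    rw [hRsub] at h5
    have h7 : 2 ≤ n := by
      by_contra hlt
      have : n = 1 := by omega
      subst this
      norm_num at hcard
    have h8 : 2 ^ (2 * n + 1) ≤ 2 ^ (n + 2) := by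
      rw [← h6, show n + 2 = n + 1 + 1 from rfl, _root_.pow_succ 2 (n + 1)]
      exact Nat.mul_le_mul_right 2 h5
    have := (Nat.pow_le_pow_iff_right (by norm_num : 1 < 2)).1 h8
    omega
  -- so `z` centralizes `P`
  have hxP : ∀ ε ∈ Subgroup.zpowers x, ∀ y, Commute y x → Commute ε y := by
    intro ε hε y hy
    rcases hP.eq_or hε with rfl | rfl
    exacts [Commute.one_left y, hy.symm]
  have htwo : ∀ a ∈ P, ∃ η ∈ Subgroup.zpowers x, r * r' * a * (r * r')⁻¹ = η * (r' * r * a * (r' * r)⁻¹) := by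
    intro a ha
    obtain ⟨hm1, hc1⟩ := hfR r hr a ha
    obtain ⟨hm2, hc2⟩ := hfR r' hr' a ha
    set f1 := r * a * r⁻¹ * a⁻¹ with hf1
    set f2 := r' * a * r'⁻¹ * a⁻¹ with hf2
    have hε := hRS r hr f2 hm2 hc2
    have hε' := hRS r' hr' f1 hm1 hc1
    set ε := r * f2 * r⁻¹ * f2⁻¹ with hεdef
    set ε' := r' * f1 * r'⁻¹ * f1⁻¹ with hε'def
    have hδ := hP.comm_mem hm2 hm1
    set δ := f2 * f1 * f2⁻¹ * f1⁻¹ with hδdef
    refine ⟨ε * δ * ε'⁻¹, mul_mem (mul_mem hε hδ) (inv_mem hε'), ?_⟩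
    have e1 : r * r' * a * (r * r')⁻¹ = ε * f2 * f1 * a := by rw [hεdef, hf1, hf2]; group
    have e2 : r' * r * a * (r' * r)⁻¹ = ε' * f1 * f2 * a := by rw [hε'def, hf1, hf2]; group
    rw [e1, e2]
    have e3 : f2 * f1 = δ * (f1 * f2) := by rw [hδdef]; group
    rw [mul_assoc ε f2, e3]
    group
  have hzcomm : ∀ b ∈ P, Commute b z := by
    intro b hb
    set m := r' * r
    have hmx : Commute m⁻¹ x := ((hRx r' hr').mul_left (hRx r hr)).inv_left
    have ha : m⁻¹ * b * m ∈ P := by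
      have := hP.conj_mem hmx hb
      rwa [inv_inv] at this
    obtain ⟨η, hη, e⟩ := htwo _ ha
    rw [show r * r' * (m⁻¹ * b * m) * (r * r')⁻¹ = (r * r' * r⁻¹ * r'⁻¹) * b * (r * r' * r⁻¹ * r'⁻¹)⁻¹ by
        simp only [m]; group,
      show m * (m⁻¹ * b * m) * m⁻¹ = b by group, hrr] at e
    rcases hP.eq_or hη with rfl | rfl
    · rw [one_mul] at e
      exact (mul_inv_eq_iff_eq_mul.1 e).symm
    · refine absurd ?_ (noswap b hb)
      rw [mul_inv_eq_iff_eq_mul] at e ⊢
      calc b * z = z * (z * (b * z)) := by rw [← mul_assoc z z, h.mul_self_z, one_mul]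
        _ = z * (z * b * z) := by simp only [mul_assoc]
        _ = z * x * b := by
          rw [e, mul_assoc (x * b) z z, h.mul_self_z, mul_one]
          exact (mul_assoc z x b).symm
  apply hzP
  have : z ∈ Subgroup.centralizer (P : Set G) :=
    Subgroup.mem_centralizer_iff.2 fun b hb => (hzcomm b hb).eq
  rw [hP.hcent] at this
  exact Subgroup.zpowers_le.2 hP.z_mem this

end LargeData

end CfsgLib.ThreeTrans
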