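import Cfsg.Prelude.Def_MonsterType
import Cfsg.Prelude.Def_Solvable
import Cfsg.Agent.Lib.ThreeTrans.LargeExtra
import Cfsg.Agent.Lib.Components.FStar
import Cfsg.Agent.Lib.Core.Cores

set_option autoImplicit false
set_option linter.unusedSectionVars false

/-!
Odd subgroups normalized by an extraspecial 2-group with a singular or weakly singular involution, and the
simplicity criterion by generation of the centralizer (owner: helper18).
-/

namespace CfsgLib.ThreeTrans.LargeGeneration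

open Cfsg CfsgLib.ThreeTrans

variable {G : Type*} [Group G] [Finite G]

/-- An involution acting without fixed points on a finite group inverts it. -/
theorem inverts_of_fixedPointFree {K : Subgroup G} {a : G} (haa : a * a = 1)
    (ha : ∀ k ∈ K, a * k * a ∈ K) (hfix : ∀ k ∈ K, a * k * a = k → k = 1) :
    ∀ k ∈ K, a * k * a = k⁻¹ := by
  have hai : a⁻¹ = a := inv_eq_of_mul_eq_one_left haa
  let φ : K → K := fun j => ⟨(j : G)⁻¹ * (a * j * a), K.mul_mem (K.inv_mem j.2) (ha _ j.2)⟩
  have hinj : Function.Injective φ := by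
    intro i j hij
    have hij' : (i : G)⁻¹ * (a * i * a) = (j : G)⁻¹ * (a * j * a) := congrArg Subtype.val hij
    have h1 : a * ((j : G) * (i : G)⁻¹) * a = (j : G) * (i : G)⁻¹ := by
      have h2 : (j : G) * (i : G)⁻¹ * (a * i * a) = a * j * a := by
        rw [mul_assoc, hij', mul_inv_cancel_left]
      calc a * ((j : G) * (i : G)⁻¹) * a = a * j * a * (a⁻¹ * (i : G)⁻¹ * a) := by group
        _ = (j : G) * (i : G)⁻¹ * (a * i * a) * (a⁻¹ * (i : G)⁻¹ * a) := by rw [h2]
        _ = (j : G) * (i : G)⁻¹ * (a * i * a * (a⁻¹ * (i : G)⁻¹ * a)) := by group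
        _ = (j : G) * (i : G)⁻¹ := by rw [hai]; simp [mul_assoc, haa, ← mul_assoc a a]
    exact Subtype.ext (mul_inv_eq_one.1 (hfix _ (K.mul_mem j.2 (K.inv_mem i.2)) h1)).symm
  intro k hk
  obtain ⟨j, hj⟩ := Finite.injective_iff_surjective.1 hinj ⟨k, hk⟩
  have hj' : (j : G)⁻¹ * (a * j * a) = k := congrArg Subtype.val hj
  rw [← hj', mul_inv_rev, inv_inv]
  calc a * ((j : G)⁻¹ * (a * j * a)) * a = a * (j : G)⁻¹ * a * j * (a * a) := by group
    _ = (a * j * a)⁻¹ * j := by rw [haa, mul_one, mul_inv_rev, mul_inv_rev, hai]; group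

theorem eq_one_of_isPGroup_of_odd {O K : Subgroup G} (hO : IsPGroup 2 O) (hK : Odd (Nat.card K))
    {x : G} (h1 : x ∈ O) (h2 : x ∈ K) : x = 1 := by
  obtain ⟨k, hk⟩ := hO ⟨x, h1⟩
  have hd : orderOf x ∣ 2 ^ k := orderOf_dvd_of_pow_eq_one (congrArg Subtype.val hk)
  have hc : Nat.Coprime (orderOf x) (2 ^ k) :=
    Nat.Coprime.pow_right k ((Nat.coprime_two_right).2
      (hK.of_dvd_nat (Subgroup.orderOf_dvd_natCard K h2)))
  exact orderOf_eq_one_iff.1 (Nat.eq_one_of_dvd_coprimes hc dvd_rfl hd)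

/-- The basic setting from the generalized Fitting subgroup of the centralizer. -/
theorem largeData_of_gFitting {z : G} (hz : orderOf z = 2) {Q : Subgroup G}
    (hQC : Q ≤ Subgroup.centralizer ({z} : Set G))
    (hF : (generalizedFittingSubgroup ↥(Subgroup.centralizer ({z} : Set G))).map
      (Subgroup.centralizer ({z} : Set G)).subtype = Q)
    (hQ : IsExtraspecial 2 ↥Q) : LargeData z Q := by
  set C := Subgroup.centralizer ({z} : Set G) with hC
  have hzC : z ∈ C := mem_centralizer_singleton_iff'.2 rfl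
  have hcentC : ∀ x ∈ C, (∀ q ∈ Q, q * x = x * q) → x ∈ Q := by
    intro x hx hcomm
    have hmem : (⟨x, hx⟩ : C) ∈ generalizedFittingSubgroup ↥C := by
      refine CfsgLib.Components.centralizer_gFitting_le ?_
      rw [Subgroup.mem_centralizer_iff]
      exact fun q hq => Subtype.ext (hcomm q (hF ▸ ⟨q, hq, rfl⟩))
    exact hF ▸ ⟨_, hmem, rfl⟩
  have hzQ : z ∈ Q := hcentC z hzC fun q hq => mem_centralizer_singleton_iff'.1 (hQC hq)
  have hzz : (⟨z, hzQ⟩ : Q) ∈ Subgroup.center Q :=
    Subgroup.mem_center_iff.2 fun q => Subtype.ext (mem_centralizer_singleton_iff'.1 (hQC q.2))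
  have hcenter : (Subgroup.center Q).map Q.subtype = Subgroup.zpowers z := by
    refine (Subgroup.eq_of_le_of_card_ge (Subgroup.zpowers_le.2
      (Subgroup.mem_map.2 ⟨⟨z, hzQ⟩, hzz, rfl⟩ : z ∈ (Subgroup.center Q).map Q.subtype)) ?_).symm
    rw [Subgroup.card_map_of_injective Q.subtype_injective, Nat.card_zpowers, hz, hQ.2]
  refine ⟨hz, hQ, hcenter, ?_, ?_⟩
  · refine le_antisymm (fun x hx => ?_) (Subgroup.zpowers_le.2 ?_)
    · rw [Subgroup.mem_centralizer_iff] at hx
      have hxC : x ∈ C := mem_centralizer_singleton_iff'.2 (hx z hzQ).symm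
      have hxQ := hcentC x hxC hx
      rw [← hcenter]
      exact ⟨⟨x, hxQ⟩, Subgroup.mem_center_iff.2 fun q => Subtype.ext (hx q q.2), rfl⟩
    · rw [Subgroup.mem_centralizer_iff]
      exact fun q hq => mem_centralizer_singleton_iff'.1 (hQC hq)
  · have hn : (generalizedFittingSubgroup ↥C).Normal := CfsgLib.Components.gFitting_normal
    intro x hx
    rw [Subgroup.mem_normalizer_iff]
    have key : ∀ u ∈ C, ∀ v ∈ Q, u * v * u⁻¹ ∈ Q := by
      intro u hu v hv
      rw [← hF] at hv ⊢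
      obtain ⟨w, hw, rfl⟩ := hv
      exact Subgroup.mem_map.2 ⟨(⟨u, hu⟩ : C) * w * (⟨u, hu⟩ : C)⁻¹, hn.conj_mem w hw _,
        by rw [map_mul, map_mul, map_inv, Subgroup.subtype_apply, Subgroup.subtype_apply]⟩
    refine fun y => ⟨key x hx y, fun h => ?_⟩
    have := key x⁻¹ (inv_mem hx) _ h
    simpa [mul_assoc] using this

variable {z : G} {Q : Subgroup G}

/-- No nontrivial odd subgroup is normalized by `Q` when an involution `w` of `Q` has `z` in a
normal 2-subgroup of its centralizer. -/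
theorem eq_bot_of_odd_normalized (h : LargeData z Q) {w : G} (hwQ : w ∈ Q)
    (hwz : w ∉ Subgroup.zpowers z) (hww : w * w = 1) {O : Subgroup G} (hO : IsPGroup 2 O)
    (hzO : z ∈ O) (hOn : ∀ x, Commute x w → ∀ y ∈ O, x * y * x⁻¹ ∈ O)
    {K : Subgroup G} (hK : Odd (Nat.card K)) (hQK : Q ≤ Subgroup.normalizer (K : Set G)) :
    K = ⊥ := by
  have hconj : ∀ q ∈ Q, ∀ k ∈ K, q * k * q⁻¹ ∈ K := fun q hq k hk =>
    (Subgroup.mem_normalizer_iff.1 (hQK hq) k).1 hk
  have hsub : ∀ q ∈ Q, q * q = 1 → ∀ k ∈ K, q * k * q ∈ K := fun q hq hqq k hk => by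
    have := hconj q hq k hk
    rwa [inv_eq_of_mul_eq_one_left hqq] at this
  have hQp : IsPGroup 2 Q := CfsgLib.PGroups.IsExtraspecial.isPGroup h.hE
  have hzfix : ∀ k ∈ K, z * k * z = k → k = 1 := by
    intro k hk hzk
    have hkz : Commute k z := by
      have h1 : z * k * z⁻¹ = k := by rw [h.inv_z]; exact hzk
      exact (mul_inv_eq_iff_eq_mul.1 h1).symm
    have hkQ : k ∈ Subgroup.centralizer (Q : Set G) := by
      rw [Subgroup.mem_centralizer_iff]
      intro q hq
      have h1 : k * q * k⁻¹ * q⁻¹ = 1 := by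
        refine eq_one_of_isPGroup_of_odd hQp hK (Q.mul_mem (h.conj_mem hkz hq) (Q.inv_mem hq)) ?_
        have := K.mul_mem hk (hconj q hq k⁻¹ (K.inv_mem hk))
        simpa [mul_assoc] using this
      exact (mul_inv_eq_iff_eq_mul.1 (mul_inv_eq_one.1 h1)).symm
    rw [h.hcent] at hkQ
    exact eq_one_of_isPGroup_of_odd hQp hK (Subgroup.zpowers_le.2 h.z_mem hkQ) hk
  have hzinv := inverts_of_fixedPointFree h.mul_self_z (hsub z h.z_mem h.mul_self_z) hzfix
  have hwfix : ∀ k ∈ K, w * k * w = k → k = 1 := by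
    intro k hk hwk
    have hkw : Commute k w := by
      have h1 : w * k * w⁻¹ = k := by rw [inv_eq_of_mul_eq_one_left hww]; exact hwk
      exact (mul_inv_eq_iff_eq_mul.1 h1).symm
    have h1 : k * z * k⁻¹ * z⁻¹ = k * k := by
      have h2 := hzinv k⁻¹ (K.inv_mem hk)
      rw [inv_inv] at h2
      rw [h.inv_z]
      calc k * z * k⁻¹ * z = k * (z * k⁻¹ * z) := by group
        _ = k * k := by rw [h2]
    have h3 : k * k = 1 := eq_one_of_isPGroup_of_odd hO hK
      (h1 ▸ O.mul_mem (hOn k hkw z hzO) (O.inv_mem hzO)) (K.mul_mem hk hk)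
    exact eq_one_of_isPGroup_of_odd (O := Subgroup.zpowers k)
      (fun g => ⟨1, Subtype.ext (by
        obtain ⟨n, hn⟩ := Subgroup.mem_zpowers_iff.1 g.2
        show (g : G) ^ 2 ^ 1 = 1
        rw [← hn, pow_one, ← zpow_natCast, zpow_comm, zpow_natCast, pow_two, h3, one_zpow])⟩) hK
      (Subgroup.mem_zpowers k) hk
  have hwinv := inverts_of_fixedPointFree hww (hsub w hwQ hww) hwfix
  obtain ⟨q, hq, hqw⟩ := h.exists_move hwQ hwz
  refine (Subgroup.eq_bot_iff_forall K).2 fun k hk => ?_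
  have hfixzw : z * w * k * (w * z) = k := by
    calc z * w * k * (w * z) = z * (w * k * w) * z := by group
      _ = k := by rw [hwinv k hk, hzinv _ (K.inv_mem hk), inv_inv]
  have hzw : Commute w z := h.commute_z hwQ
  have h1 : w * (q⁻¹ * k * q) * w = q⁻¹ * k * q := by
    have hwq : w = q⁻¹ * (z * w) * q := by rw [← hqw]; group
    calc w * (q⁻¹ * k * q) * w
        = q⁻¹ * (z * w) * q * (q⁻¹ * k * q) * (q⁻¹ * (z * w) * q) := by rw [← hwq]
      _ = q⁻¹ * (z * w * k * (z * w)) * q := by group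
      _ = q⁻¹ * k * q := by rw [show z * w * k * (z * w) = k by
            conv_lhs => arg 2; rw [← hzw.eq]
            exact hfixzw]
  have hkK : q⁻¹ * k * q ∈ K := by
    have := hconj q⁻¹ (Q.inv_mem hq) k hk
    rwa [inv_inv] at this
  have := hwfix _ hkK h1
  calc k = q * (q⁻¹ * k * q) * q⁻¹ := by group
    _ = 1 := by rw [this, mul_one, mul_inv_cancel]

/-- A group whose involution centralizer is generated by the conjugates of an abelian group of
conjugates of that involution is simple, once `Q` normalizes no odd subgroup. -/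
theorem isSimple_of_generation (h : LargeData z Q)
    (hodd : ∀ K : Subgroup G, Odd (Nat.card K) → Q ≤ Subgroup.normalizer (K : Set G) → K = ⊥)
    (K U : Subgroup G) (hU : U = Subgroup.closure {x : G | ∃ k ∈ K, x = k * z * k⁻¹})
    (hgen : Subgroup.closure {x : G | ∃ c ∈ Subgroup.centralizer ({z} : Set G), ∃ u ∈ U,
      x = c * u * c⁻¹} = Subgroup.centralizer ({z} : Set G)) : IsSimpleGroup G := by
  classical
  have : Fact (Nat.Prime 2) := ⟨Nat.prime_two⟩
  have hQp : IsPGroup 2 Q := CfsgLib.PGroups.IsExtraspecial.isPGroup h.hE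
  obtain ⟨S, hQS⟩ := hQp.exists_le_sylow
  have hcent : ∀ x ∈ (Subgroup.center (S : Subgroup G)).map (S : Subgroup G).subtype,
      x ∈ Subgroup.zpowers z := by
    rintro _ ⟨s, hs, rfl⟩
    rw [← h.hcent, Subgroup.mem_centralizer_iff]
    exact fun q hq => congrArg Subtype.val (Subgroup.mem_center_iff.1 hs ⟨q, hQS hq⟩)
  have hzS : ∀ g : G, g ∈ Subgroup.normalizer ((S : Subgroup G) : Set G) →
      Commute g z ∧ ∀ s ∈ (S : Subgroup G), Commute s z := by
    have hS1 : Nontrivial (S : Subgroup G) :=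
      ⟨⟨⟨z, hQS h.z_mem⟩, 1, fun e => h.z_ne_one (congrArg Subtype.val e)⟩⟩
    have hScn : Nontrivial (Subgroup.center (S : Subgroup G)) := S.2.center_nontrivial
    obtain ⟨⟨s, hs⟩, hne⟩ := exists_ne (α := Subgroup.center (S : Subgroup G)) 1
    have hsz : (s : G) = z := by
      rcases h.eq_or (hcent _ ⟨s, hs, rfl⟩) with e | e
      · exact absurd (Subtype.ext (Subtype.ext e)) hne
      · exact e
    have hzc : ∀ t ∈ (S : Subgroup G), Commute t z := fun t ht =>
      hsz ▸ congrArg Subtype.val (Subgroup.mem_center_iff.1 hs ⟨t, ht⟩)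
    intro g hg
    refine ⟨?_, hzc⟩
    have hmem : g * z * g⁻¹ ∈ (S : Subgroup G) :=
      (Subgroup.mem_normalizer_iff.1 hg z).1 (hQS h.z_mem)
    have hc : (⟨g * z * g⁻¹, hmem⟩ : (S : Subgroup G)) ∈ Subgroup.center (S : Subgroup G) := by
      refine Subgroup.mem_center_iff.2 fun t => Subtype.ext ?_
      have ht : g⁻¹ * t * g ∈ (S : Subgroup G) := by
        have := (Subgroup.mem_normalizer_iff.1 (inv_mem hg) (t : G)).1 t.2
        rwa [inv_inv] at this
      calc (t : G) * (g * z * g⁻¹) = g * ((g⁻¹ * t * g) * z) * g⁻¹ := by group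
        _ = g * (z * (g⁻¹ * t * g)) * g⁻¹ := by rw [(hzc _ ht).eq]
        _ = g * z * g⁻¹ * t := by group
    rcases h.eq_or (hcent _ ⟨_, hc, rfl⟩) with e | e
    · exact absurd (conj_eq_one_iff.1 e) h.z_ne_one
    · exact mul_inv_eq_iff_eq_mul.1 e
  have : Nontrivial G := ⟨⟨z, 1, h.z_ne_one⟩⟩
  refine ⟨fun N hN => ?_⟩
  by_cases hN1 : N = ⊥
  · exact Or.inl hN1
  refine Or.inr ?_
  have hzN : z ∈ N := by
    by_contra hzN
    have hdis : ∀ x ∈ Q, x ∈ N → x = 1 := by
      intro x hx hxN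
      by_cases hxz : x ∈ Subgroup.zpowers z
      · exact (h.eq_or hxz).resolve_right fun e => hzN (e ▸ hxN)
      · obtain ⟨q, hq, hqx⟩ := h.exists_move hx hxz
        refine absurd ?_ hzN
        have := N.mul_mem (hN.conj_mem x hxN q) (N.inv_mem hxN)
        rwa [hqx, mul_inv_cancel_right] at this
    have hfix : ∀ n ∈ N, z * n * z = n → n = 1 := by
      intro n hn hzn
      have hnz : Commute n z := by
        have h1 : z * n * z⁻¹ = n := by rw [h.inv_z]; exact hzn
        exact (mul_inv_eq_iff_eq_mul.1 h1).symm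
      have hnQ : n ∈ Subgroup.centralizer (Q : Set G) := by
        rw [Subgroup.mem_centralizer_iff]
        intro q hq
        have h1 : n * q * n⁻¹ * q⁻¹ = 1 := by
          refine hdis _ (Q.mul_mem (h.conj_mem hnz hq) (Q.inv_mem hq)) ?_
          have := N.mul_mem hn (hN.conj_mem n⁻¹ (N.inv_mem hn) q)
          simpa [mul_assoc] using this
        exact (mul_inv_eq_iff_eq_mul.1 (mul_inv_eq_one.1 h1)).symm
      rw [h.hcent] at hnQ
      exact (h.eq_or hnQ).resolve_right fun e => hzN (e ▸ hn)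
    have hinv := inverts_of_fixedPointFree h.mul_self_z (fun n hn => by
      have := hN.conj_mem n hn z
      rwa [h.inv_z] at this) hfix
    refine hN1 (hodd N ?_ fun q _ => ?_)
    · rw [← Nat.not_even_iff_odd, even_iff_two_dvd]
      intro h2
      obtain ⟨n, hn⟩ := exists_prime_orderOf_dvd_card' 2 h2
      have hnn : (n : G)⁻¹ = n := by
        have h3 := pow_orderOf_eq_one n
        rw [hn, pow_two] at h3
        exact inv_eq_of_mul_eq_one_left (congrArg Subtype.val h3)
      have : n = 1 := Subtype.ext (hfix n n.2 ((hinv n n.2).trans hnn))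
      rw [this, orderOf_one] at hn
      omega
    · rw [Subgroup.normalizer_eq_top_iff.2 hN]
      trivial
  have hUN : U ≤ N := by
    rw [hU, Subgroup.closure_le]
    rintro _ ⟨k, -, rfl⟩
    exact hN.conj_mem z hzN k
  have hCN : Subgroup.centralizer ({z} : Set G) ≤ N := by
    rw [← hgen, Subgroup.closure_le]
    rintro _ ⟨c, -, u, hu, rfl⟩
    exact hN.conj_mem u (hUN hu) c
  have hSN : (S : Subgroup G) ≤ N := fun s hs =>
    hCN (mem_centralizer_singleton_iff'.2 ((hzS 1 (one_mem _)).2 s hs).eq)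
  have hNS : Subgroup.normalizer ((S : Subgroup G) : Set G) ≤ N := fun g hg =>
    hCN (mem_centralizer_singleton_iff'.2 (hzS g hg).1.eq)
  rw [← Sylow.normalizer_sup_eq_top' S hSN]
  exact (sup_eq_right.2 hNS).symm

end CfsgLib.ThreeTrans.LargeGeneration
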