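import Cfsg.Agent.Lib.ThreeTrans.LargeCriteria
import Cfsg.Agent.Lib.ThreeTrans.Braid

set_option autoImplicit false

/-!
Two large extraspecial subgroups with orthogonal centres: the group they generate (owner: helper28).
-/

namespace CfsgLib.ThreeTrans

open Cfsg
open scoped commutatorElement

variable {G : Type*} [Group G]

/-- The data of an orthogonal pair: `z` and a conjugate `x ≠ z` in `Q`, with `z` in the corresponding conjugate `P`. -/
structure LargePair (z x : G) (Q P : Subgroup G) : Prop where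
  hq : LargeData z Q
  hp : LargeData x P
  hxQ : x ∈ Q
  hzP : z ∈ P
  hne : x ≠ z
  hcarry : ∀ g : G, g * z * g⁻¹ = x → Q.map (MulAut.conj g).toMonoidHom = P
  hconj : ∃ g : G, g * z * g⁻¹ = x

namespace LargePair

variable {z x : G} {Q P : Subgroup G} (h : LargePair z x Q P)
include h

theorem commute_zx : Commute z x := (h.hq.commute_z h.hxQ).symm

theorem x_notMem : x ∉ Subgroup.zpowers z := fun hh => by
  rcases h.hq.eq_or hh with e | e
  exacts [h.hp.z_ne_one e, h.hne e]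

theorem z_notMem : z ∉ Subgroup.zpowers x := fun hh => by
  rcases h.hp.eq_or hh with e | e
  exacts [h.hq.z_ne_one e, h.hne e.symm]

theorem symm [Finite G] : LargePair x z P Q := by
  obtain ⟨g, hg⟩ := h.hconj
  refine ⟨h.hp, h.hq, h.hzP, h.hxQ, h.hne.symm, fun k hk => ?_, ⟨g⁻¹, by rw [← hg]; group⟩⟩
  rw [← h.hcarry g hg, Subgroup.map_map]
  have e : (k * g) * z * (k * g)⁻¹ = 1 * z * (1 : G)⁻¹ := by
    rw [show k * g * z * (k * g)⁻¹ = k * (g * z * g⁻¹) * k⁻¹ by group, hg, hk]; simp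
  have e2 := h.hq.map_conj_eq e
  rw [map_one] at e2
  rw [show (MulAut.conj k).toMonoidHom.comp (MulAut.conj g).toMonoidHom = (MulAut.conj (k * g)).toMonoidHom by
    ext y; show k * (g * y * g⁻¹) * k⁻¹ = k * g * y * (k * g)⁻¹; group]
  exact e2.trans (Subgroup.map_id Q)

/-- The four group. -/
def four (_ : LargePair z x Q P) : Subgroup G := Subgroup.closure ({z, x} : Set G)

theorem mem_four {v : G} : v ∈ h.four ↔ v = 1 ∨ v = z ∨ v = x ∨ v = z * x := by
  constructor
  · intro hv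
    induction hv using Subgroup.closure_induction with
    | mem t ht => rcases ht with rfl | rfl <;> simp
    | one => exact Or.inl rfl
    | mul a b _ _ ha hb =>
      have hzz := h.hq.mul_self_z
      have hxx := h.hp.mul_self_z
      have hxz := h.commute_zx.eq.symm
      have e1 : z * (z * x) = x := by rw [← mul_assoc, hzz, one_mul]
      have e2 : x * (z * x) = z := by rw [← mul_assoc, hxz, mul_assoc, hxx, mul_one]
      have e3 : z * x * z = x := by rw [mul_assoc, hxz, e1]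
      have e4 : z * x * x = z := by rw [mul_assoc, hxx, mul_one]
      have e5 : z * x * (z * x) = 1 := by rw [mul_assoc, e2, hzz]
      rcases ha with rfl | rfl | rfl | rfl <;> rcases hb with rfl | rfl | rfl | rfl
      all_goals simp [hzz, hxx, hxz, e1, e2, e3, e4, e5]
    | inv a _ ha =>
      rcases ha with rfl | rfl | rfl | rfl
      · simp
      · exact Or.inr (Or.inl h.hq.inv_z)
      · exact Or.inr (Or.inr (Or.inl h.hp.inv_z))
      · exact Or.inr (Or.inr (Or.inr (by rw [mul_inv_rev, h.hq.inv_z, h.hp.inv_z, h.commute_zx.eq])))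
  · rintro (rfl | rfl | rfl | rfl)
    exacts [one_mem _, Subgroup.subset_closure (Or.inl rfl), Subgroup.subset_closure (Or.inr rfl),
      mul_mem (Subgroup.subset_closure (Or.inl rfl)) (Subgroup.subset_closure (Or.inr rfl))]

theorem four_le_left : h.four ≤ Q := (Subgroup.closure_le _).2 (by
  rintro t (rfl | rfl)
  exacts [h.hq.z_mem, h.hxQ])

theorem four_le_right : h.four ≤ P := (Subgroup.closure_le _).2 (by
  rintro t (rfl | rfl)
  exacts [h.hzP, h.hp.z_mem])

theorem mem_centralizer_four {c : G} :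
    c ∈ Subgroup.centralizer (h.four : Set G) ↔ Commute c z ∧ Commute c x := by
  constructor
  · intro hc
    exact ⟨(Subgroup.mem_centralizer_iff.1 hc z (h.mem_four.2 (by simp))).symm,
      (Subgroup.mem_centralizer_iff.1 hc x (h.mem_four.2 (by simp))).symm⟩
  · rintro ⟨h1, h2⟩
    rw [Subgroup.mem_centralizer_iff]
    intro v hv
    rcases h.mem_four.1 hv with rfl | rfl | rfl | rfl
    exacts [(Commute.one_left c).eq, h1.symm.eq, h2.symm.eq, (h1.mul_right h2).symm.eq]

/-- The kernel part `R`. -/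
def core (_ : LargePair z x Q P) : Subgroup G :=
  (P ⊓ Subgroup.centralizer ({z} : Set G)) ⊔ (Q ⊓ Subgroup.centralizer ({x} : Set G))

theorem mem_left {c : G} : c ∈ Q ⊓ Subgroup.centralizer ({x} : Set G) ↔ c ∈ Q ∧ Commute c x := by
  rw [Subgroup.mem_inf, mem_centralizer_singleton_iff']; rfl

theorem mem_right {c : G} : c ∈ P ⊓ Subgroup.centralizer ({z} : Set G) ↔ c ∈ P ∧ Commute c z := by
  rw [Subgroup.mem_inf, mem_centralizer_singleton_iff']; rfl

theorem core_le_centralizer : h.core ≤ Subgroup.centralizer (h.four : Set G) := by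
  refine sup_le (fun c hc => h.mem_centralizer_four.2 ?_) (fun c hc => h.mem_centralizer_four.2 ?_)
  · exact ⟨(h.mem_right.1 hc).2, h.hp.commute_z hc.1⟩
  · exact ⟨h.hq.commute_z hc.1, (h.mem_left.1 hc).2⟩

theorem centralizer_conj {c y : G} (hc : Commute c z ∧ Commute c x) :
    (y ∈ Q → c * y * c⁻¹ ∈ Q) ∧ (y ∈ P → c * y * c⁻¹ ∈ P) :=
  ⟨h.hq.conj_mem hc.1, h.hp.conj_mem hc.2⟩

theorem right_normalizes_left :
    P ⊓ Subgroup.centralizer ({z} : Set G) ≤
      Subgroup.normalizer ((Q ⊓ Subgroup.centralizer ({x} : Set G) : Subgroup G) : Set G) := by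
  intro c hc
  obtain ⟨hcP, hcz⟩ := h.mem_right.1 hc
  have hcx : Commute c x := h.hp.commute_z hcP
  have key : ∀ c : G, Commute c z → Commute c x → ∀ y ∈ Q ⊓ Subgroup.centralizer ({x} : Set G),
      c * y * c⁻¹ ∈ Q ⊓ Subgroup.centralizer ({x} : Set G) := by
    intro c hcz hcx y hy
    refine h.mem_left.2 ⟨h.hq.conj_mem hcz (h.mem_left.1 hy).1, ?_⟩
    have := (LargeData.commute_conj_iff' (g := c)).2 (h.mem_left.1 hy).2
    rwa [hcx.eq, mul_inv_cancel_right] at this
  rw [Subgroup.mem_normalizer_iff]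
  refine fun y => ⟨key c hcz hcx y, fun hy => ?_⟩
  have := key c⁻¹ hcz.inv_left hcx.inv_left _ hy
  rwa [show c⁻¹ * (c * y * c⁻¹) * c⁻¹⁻¹ = y by group] at this

theorem mem_core_iff {r : G} :
    r ∈ h.core ↔ ∃ b ∈ P ⊓ Subgroup.centralizer ({z} : Set G), ∃ a ∈ Q ⊓ Subgroup.centralizer ({x} : Set G),
      r = b * a := by
  rw [core, CfsgLib.Core.mem_sup_iff_mul h.right_normalizes_left]

theorem left_le_core : Q ⊓ Subgroup.centralizer ({x} : Set G) ≤ h.core := le_sup_right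

theorem right_le_core : P ⊓ Subgroup.centralizer ({z} : Set G) ≤ h.core := le_sup_left

theorem inf_eq : (P ⊓ Subgroup.centralizer ({z} : Set G)) ⊓ (Q ⊓ Subgroup.centralizer ({x} : Set G)) = Q ⊓ P := by
  ext c
  constructor
  · exact fun hc => ⟨hc.2.1, hc.1.1⟩
  · exact fun hc => ⟨h.mem_right.2 ⟨hc.2, h.hq.commute_z hc.1⟩, h.mem_left.2 ⟨hc.1, h.hp.commute_z hc.2⟩⟩

theorem four_le_core : h.four ≤ h.core := fun v hv =>
  h.left_le_core (h.mem_left.2 ⟨h.four_le_left hv, h.hp.commute_z (h.four_le_right hv)⟩)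

theorem comm_left {a e : G} (ha : a ∈ Q) (he : e ∈ Q) : a * e * a⁻¹ * e⁻¹ ∈ h.four := by
  rcases h.hq.eq_or (h.hq.comm_mem ha he) with e' | e' <;> rw [e'] <;> exact h.mem_four.2 (by simp)

theorem comm_right {a e : G} (ha : a ∈ P) (he : e ∈ P) : a * e * a⁻¹ * e⁻¹ ∈ h.four := by
  rcases h.hp.eq_or (h.hp.comm_mem ha he) with e' | e' <;> rw [e'] <;> exact h.mem_four.2 (by simp)

theorem left_normalizes_four {q v : G} (hq : q ∈ Q) (hv : v ∈ h.four) : q * v * q⁻¹ ∈ h.four := by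
  have := mul_mem (h.comm_left hq (h.four_le_left hv)) hv
  rwa [inv_mul_cancel_right] at this

theorem right_normalizes_four {q v : G} (hq : q ∈ P) (hv : v ∈ h.four) : q * v * q⁻¹ ∈ h.four := by
  have := mul_mem (h.comm_right hq (h.four_le_right hv)) hv
  rwa [inv_mul_cancel_right] at this

theorem sup_normalizes_four {g v : G} (hg : g ∈ Q ⊔ P) (hv : v ∈ h.four) : g * v * g⁻¹ ∈ h.four := by
  rw [Subgroup.sup_eq_closure] at hg
  revert v
  induction hg using Subgroup.closure_induction_left with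
  | one => intro v hv; simpa using hv
  | mul_left a ha y _ ih =>
    intro v hv
    rw [show a * y * v * (a * y)⁻¹ = a * (y * v * y⁻¹) * a⁻¹ by group]
    rcases ha with ha | ha
    exacts [h.left_normalizes_four ha (ih hv), h.right_normalizes_four ha (ih hv)]
  | inv_mul_cancel a ha y _ ih =>
    intro v hv
    rw [show a⁻¹ * y * v * (a⁻¹ * y)⁻¹ = a⁻¹ * (y * v * y⁻¹) * a⁻¹⁻¹ by group]
    rcases ha with ha | ha
    exacts [h.left_normalizes_four (inv_mem ha) (ih hv), h.right_normalizes_four (inv_mem ha) (ih hv)]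

theorem left_normalizes_core {q r : G} (hq : q ∈ Q) (hr : r ∈ h.core) : q * r * q⁻¹ ∈ h.core := by
  obtain ⟨b, hb, a, ha, rfl⟩ := h.mem_core_iff.1 hr
  obtain ⟨hbP, hbz⟩ := h.mem_right.1 hb
  have h1 : q * a * q⁻¹ ∈ Q ⊓ Subgroup.centralizer ({x} : Set G) := by
    obtain ⟨haQ, hax⟩ := h.mem_left.1 ha
    refine h.mem_left.2 ⟨mul_mem (mul_mem hq haQ) (inv_mem hq), ?_⟩
    have h0 : Commute (q * a * q⁻¹ * a⁻¹) x := by
      rcases h.hq.eq_or (h.hq.comm_mem hq haQ) with e | e <;> rw [e]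
      exacts [Commute.one_left x, h.commute_zx]
    have := h0.mul_left hax
    rwa [inv_mul_cancel_right] at this
  have h2 : q * b * q⁻¹ * b⁻¹ ∈ Q ⊓ Subgroup.centralizer ({x} : Set G) := by
    refine h.mem_left.2 ⟨?_, ?_⟩
    · rw [show q * b * q⁻¹ * b⁻¹ = q * (b * q⁻¹ * b⁻¹) by group]
      exact mul_mem hq (h.hq.conj_mem hbz (inv_mem hq))
    · have hcb := h.core_le_centralizer (h.right_le_core hb)
      refine (h.mem_centralizer_four.1 (mul_mem ?_ (inv_mem hcb))).2
      rw [Subgroup.mem_centralizer_iff]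
      intro v hv
      have hv' : q⁻¹ * v * q ∈ h.four := by
        have := h.left_normalizes_four (inv_mem hq) hv
        rwa [inv_inv] at this
      calc v * (q * b * q⁻¹) = q * ((q⁻¹ * v * q) * b) * q⁻¹ := by group
        _ = q * (b * (q⁻¹ * v * q)) * q⁻¹ := by rw [Subgroup.mem_centralizer_iff.1 hcb _ hv']
        _ = q * b * q⁻¹ * v := by group
  rw [show q * (b * a) * q⁻¹ = (q * b * q⁻¹ * b⁻¹) * b * (q * a * q⁻¹) by group]
  exact mul_mem (mul_mem (h.left_le_core h2) (h.right_le_core hb)) (h.left_le_core h1)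

theorem core_symm [Finite G] : h.core = h.symm.core := by
  rw [core, core, sup_comm]

theorem four_symm [Finite G] : h.four = h.symm.four := by
  rw [four, four, Set.pair_comm]

theorem sup_normalizes_core [Finite G] {g r : G} (hg : g ∈ Q ⊔ P) (hr : r ∈ h.core) : g * r * g⁻¹ ∈ h.core := by
  rw [Subgroup.sup_eq_closure] at hg
  have hP : ∀ p ∈ P, ∀ r ∈ h.core, p * r * p⁻¹ ∈ h.core := fun p hp r hr => by
    rw [h.core_symm] at hr ⊢
    exact h.symm.left_normalizes_core hp hr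
  revert r
  induction hg using Subgroup.closure_induction_left with
  | one => intro r hr; simpa using hr
  | mul_left a ha y _ ih =>
    intro r hr
    rw [show a * y * r * (a * y)⁻¹ = a * (y * r * y⁻¹) * a⁻¹ by group]
    rcases ha with ha | ha
    exacts [h.left_normalizes_core ha (ih hr), hP a ha _ (ih hr)]
  | inv_mul_cancel a ha y _ ih =>
    intro r hr
    rw [show a⁻¹ * y * r * (a⁻¹ * y)⁻¹ = a⁻¹ * (y * r * y⁻¹) * a⁻¹⁻¹ by group]
    rcases ha with ha | ha
    exacts [h.left_normalizes_core (inv_mem ha) (ih hr), hP a⁻¹ (inv_mem ha) _ (ih hr)]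

theorem core_le_sup : h.core ≤ Q ⊔ P :=
  sup_le (inf_le_left.trans le_sup_right) (inf_le_left.trans le_sup_left)

theorem isPGroup_core : IsPGroup 2 h.core :=
  IsPGroup.to_sup_of_normal_right' (h.hp.hE.1.1.to_le inf_le_left) (h.hq.hE.1.1.to_le inf_le_left)
    h.right_normalizes_left

/-- The generators moving the four group. -/
theorem exists_moves : ∃ q ∈ Q, ∃ r ∈ P, q * x * q⁻¹ = z * x ∧ r * z * r⁻¹ = x * z := by
  obtain ⟨q, hq, e1⟩ := h.hq.exists_move h.hxQ h.x_notMem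
  obtain ⟨r, hr, e2⟩ := h.hp.exists_move h.hzP h.z_notMem
  exact ⟨q, hq, r, hr, e1, e2⟩

theorem left_eq {q : G} (hq : q ∈ Q) (hqx : q * x * q⁻¹ = z * x) {a : G} (ha : a ∈ Q) :
    a ∈ h.core ∨ q⁻¹ * a ∈ h.core := by
  by_cases hc : Commute a x
  · exact Or.inl (h.left_le_core (h.mem_left.2 ⟨ha, hc⟩))
  · refine Or.inr (h.left_le_core (h.mem_left.2 ⟨mul_mem (inv_mem hq) ha, ?_⟩))
    have hax : a * x * a⁻¹ = z * x :=
      (h.hq.conj_eq_or ha h.hxQ).resolve_left fun e => hc (mul_inv_eq_iff_eq_mul.1 e)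
    show q⁻¹ * a * x = x * (q⁻¹ * a)
    calc q⁻¹ * a * x = q⁻¹ * (a * x * a⁻¹) * a := by group
      _ = q⁻¹ * (q * x * q⁻¹) * a := by rw [hax, hqx]
      _ = _ := by group

/-- The quotient by the core is the symmetric group of degree 3, and the core is the kernel of the action. -/
theorem quotient [Finite G] :
    h.core = (Q ⊔ P) ⊓ Subgroup.centralizer (h.four : Set G) ∧
      ∃ hn : (h.core.subgroupOf (Q ⊔ P)).Normal,
        Nonempty (↥(Q ⊔ P) ⧸ h.core.subgroupOf (Q ⊔ P) ≃* Equiv.Perm (Fin 3)) := by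
  obtain ⟨q, hq, r, hr, hqx, hrz⟩ := h.exists_moves
  set X := Q ⊔ P with hXdef
  haveI hn : (h.core.subgroupOf X).Normal :=
    ⟨fun c hc g => h.sup_normalizes_core g.2 hc⟩
  let π := QuotientGroup.mk' (h.core.subgroupOf X)
  let qX : X := ⟨q, Subgroup.mem_sup_left hq⟩
  let rX : X := ⟨r, Subgroup.mem_sup_right hr⟩
  have hπ : ∀ {c : X}, π c = 1 ↔ (c : G) ∈ h.core := fun {c} =>
    (QuotientGroup.eq_one_iff c).trans Subgroup.mem_subgroupOf
  have hqz : q * z * q⁻¹ = z := by rw [(h.hq.commute_z hq).eq, mul_inv_cancel_right]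
  have hrx : r * x * r⁻¹ = x := by rw [(h.hp.commute_z hr).eq, mul_inv_cancel_right]
  have hzz := h.hq.mul_self_z
  have hxx := h.hp.mul_self_z
  have hxz := h.commute_zx.eq.symm
  have hq2 : π qX * π qX = 1 := by
    rw [← map_mul, hπ]
    rcases h.hq.eq_or (h.hq.sq_mem hq) with e | e <;> show q * q ∈ h.core <;> rw [e]
    exacts [one_mem _, h.four_le_core (h.mem_four.2 (by simp))]
  have hr2 : π rX * π rX = 1 := by
    rw [← map_mul, hπ]
    rcases h.hp.eq_or (h.hp.sq_mem hr) with e | e <;> show r * r ∈ h.core <;> rw [e]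
    exacts [one_mem _, h.four_le_core (h.mem_four.2 (by simp))]
  have hqinv : π qX⁻¹ = π qX := by rw [map_inv]; exact inv_eq_of_mul_eq_one_left hq2
  have hrinv : π rX⁻¹ = π rX := by rw [map_inv]; exact inv_eq_of_mul_eq_one_left hr2
  -- both products lie in the conjugate of `P` at `q`
  obtain ⟨g, hg⟩ := h.hconj
  have hP' : (P.map (MulAut.conj q).toMonoidHom) = Q.map (MulAut.conj r).toMonoidHom := by
    rw [← h.hcarry g hg, Subgroup.map_map,
      show (MulAut.conj q).toMonoidHom.comp (MulAut.conj g).toMonoidHom = (MulAut.conj (q * g)).toMonoidHom by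
        ext y; show q * (g * y * g⁻¹) * q⁻¹ = q * g * y * (q * g)⁻¹; group]
    refine h.hq.map_conj_eq ?_
    rw [show q * g * z * (q * g)⁻¹ = q * (g * z * g⁻¹) * q⁻¹ by group, hg, hqx, hrz, hxz]
  have hbraid : π qX * π rX * π qX = π rX * π qX * π rX := by
    have key : (q * r * q⁻¹)⁻¹ * (r * q * r⁻¹) ∈ h.core := by
      have h1 : q * r * q⁻¹ ∈ P.map (MulAut.conj q).toMonoidHom := ⟨r, hr, rfl⟩
      have h2 : r * q * r⁻¹ ∈ P.map (MulAut.conj q).toMonoidHom := hP' ▸ ⟨q, hq, rfl⟩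
      obtain ⟨w, hw, e⟩ := mul_mem (inv_mem h1) h2
      change q * w * q⁻¹ = _ at e
      rw [← e]
      refine h.left_normalizes_core hq (h.right_le_core (h.mem_right.2 ⟨hw, ?_⟩))
      -- it fixes `z`
      have hqi : q⁻¹ * z * q = z := by
        calc q⁻¹ * z * q = q⁻¹ * (q * z * q⁻¹) * q := by rw [hqz]
          _ = z := by group
      have hz1 : (r * q * r⁻¹) * z * (r * q * r⁻¹)⁻¹ = x := by
        have hri : r⁻¹ * z * r = x * z := by
          have : z = r⁻¹ * (x * z) * r := by rw [← hrz]; group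
          rcases h.hp.conj_eq_or (inv_mem hr) h.hzP with e' | e' <;> rw [inv_inv] at e'
          · exfalso
            apply h.z_notMem
            have h0 : r * z * r⁻¹ = z := by
              calc r * z * r⁻¹ = r * (r⁻¹ * z * r) * r⁻¹ := by rw [e']
                _ = z := by group
            rw [hrz, mul_eq_right] at h0
            exact absurd h0 h.hp.z_ne_one
          · exact e'
        calc (r * q * r⁻¹) * z * (r * q * r⁻¹)⁻¹ = r * (q * (r⁻¹ * z * r) * q⁻¹) * r⁻¹ := by group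
          _ = r * ((q * x * q⁻¹) * (q * z * q⁻¹)) * r⁻¹ := by rw [hri]; group
          _ = r * x * r⁻¹ := by rw [hqx, hqz, mul_assoc z x z, hxz, ← mul_assoc z z x, hzz, one_mul]
          _ = x := hrx
      have hz2 : (q * r * q⁻¹) * z * (q * r * q⁻¹)⁻¹ = x := by
        calc (q * r * q⁻¹) * z * (q * r * q⁻¹)⁻¹ = q * (r * (q⁻¹ * z * q) * r⁻¹) * q⁻¹ := by group
          _ = (q * x * q⁻¹) * (q * z * q⁻¹) := by rw [hqi, hrz]; group
          _ = x := by rw [hqx, hqz, h.commute_zx.eq, mul_assoc, hzz, mul_one]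
      have hw' : (q * w * q⁻¹) * z * (q * w * q⁻¹)⁻¹ = z := by
        rw [e]
        calc (q * r * q⁻¹)⁻¹ * (r * q * r⁻¹) * z * ((q * r * q⁻¹)⁻¹ * (r * q * r⁻¹))⁻¹
            = (q * r * q⁻¹)⁻¹ * ((r * q * r⁻¹) * z * (r * q * r⁻¹)⁻¹) * (q * r * q⁻¹) := by group
          _ = (q * r * q⁻¹)⁻¹ * x * (q * r * q⁻¹) := by rw [hz1]
          _ = z := by nth_rewrite 1 [← hz2]; group
      have : q * (w * z * w⁻¹) * q⁻¹ = q * z * q⁻¹ := by
        rw [hqz]
        calc q * (w * z * w⁻¹) * q⁻¹ = (q * w * q⁻¹) * (q * z * q⁻¹) * (q * w * q⁻¹)⁻¹ := by group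
          _ = z := by rw [hqz, hw']
      exact mul_inv_eq_iff_eq_mul.1 (mul_left_cancel (mul_right_cancel this))
    have h3 : π ((qX * rX * qX⁻¹)⁻¹ * (rX * qX * rX⁻¹)) = 1 := hπ.2 key
    rw [map_mul, map_inv, inv_mul_eq_one] at h3
    simpa only [map_mul, hqinv, hrinv] using h3
  obtain ⟨φ, hφ1, hφ2⟩ := exists_hom_perm_three hq2 hr2 hbraid
  have hsurj : Function.Surjective φ := by
    rw [← MonoidHom.range_eq_top, eq_top_iff]
    intro c _
    obtain ⟨c, rfl⟩ := QuotientGroup.mk'_surjective (h.core.subgroupOf X) c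
    have hgen : ∀ y, (hy : y ∈ X) → π ⟨y, hy⟩ ∈ φ.range := by
      intro y hy
      have hy' := hy
      rw [hXdef, Subgroup.sup_eq_closure] at hy'
      induction hy' using Subgroup.closure_induction with
      | mem t ht =>
        rcases ht with ht | ht
        · rcases h.left_eq hq hqx ht with e | e
          · rw [hπ.2 e]; exact one_mem _
          · have h1 : π (qX⁻¹ * ⟨t, hy⟩) = 1 := hπ.2 e
            rw [map_mul, map_inv, inv_mul_eq_one] at h1
            rw [← h1]; exact ⟨_, hφ1⟩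
        · rcases h.symm.left_eq hr hrz ht with e | e <;> rw [← h.core_symm] at e
          · rw [hπ.2 e]; exact one_mem _
          · have h1 : π (rX⁻¹ * ⟨t, hy⟩) = 1 := hπ.2 e
            rw [map_mul, map_inv, inv_mul_eq_one] at h1
            rw [← h1]; exact ⟨_, hφ2⟩
      | one => rw [show (⟨1, hy⟩ : X) = 1 from rfl, map_one]; exact one_mem _
      | mul a b ha hb iha ihb =>
        rw [← Subgroup.sup_eq_closure] at ha hb
        rw [show (⟨a * b, hy⟩ : X) = ⟨a, ha⟩ * ⟨b, hb⟩ from rfl, map_mul]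
        exact mul_mem (iha ha) (ihb hb)
      | inv a ha iha =>
        rw [← Subgroup.sup_eq_closure] at ha
        rw [show (⟨a⁻¹, hy⟩ : X) = ⟨a, ha⟩⁻¹ from rfl, map_inv]
        exact inv_mem (iha ha)
    exact hgen c.1 c.2
  have hcard : Nat.card (Equiv.Perm (Fin 3)) = 6 := by rw [Nat.card_eq_fintype_card]; rfl
  -- the action on the four group has six images
  have hK : (Subgroup.centralizer (h.four : Set G)).relIndex X = 6 ∨
      6 ≤ (Subgroup.centralizer (h.four : Set G)).relIndex X := by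
    right
    haveI : ((Subgroup.centralizer (h.four : Set G)).subgroupOf X).Normal := by
      refine ⟨fun c hc g => ?_⟩
      rw [Subgroup.mem_subgroupOf, Subgroup.mem_centralizer_iff] at hc ⊢
      intro v hv
      have hv' : (g : G)⁻¹ * v * (g : G) ∈ h.four := by
        have := h.sup_normalizes_four (inv_mem g.2) hv
        rwa [inv_inv] at this
      show v * ((g : G) * c * (g : G)⁻¹) = (g : G) * c * (g : G)⁻¹ * v
      calc v * ((g : G) * c * (g : G)⁻¹) = (g : G) * (((g : G)⁻¹ * v * g) * c) * (g : G)⁻¹ := by group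
        _ = (g : G) * ((c : G) * ((g : G)⁻¹ * v * g)) * (g : G)⁻¹ := by rw [hc _ hv']
        _ = _ := by group
    rw [Subgroup.relIndex, Subgroup.index_eq_card]
    let ρ := QuotientGroup.mk' ((Subgroup.centralizer (h.four : Set G)).subgroupOf X)
    have hρ : ∀ {a b : X}, ρ a = ρ b → ∀ v ∈ h.four, (a : G) * v * (a : G)⁻¹ = (b : G) * v * (b : G)⁻¹ := by
      intro a b e v hv
      have h1 := Subgroup.mem_subgroupOf.1 (QuotientGroup.eq.1 e)
      have h2 := Subgroup.mem_centralizer_iff.1 h1 v hv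
      simp only [Subgroup.coe_mul, InvMemClass.coe_inv] at h2
      calc (a : G) * v * (a : G)⁻¹ = (a : G) * (v * ((a : G)⁻¹ * b)) * (b : G)⁻¹ := by group
        _ = _ := by rw [h2]; group
    have hq3 : ρ qX ≠ 1 := fun e => h.hq.z_ne_one (by
      have := hρ (e.trans (map_one ρ).symm) x (h.mem_four.2 (by simp))
      change q * x * q⁻¹ = 1 * x * (1 : G)⁻¹ at this
      rwa [hqx, one_mul, inv_one, mul_one, mul_eq_right] at this)
    have hr3 : ρ rX ≠ 1 := fun e => h.hp.z_ne_one (by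
      have := hρ (e.trans (map_one ρ).symm) z (h.mem_four.2 (by simp))
      change r * z * r⁻¹ = 1 * z * (1 : G)⁻¹ at this
      rwa [hrz, one_mul, inv_one, mul_one, mul_eq_right] at this)
    have hdiff : ρ qX ≠ ρ rX := fun e => h.hp.z_ne_one (by
      have := hρ e z (h.mem_four.2 (by simp))
      change q * z * q⁻¹ = r * z * r⁻¹ at this
      rwa [hrz, hqz, eq_comm, mul_eq_right] at this)
    have hq4 : ρ qX * ρ qX = 1 := by
      rw [← map_mul]
      exact (QuotientGroup.eq_one_iff _).2 (h.core_le_centralizer (hπ.1 (by rw [map_mul]; exact hq2)))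
    set K := X ⧸ (Subgroup.centralizer (h.four : Set G)).subgroupOf X
    have hdvd : Nat.card K ∣ 6 := by
      rw [← hcard]
      have hle : h.core.subgroupOf X ≤ (Subgroup.centralizer (h.four : Set G)).subgroupOf X :=
        fun c hc => h.core_le_centralizer hc
      exact (Subgroup.card_dvd_of_surjective (QuotientGroup.map _ _ (MonoidHom.id X) hle)
        (fun c => by
          obtain ⟨c, rfl⟩ := QuotientGroup.mk'_surjective _ c
          exact ⟨π c, rfl⟩)).trans (Subgroup.card_dvd_of_surjective φ hsurj)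
    have h3le : 3 ≤ Nat.card K := by
      have : ({1, ρ qX, ρ rX} : Set K).ncard = 3 := by
        rw [Set.ncard_insert_of_notMem, Set.ncard_pair hdiff]
        simp only [Set.mem_insert_iff, Set.mem_singleton_iff, not_or]
        exact ⟨Ne.symm hq3, Ne.symm hr3⟩
      rw [← this, ← Set.ncard_univ]
      exact Set.ncard_le_ncard (Set.subset_univ _) Set.finite_univ
    have heven : 2 ∣ Nat.card K := by
      rw [← orderOf_eq_prime (p := 2) (by rw [pow_two]; exact hq4) hq3]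
      exact orderOf_dvd_natCard _
    have := Nat.le_of_dvd (by norm_num) hdvd
    interval_cases hk : Nat.card K <;> omega
  have h6 : 6 ≤ (Subgroup.centralizer (h.four : Set G)).relIndex X := hK.elim (fun e => e.ge) id
  have hle6 : Nat.card (X ⧸ h.core.subgroupOf X) ≤ 6 :=
    hcard ▸ Nat.card_le_card_of_surjective φ hsurj
  have hle' : h.core ≤ X ⊓ Subgroup.centralizer (h.four : Set G) := le_inf h.core_le_sup h.core_le_centralizer
  have hidx : h.core.relIndex X ≤ 6 := by rw [Subgroup.relIndex, Subgroup.index_eq_card]; exact hle6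
  have heq : h.core = X ⊓ Subgroup.centralizer (h.four : Set G) := by
    refine Subgroup.eq_of_le_of_card_ge hle' ?_
    have e1 := CfsgLib.PGroups.card_mul_relIndex h.core_le_sup
    have e2 := CfsgLib.PGroups.card_mul_relIndex (inf_le_left : X ⊓ Subgroup.centralizer (h.four : Set G) ≤ X)
    rw [Subgroup.inf_relIndex_left] at e2
    have hmul : Nat.card (X ⊓ Subgroup.centralizer (h.four : Set G) : Subgroup G) * 6 ≤ Nat.card h.core * 6 :=
      (Nat.mul_le_mul_left _ h6).trans (e2.le.trans (e1.ge.trans (Nat.mul_le_mul_left _ hidx)))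
    exact Nat.le_of_mul_le_mul_right hmul (by norm_num)
  refine ⟨heq, hn, ⟨(MulEquiv.ofBijective φ ((Nat.bijective_iff_surjective_and_card φ).2 ⟨hsurj, ?_⟩)).symm⟩⟩
  refine le_antisymm ?_ (Nat.card_le_card_of_surjective φ hsurj)
  rw [hcard]
  have : h.core.relIndex X = (Subgroup.centralizer (h.four : Set G)).relIndex X := by
    rw [heq, Subgroup.inf_relIndex_left]
  rw [← Subgroup.index_eq_card]
  exact h6.trans this.ge

/-- The core is the largest normal 2-subgroup. -/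
theorem core_eq_pCore [Finite G] : h.core = (pCore 2 ↥(Q ⊔ P)).map (Q ⊔ P).subtype := by
  haveI : Fact (Nat.Prime 2) := ⟨Nat.prime_two⟩
  obtain ⟨-, hn, ⟨e⟩⟩ := h.quotient
  haveI := hn
  refine le_antisymm (fun c hc => ⟨⟨c, h.core_le_sup hc⟩, CfsgLib.Core.le_pCore (N := h.core.subgroupOf _)
    (h.isPGroup_core.comap_of_injective _ (Subgroup.subtype_injective _)) hc, rfl⟩) ?_
  rintro _ ⟨c, hc, rfl⟩
  let f : ↥(Q ⊔ P) →* Equiv.Perm (Fin 3) := e.toMonoidHom.comp (QuotientGroup.mk' _)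
  have hfs : Function.Surjective f := e.surjective.comp (QuotientGroup.mk'_surjective _)
  have hp : IsPGroup 2 ((pCore 2 ↥(Q ⊔ P)).map f) := (CfsgLib.Core.isPGroup_pCore 2 _).map f
  haveI hnm : ((pCore 2 ↥(Q ⊔ P)).map f).Normal := (CfsgLib.Core.normal_pCore 2 _).map f hfs
  set N := (pCore 2 ↥(Q ⊔ P)).map f with hN
  have hbot : ∀ t ∈ N, t = 1 := by
    intro t ht
    obtain ⟨k, hk⟩ := IsPGroup.iff_card.1 hp
    have hd : Nat.card N ∣ 6 := by
      have := Subgroup.card_subgroup_dvd_card N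
      rwa [show Nat.card (Equiv.Perm (Fin 3)) = 6 by rw [Nat.card_eq_fintype_card]; rfl] at this
    rw [hk] at hd
    have hk1 : k ≤ 1 := by
      by_contra hk1
      have h4 : 4 ∣ 2 ^ k := by
        obtain ⟨j, rfl⟩ : ∃ j, k = 2 + j := ⟨k - 2, by omega⟩
        exact ⟨2 ^ j, by rw [pow_add]; rfl⟩
      exact absurd (h4.trans hd) (by norm_num)
    by_contra ht1
    -- a normal subgroup of order 2 is central
    have hcen : ∀ g : Equiv.Perm (Fin 3), g * t * g⁻¹ = t := by
      intro g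
      have h1 : g * t * g⁻¹ ∈ N := hnm.conj_mem t ht g
      by_contra hne
      have : ({1, t, g * t * g⁻¹} : Set (Equiv.Perm (Fin 3))).ncard ≤ Nat.card N := by
        rw [show Nat.card N = (N : Set (Equiv.Perm (Fin 3))).ncard from (Nat.card_coe_set_eq _)]
        refine Set.ncard_le_ncard ?_ (Set.toFinite _)
        rintro u (rfl | rfl | rfl)
        exacts [one_mem N, ht, h1]
      rw [Set.ncard_insert_of_notMem, Set.ncard_pair (Ne.symm hne), hk] at this
      · have : 2 ^ k ≤ 2 ^ 1 := Nat.pow_le_pow_right (by norm_num) hk1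
        omega
      · simp only [Set.mem_insert_iff, Set.mem_singleton_iff, not_or]
        exact ⟨Ne.symm ht1, fun e1 => ht1 (conj_eq_one_iff.1 e1.symm)⟩
    revert hcen ht1
    clear ht
    revert t
    decide
  have h1 : f c = 1 := hbot _ ⟨c, hc, rfl⟩
  have h2 : QuotientGroup.mk' (h.core.subgroupOf (Q ⊔ P)) c = 1 := e.injective (h1.trans (map_one e).symm)
  exact Subgroup.mem_subgroupOf.1 ((QuotientGroup.eq_one_iff c).1 h2)

theorem normalizer_four [Finite G] :
    Subgroup.normalizer (h.four : Set G) = (Q ⊔ P) ⊔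
        (Subgroup.centralizer ({z} : Set G) ⊓ Subgroup.centralizer (h.four : Set G)) ∧
      (∀ y ∈ Subgroup.normalizer (h.four : Set G), ∀ u ∈ Q ⊔ P, y * u * y⁻¹ ∈ Q ⊔ P) ∧
      h.core ≤ Subgroup.centralizer ({z} : Set G) ⊓ Subgroup.centralizer (h.four : Set G) ∧
      (∀ u ∈ Q ⊔ P, ∀ c ∈ Subgroup.centralizer ({z} : Set G) ⊓ Subgroup.centralizer (h.four : Set G),
        u * c * u⁻¹ * c⁻¹ ∈ h.core) ∧
      (Q ⊔ P) ⊓ (Subgroup.centralizer ({z} : Set G) ⊓ Subgroup.centralizer (h.four : Set G)) = h.core := by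
  obtain ⟨heq, -⟩ := h.quotient
  have hcz : ∀ {c : G}, c ∈ Subgroup.centralizer (h.four : Set G) →
      c ∈ Subgroup.centralizer ({z} : Set G) := fun hc =>
    mem_centralizer_singleton_iff'.2 (h.mem_centralizer_four.1 hc).1.eq
  have hXn : Q ⊔ P ≤ Subgroup.normalizer (h.four : Set G) := fun g hg => by
    rw [Subgroup.mem_normalizer_iff]
    refine fun v => ⟨h.sup_normalizes_four hg, fun hv => ?_⟩
    have := h.sup_normalizes_four (inv_mem hg) hv
    rwa [show g⁻¹ * (g * v * g⁻¹) * g⁻¹⁻¹ = v by group] at this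
  have hCX : ∀ c ∈ Subgroup.centralizer (h.four : Set G), ∀ u ∈ Q ⊔ P, c * u * c⁻¹ ∈ Q ⊔ P := by
    intro c hc u hu
    have hc' := h.mem_centralizer_four.1 hc
    have hle : (Q ⊔ P).map (MulAut.conj c).toMonoidHom ≤ Q ⊔ P := by
      rw [Subgroup.map_sup]
      refine sup_le ?_ ?_
      · rintro _ ⟨a, ha, rfl⟩; exact Subgroup.mem_sup_left ((h.centralizer_conj hc').1 ha)
      · rintro _ ⟨a, ha, rfl⟩; exact Subgroup.mem_sup_right ((h.centralizer_conj hc').2 ha)
    exact hle ⟨u, hu, rfl⟩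
  -- transitivity of the action
  have hdecomp : ∀ n ∈ Subgroup.normalizer (h.four : Set G), ∃ u ∈ Q ⊔ P,
      u⁻¹ * n ∈ Subgroup.centralizer (h.four : Set G) := by
    obtain ⟨q, hq, r, hr, hqx, hrz⟩ := h.exists_moves
    intro n hn
    have hmem : ∀ v ∈ h.four, v ≠ 1 → n * v * n⁻¹ ∈ h.four ∧ n * v * n⁻¹ ≠ 1 := fun v hv hv1 =>
      ⟨(Subgroup.mem_normalizer_iff.1 hn v).1 hv, fun e => hv1 (conj_eq_one_iff.1 e)⟩
    have hqz : q * z * q⁻¹ = z := by rw [(h.hq.commute_z hq).eq, mul_inv_cancel_right]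
    have hrx : r * x * r⁻¹ = x := by rw [(h.hp.commute_z hr).eq, mul_inv_cancel_right]
    have hzz := h.hq.mul_self_z
    have hxx := h.hp.mul_self_z
    -- first bring the image of `z` back to `z`
    obtain ⟨u, hu, huz⟩ : ∃ u ∈ Q ⊔ P, u * z * u⁻¹ = n * z * n⁻¹ := by
      obtain ⟨h1, h2⟩ := hmem z (h.mem_four.2 (by simp)) h.hq.z_ne_one
      rcases h.mem_four.1 h1 with e | e | e | e
      · exact absurd e h2
      · exact ⟨1, one_mem _, by rw [e]; simp⟩
      · refine ⟨q * r, mul_mem (Subgroup.mem_sup_left hq) (Subgroup.mem_sup_right hr), ?_⟩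
        calc q * r * z * (q * r)⁻¹ = q * (r * z * r⁻¹) * q⁻¹ := by group
          _ = (q * x * q⁻¹) * (q * z * q⁻¹) := by rw [hrz]; group
          _ = x := by rw [hqx, hqz, h.commute_zx.eq, mul_assoc, hzz, mul_one]
          _ = _ := e.symm
      · exact ⟨r, Subgroup.mem_sup_right hr, by rw [hrz, e, h.commute_zx.eq]⟩
    have hm : u⁻¹ * n ∈ Subgroup.normalizer (h.four : Set G) := mul_mem (inv_mem (hXn hu)) hn
    have hmz : u⁻¹ * n * z * (u⁻¹ * n)⁻¹ = z := by
      rw [show u⁻¹ * n * z * (u⁻¹ * n)⁻¹ = u⁻¹ * (n * z * n⁻¹) * u by group, ← huz]; group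
    set m := u⁻¹ * n with hmdef
    obtain ⟨w, hw, hwc⟩ : ∃ w ∈ Q ⊔ P, w⁻¹ * m ∈ Subgroup.centralizer (h.four : Set G) := by
      have h1 : m * x * m⁻¹ ∈ h.four := (Subgroup.mem_normalizer_iff.1 hm x).1 (h.mem_four.2 (by simp))
      rcases h.mem_four.1 h1 with e | e | e | e
      · exact absurd (conj_eq_one_iff.1 e) h.hp.z_ne_one
      · exact absurd (mul_left_cancel (mul_right_cancel (e.trans hmz.symm))) h.hne
      · exact ⟨1, one_mem _, by
          rw [inv_one, one_mul]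
          exact h.mem_centralizer_four.2 ⟨mul_inv_eq_iff_eq_mul.1 hmz, mul_inv_eq_iff_eq_mul.1 e⟩⟩
      · refine ⟨q, Subgroup.mem_sup_left hq, h.mem_centralizer_four.2 ⟨mul_inv_eq_iff_eq_mul.1 ?_,
          mul_inv_eq_iff_eq_mul.1 ?_⟩⟩
        · rw [show q⁻¹ * m * z * (q⁻¹ * m)⁻¹ = q⁻¹ * (m * z * m⁻¹) * q by group, hmz]
          nth_rewrite 1 [← hqz]; group
        · rw [show q⁻¹ * m * x * (q⁻¹ * m)⁻¹ = q⁻¹ * (m * x * m⁻¹) * q by group, e, ← hqx]; group
    refine ⟨u * w, mul_mem hu hw, ?_⟩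
    rwa [mul_inv_rev, mul_assoc]
  refine ⟨le_antisymm ?_ ?_, ?_, ?_, ?_, ?_⟩
  · intro n hn
    obtain ⟨u, hu, hc⟩ := hdecomp n hn
    have := Subgroup.mul_mem_sup hu (show u⁻¹ * n ∈ Subgroup.centralizer ({z} : Set G) ⊓
      Subgroup.centralizer (h.four : Set G) from ⟨hcz hc, hc⟩)
    rwa [mul_inv_cancel_left] at this
  · exact sup_le hXn (inf_le_right.trans (Subgroup.centralizer_le_normalizer _))
  · intro y hy u hu
    obtain ⟨w, hw, hc⟩ := hdecomp y hy
    rw [show y * u * y⁻¹ = w * ((w⁻¹ * y) * u * (w⁻¹ * y)⁻¹) * w⁻¹ by group]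
    exact mul_mem (mul_mem hw (hCX _ hc u hu)) (inv_mem hw)
  · exact fun c hc => ⟨hcz (h.core_le_centralizer hc), h.core_le_centralizer hc⟩
  · intro u hu c hc
    rw [heq]
    refine ⟨?_, ?_⟩
    · rw [show u * c * u⁻¹ * c⁻¹ = u * (c * u⁻¹ * c⁻¹) by group]
      exact mul_mem hu (hCX c hc.2 _ (inv_mem hu))
    · refine Subgroup.mul_mem _ ?_ (Subgroup.inv_mem _ hc.2)
      rw [Subgroup.mem_centralizer_iff]
      intro v hv
      have hv' : u⁻¹ * v * u ∈ h.four := by
        have := h.sup_normalizes_four (inv_mem hu) hv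
        rwa [inv_inv] at this
      calc v * (u * c * u⁻¹) = u * ((u⁻¹ * v * u) * c) * u⁻¹ := by group
        _ = u * (c * (u⁻¹ * v * u)) * u⁻¹ := by rw [Subgroup.mem_centralizer_iff.1 hc.2 _ hv']
        _ = _ := by group
  · rw [heq]
    exact le_antisymm (fun c hc => ⟨hc.1, hc.2.2⟩) (fun c hc => ⟨hc.1, hcz hc.2, hc.2⟩)

/-- An element fixing `z` and the hyperplane of `Q` lies in the four group. -/
theorem mem_four_of_centralizes [Finite G] {c : G} (hcz : Commute c z)
    (hc : ∀ a ∈ Q, Commute a x → Commute c a) : c ∈ h.four := by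
  have hM : Subgroup.zpowers z ⊔ Subgroup.zpowers x ≤ h.four :=
    sup_le (Subgroup.zpowers_le.2 (h.mem_four.2 (by simp))) (Subgroup.zpowers_le.2 (h.mem_four.2 (by simp)))
  have hdc : ∀ w ∈ Q, (∀ a ∈ Q, Commute a x → Commute a w) → w ∈ h.four := fun w hw hh =>
    hM (h.hq.mem_of_double_centralizer (sup_le (Subgroup.zpowers_le.2 h.hq.z_mem) (Subgroup.zpowers_le.2 h.hxQ))
      (Subgroup.mem_sup_left (Subgroup.mem_zpowers z)) hw fun a ha hm =>
        hh a ha (hm x (Subgroup.mem_sup_right (Subgroup.mem_zpowers x))))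
  obtain ⟨q, hq, -, -, hqx, -⟩ := h.exists_moves
  have hqc : c * q * c⁻¹ * q⁻¹ ∈ Q := mul_mem (h.hq.conj_mem hcz hq) (inv_mem hq)
  have hε : c * q * c⁻¹ * q⁻¹ ∈ h.four := by
    refine hdc _ hqc fun a ha hax => ?_
    -- `q` and its image act alike on the hyperplane
    have h1 : q * a * q⁻¹ * a⁻¹ ∈ Subgroup.zpowers z := h.hq.comm_mem hq ha
    have h2 : c * (q * a * q⁻¹ * a⁻¹) * c⁻¹ = q * a * q⁻¹ * a⁻¹ := by
      rcases h.hq.eq_or h1 with e | e <;> rw [e]
      · simp
      · rw [hcz.eq, mul_inv_cancel_right]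
    have hca : c * a * c⁻¹ = a := by rw [(hc a ha hax).eq, mul_inv_cancel_right]
    have h3 : (c * q * c⁻¹) * a * (c * q * c⁻¹)⁻¹ = q * a * q⁻¹ := by
      calc (c * q * c⁻¹) * a * (c * q * c⁻¹)⁻¹
          = c * (q * (c⁻¹ * a * c) * q⁻¹) * c⁻¹ := by group
        _ = c * (q * a * q⁻¹ * a⁻¹) * c⁻¹ * (c * a * c⁻¹) := by
          rw [show c⁻¹ * a * c = a by nth_rewrite 1 [← hca]; group]; group
        _ = q * a * q⁻¹ := by rw [h2, hca, inv_mul_cancel_right]
    show a * (c * q * c⁻¹ * q⁻¹) = c * q * c⁻¹ * q⁻¹ * a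
    calc a * (c * q * c⁻¹ * q⁻¹) = (c * q * c⁻¹) * ((c * q * c⁻¹)⁻¹ * a * (c * q * c⁻¹)) * q⁻¹ := by group
      _ = (c * q * c⁻¹) * (q⁻¹ * a * q) * q⁻¹ := by
        have h4 : q⁻¹ * a * q * (q⁻¹ * a * q)⁻¹ = 1 := mul_inv_cancel _
        rw [show (c * q * c⁻¹)⁻¹ * a * (c * q * c⁻¹) = q⁻¹ * a * q from ?_]
        have ha' : q⁻¹ * a * q ∈ Q := mul_mem (mul_mem (inv_mem hq) ha) hq
        have hax' : Commute (q⁻¹ * a * q) x := by
          have h5 : q⁻¹ * a * q⁻¹⁻¹ * a⁻¹ ∈ Subgroup.zpowers z := h.hq.comm_mem (inv_mem hq) ha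
          rw [inv_inv] at h5
          have h6 : Commute (q⁻¹ * a * q * a⁻¹) x := by
            rcases h.hq.eq_or h5 with e | e <;> rw [e]
            exacts [Commute.one_left x, h.commute_zx]
          have := h6.mul_left hax
          rwa [inv_mul_cancel_right] at this
        have hca' : c * (q⁻¹ * a * q) * c⁻¹ = q⁻¹ * a * q := by rw [(hc _ ha' hax').eq, mul_inv_cancel_right]
        calc (c * q * c⁻¹)⁻¹ * a * (c * q * c⁻¹) = c * q⁻¹ * (c⁻¹ * a * c) * q * c⁻¹ := by group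
          _ = c * (q⁻¹ * a * q) * c⁻¹ := by rw [show c⁻¹ * a * c = a by nth_rewrite 1 [← hca]; group]; group
          _ = _ := hca'
      _ = c * q * c⁻¹ * q⁻¹ * a := by group
  have hεz : c * q * c⁻¹ * q⁻¹ ∈ Subgroup.zpowers z := by
    rcases h.mem_four.1 hε with e | e | e | e
    · rw [e]; exact one_mem _
    · rw [e]; exact Subgroup.mem_zpowers z
    all_goals
      exfalso
      have hcq : c * q * c⁻¹ = (c * q * c⁻¹ * q⁻¹) * q := by group
      have hsq : (c * q * c⁻¹) * (c * q * c⁻¹) = q * q := by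
        rw [conj_mul]
        rcases h.hq.eq_or (h.hq.sq_mem hq) with e2 | e2 <;> rw [e2]
        · simp
        · rw [hcz.eq, mul_inv_cancel_right]
      rw [hcq, e] at hsq
    · rw [show x * q * (x * q) = x * (q * x * q⁻¹) * (q * q) by group, mul_eq_right, hqx, h.commute_zx.eq,
        ← mul_assoc, h.hp.mul_self_z, one_mul] at hsq
      exact h.hq.z_ne_one hsq
    · rw [show z * x * q * (z * x * q) = z * x * (q * z * q⁻¹) * (q * x * q⁻¹) * (q * q) by group, mul_eq_right,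
        hqx, show q * z * q⁻¹ = z by rw [(h.hq.commute_z hq).eq, mul_inv_cancel_right]] at hsq
      apply h.hq.z_ne_one
      calc z = z * x * z * (z * x) := by
            rw [mul_assoc (z * x) z, ← mul_assoc z z x, h.hq.mul_self_z, one_mul, mul_assoc z x x,
              h.hp.mul_self_z, mul_one]
        _ = 1 := hsq
  have hcQ : c ∈ Q := by
    refine h.hq.mem_of_trivial hcz fun a ha => ?_
    by_cases hax : Commute a x
    · rw [(hc a ha hax).eq, mul_inv_cancel_right, mul_inv_cancel]; exact one_mem _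
    · have ha' : Commute (q⁻¹ * a) x := by
        have hax' : a * x * a⁻¹ = z * x :=
          (h.hq.conj_eq_or ha h.hxQ).resolve_left fun e => hax (mul_inv_eq_iff_eq_mul.1 e)
        show q⁻¹ * a * x = x * (q⁻¹ * a)
        calc q⁻¹ * a * x = q⁻¹ * (a * x * a⁻¹) * a := by group
          _ = q⁻¹ * (q * x * q⁻¹) * a := by rw [hax', hqx]
          _ = _ := by group
      have e : c * (q⁻¹ * a) * c⁻¹ = q⁻¹ * a := by
        rw [(hc _ (mul_mem (inv_mem hq) ha) ha').eq, mul_inv_cancel_right]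
      rw [show c * a * c⁻¹ * a⁻¹ = (c * q * c⁻¹) * (c * (q⁻¹ * a) * c⁻¹) * a⁻¹ by group, e,
        show (c * q * c⁻¹) * (q⁻¹ * a) * a⁻¹ = c * q * c⁻¹ * q⁻¹ by group]
      exact hεz
  exact hdc c hcQ fun a ha hax => (hc a ha hax).symm

theorem center_core [Finite G] : (Subgroup.center h.core).map h.core.subtype = h.four := by
  ext c
  constructor
  · rintro ⟨c, hc, rfl⟩
    refine h.mem_four_of_centralizes (h.mem_centralizer_four.1 (h.core_le_centralizer c.2)).1 fun a ha hax => ?_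
    exact (congrArg Subtype.val (Subgroup.mem_center_iff.1 hc ⟨a, h.left_le_core (h.mem_left.2 ⟨ha, hax⟩)⟩)).symm
  · intro hc
    refine ⟨⟨c, h.four_le_core hc⟩, Subgroup.mem_center_iff.2 fun r => Subtype.ext ?_, rfl⟩
    exact (Subgroup.mem_centralizer_iff.1 (h.core_le_centralizer r.2) c hc).symm

theorem comm_inf [Finite G] {g e : G} (hg : g ∈ Q ⊔ P) (he : e ∈ Q ⊓ P) : g * e * g⁻¹ * e⁻¹ ∈ h.four := by
  rw [Subgroup.sup_eq_closure] at hg
  have hsup : ∀ {a v : G}, a ∈ (Q : Set G) ∪ P → v ∈ h.four → a * v * a⁻¹ ∈ h.four := by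
    intro a v ha hv
    rcases ha with ha | ha
    exacts [h.left_normalizes_four ha hv, h.right_normalizes_four ha hv]
  have hstep : ∀ {a y : G}, a ∈ (Q : Set G) ∪ P → y * e * y⁻¹ * e⁻¹ ∈ h.four →
      a * y * e * (a * y)⁻¹ * e⁻¹ ∈ h.four := by
    intro a y ha hy
    rw [show a * y * e * (a * y)⁻¹ * e⁻¹ = a * (y * e * y⁻¹ * e⁻¹) * a⁻¹ * (a * e * a⁻¹ * e⁻¹) by group]
    refine mul_mem (hsup ha hy) ?_
    rcases ha with ha | ha
    exacts [h.comm_left ha he.1, h.comm_right ha he.2]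
  induction hg using Subgroup.closure_induction_left with
  | one => simp
  | mul_left a ha y _ ih => exact hstep ha ih
  | inv_mul_cancel a ha y _ ih => exact hstep (ha.imp inv_mem inv_mem) ih

theorem inf_elementary [Finite G] : IsElementaryAbelian 2 (Q ⊓ P) := by
  have key : ∀ t, t ∈ Subgroup.zpowers z → t ∈ Subgroup.zpowers x → t = 1 := by
    intro t h1 h2
    rcases h.hq.eq_or h1 with e | e
    · exact e
    · exact absurd (e ▸ h2) h.z_notMem
  refine ⟨⟨⟨fun a b => Subtype.ext ?_⟩⟩, fun a ha => ?_⟩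
  · have := key _ (h.hq.comm_mem a.2.1 b.2.1) (h.hp.comm_mem a.2.2 b.2.2)
    exact mul_inv_eq_iff_eq_mul.1 (mul_inv_eq_one.1 this)
  · rw [pow_two]
    exact key _ (h.hq.sq_mem ha.1) (h.hp.sq_mem ha.2)

theorem core_mod_inf [Finite G] {u v : G} (hu : u ∈ h.core) (hv : v ∈ h.core) :
    u * v * u⁻¹ * v⁻¹ ∈ Q ⊓ P ∧ u ^ 2 ∈ Q ⊓ P := by
  set E := Q ⊓ P with hE
  have hEC : ∀ {c : G}, c ∈ Subgroup.centralizer (h.four : Set G) → ∀ e ∈ E, c * e * c⁻¹ ∈ E := fun hc e he =>
    ⟨(h.centralizer_conj (h.mem_centralizer_four.1 hc)).1 he.1, (h.centralizer_conj (h.mem_centralizer_four.1 hc)).2 he.2⟩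
  haveI hn : (E.subgroupOf h.core).Normal := ⟨fun e he g => hEC (h.core_le_centralizer g.2) _ he⟩
  let π := QuotientGroup.mk' (E.subgroupOf h.core)
  have hπ : ∀ {c : h.core}, π c = 1 ↔ (c : G) ∈ E := fun {c} =>
    (QuotientGroup.eq_one_iff c).trans Subgroup.mem_subgroupOf
  have hfour : ∀ t ∈ h.four, t ∈ E := fun t ht => ⟨h.four_le_left ht, h.four_le_right ht⟩
  let GS : Set h.core := {c | ((c : G) ∈ Q ∧ Commute (c : G) x) ∨ ((c : G) ∈ P ∧ Commute (c : G) z)}
  have hcomm : ∀ a ∈ GS, ∀ b ∈ GS, Commute (π a) (π b) := by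
    intro a ha b hb
    have hab : (a : G) * b * (a : G)⁻¹ * (b : G)⁻¹ ∈ E := by
      rcases ha with ⟨ha, hax⟩ | ⟨ha, haz⟩ <;> rcases hb with ⟨hb, hbx⟩ | ⟨hb, hbz⟩
      · exact hfour _ (h.comm_left ha hb)
      · exact ⟨by rw [show (a : G) * b * (a : G)⁻¹ * (b : G)⁻¹ = a * (b * (a : G)⁻¹ * (b : G)⁻¹) by group]
                  exact Q.mul_mem ha (h.hq.conj_mem hbz (Q.inv_mem ha)),
          P.mul_mem (h.hp.conj_mem hax hb) (P.inv_mem hb)⟩
      · exact ⟨Q.mul_mem (h.hq.conj_mem haz hb) (Q.inv_mem hb),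
          by rw [show (a : G) * b * (a : G)⁻¹ * (b : G)⁻¹ = a * (b * (a : G)⁻¹ * (b : G)⁻¹) by group]
             exact P.mul_mem ha (h.hp.conj_mem hbx (P.inv_mem ha))⟩
      · exact hfour _ (h.comm_right ha hb)
    have h1 : π (a * b * a⁻¹ * b⁻¹) = 1 := hπ.2 hab
    simp only [map_mul, map_inv] at h1
    exact mul_inv_eq_iff_eq_mul.1 (mul_inv_eq_one.1 h1)
  have hsq : ∀ a ∈ GS, π a * π a = 1 := by
    intro a ha
    rw [← map_mul, hπ]
    rcases ha with ⟨ha, -⟩ | ⟨ha, -⟩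
    · rcases h.hq.eq_or (h.hq.sq_mem ha) with e | e <;> show (a : G) * a ∈ E <;> rw [e]
      exacts [one_mem E, hfour _ (h.mem_four.2 (by simp))]
    · rcases h.hp.eq_or (h.hp.sq_mem ha) with e | e <;> show (a : G) * a ∈ E <;> rw [e]
      exacts [one_mem E, hfour _ (h.mem_four.2 (by simp))]
  have hsplit : ∀ c : h.core, ∃ b ∈ GS, ∃ a ∈ GS, π c = π b * π a := by
    intro c
    obtain ⟨b, hb, a, ha, e⟩ := h.mem_core_iff.1 c.2
    refine ⟨⟨b, h.right_le_core hb⟩, Or.inr (h.mem_right.1 hb), ⟨a, h.left_le_core ha⟩,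
      Or.inl (h.mem_left.1 ha), ?_⟩
    rw [← map_mul]; exact congrArg π (Subtype.ext e)
  obtain ⟨b, hb, a, ha, e1⟩ := hsplit ⟨u, hu⟩
  obtain ⟨b', hb', a', ha', e2⟩ := hsplit ⟨v, hv⟩
  constructor
  · have : π (⟨u, hu⟩ * ⟨v, hv⟩ * ⟨u, hu⟩⁻¹ * ⟨v, hv⟩⁻¹) = 1 := by
      simp only [map_mul, map_inv, e1, e2]
      have hc : Commute (π b * π a) (π b' * π a') :=
        ((hcomm b hb b' hb').mul_right (hcomm b hb a' ha')).mul_left ((hcomm a ha b' hb').mul_right (hcomm a ha a' ha'))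
      rw [hc.eq]; group
    exact hπ.1 this
  · have : π (⟨u, hu⟩ ^ 2) = 1 := by
      rw [map_pow, e1, (hcomm b hb a ha).mul_pow, pow_two, pow_two, hsq b hb, hsq a ha, one_mul]
    exact hπ.1 this

theorem inf_le_core : Q ⊓ P ≤ h.core := fun _ he =>
  h.left_le_core (h.mem_left.2 ⟨he.1, h.hp.commute_z he.2⟩)

theorem series [Finite G] :
    Q ⊓ P ≤ (Subgroup.upperCentralSeries h.core 2).map h.core.subtype ∧
      Subgroup.upperCentralSeries h.core 3 = ⊤ := by
  have h1 : ∀ v : h.core, (v : G) ∈ h.four → v ∈ Subgroup.upperCentralSeries h.core 1 := by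
    intro v hv
    rw [Subgroup.upperCentralSeries_one]
    obtain ⟨w, hw, e⟩ := h.center_core.ge hv
    rwa [← show w = v from Subtype.ext e]
  have h2 : ∀ e : h.core, (e : G) ∈ Q ⊓ P → e ∈ Subgroup.upperCentralSeries h.core 2 := by
    intro e he
    rw [Subgroup.mem_upperCentralSeries_succ_iff]
    intro y
    refine h1 _ ?_
    show (e : G) * y * (e : G)⁻¹ * (y : G)⁻¹ ∈ h.four
    rw [show (e : G) * y * (e : G)⁻¹ * (y : G)⁻¹ = ((y : G) * e * (y : G)⁻¹ * (e : G)⁻¹)⁻¹ by group]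
    exact inv_mem (h.comm_inf (h.core_le_sup y.2) he)
  refine ⟨fun e he => ⟨⟨e, h.inf_le_core he⟩, h2 _ he, rfl⟩, eq_top_iff.2 fun c _ => ?_⟩
  rw [Subgroup.mem_upperCentralSeries_succ_iff]
  intro y
  exact h2 _ (h.core_mod_inf c.2 y.2).1

theorem comm_sup_inf [Finite G] : ⁅Q ⊔ P, Q ⊓ P⁆ ≤ h.four :=
  Subgroup.commutator_le.2 fun _ hg _ he => h.comm_inf hg he

end LargePair

theorem LargeData.largePair [Finite G] {z : G} {Q : Subgroup G} (h : LargeData z Q) (h32 : 32 ≤ Nat.card Q) {g : G}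
    (hx : g * z * g⁻¹ ∈ Q) (hne : g * z * g⁻¹ ≠ z) :
    LargePair z (g * z * g⁻¹) Q (Q.map (MulAut.conj g).toMonoidHom) :=
  ⟨h, h.conj g, hx, h.mem_conj h32 hx, hne, fun _ hk => h.map_conj_eq hk, g, rfl⟩

end CfsgLib.ThreeTrans
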