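import Cfsg.Agent.Lib.ThreeTrans.Braid

set_option autoImplicit false
set_option linter.unusedSimpArgs false

/-!
Homomorphisms from the symmetric group of degree 5 given by the Coxeter relations of type A₄ (owner: helper28).
-/

namespace CfsgLib.ThreeTrans

set_option maxHeartbeats 4000000 in
set_option maxRecDepth 4000 in
/-- Four involutions satisfying the Coxeter relations of type A₄ give a homomorphism from the symmetric
group of degree 5. -/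
theorem exists_hom_perm_five {G : Type*} [Group G] {a b c d : G} (haa : a * a = 1) (hbb : b * b = 1)
    (hcc : c * c = 1) (hdd : d * d = 1) (hac : a * c = c * a) (had : a * d = d * a) (hbd : b * d = d * b)
    (hab : a * b * a = b * a * b) (hbc : b * c * b = c * b * c) (hcd : c * d * c = d * c * d) :
    ∃ φ : Equiv.Perm (Fin 5) →* G, φ (Equiv.swap 0 1) = a ∧ φ (Equiv.swap 1 2) = b ∧
      φ (Equiv.swap 2 3) = c ∧ φ (Equiv.swap 3 4) = d := by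
  have a2 : ∀ t, a * (a * t) = t := fun t => by rw [← mul_assoc, haa, one_mul]
  have b2 : ∀ t, b * (b * t) = t := fun t => by rw [← mul_assoc, hbb, one_mul]
  have c2 : ∀ t, c * (c * t) = t := fun t => by rw [← mul_assoc, hcc, one_mul]
  have d2 : ∀ t, d * (d * t) = t := fun t => by rw [← mul_assoc, hdd, one_mul]
  have r0' : ∀ t, c * (a * t) = a * (c * t) := fun t => by rw [← mul_assoc, ← mul_assoc, hac]
  have q0' : ∀ t, d * (a * t) = a * (d * t) := fun t => by rw [← mul_assoc, ← mul_assoc, had]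
  have p0' : ∀ t, d * (b * t) = b * (d * t) := fun t => by rw [← mul_assoc, ← mul_assoc, hbd]
  have r1 : b * (a * b) = a * (b * a) := by rw [← mul_assoc, ← mul_assoc, hab]
  have r2 : c * (b * c) = b * (c * b) := by rw [← mul_assoc, ← mul_assoc, hbc]
  have q2 : d * (c * d) = c * (d * c) := by rw [← mul_assoc, ← mul_assoc, hcd]
  have r1' : ∀ t, b * (a * (b * t)) = a * (b * (a * t)) := fun t => by
    simp only [← mul_assoc] at *; rw [hab]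
  have r2' : ∀ t, c * (b * (c * t)) = b * (c * (b * t)) := fun t => by
    simp only [← mul_assoc] at *; rw [hbc]
  have q2' : ∀ t, d * (c * (d * t)) = c * (d * (c * t)) := fun t => by
    simp only [← mul_assoc] at *; rw [hcd]
  have r3 : c * (b * (a * c)) = b * (c * (b * a)) := by rw [hac, r2']
  have r3' : ∀ t, c * (b * (a * (c * t))) = b * (c * (b * (a * t))) := fun t => by rw [← r0', r2']
  have q3 : d * (c * (b * d)) = c * (d * (c * b)) := by rw [hbd, q2']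
  have q3' : ∀ t, d * (c * (b * (d * t))) = c * (d * (c * (b * t))) := fun t => by rw [← p0', q2']
  have q4 : d * (c * (b * (a * d))) = c * (d * (c * (b * a))) := by rw [had, ← p0', q2']
  have q4' : ∀ t, d * (c * (b * (a * (d * t)))) = c * (d * (c * (b * (a * t)))) := fun t => by
    rw [← q0', ← p0', q2']
  obtain ⟨φ, hφ⟩ := exists_hom_of_table
    (![Equiv.swap 0 1, Equiv.swap 1 2, Equiv.swap 2 3, Equiv.swap 3 4] : Fin 4 → Equiv.Perm (Fin 5))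
    (![a, b, c, d] : Fin 4 → G)
    (![[], [3], [3, 2], [3, 2, 1], [3, 2, 1, 0], [2], [2, 3], [2, 3, 2], [2, 3, 2, 1], [2, 3, 2, 1, 0], [2, 1], [2, 1, 3], [2, 1, 3, 2], [2, 1, 3, 2, 1], [2, 1, 3, 2, 1, 0], [2, 1, 0], [2, 1, 0, 3], [2, 1, 0, 3, 2], [2, 1, 0, 3, 2, 1], [2, 1, 0, 3, 2, 1, 0], [1], [1, 3], [1, 3, 2], [1, 3, 2, 1], [1, 3, 2, 1, 0], [1, 2], [1, 2, 3], [1, 2, 3, 2], [1, 2, 3, 2, 1], [1, 2, 3, 2, 1, 0], [1, 2, 1], [1, 2, 1, 3], [1, 2, 1, 3, 2], [1, 2, 1, 3, 2, 1], [1, 2, 1, 3, 2, 1, 0], [1, 2, 1, 0], [1, 2, 1, 0, 3], [1, 2, 1, 0, 3, 2], [1, 2, 1, 0, 3, 2, 1], [1, 2, 1, 0, 3, 2, 1, 0], [1, 0], [1, 0, 3], [1, 0, 3, 2], [1, 0, 3, 2, 1], [1, 0, 3, 2, 1, 0], [1, 0, 2], [1, 0, 2, 3], [1, 0, 2, 3, 2], [1, 0, 2, 3, 2, 1], [1, 0, 2, 3, 2, 1, 0], [1, 0, 2, 1], [1, 0, 2, 1, 3], [1, 0, 2, 1, 3, 2], [1, 0, 2, 1, 3, 2, 1], [1, 0, 2, 1, 3, 2, 1, 0], [1, 0, 2, 1, 0], [1, 0, 2, 1,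 0, 3], [1, 0, 2, 1, 0, 3, 2], [1, 0, 2, 1, 0, 3, 2, 1], [1, 0, 2, 1, 0, 3, 2, 1, 0], [0], [0, 3], [0, 3, 2], [0, 3, 2, 1], [0, 3, 2, 1, 0], [0, 2], [0, 2, 3], [0, 2, 3, 2], [0, 2, 3, 2, 1], [0, 2, 3, 2, 1, 0], [0, 2, 1], [0, 2, 1, 3], [0, 2, 1, 3, 2], [0, 2, 1, 3, 2, 1], [0, 2, 1, 3, 2, 1, 0], [0, 2, 1, 0], [0, 2, 1, 0, 3], [0, 2, 1, 0, 3, 2], [0, 2, 1, 0, 3, 2, 1], [0, 2, 1, 0, 3, 2, 1, 0], [0, 1], [0, 1, 3], [0, 1, 3, 2], [0, 1, 3, 2, 1], [0, 1, 3, 2, 1, 0], [0, 1, 2], [0, 1, 2, 3], [0, 1, 2, 3, 2], [0, 1, 2, 3, 2, 1], [0, 1, 2, 3, 2, 1, 0], [0, 1, 2, 1], [0, 1, 2, 1, 3], [0, 1, 2, 1, 3, 2], [0, 1, 2, 1, 3, 2, 1], [0, 1, 2, 1, 3, 2, 1, 0], [0, 1, 2, 1, 0], [0, 1, 2, 1, 0, 3], [0, 1, 2, 1, 0, 3, 2], [0, 1, 2, 1, 0, 3, 2, 1], [0, 1, 2, 1, 0, 3, 2, 1, 0], [0, 1, 0], [0, 1, 0, 3], [0, 1, 0, 3, 2], [0, 1, 0, 3, 2, 1], [0, 1, 0, 3, 2, 1, 0], [0, 1, 0, 2], [0, 1, 0, 2, 3], [0,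 1, 0, 2, 3, 2], [0, 1, 0, 2, 3, 2, 1], [0, 1, 0, 2, 3, 2, 1, 0], [0, 1, 0, 2, 1], [0, 1, 0, 2, 1, 3], [0, 1, 0, 2, 1, 3, 2], [0, 1, 0, 2, 1, 3, 2, 1], [0, 1, 0, 2, 1, 3, 2, 1, 0], [0, 1, 0, 2, 1, 0], [0, 1, 0, 2, 1, 0, 3], [0, 1, 0, 2, 1, 0, 3, 2], [0, 1, 0, 2, 1, 0, 3, 2, 1], [0, 1, 0, 2, 1, 0, 3, 2, 1, 0]] : Fin 120 → List (Fin 4))
    (![![60, 20, 5, 1], ![61, 21, 2, 0], ![62, 3, 1, 7], ![4, 2, 23, 8], ![3, 64, 24, 9], ![65, 10, 0, 6], ![66, 11, 7, 5], ![67, 8, 6, 2], ![9, 7, 13, 3], ![8, 69, 14, 4], ![15, 5, 30, 11], ![16, 6, 12, 10], ![17, 13, 11, 32], ![14, 12, 8, 33], ![13, 19, 9, 34], ![10, 75, 35, 16], ![11, 76, 17, 15], ![12, 18, 16, 37], ![19, 17, 78, 38], ![18, 14, 79, 39], ![40, 0, 25, 21], ![41, 1, 22, 20], ![42, 23, 21, 27], ![24, 22, 3, 28], ![23, 44, 4, 29], ![45, 30, 20, 26], ![46, 31, 27, 25], ![47, 28, 26, 22], ![29, 27, 33, 23], ![28, 49, 34, 24], ![35,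 25, 10, 31], ![36, 26, 32, 30], ![37, 33, 31, 12], ![34, 32, 28, 13], ![33, 39, 29, 14], ![30, 55, 15, 36], ![31, 56, 37, 35], ![32, 38, 36, 17], ![39, 37, 58, 18], ![38, 34, 59, 19], ![20, 100, 45, 41], ![21, 101, 42, 40], ![22, 43, 41, 47], ![44, 42, 103, 48], ![43, 24, 104, 49], ![25, 50, 40, 46], ![26, 51, 47, 45], ![27, 48, 46, 42], ![49, 47, 53, 43], ![48, 29, 54, 44], ![55, 45, 110, 51], ![56, 46, 52, 50], ![57, 53, 51, 112], ![54, 52, 48, 113], ![53, 59, 49, 114], ![50, 35, 115, 56], ![51, 36, 57, 55], ![52, 58, 56, 117], ![59, 57, 38, 118], ![58, 54, 39, 119], ![0, 80, 65, 61], ![1, 81, 62, 60], ![2, 63, 61, 67], ![64, 62, 83, 68], ![63, 4, 84, 69], ![5, 70, 60, 66], ![6, 71, 67, 65], ![7, 68, 66, 62], ![69, 67, 73, 63], ![68, 9, 74, 64], ![75, 65, 90, 71], ![76, 66, 72, 70], ![77, 73, 71, 92], ![74, 72, 68, 93], ![73, 79, 69, 94], ![70, 15, 95, 76], ![71, 16, 77,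 75], ![72, 78, 76, 97], ![79, 77, 18, 98], ![78, 74, 19, 99], ![100, 60, 85, 81], ![101, 61, 82, 80], ![102, 83, 81, 87], ![84, 82, 63, 88], ![83, 104, 64, 89], ![105, 90, 80, 86], ![106, 91, 87, 85], ![107, 88, 86, 82], ![89, 87, 93, 83], ![88, 109, 94, 84], ![95, 85, 70, 91], ![96, 86, 92, 90], ![97, 93, 91, 72], ![94, 92, 88, 73], ![93, 99, 89, 74], ![90, 115, 75, 96], ![91, 116, 97, 95], ![92, 98, 96, 77], ![99, 97, 118, 78], ![98, 94, 119, 79], ![80, 40, 105, 101], ![81, 41, 102, 100], ![82, 103, 101, 107], ![104, 102, 43, 108], ![103, 84, 44, 109], ![85, 110, 100, 106], ![86, 111, 107, 105], ![87, 108, 106, 102], ![109, 107, 113, 103], ![108, 89, 114, 104], ![115, 105, 50, 111], ![116, 106, 112, 110], ![117, 113, 111, 52], ![114, 112, 108, 53], ![113, 119, 109, 54], ![110, 95, 55, 116], ![111, 96, 117, 115], ![112, 118, 116, 57], ![119, 117, 98, 58], ![118, 114, 99,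 59]] : Fin 120 → Fin 4 → Fin 120)
    (by decide +kernel) (by decide +kernel)
    (by
      intro x i
      fin_cases x <;> fin_cases i <;>
        simp [mul_assoc, haa, hbb, hcc, hdd, a2, b2, c2, d2, hac.symm, had.symm, hbd.symm, r0', q0', p0',
          r1, r1', r2, r2', q2, q2', r3, r3', q3, q3', q4, q4'])
    0 rfl
  exact ⟨φ, hφ 0, hφ 1, hφ 2, hφ 3⟩

/-- A homomorphism from the symmetric group of degree 5 which does not kill a three-cycle is injective. -/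
theorem injective_of_perm_five {G : Type*} [Group G] (φ : Equiv.Perm (Fin 5) →* G)
    (h : φ (Equiv.swap 2 3 * Equiv.swap 3 4) ≠ 1) : Function.Injective φ := by
  have hbot : ∀ σ ∈ alternatingGroup (Fin 5), φ σ = 1 → σ = 1 := by
    intro σ hσ he
    have : IsSimpleGroup (alternatingGroup (Fin 5)) := alternatingGroup.isSimpleGroup_five
    let ψ := φ.comp (alternatingGroup (Fin 5)).subtype
    rcases Subgroup.Normal.eq_bot_or_eq_top (inferInstance : ψ.ker.Normal) with hb | ht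
    · have : (⟨σ, hσ⟩ : alternatingGroup (Fin 5)) ∈ ψ.ker := he
      rw [hb, Subgroup.mem_bot] at this
      exact congrArg Subtype.val this
    · exact absurd (show (⟨Equiv.swap 2 3 * Equiv.swap 3 4,
          Equiv.Perm.mem_alternatingGroup.2 (by decide +kernel)⟩ :
        alternatingGroup (Fin 5)) ∈ ψ.ker from ht ▸ Subgroup.mem_top _) h
  refine (injective_iff_map_eq_one φ).2 fun σ hσ => ?_
  have key : ∀ σ : Equiv.Perm (Fin 5), (∀ i : Fin 4,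
      σ * Equiv.swap i.castSucc i.succ = Equiv.swap i.castSucc i.succ * σ) → σ = 1 := by decide +kernel
  refine key σ fun i => ?_
  set τ := Equiv.swap i.castSucc i.succ
  have h1 : σ * τ * σ⁻¹ * τ⁻¹ = 1 := hbot _ (by simp [Equiv.Perm.mem_alternatingGroup, mul_comm, mul_left_comm]) (by simp [hσ])
  exact commutatorElement_eq_one_iff_mul_comm.1 h1

end CfsgLib.ThreeTrans
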