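import Cfsg.Agent.Lib.ThreeTrans.Core
import Cfsg.Agent.Lib.ZStar.Main

set_option autoImplicit false

/-!
A set of 3-transpositions without distinct commuting members generates modulo the three core
(owner: helper28).
-/

namespace CfsgLib.ThreeTrans

open Cfsg

universe u

theorem isolatedInvolution : IsolatedInvolution.{u} := fun G _ _ P _ ht htP hiso =>
  ⟨oddCore G, inferInstance, CfsgLib.ZStar.odd_card_oddCore G, CfsgLib.ZStar.mem_oddCore_of_sylow P ht htP hiso⟩

theorem widthOne : WidthOne.{u} := widthOne_of_zStar isolatedInvolution

end CfsgLib.ThreeTrans
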