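import Cfsg.Agent.Lib.ThreeTrans.RankThree

set_option autoImplicit false

/-!
Fischer's hypotheses: the members commuting with one member form one class of the subgroup they
generate; maximal commuting sets have doubly transitive normalizers (owner: lead).
-/

namespace CfsgLib.ThreeTrans.RankThree

open Cfsg
open scoped commutatorElement

universe u

variable {G : Type u} [Group G] [Finite G] {D : Set G}

theorem setting_of_perfect (hD : IsThreeTranspositionClass D)
    (hsol : ∀ N : Subgroup G, N.Normal → Group.IsSolvable ↥N → N = ⊥)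
    (hperf : ⁅commutator G, commutator G⁆ = commutator G)
    (hw : ∃ a ∈ D, ∃ b ∈ D, a ≠ b ∧ Commute a b) : Setting D := by
  have hpc : ∀ (p : ℕ) [Fact p.Prime], pCore p G ≤ Subgroup.center G := by
    intro p _
    haveI := (CfsgLib.Core.isPGroup_pCore p G).isNilpotent
    rw [hsol (pCore p G) inferInstance inferInstance]
    exact bot_le
  haveI : Fact (Nat.Prime 2) := ⟨Nat.prime_two⟩
  haveI : Fact (Nat.Prime 3) := ⟨Nat.prime_three⟩
  obtain ⟨a, ha, b, hb, hab, -⟩ := id hw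
  have hD2 : ∃ a ∈ D, ∃ b ∈ D, a ≠ b := ⟨a, ha, b, hb, hab⟩
  have hF := fitting_le_center hD (hpc 2) (hpc 3)
  have hne := layer_ne_bot hD hD2 hF
  rw [Ne, CfsgLib.Components.layer_eq_bot_iff, not_forall] at hne
  obtain ⟨L, hL⟩ := hne
  rw [not_not] at hL
  haveI := component_normal hD hL
  obtain ⟨d, hd, -⟩ := hD.2.1
  -- the image of the class generates the quotient and has width one
  let π := QuotientGroup.mk' L
  have hsq : ∀ x y : G, x ∈ D → y ∈ D → Commute (π x) (π y) → π x = π y := by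
    intro x y hx hy hc
    have h2 : (x * y) ^ 2 ∈ L := by
      refine (QuotientGroup.eq_one_iff _).1 (show π ((x * y) ^ 2) = 1 from ?_)
      rw [map_pow, map_mul, pow_two, mul_assoc, ← mul_assoc (π y), ← hc.eq, mul_assoc (π x) (π y),
        ← map_mul π y y, mul_self hD.1 hy, map_one, mul_one, ← map_mul, mul_self hD.1 hx, map_one]
    have h3 : π (x * y) = 1 := (QuotientGroup.eq_one_iff _).2 (mul_mem_of_sq_mem hD hL.2 hx hy h2)
    rw [map_mul] at h3
    rw [← inv_eq hD.1 hy, map_inv]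
    exact eq_inv_of_mul_eq_one_left h3
  have hnotin : ∀ x ∈ D, π x ≠ 1 → orderOf (π x) = 2 := fun x hx h =>
    orderOf_eq_prime (by rw [pow_two, ← map_mul, mul_self hD.1 hx, map_one]) h
  have hidx : L.index ≤ 2 := by
    by_cases hdL : π d = 1
    · refine index_le_two_of_sup (mul_self hD.1 hd) (sup_zpowers_eq_top hD fun x hx => ?_)
      obtain ⟨g, rfl⟩ := class_trans hD hd hx
      refine (QuotientGroup.eq_one_iff _).1 (show π _ = 1 from ?_)
      simp [map_mul, hdL]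
    have hall : ∀ x ∈ D, π x ≠ 1 := fun x hx => by
      obtain ⟨g, rfl⟩ := class_trans hD hd hx
      rw [map_mul, map_mul, map_inv]
      exact fun h => hdL (conj_eq_one_iff.1 h)
    have hgrp : IsThreeTranspositionGroup (π '' D) := by
      refine ⟨⟨?_, ?_⟩, ?_, ?_⟩
      · rintro _ ⟨x, hx, rfl⟩
        exact hnotin x hx (hall x hx)
      · rintro _ ⟨x, hx, rfl⟩ _ ⟨y, hy, rfl⟩
        rw [← map_mul, ← map_pow, ← map_pow]
        rcases hD.1.2 x hx y hy with h | h <;> simp [h]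
      · intro g _ hy
        obtain ⟨x, hx, rfl⟩ := hy
        obtain ⟨g, rfl⟩ := QuotientGroup.mk'_surjective L g
        exact ⟨g * x * g⁻¹, class_conj hD g x hx, by simp [π]⟩
      · rw [← MonoidHom.map_closure, hD.2.2]
        exact Subgroup.map_top_of_surjective π (QuotientGroup.mk'_surjective L)
    have hone : ∀ p ∈ π '' D, ∀ q ∈ π '' D, Commute p q → p = q := by
      rintro _ ⟨x, hx, rfl⟩ _ ⟨y, hy, rfl⟩ hc
      exact hsq x y hx hy hc
    have hprod : ∀ x ∈ D, π (d * x) ∈ pCore 3 (G ⧸ L) := fun x hx => by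
      rw [map_mul]
      exact widthOne (G ⧸ L) _ hgrp hone _ ⟨d, hd, rfl⟩ _ ⟨x, hx, rfl⟩
    have hle : (commutator G).map π ≤ pCore 3 (G ⧸ L) := by
      have hsup : (pCore 3 (G ⧸ L)).comap π ⊔ Subgroup.zpowers d = ⊤ :=
        sup_zpowers_eq_top hD hprod
      exact Subgroup.map_le_iff_le_comap.2
        (commutator_le_of_index_le_two (index_le_two_of_sup (mul_self hD.1 hd) hsup))
    haveI := (CfsgLib.Core.isPGroup_pCore 3 (G ⧸ L)).isNilpotent
    have hbot : (commutator G).map π = ⊥ := by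
      by_contra hne
      let M := pCore 3 (G ⧸ L)
      let K : Subgroup M := ((commutator G).map π).subgroupOf M
      have hKne : K ≠ ⊥ := fun h => hne (by
        have := congrArg (Subgroup.map M.subtype) h
        rwa [Subgroup.map_subgroupOf_eq_of_le hle, Subgroup.map_bot] at this)
      refine (Group.IsSolvable.commutator_lt_of_ne_bot hKne).ne ?_
      apply Subgroup.map_injective M.subtype_injective
      rw [Subgroup.map_commutator, Subgroup.map_subgroupOf_eq_of_le hle, ← Subgroup.map_commutator, hperf]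
    refine index_le_two_of_sup (mul_self hD.1 hd) (sup_zpowers_eq_top hD fun x hx => ?_)
    refine (QuotientGroup.eq_one_iff _).1 (show π _ = 1 from ?_)
    rw [← Subgroup.mem_bot, ← hbot]
    obtain ⟨g, rfl⟩ := class_trans hD hd hx
    refine Subgroup.mem_map_of_mem π ?_
    rw [show d * (g * d * g⁻¹) = ⁅d, g⁆ by
      rw [commutatorElement_def, inv_eq hD.1 hd]; simp only [mul_assoc]]
    exact Subgroup.commutator_mem_commutator (Subgroup.mem_top d) (Subgroup.mem_top g)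
  exact ⟨hD, hD2, hw, primitive_of_quasisimple hD hD2 hL.2 hidx hF (gFitting_eq hD hL.2 hidx hF), hpc 2⟩

theorem isPGroup_two_closure_of_commute (hS : IsThreeTranspositionSet D) {E : Set G} (hE : E ⊆ D)
    (hc : ∀ a ∈ E, ∀ b ∈ E, Commute a b) : IsPGroup 2 ↥(Subgroup.closure E) := by
  have h : ∀ x ∈ Subgroup.closure E, x * x = 1 ∧ ∀ e ∈ E, Commute e x := by
    intro x hx
    induction hx using Subgroup.closure_induction with
    | mem y hy => exact ⟨mul_self hS (hE hy), fun e he => hc e he y hy⟩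
    | one => exact ⟨mul_one 1, fun e _ => Commute.one_right e⟩
    | mul p q hp hq ihp ihq =>
      refine ⟨?_, fun e he => (ihp.2 e he).mul_right (ihq.2 e he)⟩
      have hpq : Commute p q := (commute_closure (fun t ht => (ihp.2 t ht).symm) hq)
      rw [show p * q * (p * q) = p * (q * p) * q by simp only [mul_assoc], ← hpq.eq,
        show p * (p * q) * q = p * p * (q * q) by simp only [mul_assoc], ihp.1, ihq.1, mul_one]
    | inv p _ ihp => exact ⟨by rw [← mul_inv_rev, ihp.1, inv_one], fun e he => (ihp.2 e he).inv_right⟩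
  exact fun x => ⟨1, Subtype.ext (by simpa [pow_two] using (h x.1 x.2).1)⟩

theorem commute_of_pgroup (hS : IsThreeTranspositionSet D) {P : Subgroup G} (hP : IsPGroup 2 P) {a b : G}
    (ha : a ∈ D) (hb : b ∈ D) (haP : a ∈ P) (hbP : b ∈ P) : Commute a b := by
  by_contra h
  obtain ⟨k, hk⟩ := hP ⟨a * b, mul_mem haP hbP⟩
  have h3 : 3 ∣ 2 ^ k := orderOf_mul hS ha hb h ▸ orderOf_dvd_of_pow_eq_one (congrArg Subtype.val hk)
  exact absurd (Nat.prime_three.dvd_of_dvd_pow h3) (by norm_num)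

/-- A maximum commuting set is the trace of every 2-subgroup containing it. -/
theorem trace_eq (hS : IsThreeTranspositionSet D) {E : Set G} (hE : E ⊆ D)
    (hmax : ∀ E' : Set G, E' ⊆ D → (∀ a ∈ E', ∀ b ∈ E', Commute a b) → E'.ncard ≤ E.ncard)
    {P : Subgroup G} (hP : IsPGroup 2 P) (hEP : E ⊆ P) : {y | y ∈ D ∧ y ∈ P} = E :=
  (Set.eq_of_subset_of_ncard_le (t := {y | y ∈ D ∧ y ∈ P}) (fun y hy => ⟨hE hy, hEP hy⟩)
    (hmax _ (fun y hy => hy.1) fun a ha b hb => commute_of_pgroup hS hP ha.1 hb.1 ha.2 hb.2)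
    (Set.toFinite _)).symm

omit [Finite G] in
theorem mem_normalizer_of_image {E : Set G} {g : G} (h : (fun x => g * x * g⁻¹) '' E = E) :
    g ∈ Subgroup.normalizer E := by
  show ∀ x, x ∈ E ↔ g * x * g⁻¹ ∈ E
  intro x
  constructor
  · intro hx; rw [← h]; exact ⟨x, hx, rfl⟩
  · intro hx
    rw [← h] at hx
    obtain ⟨y, hy, e⟩ := hx
    rwa [← mul_left_cancel (mul_right_cancel e)]

theorem Setting.maximal_set_two_transitive (S : Setting D) {E : Set G} (hE : E ⊆ D)
    (hcomm : ∀ a ∈ E, ∀ b ∈ E, Commute a b)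
    (hmax : ∀ E' : Set G, E' ⊆ D → (∀ a ∈ E', ∀ b ∈ E', Commute a b) → E'.ncard ≤ E.ncard)
    {a b c e : G} (ha : a ∈ E) (hb : b ∈ E) (hc : c ∈ E) (he : e ∈ E) (hab : a ≠ b) (hce : c ≠ e) :
    ∃ g ∈ Subgroup.normalizer E, g * a * g⁻¹ = c ∧ g * b * g⁻¹ = e := by
  have hS := S.cls.1
  have hconj := class_conj S.cls
  obtain ⟨g₁, rfl⟩ := class_trans S.cls (hE ha) (hE hc)
  have hb1 : Commute (g₁ * a * g₁⁻¹) (g₁ * b * g₁⁻¹) := commute_conj_iff.2 (hcomm a ha b hb)
  obtain ⟨g₂, hg₂, e₂⟩ := S.commute_transitive (hE hc) (hconj g₁ b (hE hb))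
    (fun h => hab (mul_left_cancel (mul_right_cancel h)).symm) hb1 (hE he) (Ne.symm hce) (hcomm _ hc _ he)
  set g := g₂ * g₁ with hg
  have ga : g * a * g⁻¹ = g₁ * a * g₁⁻¹ := by
    rw [hg, show g₂ * g₁ * a * (g₂ * g₁)⁻¹ = g₂ * (g₁ * a * g₁⁻¹) * g₂⁻¹ by group, hg₂.eq, mul_inv_cancel_right]
  have gb : g * b * g⁻¹ = e := by rw [← e₂, hg]; group
  let E' : Set G := (fun x => g * x * g⁻¹) '' E
  let C : Subgroup G := Subgroup.centralizer {g₁ * a * g₁⁻¹, e}
  have hE'c : ∀ x ∈ E', ∀ y ∈ E', Commute x y := by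
    rintro _ ⟨x, hx, rfl⟩ _ ⟨y, hy, rfl⟩
    exact commute_conj_iff.2 (hcomm x hx y hy)
  have hE'D : E' ⊆ D := by
    rintro _ ⟨x, hx, rfl⟩
    exact hconj g x (hE hx)
  have hin : ∀ T : Set G, (∀ x ∈ T, ∀ y ∈ T, Commute x y) → g₁ * a * g₁⁻¹ ∈ T → e ∈ T →
      Subgroup.closure T ≤ C := by
    intro T hT h1 h2
    refine (Subgroup.closure_le _).2 fun x hx => Subgroup.mem_centralizer_iff.2 ?_
    rintro y (rfl | rfl)
    · exact hT _ h1 x hx
    · exact hT _ h2 x hx
  have hEC := hin E hcomm hc he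
  have hE'C := hin E' hE'c ⟨a, ha, ga⟩ ⟨b, hb, gb⟩
  have hp1 : IsPGroup 2 ↥((Subgroup.closure E).subgroupOf C) :=
    (isPGroup_two_closure_of_commute hS hE hcomm).of_equiv (Subgroup.subgroupOfEquivOfLe hEC).symm
  have hp2 : IsPGroup 2 ↥((Subgroup.closure E').subgroupOf C) :=
    (isPGroup_two_closure_of_commute hS hE'D hE'c).of_equiv (Subgroup.subgroupOfEquivOfLe hE'C).symm
  haveI : Fact (Nat.Prime 2) := ⟨Nat.prime_two⟩
  obtain ⟨P₁, hP₁⟩ := hp1.exists_le_sylow
  obtain ⟨P₂, hP₂⟩ := hp2.exists_le_sylow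
  obtain ⟨k, hk⟩ := MulAction.exists_smul_eq C P₂ P₁
  let P : Subgroup G := (P₁ : Subgroup C).map C.subtype
  have hP : IsPGroup 2 P := P₁.2.map C.subtype
  have hEP : E ⊆ P := fun x hx =>
    ⟨⟨x, hEC (Subgroup.subset_closure hx)⟩, hP₁ (Subgroup.subset_closure hx), rfl⟩
  have hkP : (fun x => (k : G) * x * (k : G)⁻¹) '' E' ⊆ P := by
    rintro _ ⟨x, hx, rfl⟩
    refine ⟨k * ⟨x, hE'C (Subgroup.subset_closure hx)⟩ * k⁻¹, ?_, rfl⟩
    rw [← hk]
    exact ⟨⟨x, hE'C (Subgroup.subset_closure hx)⟩, hP₂ (Subgroup.subset_closure hx), rfl⟩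
  refine ⟨k * g, mem_normalizer_of_image ?_, ?_, ?_⟩
  · refine Set.eq_of_subset_of_ncard_le ?_ (le_of_eq ?_) (Set.toFinite _)
    · rintro _ ⟨x, hx, rfl⟩
      have hmem := hkP ⟨_, ⟨x, hx, rfl⟩, rfl⟩
      rw [← trace_eq hS hE hmax hP hEP]
      refine ⟨hconj _ x (hE hx), ?_⟩
      show (k : G) * g * x * ((k : G) * g)⁻¹ ∈ P
      rw [show (k : G) * g * x * ((k : G) * g)⁻¹ = k * (g * x * g⁻¹) * (k : G)⁻¹ by group]
      exact hmem
    · exact (Set.ncard_image_of_injective _ fun x y h => mul_left_cancel (mul_right_cancel h)).symm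
  · have := Subgroup.mem_centralizer_iff.1 k.2 (g₁ * a * g₁⁻¹) (Or.inl rfl)
    rw [show (k : G) * g * a * ((k : G) * g)⁻¹ = k * (g * a * g⁻¹) * (k : G)⁻¹ by group, ga, ← this,
      mul_inv_cancel_right]
  · have := Subgroup.mem_centralizer_iff.1 k.2 e (Or.inr rfl)
    rw [show (k : G) * g * b * ((k : G) * g)⁻¹ = k * (g * b * g⁻¹) * (k : G)⁻¹ by group, gb, ← this,
      mul_inv_cancel_right]

end CfsgLib.ThreeTrans.RankThree
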