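import Cfsg.Agent.Lib.Sporadic.Orbits
import Cfsg.Agent.Lib.ThreeTrans.M24InvData

/-!
The two classes of involutions of M24, by enumerating the 76 involutions containing two given
transpositions.
-/

set_option autoImplicit false

namespace CfsgLib.ThreeTrans.M24Inv

open Cfsg CfsgLib.Sporadic MulAction
open scoped Pointwise

/-- The permutations of the coset of the four-point stabiliser. -/
noncomputable def cands : List ℕ :=
  (pone :: m24Trans4).flatMap fun a => (pone :: m24Trans5).flatMap fun b =>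
    (pone :: m24Trans6).map fun c => pmul swapPerm (pmul a (pmul b c))

/-- Two packed permutations have the same 24 images. -/
noncomputable def peq (p q : ℕ) : Bool := forallLt 24 fun i => Nat.beq (pget p i) (pget q i)

/-- A candidate is not an involution, or has a conjugator to a representative. -/
noncomputable def goodCand (g : ℕ) : Bool :=
  !peq (pmul g g) pone || certs.any fun e => Nat.beq e.1 g &&
    (Nat.beq (pmul e.2 repEight) (pmul g e.2) || Nat.beq (pmul e.2 repZero) (pmul g e.2))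

theorem cands_ok : cands.all goodCand = true := by decide +kernel

theorem certs_aut : certs.all (fun e => isAut e.2) = true := by decide +kernel

theorem reps_ok : isAut swapPerm = true ∧ isAut repEight = true ∧ isAut repZero = true ∧
    pget swapPerm 23 = 0 ∧ pget swapPerm 0 = 23 ∧ pget swapPerm 1 = 2 ∧ pget swapPerm 2 = 1 ∧
    peq (pmul repEight repEight) pone = true ∧ peq repEight pone = false ∧
    peq (pmul repZero repZero) pone = true ∧ peq repZero pone = false := by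
  decide +kernel

/-- The mask of the fixed points of a packed permutation. -/
noncomputable def fixMask (p : ℕ) : ℕ := maskLt 24 fun i => Nat.beq (pget p i) i

theorem fixMask_ok : inCode (fixMask repEight) = true ∧ popc (fixMask repEight) = 8 ∧
    fixMask repZero = 0 ∧ fixMask repEight < 2 ^ 24 := by decide +kernel

theorem peq_iff {σ τ : Equiv.Perm GolayPt} {p q : ℕ} (h : Rep σ p) (h' : Rep τ q) :
    peq p q = true ↔ σ = τ := by
  rw [peq, forallLt_iff]
  constructor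
  · intro e
    refine Equiv.ext fun x => ix_injective ?_
    rw [← h x, ← h' x]
    exact Nat.eq_of_beq_eq_true (e _ (ix_lt x))
  · rintro rfl k hk
    rw [← ix_pt hk, h, h', Nat.beq_eq]

theorem fix_eq {σ : Equiv.Perm GolayPt} {p : ℕ} (h : Rep σ p) :
    (Finset.univ.filter fun x => σ x = x) = setOfMask (fixMask p) := by
  ext x
  rw [Finset.mem_filter, mem_setOfMask, fixMask, testBit_maskLt]
  simp only [Finset.mem_univ, true_and, decide_eq_true_iff, Nat.beq_eq, h x, ix_lt x, ix_inj]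

theorem pmul_lt_eq {σ τ : Equiv.Perm GolayPt} {a b c d : ℕ} {σ' τ' : Equiv.Perm GolayPt}
    (ha : Rep σ a) (hb : Rep τ b) (hc : Rep σ' c) (hd : Rep τ' d) (h : pmul a b = pmul c d) :
    σ * τ = σ' * τ' :=
  Rep.unique (h ▸ ha.mul hb) (hc.mul hd)

theorem swap_not_mem {σ : Equiv.Perm GolayPt} (h0 : σ (pt 23) = pt 0) (h1 : σ (pt 0) = pt 23)
    (hfix : ∀ x, x ≠ pt 23 → x ≠ pt 0 → σ x = x) : σ ∉ M24 := by
  intro hσ
  have : σ = Equiv.swap (pt 23) (pt 0) := by
    refine Equiv.ext fun x => ?_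
    by_cases hx : x = pt 23
    · rw [hx, h0, Equiv.swap_apply_left]
    by_cases hx' : x = pt 0
    · rw [hx', h1, Equiv.swap_apply_right]
    rw [hfix x hx hx', Equiv.swap_apply_of_ne_of_ne hx hx']
  subst this
  have h1' : Equiv.swap (pt 23) (pt 0) ≠ 1 := fun e => by
    have := congrArg (fun f : Equiv.Perm GolayPt => f (pt 23)) e
    revert this
    decide
  obtain ⟨g, hg⟩ := exists_map_list (xs := [pt 23, pt 0]) (ys := [pt 9, pt 10])
    (by decide) (by decide) rfl (by simp)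
  simp only [List.map_cons, List.map_nil, List.cons.injEq] at hg
  change g.1 _ = _ ∧ g.1 _ = _ ∧ _ at hg
  have hconj : g.1 * Equiv.swap (pt 23) (pt 0) * g.1⁻¹ ∈ M24 :=
    mul_mem (mul_mem g.2 hσ) (inv_mem g.2)
  have e : g.1 * Equiv.swap (pt 23) (pt 0) * g.1⁻¹ = Equiv.swap (pt 9) (pt 10) := by
    rw [← Equiv.swap_apply_apply, hg.1, hg.2.1]
  rw [e] at hconj
  have := eq_one_of_fix_base hconj (fun i hi => by
    revert hi; revert i; decide)
  have h9 := congrArg (fun f : Equiv.Perm GolayPt => f (pt 9)) this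
  revert h9
  decide

/-- An element of `M24` with the two given transpositions is in the list. -/
theorem mem_cands {σ : Equiv.Perm GolayPt} (hσ : σ ∈ M24) (h23 : σ (pt 23) = pt 0)
    (h0 : σ (pt 0) = pt 23) (h1 : σ (pt 1) = pt 2) (h2 : σ (pt 2) = pt 1) :
    ∃ p ∈ cands, Rep σ p := by
  obtain ⟨s, hs, hsr⟩ := exists_mem_M24 reps_ok.1
  obtain ⟨-, -, -, e23, e0, e1, e2, -⟩ := reps_ok
  have hsv : ∀ i < 24, ∀ j, pget swapPerm i = j → s (pt i) = pt j := by
    intro i hi j e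
    rw [← pt_ix (s (pt i)), ← hsr, ix_pt hi, e]
  have hk : s⁻¹ * σ ∈ fixOf M24 [2, 1, 0, 23] := by
    refine mem_fixOf.2 ⟨mul_mem (inv_mem hs) hσ, fun c hc => ?_⟩
    rw [Equiv.Perm.mul_apply, Equiv.Perm.inv_eq_iff_eq]
    fin_cases hc
    · rw [h2, hsv 2 (by norm_num) 1 e2]
    · rw [h1, hsv 1 (by norm_num) 2 e1]
    · rw [h0, hsv 0 (by norm_num) 23 e0]
    · rw [h23, hsv 23 (by norm_num) 0 e23]
  have step : ∀ (pre : List ℕ) (b : ℕ) (t : List ℕ) (O : ℕ), levelOK pre b t O = true →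
      (∀ p ∈ t, ∃ τ ∈ M24, Rep τ p) → ∀ k ∈ fixOf M24 pre, k (pt b) ∈ setOfMask O →
      ∃ a ∈ pone :: t, ∃ τ, Rep τ a ∧ τ⁻¹ * k ∈ fixOf M24 (b :: pre) := by
    intro pre b t O hlev hK k hk hx
    simp only [levelOK, Bool.and_eq_true, List.all_eq_true, Nat.beq_eq, Nat.blt_eq] at hlev
    obtain ⟨⟨⟨hb, hpre⟩, hfix⟩, hO⟩ := hlev
    rw [mem_setOfMask, ← hO, testBit_bitmap] at hx
    obtain ⟨v, hv, he⟩ := hx
    rcases List.mem_cons.1 hv with rfl | hv
    · refine ⟨pone, List.mem_cons_self .., 1, Rep.one, ?_⟩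
      rw [inv_one, one_mul, mem_fixOf]
      refine ⟨(mem_fixOf.1 hk).1, fun c hc => ?_⟩
      rcases List.mem_cons.1 hc with rfl | hc
      · rw [← pt_ix (k (pt c)), ← he]; rfl
      · exact (mem_fixOf.1 hk).2 c hc
    · obtain ⟨p, hp, rfl⟩ := List.mem_map.1 hv
      obtain ⟨τ, hτ, hr⟩ := hK p hp
      refine ⟨p, List.mem_cons_of_mem _ hp, τ, hr, mem_fixOf.2 ⟨mul_mem (inv_mem hτ)
        (mem_fixOf.1 hk).1, fun c hc => ?_⟩⟩
      rw [Equiv.Perm.mul_apply, Equiv.Perm.inv_eq_iff_eq]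
      rcases List.mem_cons.1 hc with rfl | hc
      · apply ix_injective
        rw [← he, ← hr, ix_pt hb]; rfl
      · rw [(mem_fixOf.1 hk).2 c hc]
        apply ix_injective
        rw [← hr, ix_pt (hpre c hc), hfix p hp c hc]
  have hoct : setOfMask 8536111 ∈ octads := by
    rw [mem_octads_iff, maskOf_setOfMask (by norm_num)]; decide +kernel
  obtain ⟨a, ha, α, hα, hk1⟩ := step _ _ _ _ level4 (m24Trans_mem _ (by simp [m24Trans])) _ hk
    (mem_compl_of_fix (K := M24) (pre := [2, 1, 0, 23]) (b := 3) (by decide) (by decide +kernel)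
      _ hk)
  have inO : ∀ τ ∈ fixOf M24 [3, 2, 1, 0, 23], τ • setOfMask 8536111 = setOfMask 8536111 := by
    intro τ hτ
    refine smul_eq_of_fix_five (mem_fixOf.1 hτ).1 hoct (s := setOfMask 8388623)
      (by decide +kernel) (by decide +kernel) fun x hx => ?_
    have hc : ix x ∈ [3, 2, 1, 0, 23] := by revert hx; revert x; decide +kernel
    have := (mem_fixOf.1 hτ).2 _ hc
    rwa [pt_ix] at this
  obtain ⟨b, hb, β, hβ, hk2⟩ := step _ _ _ _ level5 (m24Trans_mem _ (by simp [m24Trans])) _ hk1 (by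
    have hin : (α⁻¹ * (s⁻¹ * σ)) (pt 5) ∈ setOfMask 8536111 := by
      rw [← inO _ hk1]
      exact Finset.smul_mem_smul_finset (a := α⁻¹ * (s⁻¹ * σ)) (by decide +kernel)
    have hout : ∀ c ∈ [3, 2, 1, 0, 23], (α⁻¹ * (s⁻¹ * σ)) (pt 5) ≠ pt c := fun c hc e => by
      rw [← (mem_fixOf.1 hk1).2 c hc] at e
      have h' := (α⁻¹ * (s⁻¹ * σ)).injective e
      clear e
      revert c; decide
    revert hin hout
    generalize (α⁻¹ * (s⁻¹ * σ)) (pt 5) = y
    revert y; decide +kernel)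
  obtain ⟨c, hc, γ, hγ, hk3⟩ := step _ _ _ _ level6 (m24Trans_mem _ (by simp [m24Trans])) _ hk2 (by
    have hk2' : β⁻¹ * (α⁻¹ * (s⁻¹ * σ)) ∈ fixOf M24 [3, 2, 1, 0, 23] := (Subgroup.mem_inf.1 hk2).1
    have hout : (β⁻¹ * (α⁻¹ * (s⁻¹ * σ))) (pt 4) ∉ setOfMask 8536111 := by
      rw [← inO _ hk2']
      show (β⁻¹ * (α⁻¹ * (s⁻¹ * σ))) • pt 4 ∉ _
      rw [Finset.smul_mem_smul_finset_iff]
      decide +kernel
    revert hout
    generalize (β⁻¹ * (α⁻¹ * (s⁻¹ * σ))) (pt 4) = y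
    revert y; decide +kernel)
  have hone := eq_one_of_fix_base (mem_fixOf.1 hk3).1 fun i hi =>
    (mem_fixOf.1 hk3).2 i (by simp only [List.mem_cons, List.not_mem_nil] at hi ⊢; tauto)
  refine ⟨pmul swapPerm (pmul a (pmul b c)), ?_, ?_⟩
  · exact List.mem_flatMap.2 ⟨a, ha, List.mem_flatMap.2 ⟨b, hb, List.mem_map.2 ⟨c, hc, rfl⟩⟩⟩
  · have : σ = s * (α * (β * γ)) := by
      have e := inv_mul_eq_one.1 hone
      rw [e]; group
    rw [this]
    exact hsr.mul (hα.mul (hβ.mul hγ))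

/-- An involution of `M24` is conjugate to one of the two representatives. -/
theorem conj_rep {g : Equiv.Perm GolayPt} (hg : g ∈ M24) (ho : orderOf g = 2) :
    ∃ q ∈ M24, ∃ r, (Rep r repEight ∨ Rep r repZero) ∧ q * r * q⁻¹ = g := by
  have hinv : ∀ x, g (g x) = x := fun x => by
    have := congrArg (fun f : Equiv.Perm GolayPt => f x) (ho ▸ pow_orderOf_eq_one g : g ^ 2 = 1)
    rwa [pow_two] at this
  obtain ⟨a, ha⟩ : ∃ a, g a ≠ a := by
    by_contra h
    push Not at h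
    rw [Equiv.ext h (g := (1 : Equiv.Perm GolayPt)), orderOf_one] at ho
    omega
  have hp23 : pt 23 ≠ pt 0 := by decide
  obtain ⟨b, hba, hbga, hb⟩ : ∃ b, b ≠ a ∧ b ≠ g a ∧ g b ≠ b := by
    by_contra h
    push Not at h
    obtain ⟨f, hf⟩ := exists_map_list (xs := [a, g a]) (ys := [pt 23, pt 0])
      (by simp [Ne.symm ha]) (by simp [hp23]) rfl (by simp)
    simp only [List.map_cons, List.map_nil, List.cons.injEq] at hf
    change f.1 _ = _ ∧ f.1 _ = _ ∧ _ at hf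
    refine swap_not_mem (σ := f.1 * g * f.1⁻¹) ?_ ?_ ?_ (mul_mem (mul_mem f.2 hg) (inv_mem f.2))
    · simp [← hf.1, hf.2.1]
    · simp [← hf.2.1, hinv, hf.1]
    · intro x h1 h2
      have := h (f.1⁻¹ x) (fun e => h1 (by rw [← hf.1, ← e]; simp))
        (fun e => h2 (by rw [← hf.2.1, ← e]; simp))
      show f.1 (g (f.1⁻¹ x)) = x
      rw [this]; simp
  have hgb : g b ≠ a ∧ g b ≠ g a :=
    ⟨fun e => hbga (by rw [← e, hinv]), fun e => hba (g.injective e)⟩
  obtain ⟨f, hf⟩ := exists_map_list (xs := [a, g a, b, g b]) (ys := [pt 23, pt 0, pt 1, pt 2])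
    (by simp [Ne.symm ha, Ne.symm hb, Ne.symm hba, Ne.symm hbga, Ne.symm hgb.1, Ne.symm hgb.2])
    (by decide) rfl (by simp)
  simp only [List.map_cons, List.map_nil, List.cons.injEq] at hf
  change f.1 _ = _ ∧ f.1 _ = _ ∧ f.1 _ = _ ∧ f.1 _ = _ ∧ _ at hf
  obtain ⟨f1, f2, f3, f4, -⟩ := hf
  let σ := f.1 * g * f.1⁻¹
  have hσ : σ ∈ M24 := mul_mem (mul_mem f.2 hg) (inv_mem f.2)
  obtain ⟨p, hp, hrep⟩ := mem_cands hσ (by simp [σ, ← f1, f2]) (by simp [σ, ← f2, hinv, f1])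
    (by simp [σ, ← f3, f4]) (by simp [σ, ← f4, hinv, f3])
  have hgood := cands_ok
  rw [List.all_eq_true] at hgood
  have := hgood p hp
  have hsq : peq (pmul p p) pone = true := by
    have h1 : σ * σ = 1 := by
      show f.1 * g * f.1⁻¹ * (f.1 * g * f.1⁻¹) = 1
      rw [show f.1 * g * f.1⁻¹ * (f.1 * g * f.1⁻¹) = f.1 * (g * g) * f.1⁻¹ by group,
        show g * g = 1 from Equiv.ext hinv]
      group
    exact (peq_iff (hrep.mul hrep) Rep.one).2 h1
  rw [goodCand, hsq] at this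
  simp only [Bool.not_true, Bool.false_or,
    List.any_eq_true, Bool.and_eq_true, Bool.or_eq_true] at this
  obtain ⟨e, he, hep, hcase⟩ := this
  obtain rfl : e.1 = p := Nat.eq_of_beq_eq_true hep
  have hca := certs_aut
  rw [List.all_eq_true] at hca
  obtain ⟨q, hq, hqr⟩ := exists_mem_M24 (hca e he)
  obtain ⟨-, h8, h0', -⟩ := reps_ok
  have fin : ∀ (r : Equiv.Perm GolayPt) (rp : ℕ), Rep r rp → pmul e.2 rp = pmul e.1 e.2 →
      ∃ q ∈ M24, q * r * q⁻¹ = g := by
    intro r rp hr heq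
    have h := pmul_lt_eq hqr hr hrep hqr heq
    refine ⟨f.1⁻¹ * q, mul_mem (inv_mem f.2) hq, ?_⟩
    rw [show f.1⁻¹ * q * r * (f.1⁻¹ * q)⁻¹ = f.1⁻¹ * (q * r) * q⁻¹ * f.1 by group, h]
    show f.1⁻¹ * (f.1 * g * f.1⁻¹ * q) * q⁻¹ * f.1 = g
    group
  rcases hcase with hc | hc
  · obtain ⟨r, -, hr⟩ := exists_mem_M24 h8
    obtain ⟨q', hq', e'⟩ := fin r _ hr (Nat.eq_of_beq_eq_true hc)
    exact ⟨q', hq', r, Or.inl hr, e'⟩
  · obtain ⟨r, -, hr⟩ := exists_mem_M24 h0'
    obtain ⟨q', hq', e'⟩ := fin r _ hr (Nat.eq_of_beq_eq_true hc)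
    exact ⟨q', hq', r, Or.inr hr, e'⟩

theorem rep_props {r : Equiv.Perm GolayPt} {p : ℕ} (h : Rep r p) (hsq : peq (pmul p p) pone = true)
    (hne : peq p pone = false) : orderOf r = 2 := by
  refine orderOf_eq_prime (by rw [pow_two]; exact (peq_iff (h.mul h) Rep.one).1 hsq) fun e => ?_
  rw [(peq_iff h Rep.one).2 e] at hne
  exact Bool.noConfusion hne

theorem fix_conj {q r : Equiv.Perm GolayPt} :
    (Finset.univ.filter fun x => (q * r * q⁻¹) x = x) =
      q • Finset.univ.filter fun x => r x = x := by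
  ext x
  rw [Finset.mem_smul_finset, Finset.mem_filter]
  constructor
  · rintro ⟨-, h⟩
    refine ⟨q⁻¹ x, Finset.mem_filter.2 ⟨Finset.mem_univ _, ?_⟩, by simp [Equiv.Perm.smul_def]⟩
    change q (r (q⁻¹ x)) = x at h
    exact q.injective (h.trans (by simp))
  · rintro ⟨y, hy, rfl⟩
    refine ⟨Finset.mem_univ _, ?_⟩
    have hy' := (Finset.mem_filter.1 hy).2
    show q (r (q⁻¹ (q y))) = q y
    rw [show q⁻¹ (q y) = y by simp, hy']

theorem main : (∀ g ∈ M24, orderOf g = 2 → (Finset.univ.filter fun p => g p = p) ∈ octads ∨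
      ∀ p, g p ≠ p) ∧
    (∃ g ∈ M24, orderOf g = 2 ∧ (Finset.univ.filter fun p => g p = p) ∈ octads) ∧
    (∃ g ∈ M24, orderOf g = 2 ∧ ∀ p, g p ≠ p) ∧
    ∀ g ∈ M24, ∀ h ∈ M24, orderOf g = 2 → orderOf h = 2 →
      ((∀ p, g p ≠ p) ↔ (∀ p, h p ≠ p)) → ∃ k ∈ M24, k * g * k⁻¹ = h := by
  obtain ⟨-, h8, h0, -, -, -, -, s8, n8, s0, n0⟩ := reps_ok
  obtain ⟨c1, c2, c3, c4⟩ := fixMask_ok
  obtain ⟨r8, hr8m, hr8⟩ := exists_mem_M24 h8
  obtain ⟨r0, hr0m, hr0⟩ := exists_mem_M24 h0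
  have o8 : orderOf r8 = 2 := rep_props hr8 s8 n8
  have o0 : orderOf r0 = 2 := rep_props hr0 s0 n0
  have f8 : (Finset.univ.filter fun p => r8 p = p) ∈ octads := by
    rw [fix_eq hr8, mem_octads_iff, maskOf_setOfMask c4]; exact ⟨c1, c2⟩
  have f0 : ∀ p, r0 p ≠ p := fun p hp => by
    have : p ∈ Finset.univ.filter fun x => r0 x = x := by simp [hp]
    rw [fix_eq hr0, c3] at this
    simp at this
  have key : ∀ g ∈ M24, orderOf g = 2 → ∃ q ∈ M24,
      (q * r8 * q⁻¹ = g ∧ (Finset.univ.filter fun p => g p = p) ∈ octads ∧ ¬ ∀ p, g p ≠ p) ∨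
      (q * r0 * q⁻¹ = g ∧ ∀ p, g p ≠ p) := by
    intro g hg ho
    obtain ⟨q, hq, r, hr, e⟩ := conj_rep hg ho
    rcases hr with hr | hr
    · obtain rfl := Rep.unique hr hr8
      refine ⟨q, hq, Or.inl ⟨e, ?_, ?_⟩⟩
      · rw [← e, fix_conj]; exact (smul_mem_octads hq).2 f8
      · intro hall
        have h := ((smul_mem_octads hq).2 f8).2
        rw [← fix_conj, e] at h
        rw [Finset.filter_eq_empty_iff.2 fun p _ => hall p] at h
        simp at h
    · obtain rfl := Rep.unique hr hr0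
      refine ⟨q, hq, Or.inr ⟨e, fun p hp => f0 (q⁻¹ p) ?_⟩⟩
      rw [← e] at hp
      have := congrArg (q⁻¹ : Equiv.Perm GolayPt) hp
      simpa using this
  refine ⟨fun g hg ho => ?_, ⟨r8, hr8m, o8, f8⟩, ⟨r0, hr0m, o0, f0⟩, ?_⟩
  · obtain ⟨q, -, h | h⟩ := key g hg ho
    · exact Or.inl h.2.1
    · exact Or.inr h.2
  · intro g hg h hh og oh hiff
    obtain ⟨q, hq, hq'⟩ := key g hg og
    obtain ⟨t, ht, ht'⟩ := key h hh oh
    refine ⟨t * q⁻¹, mul_mem ht (inv_mem hq), ?_⟩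
    rcases hq' with ⟨e, -, hn⟩ | ⟨e, hy⟩ <;> rcases ht' with ⟨e', -, hn'⟩ | ⟨e', hy'⟩
    · rw [← e, ← e']; group
    · exact absurd (hiff.2 hy') hn
    · exact absurd (hiff.1 hy) hn'
    · rw [← e, ← e']; group

end CfsgLib.ThreeTrans.M24Inv
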