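import Cfsg.Agent.Lib.Sporadic.M11Subgroups
import Cfsg.Agent.Lib.ThreeTrans.M24Inv
import Cfsg.Prelude.Def_Spor_Mathieu

/-!
Hexads on a dodecad; outer automorphisms of the small Mathieu groups seen inside M24.
-/

set_option autoImplicit false

namespace CfsgLib.ThreeTrans.M24Sub

open Cfsg CfsgLib.Sporadic MulAction
open scoped Pointwise

theorem five_unique {d : Finset GolayPt} (hd : d ∈ dodecads) {E : Finset GolayPt} (hsub : E ⊆ d)
    (hE : 5 ≤ E.card) {g : ↥M24} (hg : g ∈ stabilizer ↥M24 d) (hfix : ∀ x ∈ E, g • x = x) : g = 1 := by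
  obtain ⟨s, hs, hsc⟩ := Finset.exists_subset_card_eq hE
  let x : Fin 5 ↪ GolayPt := (s.equivFinOfCardEq hsc).symm.toEmbedding.trans (Function.Embedding.subtype _)
  have hx : ∀ i, x i ∈ d := fun i => hsub (hs ((s.equivFinOfCardEq hsc).symm i).2)
  obtain ⟨u, -, huniq⟩ := existsUnique_map_dodecad hd x x hx hx
  have h1 : (⟨g, hg⟩ : ↥(stabilizer ↥M24 d)) = u :=
    huniq _ fun i => hfix _ (hs ((s.equivFinOfCardEq hsc).symm i).2)
  have h2 : (1 : ↥(stabilizer ↥M24 d)) = u := huniq _ fun i => one_smul _ _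
  exact congrArg Subtype.val (h1.trans h2.symm)

theorem hexad_symmetric {d : Finset GolayPt} (hd : d ∈ dodecads) {C : Finset GolayPt}
    (hC : C ∈ hexadsOn d) :
    Nonempty (↥(stabilizer ↥M24 d ⊓ stabilizer ↥M24 C) ≃* Equiv.Perm (Fin 6)) ∧
    (∀ g ∈ stabilizer ↥M24 d ⊓ stabilizer ↥M24 C,
      (∀ p ∈ C, ((g : ↥M24) : Equiv.Perm GolayPt) p = p) → g = 1) ∧
    ∀ g ∈ stabilizer ↥M24 d ⊓ stabilizer ↥M24 C,
      (∀ p ∈ d \ C, ((g : ↥M24) : Equiv.Perm GolayPt) p = p) → g = 1 := by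
  classical
  obtain ⟨h6, o, ho, rfl⟩ := hC
  have hsub : o ∩ d ⊆ d := Finset.inter_subset_right
  refine ⟨?_, fun g hg h => five_unique hd hsub (by omega) hg.1 h,
    fun g hg h => five_unique hd Finset.sdiff_subset
      (by rw [Finset.card_sdiff_of_subset hsub, hd.2, h6]; norm_num) hg.1 h⟩
  let K : Subgroup ↥M24 := stabilizer ↥M24 d ⊓ stabilizer ↥M24 (o ∩ d)
  let φ : ↥K →* Equiv.Perm ↥(o ∩ d) :=
    { toFun := fun g => Equiv.Perm.subtypePerm ((g : ↥M24) : Equiv.Perm GolayPt) fun x =>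
        smul_mem_of_stab (g := g.1) g.2.2
      map_one' := rfl
      map_mul' := fun _ _ => rfl }
  have hinj : Function.Injective φ := by
    rw [injective_iff_map_eq_one]
    intro g hg
    exact Subtype.ext (five_unique hd hsub (by omega) g.2.1 fun x hx =>
      congrArg (fun e : Equiv.Perm ↥(o ∩ d) => (e ⟨x, hx⟩ : GolayPt)) hg)
  have hsurj : Function.Surjective φ := by
    intro σ
    let e6 := ((o ∩ d).equivFinOfCardEq h6).symm
    let x : Fin 5 ↪ GolayPt := ((Fin.castLEEmb (by norm_num : 5 ≤ 6)).trans e6.toEmbedding).trans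
      (Function.Embedding.subtype _)
    let y : Fin 5 ↪ GolayPt := ((Fin.castLEEmb (by norm_num : 5 ≤ 6)).trans (e6.trans σ).toEmbedding).trans
      (Function.Embedding.subtype _)
    obtain ⟨g, hg, e⟩ := exists_map_dodecad hd le_rfl x y (fun i => hsub (e6 _).2) (fun i => hsub (σ _).2)
    have hgo : g • o = o := by
      refine eq_of_inter_five ((smul_mem_octads' g).2 ho) ho ?_
      calc (5 : ℕ) = (Finset.univ.map y).card := by simp
        _ ≤ _ := Finset.card_le_card fun z hz => by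
          obtain ⟨i, -, rfl⟩ := Finset.mem_map.1 hz
          refine Finset.mem_inter.2 ⟨?_, (Finset.mem_inter.1 (σ _).2).1⟩
          rw [← e i]
          exact (mem_smul_set g).2 (Finset.mem_inter.1 (e6 _).2).1
    have hgC : g • (o ∩ d) = o ∩ d := by rw [smul_inter', hgo, mem_stabilizer_iff.1 hg]
    refine ⟨⟨g, Subgroup.mem_inf.2 ⟨hg, hgC⟩⟩, ?_⟩
    let G : ↥K := ⟨g, Subgroup.mem_inf.2 ⟨hg, hgC⟩⟩
    refine Equiv.ext fun p => ?_
    obtain ⟨i, rfl⟩ := e6.surjective p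
    show φ G (e6 i) = σ (e6 i)
    by_cases hi : i.val < 5
    · exact Subtype.ext (e ⟨i.val, hi⟩)
    · obtain ⟨j, hj⟩ := (e6.trans σ).surjective (φ G (e6 i))
      by_cases hj5 : j.val < 5
      · exfalso
        have h1 : φ G (e6 ⟨j.val, by omega⟩) = σ (e6 ⟨j.val, by omega⟩) := Subtype.ext (e ⟨j.val, hj5⟩)
        have h2 : φ G (e6 ⟨j.val, by omega⟩) = φ G (e6 i) := h1.trans hj
        exact hi (by rw [← e6.injective ((φ G).injective h2)]; exact hj5)
      · have : j = i := Fin.ext (by omega)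
        rw [← hj, this]; rfl
  exact ⟨(MulEquiv.ofBijective φ ⟨hinj, hsurj⟩).trans (Equiv.permCongrHom ((o ∩ d).equivFinOfCardEq h6))⟩

theorem pair_stab {g : Equiv.Perm GolayPt} (hg : g ∈ M24) (h₁ : g none = some 0) (h₂ : g (some 0) = none) :
    Spor.M22.relIndex (M24 ⊓ stabilizer (Equiv.Perm GolayPt) ({none, some 0} : Finset GolayPt)) = 2 ∧
    (∀ x ∈ Spor.M22, g * x * g⁻¹ ∈ Spor.M22) ∧
    ¬ ∃ h ∈ Spor.M22, ∀ x ∈ Spor.M22, g * x * g⁻¹ = h * x * h⁻¹ := by
  have mem22 : ∀ x, x ∈ Spor.M22 ↔ x ∈ M24 ∧ x none = none ∧ x (some 0) = some 0 := fun x =>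
    ⟨fun ⟨⟨a, b⟩, c⟩ => ⟨a, b, c⟩, fun ⟨a, b, c⟩ => ⟨⟨a, b⟩, c⟩⟩
  have inv_apply : ∀ (x : Equiv.Perm GolayPt) a b, x a = b → x⁻¹ b = a := fun x a b e => by
    rw [Equiv.Perm.inv_eq_iff_eq, e]
  refine ⟨?_, ?_, ?_⟩
  · rw [Subgroup.relIndex, Subgroup.index_eq_two_iff]
    have hgP : g ∈ M24 ⊓ stabilizer (Equiv.Perm GolayPt) ({none, some 0} : Finset GolayPt) := by
      refine Subgroup.mem_inf.2 ⟨hg, ?_⟩
      rw [mem_stabilizer_iff]
      show ({none, some 0} : Finset GolayPt).image g = _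
      rw [Finset.image_insert, Finset.image_singleton, h₁, h₂, Finset.pair_comm]
    refine ⟨⟨g, hgP⟩, fun b => ?_⟩
    have hb : b.1 none ∈ ({none, some 0} : Finset GolayPt) ∧ b.1 (some 0) ∈ ({none, some 0} : Finset GolayPt) := by
      have hbs : b.1 • ({none, some 0} : Finset GolayPt) = {none, some 0} := b.2.2
      exact ⟨(congrArg (fun s => b.1 none ∈ s) hbs).mp (Finset.smul_mem_smul_finset (a := b.1) (b := none) (by simp)),
        (congrArg (fun s => b.1 (some 0) ∈ s) hbs).mp (Finset.smul_mem_smul_finset (a := b.1) (b := some 0) (by simp))⟩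
    simp only [Finset.mem_insert, Finset.mem_singleton] at hb
    simp only [Subgroup.mem_subgroupOf, Subgroup.coe_mul, mem22]
    have hM : b.1 ∈ M24 := b.2.1
    have hne : b.1 none ≠ b.1 (some 0) := fun e => by cases b.1.injective e
    rcases hb.1 with e | e <;> rcases hb.2 with e' | e'
    · exact absurd (e.trans e'.symm) hne
    · refine Or.inr ⟨⟨hM, e, e'⟩, fun h => ?_⟩
      have := h.2.1
      rw [Equiv.Perm.mul_apply, h₁, e'] at this
      exact Option.some_ne_none _ this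
    · refine Or.inl ⟨⟨mul_mem hM hg, ?_, ?_⟩, fun h => ?_⟩
      · rw [Equiv.Perm.mul_apply, h₁, e']
      · rw [Equiv.Perm.mul_apply, h₂, e]
      · exact Option.some_ne_none _ (e.symm.trans h.2.1)
    · exact absurd (e.trans e'.symm) hne
  · intro x hx
    rw [mem22] at hx ⊢
    refine ⟨mul_mem (mul_mem hg hx.1) (inv_mem hg), ?_, ?_⟩
    · rw [Equiv.Perm.mul_apply, Equiv.Perm.mul_apply, inv_apply g _ _ h₂, hx.2.2, h₂]
    · rw [Equiv.Perm.mul_apply, Equiv.Perm.mul_apply, inv_apply g _ _ h₁, hx.2.1, h₁]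
  · rintro ⟨h, hh, hall⟩
    rw [mem22] at hh
    let c := h⁻¹ * g
    have hc : c ∈ M24 := mul_mem (inv_mem hh.1) hg
    have hcn : c none = some 0 := by rw [Equiv.Perm.mul_apply, h₁, inv_apply h _ _ hh.2.2]
    have hc0 : c (some 0) = none := by rw [Equiv.Perm.mul_apply, h₂, inv_apply h _ _ hh.2.1]
    have hcomm : ∀ x ∈ Spor.M22, ∀ p, c (x p) = x (c p) := fun x hx p => by
      have e : c * x = x * c := by
        have := hall x hx
        have h' : g * x = h * x * h⁻¹ * g := by rw [← this]; group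
        show h⁻¹ * g * x = x * (h⁻¹ * g)
        rw [mul_assoc, h']; group
      exact congrArg (fun f : Equiv.Perm GolayPt => f p) e
    refine M24Inv.swap_not_mem (σ := c) ?_ ?_ ?_ hc
    · exact hcn
    · exact hc0
    · intro y hyn hy0
      change y ≠ none at hyn
      change y ≠ some 0 at hy0
      by_contra hne
      have hcy1 : c y ≠ none := fun e => hy0 (c.injective (e.trans hc0.symm))
      have hcy2 : c y ≠ some 0 := fun e => hyn (c.injective (e.trans hcn.symm))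
      obtain ⟨z, hz1, hz2, hz3, hz4⟩ : ∃ z : GolayPt, z ≠ none ∧ z ≠ some 0 ∧ z ≠ y ∧ z ≠ c y := by
        generalize c y = w
        revert w; clear! c; revert y; decide +kernel
      obtain ⟨k, hk⟩ := exists_map_list (xs := [none, some 0, y, c y]) (ys := [none, some 0, y, z])
        (by simp [Ne.symm hyn, Ne.symm hy0, Ne.symm hne, Ne.symm hcy1, Ne.symm hcy2])
        (by simp [Ne.symm hyn, Ne.symm hy0, Ne.symm hz1, Ne.symm hz2, Ne.symm hz3]) rfl (by simp)
      simp only [List.map_cons, List.map_nil, List.cons.injEq, and_true] at hk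
      have := hcomm k.1 ((mem22 _).2 ⟨k.2, hk.1, hk.2.1⟩) y
      rw [show k.1 y = y from hk.2.2.1, show k.1 (c y) = z from hk.2.2.2] at this
      exact hz4 this.symm

theorem m11_classes :
    Nonempty (↥(Spor.M12 ⊓ stabilizer (Equiv.Perm GolayPt) (none : GolayPt)) ≃* ↥Spor.M11) ∧
    (¬ ∃ k ∈ Spor.M12, MulAut.conj k • Spor.M11 = Spor.M12 ⊓ stabilizer (Equiv.Perm GolayPt) (none : GolayPt)) ∧
    ∃ g ∈ M24, g • Spor.squareDodecad = Finset.univ \ Spor.squareDodecad ∧
      MulAut.conj g • Spor.M11 = Spor.M12 ⊓ stabilizer (Equiv.Perm GolayPt) (none : GolayPt) := by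
  have hd : Spor.squareDodecad ∈ dodecads := squareDodecad_eq ▸ stdD_mem
  have hdc : Spor.squareDodecadᶜ ∈ dodecads := compl_mem_dodecads hd
  have h0 : (some 0 : GolayPt) ∈ Spor.squareDodecad := squareDodecad_eq ▸ zero_in
  have hn : (none : GolayPt) ∉ Spor.squareDodecad := squareDodecad_eq ▸ none_out
  obtain ⟨a, ha, b, hb, hab⟩ := Finset.one_lt_card.1 (by rw [hd.2]; norm_num : 1 < Spor.squareDodecad.card)
  obtain ⟨g, gd, g0, -, -⟩ := m11_frame hdc (p := none) (a := a) (b := b) (Finset.mem_compl.2 hn)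
    (fun h => Finset.mem_compl.1 h ha) (fun h => Finset.mem_compl.1 h hb) hab
  rw [← squareDodecad_eq] at gd
  have gdc : g • Spor.squareDodecadᶜ = Spor.squareDodecad := by rw [smul_compl', gd, compl_compl]
  have hmem : ∀ x, x ∈ Spor.M12 ⊓ stabilizer (Equiv.Perm GolayPt) (none : GolayPt) ↔
      x ∈ M24 ∧ x • Spor.squareDodecad = Spor.squareDodecad ∧ x none = none := fun x =>
    ⟨fun ⟨⟨p, q⟩, r⟩ => ⟨p, q, r⟩, fun ⟨p, q, r⟩ => ⟨⟨p, q⟩, r⟩⟩
  have hmem11 : ∀ x, x ∈ Spor.M11 ↔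
      x ∈ M24 ∧ x • Spor.squareDodecad = Spor.squareDodecad ∧ x (some 0) = some 0 := fun x =>
    ⟨fun ⟨⟨p, q⟩, r⟩ => ⟨p, q, r⟩, fun ⟨p, q, r⟩ => ⟨⟨p, q⟩, r⟩⟩
  have compl_stab : ∀ x : ↥M24, x • Spor.squareDodecad = Spor.squareDodecad →
      x • Spor.squareDodecadᶜ = Spor.squareDodecadᶜ := fun x h => by rw [smul_compl', h]
  have hconj : MulAut.conj (g : Equiv.Perm GolayPt) • Spor.M11 =
      Spor.M12 ⊓ stabilizer (Equiv.Perm GolayPt) (none : GolayPt) := by
    ext y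
    rw [Subgroup.mem_pointwise_smul_iff_inv_smul_mem, hmem11, hmem, ← map_inv, MulAut.smul_def,
      MulAut.conj_apply, inv_inv]
    constructor
    · rintro ⟨h1, h2, h3⟩
      let k : ↥M24 := ⟨_, h1⟩
      have e : y = ((g * k * g⁻¹ : ↥M24) : Equiv.Perm GolayPt) := by simp [k, mul_assoc]
      rw [e]
      refine ⟨SetLike.coe_mem _, ?_, ?_⟩
      · show (g * k * g⁻¹) • Spor.squareDodecad = _
        rw [mul_smul, mul_smul, show g⁻¹ • Spor.squareDodecad = Spor.squareDodecadᶜ from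
          inv_smul_eq_iff.2 gdc.symm, compl_stab k h2, gdc]
      · show (g * k * g⁻¹) • (none : GolayPt) = none
        rw [mul_smul, mul_smul, inv_smul_eq_iff.2 g0.symm, show k • (some 0 : GolayPt) = some 0 from h3, g0]
    · rintro ⟨h1, h2, h3⟩
      let k : ↥M24 := ⟨y, h1⟩
      refine ⟨mul_mem (mul_mem (inv_mem g.2) h1) g.2, ?_, ?_⟩
      · show (g⁻¹ * k * g) • Spor.squareDodecad = _
        rw [mul_smul, mul_smul, gd, compl_stab k h2, inv_smul_eq_iff, gd]
      · show (g⁻¹ * k * g) • (some 0 : GolayPt) = some 0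
        rw [mul_smul, mul_smul, g0, show k • (none : GolayPt) = none from h3, inv_smul_eq_iff, g0]
  refine ⟨⟨((Subgroup.equivSMul (MulAut.conj (g : Equiv.Perm GolayPt)) Spor.M11).trans
    (MulEquiv.subgroupCongr hconj)).symm⟩, ?_, g, g.2, ?_, hconj⟩
  · rintro ⟨k, hk, e⟩
    let K : ↥M24 := ⟨k, hk.1⟩
    have hkd : K • Spor.squareDodecad = Spor.squareDodecad := hk.2
    have hq : K • (some 0 : GolayPt) ∈ Spor.squareDodecad := (smul_mem_of_stab hkd).2 h0
    have hpre : g⁻¹ • K • (some 0 : GolayPt) ∉ Spor.squareDodecad := by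
      intro h
      rw [← mem_smul_set g, smul_inv_smul, gd] at h
      exact Finset.mem_compl.1 h hq
    obtain ⟨u, hu, hune⟩ : ∃ u, u ∉ Spor.squareDodecad ∧ u ≠ g⁻¹ • K • (some 0 : GolayPt) := by
      have h12 : Spor.squareDodecadᶜ.card = 12 := card_outside hd
      obtain ⟨u, hu, hune⟩ := Finset.exists_mem_ne (by rw [h12]; norm_num : 1 < Spor.squareDodecadᶜ.card)
        (g⁻¹ • K • (some 0 : GolayPt))
      exact ⟨u, Finset.mem_compl.1 hu, hune⟩
    obtain ⟨m, hm, em, -⟩ := exists_map_compl_two hd h0 (a := g⁻¹ • K • (some 0 : GolayPt)) (b := u)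
      (a' := u) (b' := g⁻¹ • K • (some 0 : GolayPt)) hune.symm hune hpre hu hu hpre
    have hm11 : (m : Equiv.Perm GolayPt) ∈ Spor.M11 := (hmem11 _).2 ⟨m.2, hm.1, hm.2⟩
    have hy : ((g * m * g⁻¹ : ↥M24) : Equiv.Perm GolayPt) ∈ MulAut.conj k • Spor.M11 := by
      rw [e, ← hconj]
      exact Subgroup.smul_mem_pointwise_smul _ (MulAut.conj (g : Equiv.Perm GolayPt)) _ hm11
    rw [Subgroup.mem_pointwise_smul_iff_inv_smul_mem, hmem11, ← map_inv, MulAut.smul_def,
      MulAut.conj_apply, inv_inv] at hy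
    have h3 : (K⁻¹ * (g * m * g⁻¹) * K) • (some 0 : GolayPt) = some 0 := hy.2.2
    rw [mul_smul, mul_smul, inv_smul_eq_iff, mul_smul, mul_smul, em, ← eq_inv_smul_iff] at h3
    exact hune h3
  · show g • Spor.squareDodecad = _
    rw [gd, Finset.compl_eq_univ_sdiff]

end CfsgLib.ThreeTrans.M24Sub
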