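import Cfsg.Agent.Lib.ThreeTrans.LargeSingular

set_option autoImplicit false

/-!
Criteria for a large extraspecial 2-subgroup: the four-group of two singular elements and the decomposition
under an operator group of odd order (owner: helper28).
-/

namespace CfsgLib.ThreeTrans

open Cfsg
open scoped commutatorElement

variable {G : Type*} [Group G]

theorem exists_largeData [Finite G] {Q : Subgroup G} (hE : IsExtraspecial 2 Q)
    (hC : Subgroup.centralizer (Q : Set G) = (Subgroup.center Q).map Q.subtype)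
    (hN : Subgroup.centralizer (((Subgroup.center Q).map Q.subtype : Subgroup G) : Set G) ≤
      Subgroup.normalizer (Q : Set G)) : ∃ z, LargeData z Q := by
  haveI : Fact (Nat.Prime 2) := ⟨Nat.prime_two⟩
  have hcard : Nat.card ((Subgroup.center Q).map Q.subtype) = 2 := by rw [Subgroup.card_subtype]; exact hE.2
  obtain ⟨w, hw⟩ := exists_prime_orderOf_dvd_card' 2 (hcard.symm.dvd : 2 ∣ Nat.card ((Subgroup.center Q).map Q.subtype))
  have hz : orderOf (w : G) = 2 := by rw [Subgroup.orderOf_coe, hw]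
  have he : (Subgroup.center Q).map Q.subtype = Subgroup.zpowers (w : G) :=
    (Subgroup.eq_of_le_of_card_ge (Subgroup.zpowers_le.2 w.2) (by rw [hcard, Nat.card_zpowers, hz])).symm
  refine ⟨w, hz, hE, he, hC.trans he, le_trans (fun c hc => ?_) hN⟩
  rw [he, Subgroup.mem_centralizer_iff]
  intro y hy
  obtain ⟨i, rfl⟩ := Subgroup.mem_zpowers_iff.1 hy
  exact ((show Commute c (w : G) from mem_centralizer_singleton_iff'.1 hc).zpow_right i).symm

namespace LargeData

variable {z : G} {Q : Subgroup G} (h : LargeData z Q)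
include h

/-- A nonabelian subgroup whose centre is small is extraspecial. -/
theorem isExtraspecial_sub [Finite G] {Y : Subgroup G} (hY : Y ≤ Q) (hna : ∃ a ∈ Y, ∃ b ∈ Y, ¬ Commute a b)
    (hc : ∀ y ∈ Y, (∀ w ∈ Y, Commute w y) → y ∈ Subgroup.zpowers z) : IsExtraspecial 2 Y := by
  haveI : Fact (Nat.Prime 2) := ⟨Nat.prime_two⟩
  obtain ⟨a, ha, b, hb, hab⟩ := hna
  have hzY : z ∈ Y := by
    rcases h.eq_or (h.comm_mem (hY ha) (hY hb)) with e | e
    · exact absurd (mul_inv_eq_iff_eq_mul.1 (mul_inv_eq_one.1 e)) hab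
    · rw [← e]; exact mul_mem (mul_mem (mul_mem ha hb) (inv_mem ha)) (inv_mem hb)
  have hcen : ∀ y : Y, y ∈ Subgroup.center Y ↔ (y : G) ∈ Subgroup.zpowers z := by
    intro y
    rw [Subgroup.mem_center_iff]
    refine ⟨fun hy => hc y y.2 fun w hw => congrArg Subtype.val (hy ⟨w, hw⟩), fun hy w => Subtype.ext ?_⟩
    rcases h.eq_or hy with e | e
    · show (w : G) * y = y * w
      rw [e, mul_one, one_mul]
    · show (w : G) * y = y * w
      rw [e]; exact (h.commute_z (hY w.2)).eq
  refine CfsgLib.PGroups.isExtraspecial_of (h.hE.1.1.to_le hY) ?_ ?_ ?_ ?_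
  · exact fun hcomm => hab (congrArg Subtype.val (hcomm.1.1 ⟨a, ha⟩ ⟨b, hb⟩))
  · have : (Subgroup.center Y).map Y.subtype = Subgroup.zpowers z := by
      refine le_antisymm ?_ (Subgroup.zpowers_le.2 ⟨⟨z, hzY⟩, (hcen _).2 (Subgroup.mem_zpowers z), rfl⟩)
      rintro _ ⟨y, hy, rfl⟩
      exact (hcen y).1 hy
    rw [← Subgroup.card_subtype, this, Nat.card_zpowers, h.hz]
  · rw [commutator_def, Subgroup.commutator_le]
    intro u _ v _
    rw [hcen]
    simpa [commutatorElement_def] using h.comm_mem (hY u.2) (hY v.2)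
  · intro u
    rw [hcen, pow_two]
    exact h.sq_mem (hY u.2)

theorem odd_decomposition [Finite G] {A : Subgroup G} (hA : A ≤ Subgroup.normalizer (Q : Set G))
    (hAodd : Odd (Nat.card A)) (hA1 : A ≠ ⊥) :
    (Q ⊓ Subgroup.centralizer (A : Set G)) ⊔ ⁅Q, A⁆ = Q ∧
      (∀ x ∈ Q ⊓ Subgroup.centralizer (A : Set G), ∀ y ∈ ⁅Q, A⁆, x * y = y * x) ∧
      IsExtraspecial 2 ↥⁅Q, A⁆ ∧
      (Q ⊓ Subgroup.centralizer (A : Set G) = Subgroup.zpowers z ∨
        IsExtraspecial 2 ↥(Q ⊓ Subgroup.centralizer (A : Set G))) := by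
  haveI : Fact (Nat.Prime 2) := ⟨Nat.prime_two⟩
  haveI := h.hE.1.1.isNilpotent
  have hcop : (Nat.card A).Coprime (Nat.card Q) := by
    obtain ⟨k, hk⟩ := IsPGroup.iff_card.1 h.hE.1.1
    rw [hk]
    exact Nat.Coprime.pow_right k (Nat.coprime_two_right.2 hAodd)
  have hsup := CfsgLib.Core.commutator_sup_centralizer hA hcop (Or.inr inferInstance)
  rw [sup_comm] at hsup
  set C := Q ⊓ Subgroup.centralizer (A : Set G) with hCdef
  set Y := ⁅Q, A⁆ with hYdef
  have hYQ : Y ≤ Q := CfsgLib.Core.commutator_le_of_normalizes hA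
  have haq : ∀ a ∈ A, ∀ q ∈ Q, a * q * a⁻¹ ∈ Q := fun a ha q hq => (Subgroup.mem_normalizer_iff.1 (hA ha) q).1 hq
  have haz : ∀ a ∈ A, Commute a z := by
    intro a ha
    have hm : a * z * a⁻¹ ∈ Subgroup.centralizer (Q : Set G) := by
      rw [Subgroup.mem_centralizer_iff]
      intro q hq
      have hq' : a⁻¹ * q * a ∈ Q := by simpa using haq a⁻¹ (inv_mem ha) q hq
      calc q * (a * z * a⁻¹) = a * ((a⁻¹ * q * a) * z) * a⁻¹ := by group
        _ = a * (z * (a⁻¹ * q * a)) * a⁻¹ := by rw [(h.commute_z hq').eq]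
        _ = a * z * a⁻¹ * q := by group
    rw [h.hcent] at hm
    rcases h.eq_or hm with e | e
    · exact absurd (conj_eq_one_iff.1 e) h.z_ne_one
    · exact mul_inv_eq_iff_eq_mul.1 e
  have hcomm : ∀ x ∈ C, ∀ y ∈ Y, Commute x y := by
    intro x hx y hy
    rw [hYdef, Subgroup.commutator_def] at hy
    induction hy using Subgroup.closure_induction with
    | mem t ht =>
      obtain ⟨q, hq, a, ha, rfl⟩ := ht
      have hxa : Commute x a := (Subgroup.mem_centralizer_iff.1 hx.2 a ha).symm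
      show x * ⁅q, a⁆ = ⁅q, a⁆ * x
      rw [← mul_inv_eq_iff_eq_mul]
      have e1 : x * ⁅q, a⁆ * x⁻¹ = ⁅x * q * x⁻¹, x * a * x⁻¹⁆ := by simp only [commutatorElement_def]; group
      rw [e1, hxa.eq, mul_inv_cancel_right]
      rcases h.conj_eq_or hx.1 hq with e | e <;> rw [e]
      simp only [commutatorElement_def]
      calc z * q * a * (z * q)⁻¹ * a⁻¹ = z * (q * a * q⁻¹ * (z⁻¹ * a⁻¹)) := by group
        _ = z * (q * a * q⁻¹ * a⁻¹) * z⁻¹ := by rw [((haz a ha).inv_inv).eq.symm]; simp only [mul_assoc]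
        _ = q * a * q⁻¹ * a⁻¹ := by
          have hm : q * a * q⁻¹ * a⁻¹ ∈ Q := by
            rw [show q * a * q⁻¹ * a⁻¹ = q * (a * q⁻¹ * a⁻¹) by group]
            exact Q.mul_mem hq (haq a ha _ (inv_mem hq))
          rw [(h.commute_z hm).symm.eq, mul_inv_cancel_right]
    | one => exact Commute.one_right x
    | mul a b _ _ ha hb => exact ha.mul_right hb
    | inv a _ ha => exact ha.inv_right
  have hgen : ∀ w ∈ Q, (∀ c ∈ C, Commute c w) → (∀ y ∈ Y, Commute y w) → w ∈ Subgroup.zpowers z := by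
    intro w _ h1 h2
    rw [← h.hcent, Subgroup.mem_centralizer_iff]
    intro q hq
    have hle : C ⊔ Y ≤ Subgroup.centralizer ({w} : Set G) := sup_le
      (fun c hc => mem_centralizer_singleton_iff'.2 (h1 c hc).eq)
      (fun y hy => mem_centralizer_singleton_iff'.2 (h2 y hy).eq)
    exact mem_centralizer_singleton_iff'.1 (hle (hsup.ge hq))
  refine ⟨hsup, hcomm, h.isExtraspecial_sub hYQ ?_ fun y hy hy' => hgen y (hYQ hy) (fun c hc => hcomm c hc y hy) hy', ?_⟩
  · by_contra hcon
    simp only [not_exists, not_and, not_not] at hcon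
    apply hA1
    rw [eq_bot_iff]
    intro a ha
    have hYz : ∀ y ∈ Y, y ∈ Subgroup.zpowers z := fun y hy =>
      hgen y (hYQ hy) (fun c hc => hcomm c hc y hy) fun w hw => hcon w hw y hy
    have haC : a ∈ Subgroup.centralizer (Q : Set G) := by
      rw [Subgroup.mem_centralizer_iff]
      intro q hq
      have hε : ⁅q, a⁆ ∈ Subgroup.zpowers z := hYz _ (Subgroup.commutator_mem_commutator hq ha)
      have hε2 : ⁅q, a⁆ ^ 2 = 1 := by
        rcases h.eq_or hε with e | e <;> rw [e, pow_two]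
        exacts [one_mul 1, h.mul_self_z]
      have hiter : ∀ n : ℕ, q * a ^ n * q⁻¹ = ⁅q, a⁆ ^ n * a ^ n := by
        intro n
        have hc : Commute ⁅q, a⁆ a := by
          rcases h.eq_or hε with e | e <;> rw [e]
          exacts [Commute.one_left a, (haz a ha).symm]
        rw [← hc.mul_pow, ← conj_pow, commutatorElement_def, inv_mul_cancel_right]
      have hn := hiter (Nat.card A)
      have hpow : a ^ Nat.card A = 1 := congrArg Subtype.val (pow_card_eq_one' (x := (⟨a, ha⟩ : A)))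
      obtain ⟨j, hj⟩ := hAodd
      rw [hpow, mul_one, mul_one, mul_inv_cancel, hj, _root_.pow_succ, pow_mul, hε2, one_pow, one_mul] at hn
      exact commutatorElement_eq_one_iff_mul_comm.1 hn.symm
    rw [h.hcent] at haC
    rcases h.eq_or haC with e | e
    · exact Subgroup.mem_bot.2 e
    · exfalso
      subst e
      have h2 : orderOf (⟨a, ha⟩ : A) ∣ Nat.card A := orderOf_dvd_natCard _
      rw [← Subgroup.orderOf_coe, h.hz] at h2
      exact (Nat.not_even_iff_odd.2 hAodd) (even_iff_two_dvd.2 h2)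
  · by_cases hab : ∀ a ∈ C, ∀ b ∈ C, Commute a b
    · refine Or.inl (le_antisymm (fun c hc => hgen c hc.1 (fun w hw => hab w hw c hc)
        fun y hy => (hcomm c hc y hy).symm) (Subgroup.zpowers_le.2 ⟨h.z_mem, ?_⟩))
      exact Subgroup.mem_centralizer_iff.2 fun a ha => (haz a ha).eq
    · simp only [not_forall] at hab
      obtain ⟨a, ha, b, hb, hab⟩ := hab
      exact Or.inr (h.isExtraspecial_sub inf_le_left ⟨a, ha, b, hb, hab⟩
        fun c hc hc' => hgen c hc.1 hc' fun y hy => (hcomm c hc y hy).symm)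

theorem four_group [Finite G] (h32 : 32 ≤ Nat.card Q) {g : G} (hx : g * z * g⁻¹ ∈ Q) (hne : g * z * g⁻¹ ≠ z) :
    Subgroup.zpowers z ≤ Q.map (MulAut.conj g).toMonoidHom ∧
      (Subgroup.centralizer ((Subgroup.zpowers z ⊔ (Subgroup.zpowers z).map (MulAut.conj g).toMonoidHom
        : Subgroup G) : Set G)).relIndex (Subgroup.normalizer ((Subgroup.zpowers z ⊔
        (Subgroup.zpowers z).map (MulAut.conj g).toMonoidHom : Subgroup G) : Set G)) = 6 ∧
      ∀ K : Subgroup G, Odd (Nat.card K) → Q ≤ Subgroup.normalizer (K : Set G) → K = ⊥ := by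
  haveI : Fact (Nat.Prime 2) := ⟨Nat.prime_two⟩
  have hzP : z ∈ Q.map (MulAut.conj g).toMonoidHom := h.mem_conj h32 hx
  have hP := h.conj g
  rw [MonoidHom.map_zpowers, show (MulAut.conj g).toMonoidHom z = g * z * g⁻¹ from rfl]
  set P := Q.map (MulAut.conj g).toMonoidHom with hPdef
  set x := g * z * g⁻¹ with hxdef
  have hxz : x ∉ Subgroup.zpowers z := by
    intro hh
    rcases h.eq_or hh with e | e
    exacts [hP.z_ne_one e, hne e]
  have hzx : z ∉ Subgroup.zpowers x := by
    intro hh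
    rcases hP.eq_or hh with e | e
    exacts [h.z_ne_one e, hne e.symm]
  have hxx : x * x = 1 := hP.mul_self_z
  refine ⟨Subgroup.zpowers_le.2 hzP, ?_, fun K hK hQK => h.odd_eq_bot hx hxz hxx ?_ hK hQK⟩
  · set V := Subgroup.zpowers z ⊔ Subgroup.zpowers x with hVdef
    have hzxc : Commute z x := (h.commute_z hx).symm
    have hVmem : ∀ v ∈ V, v = 1 ∨ v = z ∨ v = x ∨ v = z * x := by
      intro v hv
      have hn : Subgroup.zpowers z ≤ Subgroup.normalizer (Subgroup.zpowers x : Set G) := by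
        refine le_trans (Subgroup.zpowers_le.2 ?_) (Subgroup.centralizer_le_normalizer _)
        rw [Subgroup.mem_centralizer_iff]
        intro y hy
        obtain ⟨k, rfl⟩ := Subgroup.mem_zpowers_iff.1 hy
        exact (hzxc.symm.zpow_left k).eq
      obtain ⟨a, ha, b, hb, rfl⟩ := (CfsgLib.Core.mem_sup_iff_mul hn).1 hv
      rcases h.eq_or ha with rfl | rfl <;> rcases hP.eq_or hb with rfl | rfl <;> simp
    have hzV : z ∈ V := Subgroup.mem_sup_left (Subgroup.mem_zpowers z)
    have hxV : x ∈ V := Subgroup.mem_sup_right (Subgroup.mem_zpowers x)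
    have hnorm : ∀ c : G, c * z * c⁻¹ ∈ V → c * x * c⁻¹ ∈ V → c ∈ Subgroup.normalizer (V : Set G) := by
      intro c h1 h2
      rw [CfsgLib.Core.mem_normalizer_iff_conj_smul_eq]
      refine Subgroup.eq_of_le_of_card_ge ?_ (CfsgLib.Core.card_conj_smul c V).ge
      rw [CfsgLib.Core.conj_smul_eq_map, hVdef, Subgroup.map_sup, MonoidHom.map_zpowers, MonoidHom.map_zpowers]
      exact sup_le (Subgroup.zpowers_le.2 h1) (Subgroup.zpowers_le.2 h2)
    set N := Subgroup.normalizer (V : Set G) with hNdef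
    let T := {t : V // t ≠ 1}
    let f : N → T → T := fun c t => ⟨⟨(c : G) * (t.1 : G) * (c : G)⁻¹,
      (Subgroup.mem_normalizer_iff.1 c.2 _).1 t.1.2⟩, fun e => t.2 (Subtype.ext
        (conj_eq_one_iff.1 (congrArg Subtype.val e)))⟩
    have hf1 : ∀ t, f 1 t = t := fun t => Subtype.ext (Subtype.ext (by simp [f]))
    have hfm : ∀ a b t, f (a * b) t = f a (f b t) := fun a b t => Subtype.ext (Subtype.ext (by
      show ((a : G) * b) * (t.1 : G) * ((a : G) * b)⁻¹ = (a : G) * ((b : G) * t.1 * (b : G)⁻¹) * (a : G)⁻¹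
      group))
    let φ : N →* Equiv.Perm T := MonoidHom.mk' (fun c =>
      ⟨f c, f c⁻¹, fun t => by rw [← hfm, inv_mul_cancel, hf1], fun t => by rw [← hfm, mul_inv_cancel, hf1]⟩)
      fun a b => Equiv.ext (hfm a b)
    have hker : φ.ker = (Subgroup.centralizer (V : Set G)).subgroupOf N := by
      ext c
      rw [MonoidHom.mem_ker, Subgroup.mem_subgroupOf, Subgroup.mem_centralizer_iff]
      constructor
      · intro hc v hv
        by_cases hv1 : v = 1
        · rw [hv1, one_mul, mul_one]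
        have := congrArg (fun p : Equiv.Perm T => ((p ⟨⟨v, hv⟩, fun e => hv1 (congrArg Subtype.val e)⟩).1 : G)) hc
        exact (mul_inv_eq_iff_eq_mul.1 this).symm
      · intro hc
        refine Equiv.ext fun t => Subtype.ext (Subtype.ext ?_)
        show (c : G) * (t.1 : G) * (c : G)⁻¹ = t.1
        rw [← hc t.1 t.1.2, mul_inv_cancel_right]
    rw [Subgroup.relIndex, ← hker, Subgroup.index_ker]
    have hz1 : (⟨z, hzV⟩ : V) ≠ 1 := fun e => h.z_ne_one (congrArg Subtype.val e)
    have hx1 : (⟨x, hxV⟩ : V) ≠ 1 := fun e => hP.z_ne_one (congrArg Subtype.val e)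
    have hne' : z * x ≠ 1 := fun e => hzx (by
      rw [eq_inv_of_mul_eq_one_left e]; exact inv_mem (Subgroup.mem_zpowers x))
    have hcardT : Nat.card (Equiv.Perm T) = 6 := by
      have : Nat.card T = 3 := by
        have hT : Nat.card T = ({z, x, z * x} : Set G).ncard := by
          rw [← Nat.card_coe_set_eq]
          refine Nat.card_congr
            ⟨fun t => ⟨(t.1 : G), (hVmem t.1 t.1.2).resolve_left fun e => t.2 (Subtype.ext e)⟩,
              fun t => ⟨⟨(t : G), ?_⟩, ?_⟩, fun t => rfl, fun t => rfl⟩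
          · rcases t.2 with e | e | e <;> rw [e]
            exacts [hzV, hxV, mul_mem hzV hxV]
          · intro e
            have e' : (t : G) = 1 := congrArg Subtype.val e
            rcases t.2 with a | a | a <;> rw [a] at e'
            exacts [h.z_ne_one e', hP.z_ne_one e', hne' e']
        rw [hT, Set.ncard_insert_of_notMem, Set.ncard_pair]
        · exact fun e => h.z_ne_one (mul_eq_right.1 e.symm)
        · simp only [Set.mem_insert_iff, Set.mem_singleton_iff, not_or]
          exact ⟨Ne.symm hne, fun e => hP.z_ne_one (mul_eq_left.1 e.symm)⟩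
      rw [Nat.card_perm, this]; rfl
    obtain ⟨q, hq, hqx⟩ := h.exists_move hx hxz
    obtain ⟨r, hr, hrz⟩ := hP.exists_move hzP hzx
    have hqz : q * z * q⁻¹ = z := by rw [(h.commute_z hq).eq, mul_inv_cancel_right]
    have hrx : r * x * r⁻¹ = x := by rw [(hP.commute_z hr).eq, mul_inv_cancel_right]
    have hqN : q ∈ N := hnorm q (hqz.symm ▸ hzV) (hqx.symm ▸ mul_mem hzV hxV)
    have hrN : r ∈ N := hnorm r (hrz.symm ▸ mul_mem hxV hzV) (hrx.symm ▸ hxV)
    have hsq : ∀ c : N, ((c : G) * c ∈ Subgroup.zpowers z ∨ (c : G) * c ∈ Subgroup.zpowers x) → φ c * φ c = 1 := by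
      intro c hc
      rw [← map_mul, ← MonoidHom.mem_ker, hker, Subgroup.mem_subgroupOf, Subgroup.mem_centralizer_iff]
      intro v hv
      have hvQ : v ∈ Q := by
        rcases hVmem v hv with e | e | e | e <;> rw [e]
        exacts [one_mem Q, h.z_mem, hx, mul_mem h.z_mem hx]
      have hvP : v ∈ P := by
        rcases hVmem v hv with e | e | e | e <;> rw [e]
        exacts [one_mem P, hzP, hP.z_mem, mul_mem hzP hP.z_mem]
      show v * ((c : G) * c) = (c : G) * c * v
      rcases hc with hc | hc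
      · rcases h.eq_or hc with e | e <;> rw [e]
        exacts [(Commute.one_right v).eq, (h.commute_z hvQ).eq]
      · rcases hP.eq_or hc with e | e <;> rw [e]
        exacts [(Commute.one_right v).eq, (hP.commute_z hvP).eq]
    have ha2 := hsq ⟨q, hqN⟩ (Or.inl (h.sq_mem hq))
    have hb2 := hsq ⟨r, hrN⟩ (Or.inr (hP.sq_mem hr))
    have hva : φ ⟨q, hqN⟩ ⟨⟨x, hxV⟩, hx1⟩ ≠ ⟨⟨x, hxV⟩, hx1⟩ := fun e => h.z_ne_one (by
      have e' : q * x * q⁻¹ = x := congrArg (fun t : T => (t.1 : G)) e
      rwa [hqx, mul_eq_right] at e')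
    have hvb : φ ⟨r, hrN⟩ ⟨⟨z, hzV⟩, hz1⟩ ≠ ⟨⟨z, hzV⟩, hz1⟩ := fun e => hP.z_ne_one (by
      have e' : r * z * r⁻¹ = z := congrArg (fun t : T => (t.1 : G)) e
      rwa [hrz, mul_eq_right] at e')
    have hvab : φ ⟨q, hqN⟩ ⟨⟨z, hzV⟩, hz1⟩ = ⟨⟨z, hzV⟩, hz1⟩ := Subtype.ext (Subtype.ext hqz)
    set a : φ.range := ⟨φ ⟨q, hqN⟩, _, rfl⟩ with had
    set b : φ.range := ⟨φ ⟨r, hrN⟩, _, rfl⟩ with hbd
    have hab : a ≠ b := fun e => hvb (by
      have e' : φ ⟨q, hqN⟩ = φ ⟨r, hrN⟩ := congrArg Subtype.val e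
      rw [← e']; exact hvab)
    have ha1 : a ≠ 1 := fun e => hva (by
      have := congrArg Subtype.val e
      rw [show (φ ⟨q, hqN⟩) = 1 from this]; rfl)
    have hb1 : b ≠ 1 := fun e => hvb (by
      have := congrArg Subtype.val e
      rw [show (φ ⟨r, hrN⟩) = 1 from this]; rfl)
    have hdvd : Nat.card φ.range ∣ 6 := hcardT ▸ Subgroup.card_subgroup_dvd_card φ.range
    have hoa : orderOf a = 2 := orderOf_eq_prime (by rw [pow_two]; exact Subtype.ext ha2) ha1
    have heven : 2 ∣ Nat.card φ.range := hoa ▸ orderOf_dvd_natCard a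
    have hge : 3 ≤ Nat.card φ.range := by
      have : ({1, a, b} : Set φ.range).ncard = 3 := by
        rw [Set.ncard_insert_of_notMem, Set.ncard_pair hab]
        simp only [Set.mem_insert_iff, Set.mem_singleton_iff, not_or]
        exact ⟨Ne.symm ha1, Ne.symm hb1⟩
      rw [← this, ← Set.ncard_univ]
      exact Set.ncard_le_ncard (Set.subset_univ _) Set.finite_univ
    have hle := Nat.le_of_dvd (by norm_num) hdvd
    interval_cases hk : Nat.card φ.range <;> omega
  · intro k hk
    have hkP : k * z * k⁻¹ * z⁻¹ ∈ P := mul_mem (hP.conj_mem hk hzP) (inv_mem hzP)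
    have hle : P ≤ (pCore 2 (Subgroup.centralizer ({x} : Set G))).map (Subgroup.centralizer ({x} : Set G)).subtype := by
      haveI : (P.subgroupOf (Subgroup.centralizer ({x} : Set G))).Normal :=
        Subgroup.normal_subgroupOf_of_le_normalizer hP.hnorm
      intro a ha
      exact ⟨⟨a, hP.le_centralizer ha⟩, CfsgLib.Core.le_pCore (N := P.subgroupOf _)
        (hP.hE.1.1.comap_of_injective _ (Subgroup.subtype_injective _)) ha, rfl⟩
    exact hle hkP

end LargeData

end CfsgLib.ThreeTrans
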