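import Cfsg.Agent.Lib.ThreeTrans.M24Classes
import Cfsg.Agent.Lib.Sporadic.SmallSets

/-!
Counting permutations from a list of packed ones.
-/

set_option autoImplicit false

namespace CfsgLib.ThreeTrans.M24Cls

open Cfsg CfsgLib.Sporadic
open scoped Pointwise

theorem pmul_eq_packImage {σ τ : Equiv.Perm GolayPt} {p q : ℕ} (h : Rep σ p) (h' : Rep τ q) :
    pmul p q = packImage (σ * τ) := by
  have key : ∀ n ≤ 24,
      (Nat.rec 0 (fun i acc => Nat.lor acc (Nat.shiftLeft (pget p (pget q i)) (Nat.mul 5 i))) n : ℕ) =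
      Nat.rec 0 (fun i acc => Nat.lor acc (Nat.shiftLeft (ix ((σ * τ) (pt i))) (Nat.mul 5 i))) n := by
    intro n hn
    induction n with
    | zero => rfl
    | succ n ih =>
      show Nat.lor _ (Nat.shiftLeft (pget p (pget q n)) _) = Nat.lor _ _
      rw [ih (by omega)]
      congr 2
      conv_lhs => rw [← ix_pt (show n < 24 by omega), h' (pt n), h (τ (pt n))]
      rfl
  exact key 24 le_rfl

/-- The canonical packed form. -/
noncomputable def canon (p : ℕ) : ℕ := pmul pone p

theorem canon_eq {σ : Equiv.Perm GolayPt} {p : ℕ} (h : Rep σ p) : canon p = packImage σ := by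
  rw [canon, pmul_eq_packImage Rep.one h, one_mul]

/-- A set of permutations listed without repetition. -/
theorem ncard_of_packed {P : Equiv.Perm GolayPt → Prop} {L : List ℕ}
    (hd : distinctList (L.map canon) = true) (hin : ∀ p ∈ L, ∃ σ, Rep σ p ∧ P σ)
    (hall : ∀ σ, P σ → ∃ p ∈ L, ∃ σ', Rep σ' p ∧ σ' = σ) : {σ | P σ}.ncard = L.length := by
  have hinj : Function.Injective packImage := fun a b e => by
    have ha := rep_packImage a
    rw [e] at ha
    exact ha.unique (rep_packImage b)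
  rw [← Set.ncard_image_of_injective _ hinj, ← List.length_map (f := canon) (as := L),
    ← List.toFinset_card_of_nodup (nodup_of_distinctList hd), ← Set.ncard_coe_finset]
  congr 1
  ext c
  simp only [Set.mem_image, Set.mem_ofPred_eq, Finset.mem_coe, List.mem_toFinset, List.mem_map]
  constructor
  · rintro ⟨σ, hσ, rfl⟩
    obtain ⟨p, hp, σ', hr, rfl⟩ := hall σ hσ
    exact ⟨p, hp, canon_eq hr⟩
  · rintro ⟨p, hp, rfl⟩
    obtain ⟨σ, hr, hσ⟩ := hin p hp
    exact ⟨σ, hσ, (canon_eq hr).symm⟩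

theorem commute_iff {σ τ : Equiv.Perm GolayPt} {p q : ℕ} (h : Rep σ p) (h' : Rep τ q) :
    M24Inv.peq (pmul p q) (pmul q p) = true ↔ σ * τ = τ * σ :=
  M24Inv.peq_iff (h.mul h') (h'.mul h)

end CfsgLib.ThreeTrans.M24Cls
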