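import Cfsg.Prelude
import Cfsg.Agent.Lib.Char.Exceptional.SpinCover

/-!
Involutions in double covers of alternating groups of small degree.
-/

set_option autoImplicit false

namespace CfsgLib.ThreeTrans.DoubleCoverAlt

open Equiv

/-- Gaschütz for a central subgroup of order two: a complement in a subgroup of odd index gives a
complement in the whole group. -/
theorem exists_complement_of_odd_index {H : Type*} [Group H] [Finite H] {z : H}
    (hz : z ∈ Subgroup.center H) (hz2 : orderOf z = 2) (P₀ : Subgroup H) (hzP : z ∉ P₀)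
    (hodd : Odd (P₀ ⊔ Subgroup.zpowers z).index) :
    ∃ L : Subgroup H, (Subgroup.zpowers z).IsComplement' L := by
  classical
  set P := P₀ ⊔ Subgroup.zpowers z with hP
  have hzn : (Subgroup.zpowers z).Normal :=
    ⟨fun n hn g => by
      rwa [Subgroup.mem_center_iff.1 (Subgroup.zpowers_le.2 hz hn) g, mul_inv_cancel_right]⟩
  have hzz : z * z = 1 := by rw [← sq, ← hz2, pow_orderOf_eq_one]
  have hzinv : z⁻¹ = z := inv_eq_of_mul_eq_one_right hzz
  have hcz : ∀ x : H, x * z = z * x := fun x => Subgroup.mem_center_iff.1 hz x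
  have hdec : ∀ x ∈ P, x ∈ P₀ ∨ x * z ∈ P₀ := by
    intro x hx
    rw [hP, Subgroup.mem_sup_of_normal_right] at hx
    obtain ⟨a, ha, b, hb, rfl⟩ := hx
    obtain ⟨k, rfl⟩ := Subgroup.mem_zpowers_iff.1 hb
    rcases Int.even_or_odd k with ⟨m, rfl⟩ | ⟨m, rfl⟩
    · left
      rw [← two_mul, zpow_mul, show z ^ (2 : ℤ) = 1 by rw [zpow_two, hzz], one_zpow, mul_one]
      exact ha
    · right
      rw [zpow_add_one, zpow_mul, show z ^ (2 : ℤ) = 1 by rw [zpow_two, hzz], one_zpow, one_mul,
        mul_assoc, hzz, mul_one]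
      exact ha
  let f : P →* Multiplicative (ZMod 2) :=
    { toFun := fun x => if (x : H) ∈ P₀ then 1 else Multiplicative.ofAdd 1
      map_one' := by simp
      map_mul' := fun x y => by
        have key : ∀ u ∈ P, ∀ v ∈ P, u ∉ P₀ → v ∉ P₀ → u * v ∈ P₀ := fun u hu v hv hu' hv' => by
          have h := P₀.mul_mem ((hdec u hu).resolve_left hu') ((hdec v hv).resolve_left hv')
          rwa [show u * z * (v * z) = u * v by
            rw [hcz v, mul_assoc, ← mul_assoc z, hzz, one_mul]] at h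
        by_cases hx : (x : H) ∈ P₀ <;> by_cases hy : (y : H) ∈ P₀
        · simp [hx, hy, P₀.mul_mem hx hy]
        · simp [hx, hy, (P₀.mul_mem_cancel_left hx).not.2 hy]
        · simp [hx, hy, (P₀.mul_mem_cancel_right hy).not.2 hx]
        · simp only [Subgroup.coe_mul, hx, hy, if_false, key _ x.2 _ y.2 hx hy, if_true]
          decide }
  have hkey : ∀ (k : ℕ) (g₀ : H), g₀⁻¹ * z ^ k * g₀ ∈ P → g₀⁻¹ * z ^ k * g₀ = z ^ k := by
    intro k g₀ _
    rw [mul_assoc, ← Subgroup.mem_center_iff.1 ((Subgroup.center H).pow_mem hz k) g₀,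
      inv_mul_cancel_left]
  let τ := MonoidHom.transfer f
  have hτz : τ z = Multiplicative.ofAdd 1 := by
    rw [MonoidHom.transfer_eq_pow f z hkey]
    have hpow : z ^ P.index = z := by
      obtain ⟨m, hm⟩ := hodd
      rw [hm, pow_succ, pow_mul, sq, hzz, one_pow, one_mul]
    simp [f, hpow, hzP]
  have hτ : Function.Surjective τ := by
    intro a
    have : a = 1 ∨ a = Multiplicative.ofAdd 1 := by revert a; decide
    rcases this with rfl | rfl
    · exact ⟨1, map_one _⟩
    · exact ⟨z, hτz⟩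
  refine ⟨τ.ker, Subgroup.isComplement'_of_card_mul_and_disjoint ?_ ?_⟩
  · rw [Nat.card_zpowers, hz2, mul_comm]
    have h := τ.ker.card_mul_index
    rwa [Subgroup.index_ker, MonoidHom.range_eq_top.2 hτ, Subgroup.card_top,
      show Nat.card (Multiplicative (ZMod 2)) = 2 from
        (Nat.card_congr Multiplicative.toAdd).trans (Nat.card_zmod 2)] at h
  · rw [disjoint_iff, eq_bot_iff]
    rintro x ⟨hx1, hx2⟩
    obtain ⟨k, rfl⟩ := Subgroup.mem_zpowers_iff.1 hx1
    rcases Int.even_or_odd k with ⟨m, rfl⟩ | ⟨m, rfl⟩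
    · rw [← two_mul, zpow_mul, show z ^ (2 : ℤ) = 1 by rw [zpow_two, hzz], one_zpow]
      exact one_mem _
    · exfalso
      have h : τ (z ^ (2 * m + 1)) = 1 := hx2
      rw [zpow_add_one, zpow_mul, show z ^ (2 : ℤ) = 1 by rw [zpow_two, hzz], one_zpow, one_mul,
        hτz] at h
      exact absurd h (by decide)

/-- If lifts of two involutions generating a subgroup of odd index modulo the centre generate a
dihedral group of the same order, the extension splits. -/
theorem exists_complement_of_dihedral_lift {H A : Type*} [Group H] [Finite H] [Group A]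
    (π : H →* A) (hπ : Function.Surjective π) {z : H} (hz : z ∈ Subgroup.center H)
    (hz2 : orderOf z = 2) (hker : π.ker = Subgroup.zpowers z) (s t : A) (m : ℕ) (hm : 0 < m)
    (hlift : ∀ a : A, a * a = 1 → ∀ x, π x = a → x * x = 1)
    (hs : s * s = 1) (ht : t * t = 1) (hr : (s * t) ^ m * (s * t) ^ m = 1)
    (hinj : Function.Injective fun p : Fin (2 * m) × Fin 2 => (s * t) ^ (p.1 : ℕ) * s ^ (p.2 : ℕ))
    (hodd : ∃ j, Odd j ∧ Nat.card H = j * (8 * m)) :
    ∃ L : Subgroup H, (Subgroup.zpowers z).IsComplement' L := by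
  classical
  obtain ⟨S, rfl⟩ := hπ s
  obtain ⟨T, rfl⟩ := hπ t
  have hS : S * S = 1 := hlift _ hs S rfl
  have hT : T * T = 1 := hlift _ ht T rfl
  have hR : (S * T) ^ (2 * m) = 1 := by
    rw [two_mul, pow_add]
    exact hlift _ hr _ (by rw [map_pow, map_mul])
  have hSi : S⁻¹ = S := inv_eq_of_mul_eq_one_right hS
  have hTi : T⁻¹ = T := inv_eq_of_mul_eq_one_right hT
  set R := S * T with hRdef
  have hmod : ∀ i : ℕ, R ^ i = R ^ (i % (2 * m)) := fun i => pow_eq_pow_mod i hR
  have hSR1 : S * R = R⁻¹ * S := by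
    rw [hRdef, mul_inv_rev, hSi, hTi, ← mul_assoc, hS, one_mul, mul_assoc, hS, mul_one]
  have hSR : ∀ i : ℕ, S * R ^ i = (R ^ i)⁻¹ * S := by
    intro i
    induction i with
    | zero => simp
    | succ i ih => rw [pow_succ, ← mul_assoc, ih, mul_assoc, hSR1, ← mul_assoc, ← mul_inv_rev,
        ← pow_succ', pow_succ]
  have hinv : ∀ i : ℕ, ∃ j : ℕ, (R ^ i)⁻¹ = R ^ j := fun i => ⟨(2 * m - 1) * i, by
    refine inv_eq_of_mul_eq_one_right ?_
    rw [← pow_add, show i + (2 * m - 1) * i = 2 * m * i by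
      obtain ⟨j, hj⟩ : ∃ j, 2 * m = j + 1 := ⟨2 * m - 1, by omega⟩
      rw [hj, Nat.add_sub_cancel]; ring, pow_mul, hR, one_pow]⟩
  let e : Fin (2 * m) × Fin 2 → H := fun p => R ^ (p.1 : ℕ) * S ^ (p.2 : ℕ)
  have hform : ∀ (i : ℕ), R ^ i ∈ Set.range e ∧ R ^ i * S ∈ Set.range e := fun i =>
    ⟨⟨(⟨i % (2 * m), Nat.mod_lt _ (by omega)⟩, 0), by simp [e, ← hmod]⟩,
      ⟨(⟨i % (2 * m), Nat.mod_lt _ (by omega)⟩, 1), by simp [e, ← hmod]⟩⟩
  have hrange : ∀ x ∈ Set.range e, ∃ i : ℕ, x = R ^ i ∨ x = R ^ i * S := by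
    rintro _ ⟨⟨i, j⟩, rfl⟩
    refine ⟨i, ?_⟩
    fin_cases j <;> simp [e]
  let P₀ : Subgroup H := Subgroup.closure {S, T}
  have hP₀ : ∀ x ∈ P₀, x ∈ Set.range e := by
    intro x hx
    have hSmul : ∀ x ∈ Set.range e, S * x ∈ Set.range e := by
      intro x hx
      obtain ⟨i, rfl | rfl⟩ := hrange x hx <;> obtain ⟨j, hj⟩ := hinv i
      · rw [hSR, hj]; exact (hform j).2
      · rw [← mul_assoc, hSR, hj, mul_assoc, hS, mul_one]; exact (hform j).1
    have hTmul : ∀ x ∈ Set.range e, T * x ∈ Set.range e := by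
      intro x hx
      have hTx : T * x = S * (R * x) := by rw [hRdef, ← mul_assoc, ← mul_assoc, hS, one_mul]
      rw [hTx]
      apply hSmul
      obtain ⟨i, rfl | rfl⟩ := hrange x hx
      · rw [← pow_succ']; exact (hform _).1
      · rw [← mul_assoc, ← pow_succ']; exact (hform _).2
    induction hx using Subgroup.closure_induction_left with
    | one => simpa using (hform 0).1
    | mul_left x hx y _ ih =>
      rcases hx with rfl | rfl
      · exact hSmul _ ih
      · exact hTmul _ ih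
    | inv_mul_cancel x hx y _ ih =>
      rcases hx with rfl | rfl
      · rw [hSi]; exact hSmul _ ih
      · rw [hTi]; exact hTmul _ ih
  have heP : ∀ p, e p ∈ P₀ := fun p => by
    have h1 : S ∈ P₀ := Subgroup.subset_closure (by simp)
    have h2 : T ∈ P₀ := Subgroup.subset_closure (by simp)
    exact P₀.mul_mem (P₀.pow_mem (P₀.mul_mem h1 h2) _) (P₀.pow_mem h1 _)
  have hπe : ∀ p, π (e p) = (π S * π T) ^ (p.1 : ℕ) * π S ^ (p.2 : ℕ) := fun p => by
    simp [e, hRdef]
  have hzP : z ∉ P₀ := fun h => by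
    obtain ⟨p, hp⟩ := hP₀ z h
    have hz1 : π z = 1 := by
      rw [← MonoidHom.mem_ker, hker]; exact Subgroup.mem_zpowers z
    let p0 : Fin (2 * m) × Fin 2 := (⟨0, by omega⟩, 0)
    have h0 : p = p0 := hinj (by
      show _ = _
      simp only
      rw [← hπe, hp, hz1]
      simp [p0])
    rw [h0] at hp
    simp [e, p0] at hp
    rw [← hp, orderOf_one] at hz2
    omega
  refine exists_complement_of_odd_index hz hz2 P₀ hzP ?_
  have hzn : (Subgroup.zpowers z).Normal :=
    ⟨fun n hn g => by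
      rwa [Subgroup.mem_center_iff.1 (Subgroup.zpowers_le.2 hz hn) g, mul_inv_cancel_right]⟩
  have hc0 : Nat.card P₀ = 4 * m := by
    have hbij : Function.Bijective (fun p => (⟨e p, heP p⟩ : P₀)) :=
      ⟨fun p q h => hinj (by
        have h' := congrArg (fun x : P₀ => π x.1) h
        simpa [hπe] using h'), fun x => by
        obtain ⟨p, hp⟩ := hP₀ x x.2
        exact ⟨p, Subtype.ext hp⟩⟩
    rw [← Nat.card_eq_of_bijective _ hbij]
    simp
    ring
  have hdisj : P₀ ⊓ Subgroup.zpowers z = ⊥ := by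
    rw [eq_bot_iff]
    rintro x ⟨hx1, hx2⟩
    obtain ⟨k, rfl⟩ := Subgroup.mem_zpowers_iff.1 hx2
    have hzz : z ^ (2 : ℤ) = 1 := by
      rw [show (2 : ℤ) = ((2 : ℕ) : ℤ) from rfl, zpow_natCast, ← hz2, pow_orderOf_eq_one]
    rcases Int.even_or_odd k with ⟨j, rfl⟩ | ⟨j, rfl⟩
    · rw [← two_mul, zpow_mul, hzz, one_zpow]; exact one_mem _
    · exfalso
      have h : z ^ (2 * j + 1) ∈ P₀ := hx1
      rw [zpow_add_one, zpow_mul, hzz, one_zpow, one_mul] at h
      exact hzP h
  have hc : Nat.card (P₀ ⊔ Subgroup.zpowers z : Subgroup H) = 8 * m := by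
    have h1 := Subgroup.relIndex_mul_relIndex ⊥ (Subgroup.zpowers z)
      (P₀ ⊔ Subgroup.zpowers z) bot_le le_sup_right
    have h2 : (Subgroup.zpowers z).relIndex (P₀ ⊔ Subgroup.zpowers z) = 4 * m := by
      rw [Subgroup.relIndex_sup_right, ← Subgroup.inf_relIndex_right, inf_comm, hdisj,
        Subgroup.relIndex_bot_left, hc0]
    rw [Subgroup.relIndex_bot_left, Subgroup.relIndex_bot_left, h2, Nat.card_zpowers, hz2] at h1
    omega
  obtain ⟨j, hj, hcard⟩ := hodd
  have := (P₀ ⊔ Subgroup.zpowers z).card_mul_index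
  rw [hc, hcard, mul_comm j] at this
  rwa [Nat.eq_of_mul_eq_mul_left (by omega) this]

end CfsgLib.ThreeTrans.DoubleCoverAlt

namespace CfsgLib.ThreeTrans.DoubleCoverAlt

open Equiv Equiv.Perm

/-- The involutions of an alternating group of degree at most seven are conjugate. -/
theorem involution_isConj {n : ℕ} (hn : n ≤ 7) (σ τ : alternatingGroup (Fin n)) (hσ : σ * σ = 1)
    (hσ1 : σ ≠ 1) (hτ : τ * τ = 1) (hτ1 : τ ≠ 1) : IsConj σ τ := by
  classical
  have key : ∀ σ : alternatingGroup (Fin n), σ * σ = 1 → σ ≠ 1 →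
      (σ : Perm (Fin n)).cycleType = Multiset.replicate 2 2 := by
    intro σ h h1
    have h2 : (σ : Perm (Fin n)) ^ 2 = 1 := by
      rw [sq]; exact congrArg Subtype.val h
    haveI : Fact (Nat.Prime 2) := ⟨Nat.prime_two⟩
    have hrep := cycleType_of_pow_prime_eq_one h2
    have hsum := sum_cycleType_le (σ : Perm (Fin n))
    have hsign := sign_of_cycleType' (σ : Perm (Fin n))
    rw [mem_alternatingGroup.1 σ.2] at hsign
    have hk : Multiset.card (σ : Perm (Fin n)).cycleType ≠ 0 := fun h0 =>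
      h1 (Subtype.ext (cycleType_eq_zero.1 (Multiset.card_eq_zero.1 h0)))
    rw [hrep, Multiset.sum_replicate, Fintype.card_fin, smul_eq_mul] at hsum
    rw [hrep, Multiset.map_replicate, Multiset.prod_replicate] at hsign
    rw [hrep]
    generalize Multiset.card (σ : Perm (Fin n)).cycleType = k at *
    have hk3 : k ≤ 3 := by omega
    congr 1
    interval_cases k <;> first | rfl | exact absurd rfl hk | exact absurd hsign (by decide)
  have hc : (σ : Perm (Fin n)).cycleType = (τ : Perm (Fin n)).cycleType := by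
    rw [key σ hσ hσ1, key τ hτ hτ1]
  obtain ⟨π, hπ⟩ := isConj_iff.1 (isConj_iff_cycleType_eq.2 hc)
  rcases Int.units_eq_one_or (Perm.sign π) with h | h
  · exact isConj_iff.2 ⟨⟨π, mem_alternatingGroup.2 h⟩, Subtype.ext hπ⟩
  · -- an odd permutation commuting with `σ`
    have hne : (σ : Perm (Fin n)) ≠ 1 := fun e => hσ1 (Subtype.ext e)
    obtain ⟨a, ha⟩ : ∃ a, (σ : Perm (Fin n)) a ≠ a := by
      by_contra hall; push Not at hall; exact hne (Equiv.ext hall)
    have hinv : ∀ x, (σ : Perm (Fin n)) ((σ : Perm (Fin n)) x) = x := fun x => by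
      rw [← Perm.mul_apply, ← Subgroup.coe_mul, hσ]; rfl
    have hcomm : (σ : Perm (Fin n)) * swap a ((σ : Perm (Fin n)) a) =
        swap a ((σ : Perm (Fin n)) a) * (σ : Perm (Fin n)) := by
      have := Equiv.mul_swap_eq_swap_mul (σ : Perm (Fin n)) a ((σ : Perm (Fin n)) a)
      rwa [hinv, Equiv.swap_comm ((σ : Perm (Fin n)) a)] at this
    refine isConj_iff.2 ⟨⟨π * swap a ((σ : Perm (Fin n)) a), ?_⟩, Subtype.ext ?_⟩
    · rw [mem_alternatingGroup, map_mul, h, sign_swap (Ne.symm ha), Int.units_mul_self]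
    · show π * swap a _ * (σ : Perm (Fin n)) * (π * swap a _)⁻¹ = (τ : Perm (Fin n))
      rw [mul_inv_rev, mul_assoc π, ← hcomm, ← hπ]
      group

theorem swap_mul_swap_mem {n : ℕ} {a b c d : Fin n} (h : a ≠ b) (h' : c ≠ d) :
    swap a b * swap c d ∈ alternatingGroup (Fin n) := by
  rw [mem_alternatingGroup, map_mul, sign_swap h, sign_swap h', Int.units_mul_self]

theorem unique_involution {n : ℕ} {H : Type*} [Group H] [Finite H] (hn : n ≤ 7)
    (hH : Cfsg.IsNonsplitDoubleCover H (alternatingGroup (Fin n))) {x : H} (hx : orderOf x = 2) :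
    x ∈ Subgroup.center H := by
  obtain ⟨hcard, ⟨e⟩, hns⟩ := hH
  let π : H →* alternatingGroup (Fin n) := e.toMonoidHom.comp (QuotientGroup.mk' _)
  have hπ : Function.Surjective π := e.surjective.comp (QuotientGroup.mk'_surjective _)
  have hker : π.ker = Subgroup.center H := by
    ext y
    simp [π, QuotientGroup.eq_one_iff]
  have hxx : x * x = 1 := by rw [← sq, ← hx, pow_orderOf_eq_one]
  by_contra hxc
  have hπx : π x ≠ 1 := fun h => hxc (hker ▸ h)
  have hπx2 : π x * π x = 1 := by rw [← map_mul, hxx, map_one]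
  have hcz : ∀ w ∈ Subgroup.center H, w * w = 1 := fun w hw => by
    have h := (Subgroup.center H).orderOf_dvd_natCard hw
    rw [hcard] at h
    rw [← sq]; exact orderOf_dvd_iff_pow_eq_one.1 h
  have hlift : ∀ a : alternatingGroup (Fin n), a * a = 1 → ∀ y, π y = a → y * y = 1 := by
    intro a ha y hy
    by_cases ha1 : a = 1
    · exact hcz y (by rw [← hker, MonoidHom.mem_ker, hy, ha1])
    obtain ⟨c, hc⟩ := isConj_iff.1 (involution_isConj hn (π x) a hπx2 hπx ha ha1)
    obtain ⟨C, rfl⟩ := hπ c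
    have hw : y * (C * x * C⁻¹)⁻¹ ∈ Subgroup.center H := by
      rw [← hker, MonoidHom.mem_ker, map_mul, map_inv, map_mul, map_mul, map_inv, hy, hc,
        mul_inv_cancel]
    obtain ⟨w, hwc, rfl⟩ : ∃ w ∈ Subgroup.center H, w * (C * x * C⁻¹) = y :=
      ⟨_, hw, inv_mul_cancel_right _ _⟩
    have hcm := Subgroup.mem_center_iff.1 hwc (C * x * C⁻¹)
    calc w * (C * x * C⁻¹) * (w * (C * x * C⁻¹)) = w * w * (C * (x * x) * C⁻¹) := by
          rw [mul_assoc, ← mul_assoc (C * x * C⁻¹), hcm]; group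
      _ = 1 := by rw [hcz w hwc, hxx]; group
  obtain ⟨z, hz, hz2⟩ : ∃ z ∈ Subgroup.center H, orderOf z = 2 := by
    haveI : Fact (Nat.Prime 2) := ⟨Nat.prime_two⟩
    obtain ⟨z, hz⟩ := exists_prime_orderOf_dvd_card' 2 (show 2 ∣ Nat.card (Subgroup.center H) by
      rw [hcard])
    exact ⟨z, z.2, (Subgroup.orderOf_coe z).trans hz⟩
  have hzeq : Subgroup.zpowers z = Subgroup.center H :=
    Subgroup.eq_of_le_of_card_ge (Subgroup.zpowers_le.2 hz) (by rw [hcard, Nat.card_zpowers, hz2])
  suffices ∃ L, (Subgroup.zpowers z).IsComplement' L by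
    obtain ⟨L, hL⟩ := this
    exact hns L (hzeq ▸ hL)
  have hHcard : Nat.card H = Nat.card (alternatingGroup (Fin n)) * 2 := by
    rw [← π.ker.index_mul_card, Subgroup.index_ker, MonoidHom.range_eq_top.2 hπ,
      Subgroup.card_top, hker, hcard]
  have hk' := hker.trans hzeq.symm
  have h4 : 4 ≤ n := by
    by_contra hlt
    have hodd : ∀ m, m < 4 → ∀ a : alternatingGroup (Fin m), a * a = 1 → a = 1 := by
      intro m hm; interval_cases m <;> decide
    exact hπx (hodd n (by omega) _ hπx2)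
  interval_cases n
  · refine exists_complement_of_dihedral_lift π hπ hz hz2 hk'
      ⟨swap 0 1 * swap 2 3, swap_mul_swap_mem (by decide) (by decide)⟩ ⟨swap 0 2 * swap 1 3, swap_mul_swap_mem (by decide) (by decide)⟩ 1 one_pos hlift
      (by decide) (by decide) (by decide) (by decide) ⟨3, by decide, ?_⟩
    rw [hHcard, Nat.card_eq_fintype_card]; rfl
  · refine exists_complement_of_dihedral_lift π hπ hz hz2 hk'
      ⟨swap 0 1 * swap 2 3, swap_mul_swap_mem (by decide) (by decide)⟩ ⟨swap 0 2 * swap 1 3, swap_mul_swap_mem (by decide) (by decide)⟩ 1 one_pos hlift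
      (by decide) (by decide) (by decide) (by decide) ⟨15, by decide, ?_⟩
    rw [hHcard, nat_card_alternatingGroup]; simp; rfl
  · refine exists_complement_of_dihedral_lift π hπ hz hz2 hk'
      ⟨swap 0 1 * swap 2 3, swap_mul_swap_mem (by decide) (by decide)⟩ ⟨swap 1 3 * swap 4 5, swap_mul_swap_mem (by decide) (by decide)⟩ 2 two_pos hlift
      (by decide) (by decide) (by decide) (by decide) ⟨45, by decide, ?_⟩
    rw [hHcard, nat_card_alternatingGroup]; simp; rfl
  · refine exists_complement_of_dihedral_lift π hπ hz hz2 hk'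
      ⟨swap 0 1 * swap 2 3, swap_mul_swap_mem (by decide) (by decide)⟩ ⟨swap 1 3 * swap 4 5, swap_mul_swap_mem (by decide) (by decide)⟩ 2 two_pos hlift
      (by decide) (by decide) (by decide) (by decide) ⟨315, by decide, ?_⟩
    rw [hHcard, nat_card_alternatingGroup]; simp; rfl

open CfsgLib.Char.Exceptional.SpinCover

theorem uu_disjoint {i j k l : Fin 8} (hik : i ≠ k) (hil : i ≠ l) (hjk : j ≠ k) (hjl : j ≠ l) :
    uu i j * uu k l = -(uu k l * uu i j) := by
  simp only [uu, sub_mul, mul_sub, gam_anti hik, gam_anti hil, gam_anti hjk, gam_anti hjl]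
  abel

theorem end_neg_mul (a b : Module.End (ZMod 3) (V 8)) : -a * b = -(a * b) :=
  LinearMap.ext fun _ => rfl

theorem end_mul_neg (a b : Module.End (ZMod 3) (V 8)) : a * -b = -(a * b) :=
  LinearMap.ext fun f => map_neg a (b f)

theorem end_neg_neg (a : Module.End (ZMod 3) (V 8)) : - -a = a :=
  LinearMap.ext fun f => neg_neg (a f)

theorem exists_eight : ∃ (H : Type) (_ : Group H) (_ : Finite H),
    Cfsg.IsNonsplitDoubleCover H (alternatingGroup (Fin 8)) ∧
      ∃ x y : H, x ≠ y ∧ orderOf x = 2 ∧ orderOf y = 2 := by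
  haveI : Finite (Module.End (ZMod 3) (V 8)) :=
    Finite.of_injective (fun T => (T : V 8 → V 8)) DFunLike.coe_injective
  let π : cover 8 →* alternatingGroup (Fin 8) := (MonoidHom.fst _ _).comp (cover 8).subtype
  have hπ : Function.Surjective π := fun σ => by
    obtain ⟨g, hg⟩ := exists_lift (σ : Equiv.Perm (Fin 8))
    exact ⟨⟨(σ, g), hg⟩, rfl⟩
  let z : cover 8 := ⟨(1, -1), isLift_neg_one⟩
  have hz1 : z ≠ 1 := by
    intro h
    have h' := congrArg (fun p : cover 8 => ((p.1.2 : Module.End (ZMod 3) (V 8)) (Pi.single 0 1)) 0) h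
    refine (show ((-1 : ZMod 3)) ≠ 1 by decide) ?_
    simpa [z, Pi.single_eq_same] using h'
  have hz2 : orderOf z = 2 := orderOf_eq_prime (Subtype.ext (Prod.ext (one_pow 2) (by
    show (-1 : (Module.End (ZMod 3) (V 8))ˣ) ^ 2 = 1
    exact neg_one_sq (R := (Module.End (ZMod 3) (V 8))ˣ)))) hz1
  have hzc : z ∈ Subgroup.center (cover 8) := by
    rw [Subgroup.mem_center_iff]
    rintro ⟨⟨a, b⟩, hab⟩
    refine Subtype.ext (Prod.ext ?_ ?_)
    · exact (mul_one a).trans (one_mul a).symm
    · exact ((Commute.neg_one_left b).eq).symm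
  have hker : π.ker = Subgroup.zpowers z := by
    refine le_antisymm ?_ (Subgroup.zpowers_le.2 rfl)
    rintro ⟨⟨a, b⟩, hab⟩ hx
    obtain rfl : a = 1 := hx
    rcases lift_kernel hab with rfl | rfl
    · exact one_mem _
    · exact Subgroup.mem_zpowers z
  have hcenter : Subgroup.center (cover 8) = Subgroup.zpowers z := by
    refine le_antisymm ?_ (Subgroup.zpowers_le.2 hzc)
    intro x hx
    rw [← hker, MonoidHom.mem_ker]
    have h : π x ∈ Subgroup.center (alternatingGroup (Fin 8)) := by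
      rw [Subgroup.mem_center_iff]
      intro b
      obtain ⟨y, rfl⟩ := hπ b
      rw [← map_mul, ← map_mul, Subgroup.mem_center_iff.1 hx y]
    rwa [alternatingGroup.center_eq_bot (by simp), Subgroup.mem_bot] at h
  have d01 : (0 : Fin 8) ≠ 1 := by decide
  have d23 : (2 : Fin 8) ≠ 3 := by decide
  have d45 : (4 : Fin 8) ≠ 5 := by decide
  have d67 : (6 : Fin 8) ≠ 7 := by decide
  let g : cover 8 := ⟨(⟨swap 0 1 * swap 2 3, swap_mul_swap_mem (by decide) (by decide)⟩, uuUnit d01 * uuUnit d23),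
    (isLift_uu d01).mul (isLift_uu d23)⟩
  let h : cover 8 := ⟨(⟨swap 4 5 * swap 6 7, swap_mul_swap_mem (by decide) (by decide)⟩, uuUnit d45 * uuUnit d67),
    (isLift_uu d45).mul (isLift_uu d67)⟩
  have hsq : ∀ {i j k l : Fin 8} (hij : i ≠ j) (hkl : k ≠ l), i ≠ k → i ≠ l → j ≠ k → j ≠ l →
      (uuUnit hij * uuUnit hkl) * (uuUnit hij * uuUnit hkl) = -1 := by
    intro i j k l hij hkl h1 h2 h3 h4
    refine Units.ext ?_
    show uu i j * uu k l * (uu i j * uu k l) = -1
    rw [← mul_assoc, mul_assoc (uu i j) (uu k l) (uu i j), uu_disjoint h1.symm h3.symm h2.symm h4.symm,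
      end_mul_neg, end_neg_mul, ← mul_assoc, uu_sq hij, mul_assoc, uu_sq hkl, end_neg_mul,
      one_mul, end_neg_neg]
  have hg : g * g = z := Subtype.ext (Prod.ext (Subtype.ext (show swap (0 : Fin 8) 1 * swap 2 3 * (swap 0 1 * swap 2 3) = 1 by decide))
    (hsq d01 d23 (by decide) (by decide) (by decide) (by decide)))
  have hh : h * h = z := Subtype.ext (Prod.ext (Subtype.ext (show swap (4 : Fin 8) 5 * swap 6 7 * (swap 4 5 * swap 6 7) = 1 by decide))
    (hsq d45 d67 (by decide) (by decide) (by decide) (by decide)))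
  have hgh : g * h = h * g := by
    refine Subtype.ext (Prod.ext (Subtype.ext (show swap (0 : Fin 8) 1 * swap 2 3 * (swap 4 5 * swap 6 7) =
      swap 4 5 * swap 6 7 * (swap 0 1 * swap 2 3) by decide)) (Units.ext ?_))
    show uu 0 1 * uu 2 3 * (uu 4 5 * uu 6 7) = uu 4 5 * uu 6 7 * (uu 0 1 * uu 2 3)
    have h1 : uu (2 : Fin 8) 3 * (uu 4 5 * uu 6 7) = uu 4 5 * uu 6 7 * uu 2 3 := by
      rw [← mul_assoc, uu_disjoint (by decide) (by decide) (by decide) (by decide), end_neg_mul,
        mul_assoc, uu_disjoint (i := 2) (k := 6) (by decide) (by decide) (by decide) (by decide),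
        end_mul_neg, end_neg_neg, mul_assoc]
    have h2 : uu (0 : Fin 8) 1 * (uu 4 5 * uu 6 7) = uu 4 5 * uu 6 7 * uu 0 1 := by
      rw [← mul_assoc, uu_disjoint (by decide) (by decide) (by decide) (by decide), end_neg_mul,
        mul_assoc, uu_disjoint (i := 0) (k := 6) (by decide) (by decide) (by decide) (by decide),
        end_mul_neg, end_neg_neg, mul_assoc]
    rw [mul_assoc, h1, ← mul_assoc, h2, mul_assoc]
  refine ⟨cover 8, inferInstance, inferInstance, ⟨?_, ⟨?_⟩, ?_⟩, z, g * h, ?_, hz2, ?_⟩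
  · rw [hcenter, Nat.card_zpowers, hz2]
  · exact (QuotientGroup.quotientMulEquivOfEq (hcenter.trans hker.symm)).trans
      (QuotientGroup.quotientKerEquivOfSurjective π hπ)
  · intro L hL
    have hLi2 : L.index = 2 := by
      rw [hL.index_eq_card, hcenter, Nat.card_zpowers, hz2]
    have hgg : g * g ∈ L := Subgroup.mul_self_mem_of_index_two hLi2 g
    rw [hg] at hgg
    have := hL.disjoint.le_bot ⟨hcenter ▸ Subgroup.mem_zpowers z, hgg⟩
    exact hz1 (Subgroup.mem_bot.1 this)
  · intro e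
    have := congrArg π e
    revert this
    simp only [π, z, g, h, MonoidHom.coe_comp, Function.comp_apply, Subgroup.coe_subtype,
      MonoidHom.coe_fst, Subgroup.coe_mul, Prod.mk_mul_mk]
    decide
  · refine orderOf_eq_prime ?_ fun e => ?_
    · rw [sq, mul_assoc, ← mul_assoc h, ← hgh, mul_assoc g h, hh, ← mul_assoc, hg, ← sq]
      exact orderOf_dvd_iff_pow_eq_one.1 hz2.dvd
    · have := congrArg π e
      revert this
      simp only [π, g, h, MonoidHom.coe_comp, Function.comp_apply, Subgroup.coe_subtype,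
        MonoidHom.coe_fst, Subgroup.coe_mul, Prod.mk_mul_mk, map_one]
      decide

end CfsgLib.ThreeTrans.DoubleCoverAlt
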