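import Mathlib
import Cfsg.Prelude.Def_RootSubgroups
import Cfsg.Agent.Lib.Core.Basic
import Cfsg.Agent.Lib.Core.Coprime

set_option autoImplicit false

/-!
Families of subgroups of a linear group any two members of which generate a unipotent group
(owner: helper28).
-/

namespace CfsgLib.ThreeTrans.Unipotent

open Cfsg

variable {k : Type*} [Field k] {M : Type*} [AddCommGroup M] [Module k M]

local notation "𝔾" => LinearMap.GeneralLinearGroup k M

/-- The displacement `g - 1`. -/
def disp (g : LinearMap.GeneralLinearGroup k M) : Module.End k M := (g : M →ₗ[k] M) - 1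

/-- The span of the displacements of the elements of a subgroup. -/
def dispSpan (H : Subgroup (LinearMap.GeneralLinearGroup k M)) : Submodule k (Module.End k M) :=
  Submodule.span k (disp '' (H : Set (LinearMap.GeneralLinearGroup k M)))

theorem disp_mul (g h : 𝔾) : disp (g * h) = disp g * disp h + disp g + disp h := by
  simp only [disp]
  show ((g : Module.End k M) * (h : Module.End k M)) - 1 = _
  noncomm_ring

theorem disp_one : disp (1 : 𝔾) = 0 := sub_self _

theorem isUnipotentOn_iff {H : Subgroup 𝔾} :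
    IsUnipotentOn H ↔ ∃ n : ℕ, ∀ l : List 𝔾, (∀ g ∈ l, g ∈ H) → l.length = n → (l.map disp).prod = 0 := by
  have e : ∀ l : List 𝔾, (l.map disp) = (List.map (fun g : Module.End k M => g - 1) (l.map Units.val)) := by
    intro l; rw [List.map_map]; rfl
  simp only [IsUnipotentOn, e, List.bind_eq_flatMap, List.pure_def]
  simp only [← List.map_eq_flatMap]

theorem disp_mem {H : Subgroup 𝔾} {g : 𝔾} (hg : g ∈ H) : disp g ∈ dispSpan H :=
  Submodule.subset_span ⟨g, hg, rfl⟩

theorem dispSpan_mono {H K : Subgroup 𝔾} (h : H ≤ K) : dispSpan H ≤ dispSpan K :=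
  Submodule.span_mono (Set.image_mono h)

theorem mul_mem_dispSpan {H : Subgroup 𝔾} {a b : Module.End k M} (ha : a ∈ dispSpan H) (hb : b ∈ dispSpan H) :
    a * b ∈ dispSpan H := by
  induction ha using Submodule.span_induction with
  | mem a ha =>
    obtain ⟨g, hg, rfl⟩ := ha
    induction hb using Submodule.span_induction with
    | mem b hb =>
      obtain ⟨h, hh, rfl⟩ := hb
      have e : disp g * disp h = disp (g * h) - disp g - disp h := by rw [disp_mul]; abel
      rw [e]
      exact Submodule.sub_mem _ (Submodule.sub_mem _ (disp_mem (mul_mem hg hh)) (disp_mem hg)) (disp_mem hh)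
    | zero => rw [mul_zero]; exact zero_mem _
    | add x y _ _ hx hy => rw [mul_add]; exact add_mem hx hy
    | smul c x _ hx => rw [mul_smul_comm]; exact Submodule.smul_mem _ c hx
  | zero => rw [zero_mul]; exact zero_mem _
  | add x y _ _ hx hy => rw [add_mul]; exact add_mem hx hy
  | smul c x _ hx => rw [smul_mul_assoc]; exact Submodule.smul_mem _ c hx

theorem pow_succ_le (H : Subgroup 𝔾) (i : ℕ) : dispSpan H ^ (i + 1) ≤ dispSpan H := by
  induction i with
  | zero => rw [zero_add, pow_one]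
  | succ i ih =>
    rw [pow_succ]
    exact Submodule.mul_le.2 fun a ha b hb => mul_mem_dispSpan (ih ha) hb

theorem pow_anti (H : Subgroup 𝔾) (i j : ℕ) : dispSpan H ^ (i + 1 + j) ≤ dispSpan H ^ (i + 1) := by
  rw [show i + 1 + j = i + (j + 1) by omega, pow_add, pow_succ _ i]
  exact Submodule.mul_le.2 fun a ha b hb => Submodule.mul_mem_mul ha (pow_succ_le H j hb)

theorem exists_pow_eq_bot {H : Subgroup 𝔾} (hH : IsUnipotentOn H) : ∃ n, 1 ≤ n ∧ dispSpan H ^ n = ⊥ := by
  obtain ⟨n, hn⟩ := isUnipotentOn_iff.1 hH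
  have key : ∀ i : ℕ, ∀ a ∈ dispSpan H ^ i, ∀ l : List 𝔾, (∀ g ∈ l, g ∈ H) → i + l.length = n →
      a * (l.map disp).prod = 0 := by
    intro i
    induction i with
    | zero =>
      intro a ha l hl hlen
      rw [pow_zero, Submodule.mem_one] at ha
      obtain ⟨c, rfl⟩ := ha
      rw [show (l.map disp).prod = 0 from hn l hl (by omega), mul_zero]
    | succ i ih =>
      intro a ha l hl hlen
      rw [pow_succ] at ha
      induction ha using Submodule.mul_induction_on' with
      | mem_mul_mem x hx y hy =>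
        induction hy using Submodule.span_induction with
        | mem y hy =>
          obtain ⟨g, hg, rfl⟩ := hy
          have := ih x hx (g :: l) (by
            intro t ht
            rcases List.mem_cons.1 ht with rfl | ht
            exacts [hg, hl t ht]) (by simp only [List.length_cons]; omega)
          rwa [List.map_cons, List.prod_cons, ← mul_assoc] at this
        | zero => simp
        | add u v _ _ hu hv => rw [mul_add, add_mul, hu, hv, add_zero]
        | smul c u _ hu => rw [mul_smul_comm, smul_mul_assoc, hu, smul_zero]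
      | add u _ v _ hu hv => rw [add_mul, hu, hv, add_zero]
  refine ⟨n + 1, Nat.le_add_left _ _, ?_⟩
  rw [eq_bot_iff, pow_succ, Submodule.mul_le]
  intro a ha b _
  have := key n a ha [] (by simp) (by simp)
  rw [List.map_nil, List.prod_nil, mul_one] at this
  rw [this, zero_mul]; exact zero_mem _

theorem isUnipotentOn_of_pow_eq_bot {H : Subgroup 𝔾} {N : Submodule k (Module.End k M)} {n : ℕ}
    (hn : N ^ n = ⊥) (hle : ∀ g ∈ H, disp g ∈ N) : IsUnipotentOn H := by
  refine isUnipotentOn_iff.2 ⟨n, fun l hl hlen => ?_⟩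
  have key : ∀ l : List 𝔾, (∀ g ∈ l, g ∈ H) → (l.map disp).prod ∈ N ^ l.length := by
    intro l
    induction l with
    | nil => intro _; rw [List.map_nil, List.prod_nil, List.length_nil, pow_zero]; exact Submodule.one_le.1 le_rfl
    | cons g l ih =>
      intro hl
      rw [List.map_cons, List.prod_cons, List.length_cons, pow_succ']
      exact Submodule.mul_mem_mul (hle g (hl g List.mem_cons_self)) (ih fun t ht => hl t (List.mem_cons_of_mem _ ht))
  have := key l hl
  rw [hlen, hn, Submodule.mem_bot] at this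
  exact this

/-- A unipotent group extended by a unipotent group normalizing it is unipotent. -/
theorem isUnipotentOn_sup {X Y : Subgroup 𝔾} (hX : IsUnipotentOn X) (hY : IsUnipotentOn Y)
    (hn : Y ≤ Subgroup.normalizer (X : Set 𝔾)) : IsUnipotentOn (X ⊔ Y) := by
  obtain ⟨n, hXn⟩ := isUnipotentOn_iff.1 hX
  obtain ⟨m, hYm⟩ := isUnipotentOn_iff.1 hY
  let F : ℕ → Submodule k M := fun i => Nat.rec ⊤ (fun _ W => ⨆ g ∈ X, W.map (disp g)) i
  have hF0 : F 0 = ⊤ := rfl
  have hFs : ∀ i, F (i + 1) = ⨆ g ∈ X, (F i).map (disp g) := fun i => rfl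
  have hFmem : ∀ {g : 𝔾} {i : ℕ} {v : M}, g ∈ X → v ∈ F i → disp g v ∈ F (i + 1) := fun {g i v} hg hv =>
    Submodule.mem_iSup_of_mem g (Submodule.mem_iSup_of_mem hg ⟨v, hv, rfl⟩)
  have hFn : ∀ i, ∀ v ∈ F i, ∀ l : List 𝔾, (∀ g ∈ l, g ∈ X) → i + l.length = n → (l.map disp).prod v = 0 := by
    intro i
    induction i with
    | zero =>
      intro v _ l hl hlen
      rw [show (l.map disp).prod = 0 from hXn l hl (by omega)]; rfl
    | succ i ih =>
      intro v hv l hl hlen
      have hker : F (i + 1) ≤ LinearMap.ker (l.map disp).prod := by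
        rw [hFs]
        refine iSup₂_le fun g hg => ?_
        rintro _ ⟨u, hu, rfl⟩
        rw [LinearMap.mem_ker]
        have := ih u hu (l ++ [g]) (by
          intro t ht
          rcases List.mem_append.1 ht with ht | ht
          · exact hl t ht
          · rw [List.mem_singleton.1 ht]; exact hg) (by simp only [List.length_append, List.length_singleton]; omega)
        rwa [List.map_append, List.prod_append, List.map_singleton, List.prod_singleton] at this
      exact hker hv
  have hFn' : F n = ⊥ := by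
    rw [eq_bot_iff]
    intro v hv
    have := hFn n v hv [] (by simp) (by simp)
    simpa using this
  have hanti : ∀ i, F (i + 1) ≤ F i := by
    intro i
    induction i with
    | zero => rw [hF0]; exact le_top
    | succ i ih =>
      rw [hFs (i + 1), hFs i]
      exact iSup₂_mono fun g _ => Submodule.map_mono ih
  have hinv : ∀ i, ∀ y ∈ Y, ∀ v ∈ F i, (y : M →ₗ[k] M) v ∈ F i := by
    intro i
    induction i with
    | zero => intro y _ v _; rw [hF0]; trivial
    | succ i ih =>
      intro y hy v hv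
      have hker : F (i + 1) ≤ (F (i + 1)).comap (y : M →ₗ[k] M) := by
        nth_rewrite 1 [hFs]
        refine iSup₂_le fun g hg => ?_
        rintro _ ⟨u, hu, rfl⟩
        rw [Submodule.mem_comap]
        have e : (y : M →ₗ[k] M) (disp g u) = disp (y * g * y⁻¹) ((y : M →ₗ[k] M) u) := by
          show ((y : Module.End k M) * disp g) u = (disp (y * g * y⁻¹) * (y : Module.End k M)) u
          congr 1
          simp only [disp]
          show (y : Module.End k M) * ((g : Module.End k M) - 1) =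
            (((y * g * y⁻¹ : 𝔾) : Module.End k M) - 1) * (y : Module.End k M)
          rw [mul_sub, sub_mul, ← Units.val_mul, ← Units.val_mul, inv_mul_cancel_right, mul_one, one_mul]
        rw [e]
        exact hFmem ((Subgroup.mem_normalizer_iff.1 (hn hy) g).1 hg) (ih y hy u hu)
      exact hker hv
  refine isUnipotentOn_iff.2 ⟨n * m, fun l hl hlen => ?_⟩
  have hstep : ∀ w ∈ X ⊔ Y, ∀ i, ∀ v ∈ F i, disp w v ∈ F i := by
    intro w hw i v hv
    rw [sup_comm] at hw
    obtain ⟨y, hy, x, hx, rfl⟩ := (CfsgLib.Core.mem_sup_iff_mul hn).1 hw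
    rw [disp_mul, LinearMap.add_apply, LinearMap.add_apply, Module.End.mul_apply]
    have hyv : ∀ u ∈ F i, disp y u ∈ F i := fun u hu => by
      simp only [disp, LinearMap.sub_apply, Module.End.one_apply]
      exact sub_mem (hinv i y hy u hu) hu
    have hxv : disp x v ∈ F i := hanti i (hFmem hx hv)
    exact add_mem (add_mem (hyv _ hxv) (hyv v hv)) hxv
  have hblock : ∀ i, ∀ l : List 𝔾, (∀ g ∈ l, g ∈ X ⊔ Y) →
      ∃ l' : List 𝔾, (∀ g ∈ l', g ∈ Y) ∧ l'.length = l.length ∧
        ∀ v ∈ F i, (l.map disp).prod v ∈ F i ∧ (l.map disp).prod v - (l'.map disp).prod v ∈ F (i + 1) := by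
    intro i l
    induction l with
    | nil => exact fun _ => ⟨[], by simp, rfl, fun v hv => by simpa using hv⟩
    | cons w l ih =>
      intro hl
      obtain ⟨l', h1, h2, h3⟩ := ih fun t ht => hl t (List.mem_cons_of_mem _ ht)
      have hw := hl w List.mem_cons_self
      rw [sup_comm] at hw
      obtain ⟨y, hy, x, hx, hxy⟩ := (CfsgLib.Core.mem_sup_iff_mul hn).1 hw
      refine ⟨y :: l', fun t ht => ?_, by simp [h2], fun v hv => ?_⟩
      · rcases List.mem_cons.1 ht with rfl | ht
        exacts [hy, h1 t ht]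
      obtain ⟨ha, hb⟩ := h3 v hv
      rw [List.map_cons, List.prod_cons, Module.End.mul_apply, List.map_cons, List.prod_cons, Module.End.mul_apply]
      refine ⟨hstep w (hl w List.mem_cons_self) i _ ha, ?_⟩
      have hyF : ∀ u ∈ F (i + 1), disp y u ∈ F (i + 1) := fun u hu => by
        simp only [disp, LinearMap.sub_apply, Module.End.one_apply]
        exact sub_mem (hinv (i + 1) y hy u hu) hu
      rw [hxy, disp_mul, LinearMap.add_apply, LinearMap.add_apply, Module.End.mul_apply]
      have e : ∀ A B C D : M, A + B + C - D = A + C + (B - D) := fun A B C D => by abel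
      rw [e, ← map_sub]
      exact add_mem (add_mem (hyF _ (hFmem hx ha)) (hFmem hx ha)) (hyF _ hb)
  have hdown : ∀ i, i ≤ n → ∀ l : List 𝔾, (∀ g ∈ l, g ∈ X ⊔ Y) → l.length = i * m →
      ∀ v : M, (l.map disp).prod v ∈ F i := by
    intro i
    induction i with
    | zero => intro _ l _ _ v; rw [hF0]; trivial
    | succ i ih =>
      intro hi l hl hlen v
      obtain ⟨l₁, l₂, rfl, hl₁⟩ : ∃ l₁ l₂, l = l₁ ++ l₂ ∧ l₁.length = m :=
        ⟨l.take m, l.drop m, (List.take_append_drop m l).symm, by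
          rw [List.length_take, hlen, min_eq_left]; exact Nat.le_mul_of_pos_left m (Nat.succ_pos i)⟩
      rw [List.map_append, List.prod_append, Module.End.mul_apply]
      have h2 := ih (Nat.le_of_succ_le hi) l₂ (fun t ht => hl t (List.mem_append_right _ ht))
        (by rw [List.length_append, hl₁, Nat.succ_mul] at hlen; omega) v
      obtain ⟨l', h1', h2', h3'⟩ := hblock i l₁ fun t ht => hl t (List.mem_append_left _ ht)
      obtain ⟨-, hb⟩ := h3' _ h2
      rw [show (l'.map disp).prod = 0 from hYm l' h1' (h2'.trans hl₁)] at hb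
      simpa using hb
  refine LinearMap.ext fun v => ?_
  have := hdown n le_rfl l hl hlen v
  rw [hFn', Submodule.mem_bot] at this
  exact this

section Family

variable {W : Set (Subgroup (LinearMap.GeneralLinearGroup k M))}

/-- The members of `W` all whose displacements lie in the span of those of the family `D`. -/
def sat (W D : Set (Subgroup (LinearMap.GeneralLinearGroup k M))) : Set (Subgroup (LinearMap.GeneralLinearGroup k M)) :=
  {A | A ∈ W ∧ ∀ g ∈ A, disp g ∈ dispSpan (⨆ B ∈ D, B)}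

theorem le_of_mem {D : Set (Subgroup 𝔾)} {A : Subgroup 𝔾} (hA : A ∈ D) : A ≤ ⨆ B ∈ D, B :=
  le_iSup₂ (f := fun B (_ : B ∈ D) => B) A hA

theorem subset_sat {D : Set (Subgroup 𝔾)} (hD : D ⊆ W) : D ⊆ sat W D := fun A hA =>
  ⟨hD hA, fun _ hg => disp_mem (le_of_mem hA hg)⟩

theorem mem_sat_of_le {D : Set (Subgroup 𝔾)} {A : Subgroup 𝔾} (hA : A ∈ W) (h : A ≤ ⨆ B ∈ D, B) :
    A ∈ sat W D := ⟨hA, fun _ hg => disp_mem (h hg)⟩

theorem disp_mem_of_sat {D : Set (Subgroup 𝔾)} {g : 𝔾} (hg : g ∈ ⨆ B ∈ sat W D, B) :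
    disp g ∈ dispSpan (⨆ B ∈ D, B) := by
  let S : Subgroup 𝔾 :=
    { carrier := {g | disp g ∈ dispSpan (⨆ B ∈ D, B) ∧ disp g⁻¹ ∈ dispSpan (⨆ B ∈ D, B)}
      one_mem' := by simp [disp_one]
      mul_mem' := fun {a b} ha hb => by
        refine ⟨?_, ?_⟩
        · rw [disp_mul]; exact add_mem (add_mem (mul_mem_dispSpan ha.1 hb.1) ha.1) hb.1
        · rw [mul_inv_rev, disp_mul]; exact add_mem (add_mem (mul_mem_dispSpan hb.2 ha.2) hb.2) ha.2
      inv_mem' := fun {a} ha => ⟨ha.2, by rw [inv_inv]; exact ha.1⟩ }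
  have : (⨆ B ∈ sat W D, B) ≤ S := iSup₂_le fun B hB g hg => ⟨hB.2 g hg, hB.2 _ (inv_mem hg)⟩
  exact (this hg).1

theorem dispSpan_sat {D : Set (Subgroup 𝔾)} (hD : D ⊆ W) :
    dispSpan (⨆ B ∈ sat W D, B) = dispSpan (⨆ B ∈ D, B) := by
  refine le_antisymm (Submodule.span_le.2 ?_) (dispSpan_mono (biSup_mono (subset_sat hD)))
  rintro _ ⟨g, hg, rfl⟩
  exact disp_mem_of_sat hg

theorem sat_sat {D : Set (Subgroup 𝔾)} (hD : D ⊆ W) : sat W (sat W D) = sat W D := by
  ext A
  show A ∈ W ∧ (∀ g ∈ A, disp g ∈ dispSpan (⨆ B ∈ sat W D, B)) ↔ _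
  rw [dispSpan_sat hD]
  exact Iff.rfl

theorem isUnipotentOn_sat {D : Set (Subgroup 𝔾)} (hu : IsUnipotentOn (⨆ B ∈ D, B)) :
    IsUnipotentOn (⨆ B ∈ sat W D, B) := by
  obtain ⟨n, -, hn⟩ := exists_pow_eq_bot hu
  exact isUnipotentOn_of_pow_eq_bot hn fun g hg => disp_mem_of_sat hg

/-- A saturated family generating a unipotent group. -/
def Good (W D : Set (Subgroup (LinearMap.GeneralLinearGroup k M))) : Prop :=
  sat W D = D ∧ IsUnipotentOn (⨆ B ∈ D, B)

theorem Good.subset {D : Set (Subgroup 𝔾)} (h : Good W D) : D ⊆ W := fun A hA => by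
  rw [← h.1] at hA
  exact hA.1

variable [FiniteDimensional k M]

theorem Good.finrank_lt {D D' : Set (Subgroup 𝔾)} (h : Good W D) (h' : Good W D') (hlt : D ⊂ D') :
    Module.finrank k (dispSpan (⨆ B ∈ D, B)) < Module.finrank k (dispSpan (⨆ B ∈ D', B)) := by
  refine Submodule.finrank_lt_finrank_of_lt (lt_of_le_of_ne (dispSpan_mono (biSup_mono hlt.1)) fun e => hlt.2 ?_)
  intro A hA
  rw [← h.1]
  refine ⟨h'.subset hA, fun g hg => ?_⟩
  rw [e]
  exact disp_mem (le_of_mem hA hg)

theorem exists_maximal_good {D : Set (Subgroup 𝔾)} (h : Good W D) :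
    ∃ L, D ⊆ L ∧ Good W L ∧ ∀ L', Good W L' → L ⊆ L' → L' = L := by
  induction hd : Module.finrank k (Module.End k M) - Module.finrank k (dispSpan (⨆ B ∈ D, B))
    using Nat.strong_induction_on generalizing D with
  | _ d ih =>
    by_cases hmax : ∀ L', Good W L' → D ⊆ L' → L' = D
    · exact ⟨D, le_rfl, h, hmax⟩
    simp only [not_forall] at hmax
    obtain ⟨L', h', hsub, hne⟩ := hmax
    have hlt := h.finrank_lt h' (Set.ssubset_iff_subset_ne.2 ⟨hsub, Ne.symm hne⟩)
    obtain ⟨L, h1, h2⟩ := ih _ (by have := Submodule.finrank_le (dispSpan (⨆ B ∈ L', B)); omega) h' rfl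
    exact ⟨L, hsub.trans h1, h2⟩

/-- In a maximal family some member outside a smaller saturated family normalizes it. -/
theorem exists_normalizing (hWconj : ∀ A ∈ W, ∀ B ∈ W, ∀ a ∈ A, conjBy B a ∈ W) {L D : Set (Subgroup 𝔾)}
    (hL : Good W L) (hD : Good W D) (hDL : D ⊆ L) (hne : ¬ L ⊆ D) :
    ∃ A ∈ L, A ∉ D ∧ A ≤ Subgroup.normalizer ((⨆ B ∈ D, B : Subgroup 𝔾) : Set 𝔾) := by
  set U := ⨆ B ∈ L, B with hU
  set X := ⨆ B ∈ D, B with hX
  obtain ⟨n, -, hn⟩ := exists_pow_eq_bot hL.2
  have hXU : dispSpan X ≤ dispSpan U := dispSpan_mono (biSup_mono hDL)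
  let P : ℕ → Prop := fun i => ∃ A ∈ L, A ∉ D ∧ ∀ g ∈ A, disp g ∈ dispSpan X ⊔ dispSpan U ^ (i + 1)
  have h0 : P 0 := by
    obtain ⟨A, hA, hAD⟩ := Set.not_subset.1 hne
    exact ⟨A, hA, hAD, fun g hg => Submodule.mem_sup_right (by rw [zero_add, pow_one]; exact disp_mem (le_of_mem hA hg))⟩
  have hfail : ¬ P n := by
    rintro ⟨A, hA, hAD, hg⟩
    refine hAD (hD.1 ▸ ⟨hL.subset hA, fun g hgA => ?_⟩)
    have := hg g hgA
    rwa [pow_succ, hn, Submodule.bot_mul, sup_bot_eq] at this
  obtain ⟨i, hi, hi'⟩ : ∃ i, P i ∧ ¬ P (i + 1) := by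
    by_contra hcon
    simp only [not_exists, not_and, not_not] at hcon
    exact hfail (Nat.rec h0 (fun j hj => hcon j hj) n)
  obtain ⟨A, hA, hAD, hAg⟩ := hi
  refine ⟨A, hA, hAD, ?_⟩
  set T := dispSpan X ⊔ dispSpan U ^ (i + 1) with hT
  set T' := dispSpan X ⊔ dispSpan U ^ (i + 1 + 1) with hT'
  have hTU : T ≤ dispSpan U := sup_le hXU (pow_succ_le U i)
  have hXT : dispSpan X ≤ T' := le_sup_left
  have hmulTX : ∀ a ∈ T, ∀ b ∈ dispSpan X, a * b ∈ T' ∧ b * a ∈ T' := by
    intro a ha b hb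
    obtain ⟨a1, h1, a2, h2, rfl⟩ := Submodule.mem_sup.1 ha
    constructor
    · rw [add_mul]
      refine add_mem (hXT (mul_mem_dispSpan h1 hb)) (Submodule.mem_sup_right ?_)
      rw [pow_succ (dispSpan U) (i + 1)]
      exact Submodule.mul_mem_mul h2 (hXU hb)
    · rw [mul_add]
      refine add_mem (hXT (mul_mem_dispSpan hb h1)) (Submodule.mem_sup_right ?_)
      rw [pow_succ' (dispSpan U) (i + 1)]
      exact Submodule.mul_mem_mul (hXU hb) h2
  have hmulT' : ∀ a ∈ T', ∀ b ∈ T, a * b ∈ T' := by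
    intro a ha b hb
    obtain ⟨a1, h1, a2, h2, rfl⟩ := Submodule.mem_sup.1 ha
    rw [add_mul]
    refine add_mem (hmulTX b hb a1 h1).2 (Submodule.mem_sup_right ?_)
    have := Submodule.mul_mem_mul h2 (hTU hb)
    rw [← pow_succ] at this
    exact pow_anti U (i + 1) 1 this
  have key : ∀ a ∈ A, ∀ B ∈ D, conjBy B a ∈ D := by
    intro a ha B hB
    by_contra hnot
    apply hi'
    refine ⟨conjBy B a, ?_, hnot, ?_⟩
    · rw [← hL.1]
      refine mem_sat_of_le (hWconj A (hL.subset hA) B (hD.subset hB) a ha) ?_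
      rintro _ ⟨b, hb, rfl⟩
      exact mul_mem (mul_mem (le_of_mem hA ha) (le_of_mem (hDL hB) hb)) (inv_mem (le_of_mem hA ha))
    · rintro _ ⟨b, hb, rfl⟩
      show disp (a * b * a⁻¹) ∈ T'
      have hbX : disp b ∈ dispSpan X := disp_mem (le_of_mem hB hb)
      have e : disp (a * b * a⁻¹) = disp b + (disp a * disp b - disp b * disp a) * (1 + disp a⁻¹) := by
        have h1 : disp (a * a⁻¹) = 0 := by rw [mul_inv_cancel, disp_one]
        rw [disp_mul] at h1
        have h2 : disp a * disp a⁻¹ = - disp a - disp a⁻¹ := by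
          rw [eq_sub_iff_add_eq, eq_neg_iff_add_eq_zero]; rw [← h1]; abel
        rw [disp_mul, disp_mul]
        have h3 : disp b * (disp a * disp a⁻¹) = disp b * (- disp a - disp a⁻¹) := by rw [h2]
        rw [mul_sub, mul_neg, ← mul_assoc] at h3
        simp only [add_mul, sub_mul, mul_add, mul_one]
        rw [h3, h2]
        abel
      rw [e, mul_add, mul_one]
      have hc : disp a * disp b - disp b * disp a ∈ T' :=
        sub_mem (hmulTX _ (hAg a ha) _ hbX).1 (hmulTX _ (hAg a ha) _ hbX).2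
      exact add_mem (hXT hbX) (add_mem hc (hmulT' _ hc _ (hAg _ (inv_mem ha))))
  intro a ha
  rw [Subgroup.mem_normalizer_iff]
  have hmap : ∀ a ∈ A, ∀ t ∈ X, a * t * a⁻¹ ∈ X := by
    intro a ha t ht
    have hle : X.map (MulAut.conj a).toMonoidHom ≤ X := by
      rw [hX, Subgroup.map_iSup]
      refine iSup_le fun B => ?_
      rw [Subgroup.map_iSup]
      exact iSup_le fun hB => le_of_mem (key a ha B hB)
    exact hle ⟨t, ht, rfl⟩
  refine fun t => ⟨hmap a ha t, fun ht => ?_⟩
  have := hmap a⁻¹ (inv_mem ha) _ ht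
  rwa [show a⁻¹ * (a * t * a⁻¹) * a⁻¹⁻¹ = t by group] at this

theorem maximal_unique (hWW : ∀ A ∈ W, ∀ B ∈ W, IsUnipotentOn (A ⊔ B))
    (hWconj : ∀ A ∈ W, ∀ B ∈ W, ∀ a ∈ A, conjBy B a ∈ W) {L L' : Set (Subgroup 𝔾)}
    (hL : Good W L) (hmax : ∀ L'', Good W L'' → L ⊆ L'' → L'' = L)
    (hL' : Good W L') (hmax' : ∀ L'', Good W L'' → L' ⊆ L'' → L'' = L') : L = L' := by
  induction hd : Module.finrank k (Module.End k M) - Module.finrank k (dispSpan (⨆ B ∈ L ∩ L', B))
    using Nat.strong_induction_on generalizing L L' with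
  | _ d ih =>
    by_contra hne
    have hD : Good W (L ∩ L') := by
      refine ⟨Set.Subset.antisymm (fun A hA => ⟨?_, ?_⟩) (subset_sat fun A hA => hL.subset hA.1), ?_⟩
      · rw [← hL.1]
        exact ⟨hA.1, fun g hg => dispSpan_mono (biSup_mono Set.inter_subset_left) (hA.2 g hg)⟩
      · rw [← hL'.1]
        exact ⟨hA.1, fun g hg => dispSpan_mono (biSup_mono Set.inter_subset_right) (hA.2 g hg)⟩
      · obtain ⟨n, -, hn⟩ := exists_pow_eq_bot hL.2
        exact isUnipotentOn_of_pow_eq_bot hn fun g hg => disp_mem ((show (⨆ C ∈ L ∩ L', C) ≤ ⨆ C ∈ L, C from biSup_mono Set.inter_subset_left) hg)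
    have h1 : ¬ L ⊆ L ∩ L' := fun hs => hne (hmax L' hL' fun A hA => (hs hA).2).symm
    have h2 : ¬ L' ⊆ L ∩ L' := fun hs => hne (hmax' L hL fun A hA => (hs hA).1)
    obtain ⟨A, hA, hAD, hAn⟩ := exists_normalizing hWconj hL hD Set.inter_subset_left h1
    obtain ⟨B, hB, hBD, hBn⟩ := exists_normalizing hWconj hL' hD Set.inter_subset_right h2
    have hAB := isUnipotentOn_sup hD.2 (hWW A (hL.subset hA) B (hL'.subset hB)) (sup_le hAn hBn)
    set D0 : Set (Subgroup 𝔾) := insert A (insert B (L ∩ L')) with hD0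
    have hD0W : D0 ⊆ W := by
      rintro C (rfl | rfl | hC)
      exacts [hL.subset hA, hL'.subset hB, hL.subset hC.1]
    have hD0u : IsUnipotentOn (⨆ C ∈ D0, C) := by
      obtain ⟨n, -, hn⟩ := exists_pow_eq_bot hAB
      refine isUnipotentOn_of_pow_eq_bot hn fun g hg => disp_mem ?_
      have hle : (⨆ C ∈ D0, C) ≤ (⨆ C ∈ L ∩ L', C) ⊔ (A ⊔ B) := by
        refine iSup₂_le ?_
        rintro C (rfl | rfl | hC)
        exacts [le_sup_left.trans le_sup_right, le_sup_right.trans le_sup_right, (le_of_mem hC).trans le_sup_left]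
      exact hle hg
    obtain ⟨L'', hsub, hL'', hmax''⟩ := exists_maximal_good (D := sat W D0) ⟨sat_sat hD0W, isUnipotentOn_sat hD0u⟩
    have hsub' : D0 ⊆ L'' := (subset_sat hD0W).trans hsub
    have hneq : L ≠ L'' := fun e => hBD ⟨e ▸ hsub' (Or.inr (Or.inl rfl)), hB⟩
    have hD' : Good W (L ∩ L'') := by
      refine ⟨Set.Subset.antisymm (fun C hC => ⟨?_, ?_⟩) (subset_sat fun C hC => hL.subset hC.1), ?_⟩
      · rw [← hL.1]
        exact ⟨hC.1, fun g hg => dispSpan_mono (biSup_mono Set.inter_subset_left) (hC.2 g hg)⟩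
      · rw [← hL''.1]
        exact ⟨hC.1, fun g hg => dispSpan_mono (biSup_mono Set.inter_subset_right) (hC.2 g hg)⟩
      · obtain ⟨n, -, hn⟩ := exists_pow_eq_bot hL.2
        exact isUnipotentOn_of_pow_eq_bot hn fun g hg => disp_mem ((show (⨆ C ∈ L ∩ L'', C) ≤ ⨆ C ∈ L, C from biSup_mono Set.inter_subset_left) hg)
    have hlt := hD.finrank_lt hD' ⟨fun C hC => ⟨hC.1, hsub' (Or.inr (Or.inr hC))⟩,
      fun hs => hAD (hs ⟨hA, hsub' (Or.inl rfl)⟩)⟩
    refine hneq (ih _ ?_ hL hmax hL'' hmax'' rfl)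
    have := Submodule.finrank_le (dispSpan (⨆ C ∈ L ∩ L'', C))
    omega

theorem isUnipotentOn_iSup (hWW : ∀ A ∈ W, ∀ B ∈ W, IsUnipotentOn (A ⊔ B))
    (hWconj : ∀ A ∈ W, ∀ B ∈ W, ∀ a ∈ A, conjBy B a ∈ W) : IsUnipotentOn (⨆ A ∈ W, A) := by
  have hstart : ∀ D : Set (Subgroup 𝔾), D ⊆ W → IsUnipotentOn (⨆ A ∈ D, A) →
      ∃ L, D ⊆ L ∧ Good W L ∧ ∀ L', Good W L' → L ⊆ L' → L' = L := by
    intro D hD hu
    obtain ⟨L, h1, h2⟩ := exists_maximal_good (D := sat W D) ⟨sat_sat hD, isUnipotentOn_sat hu⟩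
    exact ⟨L, (subset_sat hD).trans h1, h2⟩
  obtain ⟨L, -, hL, hmax⟩ := hstart ∅ (Set.empty_subset W)
    (isUnipotentOn_of_pow_eq_bot (N := (⊥ : Submodule k (Module.End k M))) (n := 1) (by rw [pow_one]) fun g hg => by
      simp only [Set.mem_empty_iff_false, iSup_false, iSup_bot, Subgroup.mem_bot] at hg
      rw [hg, disp_one]; exact zero_mem _)
  have hWL : W ⊆ L := by
    intro A hA
    obtain ⟨L', h1, h2, h3⟩ := hstart {A} (Set.singleton_subset_iff.2 hA) (by
      rw [iSup_singleton]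
      simpa using hWW A hA A hA)
    rw [maximal_unique hWW hWconj hL hmax h2 h3]
    exact h1 rfl
  obtain ⟨n, -, hn⟩ := exists_pow_eq_bot hL.2
  exact isUnipotentOn_of_pow_eq_bot hn fun g hg => disp_mem ((show (⨆ C ∈ W, C) ≤ ⨆ C ∈ L, C from biSup_mono hWL) hg)

end Family

end CfsgLib.ThreeTrans.Unipotent
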