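import Cfsg.Agent.Lib.Classical.Quad.ClassReflections
import Cfsg.Prelude.Def_FischerSpaces
import Cfsg.Prelude.Def_SporadicB

/-!
The reflections of a given norm over the field with three elements (owner: helper28).
-/

set_option autoImplicit false

namespace CfsgLib.ThreeTrans.ReflectionsF3

open Cfsg CfsgLib.Classical.Quad
open QuadraticMap (polar polarBilin)

variable {n : ℕ} (Q : QuadraticForm (ZMod 3) (Fin n → ZMod 3))

theorem two_ne : (2 : ZMod 3) ≠ 0 := by decide

/-- The subgroup generated by the reflections of one norm is that of one square class. -/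
theorem reflectionSubgroup_eq {c : ZMod 3} (hc : c ≠ 0) :
    Cfsg.reflectionSubgroup (⇑Q) c = (classReflGroup Q c).comap (oEquiv Q).toMonoidHom := by
  refine le_antisymm ((Subgroup.closure_le _).2 ?_) ?_
  · rintro g ⟨v, hv, hg⟩
    have hv0 : Q v ≠ 0 := by rw [hv]; exact hc
    show oEquiv Q g ∈ classReflGroup Q c
    rw [(oEquiv_eq_refl_iff Q hv0 g).1 hg]
    exact refl_mem_class hv0 (by rw [hv])
  · rw [Subgroup.comap_equiv_eq_map_symm']
    refine Subgroup.map_le_iff_le_comap.2 ((Subgroup.closure_le _).2 ?_)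
    rintro _ ⟨v, hv, hs, rfl⟩
    obtain ⟨v', hv', hvc, e⟩ := exists_normalised hv hc hs
    rw [e]
    exact Subgroup.subset_closure ⟨v', hvc, (oEquiv_eq_refl_iff Q hv' _).2 (MulEquiv.apply_symm_apply _ _)⟩

variable {Q}

theorem index_eq_two (hn : 5 ≤ n) (hQ : (polarBilin Q).Nondegenerate) {c : ZMod 3} (hc : c ≠ 0) :
    (Cfsg.reflectionSubgroup (⇑Q) c).index = 2 := by
  have h5 : 5 ≤ Module.finrank (ZMod 3) (Fin n → ZMod 3) := by rwa [Module.finrank_pi, Fintype.card_fin]
  rw [reflectionSubgroup_eq Q hc, Subgroup.index_comap_of_surjective _ (f := (oEquiv Q).toMonoidHom) (oEquiv Q).surjective]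
  exact index_classReflGroup two_ne (by omega) hQ (reflGroup_pi_eq_top hQ (hex_of_two_ne_zero two_ne))
    (Or.inl h5) hc

theorem z3_cases (x : ZMod 3) : x = 0 ∨ x = 1 ∨ x = -1 := by revert x; decide

theorem mem_norm_iff {c : ZMod 3} (hc : c ≠ 0) {g : Cfsg.isometryGroup (ZMod 3) (⇑Q)} :
    g ∈ Cfsg.reflectionsOfNorm (⇑Q) c ↔
      ∃ (v : Fin n → ZMod 3) (hv : Q v ≠ 0), Q v = c ∧ oEquiv Q g = refl hv := by
  constructor
  · rintro ⟨v, hv, hg⟩
    have hv0 : Q v ≠ 0 := by rw [hv]; exact hc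
    exact ⟨v, hv0, hv, (oEquiv_eq_refl_iff Q hv0 g).1 hg⟩
  · rintro ⟨v, hv0, hv, hg⟩
    exact ⟨v, hv, (oEquiv_eq_refl_iff Q hv0 g).2 hg⟩

theorem refl_eq {v w : Fin n → ZMod 3} (hv : Q v ≠ 0) (hw : Q w ≠ 0) {t : ZMod 3} (ht : t ≠ 0)
    (e : w = t • v) : refl hw = refl hv := by
  subst e; exact refl_smul hv ht

theorem refl_sandwich {v w : Fin n → ZMod 3} (hv : Q v ≠ 0) (hw : Q w ≠ 0) :
    refl hv * refl hw * refl hv =
      refl (v := (refl hv : (Fin n → ZMod 3) ≃ₗ[ZMod 3] (Fin n → ZMod 3)) w) (by rwa [OQ.map_apply]) := by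
  conv_lhs => arg 2; rw [← inv_eq_of_mul_eq_one_left (refl_mul_self hv)]
  exact refl_conj _ _

theorem braid {c : ZMod 3} (hc : c ≠ 0) {v w : Fin n → ZMod 3} (hv : Q v = c) (hw : Q w = c)
    (hv0 : Q v ≠ 0) (hw0 : Q w ≠ 0) (hp : polar Q v w ≠ 0) :
    refl hv0 * refl hw0 * refl hv0 = refl hw0 * refl hv0 * refl hw0 := by
  rw [refl_sandwich, refl_sandwich]
  set s := polar Q w v / c with hs
  have hs1 : s * s = 1 := by
    have h0 : polar Q w v ≠ 0 := by rwa [QuadraticMap.polar_comm]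
    have : s ≠ 0 := div_ne_zero h0 hc
    revert this
    generalize s = x
    revert x
    decide
  have hne : -s ≠ 0 := neg_ne_zero.2 fun e => zero_ne_one ((by rw [e, mul_zero] : (0 : ZMod 3) = s * s).trans hs1)
  refine refl_eq _ _ hne ?_
  rw [refl_apply, refl_apply, hv, hw, QuadraticMap.polar_comm (⇑Q) v w]
  match_scalars
  · linear_combination -hs1
  · rw [hs]; field_simp

theorem sq_one {c : ZMod 3} {v w : Fin n → ZMod 3} (hv0 : Q v ≠ 0) (hw0 : Q w ≠ 0)
    (hp : polar Q v w = 0) : (refl hv0 * refl hw0) ^ 2 = (1 : OQ Q) := by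
  have h : refl hv0 * refl hw0 * refl hv0 = refl hw0 := by
    rw [refl_sandwich]
    refine refl_eq _ _ one_ne_zero ?_
    rw [refl_apply, QuadraticMap.polar_comm, hp, one_smul]
    simp
  rw [pow_two, ← mul_assoc, h, refl_mul_self]

theorem three_of_braid {G : Type*} [Group G] {a b : G} (ha : a * a = 1) (hb : b * b = 1)
    (h : a * b * a = b * a * b) : (a * b) ^ 3 = 1 := by
  calc (a * b) ^ 3 = (a * b * a) * (b * a * b) := by simp only [pow_succ, pow_zero, one_mul, mul_assoc]
    _ = (a * b * a) * (a * b * a) := by rw [← h]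
    _ = a * b * (a * a) * b * a := by group
    _ = 1 := by rw [ha, mul_one, mul_assoc a b b, hb, mul_one, ha]

theorem conj_of_braid {G : Type*} [Group G] {a b : G} (ha : a * a = 1) (hb : b * b = 1)
    (h : a * b * a = b * a * b) : (a * b) * a * (a * b)⁻¹ = b := by
  rw [h, _root_.mul_inv_rev, inv_eq_of_mul_eq_one_left ha, inv_eq_of_mul_eq_one_left hb]
  calc b * a * b * (b * a) = b * a * (b * b) * a := by group
    _ = b * (a * a) := by rw [hb, mul_one, mul_assoc]
    _ = b := by rw [ha, mul_one]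

theorem orderOf_refl {v : Fin n → ZMod 3} (hv : Q v ≠ 0) : orderOf (refl hv) = 2 := by
  haveI : Fact (Nat.Prime 2) := ⟨Nat.prime_two⟩
  refine orderOf_eq_prime (by rw [pow_two, refl_mul_self]) fun e => ?_
  have h := congrArg (fun g : OQ Q => (g : (Fin n → ZMod 3) ≃ₗ[ZMod 3] (Fin n → ZMod 3)) v) e
  change (refl hv : (Fin n → ZMod 3) ≃ₗ[ZMod 3] (Fin n → ZMod 3)) v = v at h
  rw [refl_apply, polar_self', show (Q v)⁻¹ * (2 * Q v) = 2 by field_simp] at h
  have hv2 : (2 : ZMod 3) • v = 0 := by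
    rw [← sub_eq_self (a := v)]; exact h
  exact hv (by rw [(smul_eq_zero.1 hv2).resolve_left two_ne, QuadraticMap.map_zero])

theorem threeTranspositionClass (hn : 4 ≤ n) (hQ : (polarBilin Q).Nondegenerate) {c : ZMod 3} (hc : c ≠ 0) :
    Cfsg.IsThreeTranspositionClass {g : ↥(Cfsg.reflectionSubgroup (⇑Q) c) |
      (g : ↥(Cfsg.isometryGroup (ZMod 3) (⇑Q))) ∈ Cfsg.reflectionsOfNorm (⇑Q) c} := by
  haveI : Fact (Nat.Prime 3) := ⟨Nat.prime_three⟩
  set R := Cfsg.reflectionSubgroup (⇑Q) c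
  set D := {g : R | (g : Cfsg.isometryGroup (ZMod 3) (⇑Q)) ∈ Cfsg.reflectionsOfNorm (⇑Q) c}
  let f : R →* OQ Q := (oEquiv Q).toMonoidHom.comp R.subtype
  have hf : Function.Injective f := (oEquiv Q).injective.comp R.subtype_injective
  have hmem : ∀ g, g ∈ D ↔ ∃ (v : Fin n → ZMod 3) (hv : Q v ≠ 0), Q v = c ∧ f g = refl hv := fun g => mem_norm_iff hc
  have hget : ∀ (v : Fin n → ZMod 3) (hv : Q v ≠ 0), Q v = c → ∃ g ∈ D, f g = refl hv := by
    intro v hv hvc
    have hg : (oEquiv Q).symm (refl hv) ∈ Cfsg.reflectionsOfNorm (⇑Q) c :=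
      (mem_norm_iff hc).2 ⟨v, hv, hvc, MulEquiv.apply_symm_apply _ _⟩
    exact ⟨⟨_, Subgroup.subset_closure hg⟩, hg, MulEquiv.apply_symm_apply (oEquiv Q) (refl hv)⟩
  have hself : ∀ g ∈ D, g * g = 1 := fun g hg => by
    obtain ⟨v, hv, -, e⟩ := (hmem g).1 hg
    exact hf (by rw [map_mul, map_one, e, refl_mul_self])
  refine ⟨⟨fun d hd => ?_, fun d hd e he => ?_⟩, ?_, Subgroup.closure_closure_coe_preimage⟩
  · obtain ⟨v, hv, -, ev⟩ := (hmem d).1 hd
    rw [← orderOf_injective f hf d, ev, orderOf_refl]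
  · obtain ⟨v, hv, hvc, ev⟩ := (hmem d).1 hd
    obtain ⟨w, hw, hwc, ew⟩ := (hmem e).1 he
    by_cases hp : polar Q v w = 0
    · exact Or.inl (hf (by rw [map_pow, map_mul, ev, ew, map_one, sq_one (c := c) hv hw hp]))
    · exact Or.inr (three_of_braid (hself d hd) (hself e he) (hf (by
        rw [map_mul, map_mul, map_mul, map_mul, ev, ew, braid hc hvc hwc hv hw hp])))
  · have hV : 2 ≤ Module.finrank (ZMod 3) (Fin n → ZMod 3) := by rw [Module.finrank_pi, Fintype.card_fin]; omega
    obtain ⟨v₀, hv₀⟩ := exists_apply_eq hQ hV hc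
    have hv₀' : Q v₀ ≠ 0 := by rw [hv₀]; exact hc
    obtain ⟨d, hd, ed⟩ := hget v₀ hv₀' hv₀
    refine ⟨d, hd, Set.ext fun g => ⟨fun hg => ?_, fun hg => ?_⟩⟩
    · obtain ⟨w, hw, hwc, ew⟩ := (hmem g).1 hg
      show IsConj d g
      rw [isConj_iff]
      have step : ∀ {a b : R} {x y : Fin n → ZMod 3} {hx : Q x ≠ 0} {hy : Q y ≠ 0}, a ∈ D → b ∈ D →
          Q x = c → Q y = c → f a = refl hx → f b = refl hy → polar Q x y ≠ 0 → (a * b) * a * (a * b)⁻¹ = b := by
        intro a b x y hx hy ha hb hxc hyc ea eb hp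
        exact conj_of_braid (hself a ha) (hself b hb) (hf (by
          rw [map_mul, map_mul, map_mul, map_mul, ea, eb, braid hc hxc hyc hx hy hp]))
      by_cases hp : polar Q v₀ w = 0
      · have hP : ∀ x ∈ Submodule.span (ZMod 3) ({v₀, w} : Set (Fin n → ZMod 3)),
            (∀ y ∈ Submodule.span (ZMod 3) ({v₀, w} : Set (Fin n → ZMod 3)), polar Q x y = 0) → x = 0 := by
          intro x hx hxy
          obtain ⟨a, b, rfl⟩ := Submodule.mem_span_pair.1 hx
          have e0 := hxy v₀ (Submodule.subset_span (by simp))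
          have e1 := hxy w (Submodule.subset_span (by simp))
          rw [polar_add_left', polar_smul_left', polar_smul_left', polar_self', hv₀, QuadraticMap.polar_comm (⇑Q) w, hp] at e0
          rw [polar_add_left', polar_smul_left', polar_smul_left', polar_self', hwc, hp] at e1
          simp [hc, two_ne] at e0 e1
          simp [e0, e1]
        obtain ⟨z, hz, hperp⟩ := exists_apply_eq_perp_nondeg hQ hP (c := -c) (by
          have h := finrank_span_finset_le_card (R := ZMod 3) ({v₀, w} : Finset (Fin n → ZMod 3))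
          have hle := h.trans (Finset.card_le_two (a := v₀) (b := w))
          rw [show (({v₀, w} : Finset (Fin n → ZMod 3)) : Set (Fin n → ZMod 3)) = {v₀, w} by simp] at hle
          simp only [Set.finrank] at hle
          rw [Module.finrank_pi, Fintype.card_fin]
          omega) (neg_ne_zero.2 hc)
        have hz1 := hperp v₀ (Submodule.subset_span (by simp))
        have hz2 := hperp w (Submodule.subset_span (by simp))
        set u := v₀ + w + z
        have huc : Q u = c := by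
          rw [apply_add, apply_add, hv₀, hwc, hz, hp, polar_add_left', hz1, hz2]
          ring
        have hu : Q u ≠ 0 := by rw [huc]; exact hc
        have h2c : 2 * c ≠ 0 := mul_ne_zero two_ne hc
        have hpu : polar Q v₀ u ≠ 0 := by
          rw [polar_add_right', polar_add_right', polar_self', hv₀, hp, hz1, add_zero, add_zero]
          exact h2c
        have hpw : polar Q u w ≠ 0 := by
          rw [QuadraticMap.polar_comm, polar_add_right', polar_add_right', polar_self', hwc,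
            QuadraticMap.polar_comm (⇑Q) w v₀, hp, hz2, zero_add, add_zero]
          exact h2c
        obtain ⟨m, hm, em⟩ := hget u hu huc
        have s1 := step hd hm hv₀ huc ed em hpu
        have s2 := step hm hg huc hwc em ew hpw
        refine ⟨(m * g) * (d * m), ?_⟩
        calc (m * g) * (d * m) * d * ((m * g) * (d * m))⁻¹
            = (m * g) * ((d * m) * d * (d * m)⁻¹) * (m * g)⁻¹ := by group
          _ = g := by rw [s1, s2]
      · exact ⟨d * g, step hd hg hv₀ hwc ed ew hp⟩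
    · change IsConj d g at hg
      rw [isConj_iff] at hg
      obtain ⟨x, rfl⟩ := hg
      refine (hmem _).2 ⟨(f x : (Fin n → ZMod 3) ≃ₗ[ZMod 3] (Fin n → ZMod 3)) v₀, ?_, ?_, ?_⟩
      · rwa [OQ.map_apply]
      · rw [OQ.map_apply]; exact hv₀
      · rw [map_mul, map_mul, map_inv, ed, refl_conj]

end CfsgLib.ThreeTrans.ReflectionsF3
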