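import Mathlib
import Cfsg.Prelude.Def_SporadicB

set_option autoImplicit false

/-!
Elementary facts about sets of 3-transpositions (owner: helper28).
-/

namespace CfsgLib.ThreeTrans

open Cfsg

variable {G : Type*} [Group G]

section Set3

variable {D : Set G} (hD : IsThreeTranspositionSet D)
include hD

theorem mul_self {d : G} (hd : d ∈ D) : d * d = 1 := by
  have h := pow_orderOf_eq_one d
  rw [hD.1 d hd, pow_two] at h
  exact h

theorem inv_eq {d : G} (hd : d ∈ D) : d⁻¹ = d :=
  inv_eq_of_mul_eq_one_right (mul_self hD hd)

theorem ne_one {d : G} (hd : d ∈ D) : d ≠ 1 := by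
  intro h
  have := hD.1 d hd
  rw [h, orderOf_one] at this
  omega

theorem mul_self_assoc {d : G} (hd : d ∈ D) (x : G) : d * (d * x) = x := by
  rw [← mul_assoc, mul_self hD hd, one_mul]

theorem commute_iff_sq {d e : G} (hd : d ∈ D) (he : e ∈ D) :
    Commute d e ↔ (d * e) ^ 2 = 1 := by
  rw [pow_two, ← eq_inv_iff_mul_eq_one, mul_inv_rev, inv_eq hD hd, inv_eq hD he]
  rfl

theorem pow_three {d e : G} (hd : d ∈ D) (he : e ∈ D) (h : ¬ Commute d e) :
    (d * e) ^ 3 = 1 :=
  (hD.2 d hd e he).resolve_left fun h2 => h ((commute_iff_sq hD hd he).2 h2)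

theorem orderOf_mul {d e : G} (hd : d ∈ D) (he : e ∈ D) (h : ¬ Commute d e) :
    orderOf (d * e) = 3 := by
  haveI : Fact (Nat.Prime 3) := ⟨Nat.prime_three⟩
  refine orderOf_eq_prime (pow_three hD hd he h) ?_
  intro h1
  have hde : d = e := by
    rw [← inv_eq hD he]
    exact eq_inv_of_mul_eq_one_left h1
  exact h (hde ▸ Commute.refl d)

/-- The braid relation for two non-commuting members. -/
theorem braid {d e : G} (hd : d ∈ D) (he : e ∈ D) (h : ¬ Commute d e) :
    d * e * d = e * d * e := by
  have h3 := pow_three hD hd he h
  rw [_root_.pow_succ, pow_two] at h3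
  have h' : (d * e * d) * (e * d * e) = 1 := by
    simpa only [mul_assoc] using h3
  have := eq_inv_of_mul_eq_one_left h'
  rw [this]
  simp only [mul_inv_rev, inv_eq hD hd, inv_eq hD he, mul_assoc]

theorem conj_eq {d e : G} (hd : d ∈ D) : d * e * d⁻¹ = d * e * d := by
  rw [inv_eq hD hd]

/-- If `e` commutes with a product of two commuting members it commutes with each. -/
theorem commute_of_commute_mul {a b e : G} (ha : a ∈ D) (hb : b ∈ D) (he : e ∈ D)
    (hab : a ≠ b) (h : Commute e (a * b)) :
    Commute e a ∧ Commute e b := by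
  by_cases hea : Commute e a
  · refine ⟨hea, ?_⟩
    have h2 : Commute e (a * (a * b)) := hea.mul_right h
    rwa [mul_self_assoc hD ha] at h2
  · exfalso
    have heb : ¬ Commute e b := fun heb => hea (by
      have h2 : Commute e (a * b * b) := h.mul_right heb
      rwa [mul_assoc, mul_self hD hb, mul_one] at h2)
    have b1 := braid hD he ha hea
    have b2 := braid hD he hb heb
    have h1 : (e * a * e) * (e * b * e) = a * b := by
      have : e * (a * b) * e = a * b := by rw [h.eq, mul_assoc, mul_self hD he, mul_one]
      rw [← this]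
      simp only [mul_assoc, mul_self_assoc hD he]
    rw [b1, b2] at h1
    have h3 : a * (e * a * (b * e)) * b = a * b := by
      rw [← h1]; simp only [mul_assoc]
    have h4 : a * (e * a * (b * e)) = a := mul_right_cancel h3
    have h5 : e * (a * b) * e = 1 := by
      have := mul_eq_left.1 h4
      rw [← this]; simp only [mul_assoc]
    rw [h.eq, mul_assoc, mul_self hD he, mul_one] at h5
    apply hab
    rw [← inv_eq hD hb]
    exact eq_inv_of_mul_eq_one_left h5

theorem commute_mul_iff {a b e : G} (ha : a ∈ D) (hb : b ∈ D) (he : e ∈ D)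
    (hab : a ≠ b) : Commute e (a * b) ↔ Commute e a ∧ Commute e b :=
  ⟨commute_of_commute_mul hD ha hb he hab, fun h => h.1.mul_right h.2⟩

/-- If `e` commutes with a product of three pairwise commuting members it commutes with each. -/
theorem commute_mul_three_iff {a b c e : G} (ha : a ∈ D) (hb : b ∈ D) (hc : c ∈ D) (he : e ∈ D)
    (hab : a ≠ b) (hac : a ≠ c) (hbc : b ≠ c) (h₁ : Commute a b) (h₂ : Commute a c)
    (h₃ : Commute b c) :
    Commute e (a * b * c) ↔ Commute e a ∧ Commute e b ∧ Commute e c := by
  refine ⟨fun h => ?_, fun h => (h.1.mul_right h.2.1).mul_right h.2.2⟩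
  by_cases hea : Commute e a
  · refine ⟨hea, commute_of_commute_mul hD hb hc he hbc ?_⟩
    have h2 : Commute e (a * (a * b * c)) := hea.mul_right h
    rwa [mul_assoc a b c, mul_self_assoc hD ha] at h2
  by_cases hec : Commute e c
  · have h2 : Commute e (a * b * c * c) := h.mul_right hec
    rw [mul_assoc (a * b), mul_self hD hc, mul_one] at h2
    have h3 := commute_of_commute_mul hD ha hb he hab h2
    exact absurd h3.1 hea
  by_cases heb : Commute e b
  · have h2 : Commute e (a * c) := by
      have h3 : Commute e (a * b * c * b) := h.mul_right heb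
      rwa [mul_assoc (a * b), h₃.symm.eq, ← mul_assoc, mul_assoc a b b, mul_self hD hb, mul_one] at h3
    exact absurd (commute_of_commute_mul hD ha hc he hac h2).1 hea
  exfalso
  have b1 := braid hD he ha hea
  have b2 := braid hD he hb heb
  have b3 := braid hD he hc hec
  have e1 : (e * a * e) * (e * b * e) * (e * c * e) = a * b * c := by
    have : e * (a * b * c) * e = a * b * c := by
      rw [h.eq, mul_assoc, mul_self hD he, mul_one]
    conv_rhs => rw [← this]
    simp only [mul_assoc, mul_self_assoc hD he]
  rw [b1, b2, b3] at e1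
  have e2 : e * a * b * e * b * c * e = b := by
    have : a * (e * a * b * e * b * c * e) * c = a * b * c := by
      rw [← e1]; simp only [mul_assoc]
    exact mul_left_cancel (mul_right_cancel this)
  have e3 : a * b * e * b * c = e * b * e := by
    calc a * b * e * b * c = e * (e * a * b * e * b * c * e) * e := by
          simp only [mul_assoc, mul_self_assoc hD he, mul_self hD he, mul_one]
      _ = _ := by rw [e2]
  rw [b2] at e3
  -- conjugation by `beb` carries `c` to `a`
  have e4 : a * (b * e * b) = (b * e * b) * c := by
    calc a * (b * e * b) = (a * b * e * b * c) * c := by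
          simp only [mul_assoc, mul_self hD hc, mul_one]
      _ = _ := by rw [e3]
  have e5 : a * e = e * c := by
    have : b * (a * e) * b = b * (e * c) * b := by
      calc b * (a * e) * b = a * (b * e * b) := by
            simp only [← mul_assoc, h₁.eq]
        _ = (b * e * b) * c := e4
        _ = _ := by simp only [mul_assoc, h₃.eq]
    exact mul_left_cancel (mul_right_cancel this)
  have e6 : e * c * e = a := by rw [← e5, mul_assoc, mul_self hD he, mul_one]
  rw [b3] at e6
  have : e = a := by
    calc e = c * (c * e * c) * c := by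
          simp only [mul_assoc, mul_self_assoc hD hc, mul_self hD hc, mul_one]
      _ = c * a * c := by rw [e6]
      _ = a := by rw [← h₂.eq, mul_assoc, mul_self hD hc, mul_one]
  exact hea (this ▸ Commute.refl e)

end Set3

end CfsgLib.ThreeTrans
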