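import Cfsg.Agent.Lib.ThreeTrans.Perp
import Cfsg.Agent.Lib.Components.FStar
import Cfsg.Agent.Lib.Char.Burnside
import Cfsg.Agent.S5347
import Cfsg.Prelude.Def_FischerSpaces

set_option autoImplicit false

/-!
Components and primitivity of groups generated by a class of 3-transpositions (owner: helper28).
-/

namespace CfsgLib.ThreeTrans

open Cfsg

universe u

variable {G : Type u} [Group G] {D : Set G}

theorem isNilpotent_of_comm {H : Type*} [Group H] (h : ∀ a b : H, a * b = b * a) : Group.IsNilpotent H :=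
  letI : CommGroup H := { ‹Group H› with mul_comm := h }
  inferInstance

theorem index_le_two_of_sup [Finite G] {L : Subgroup G} [L.Normal] {d : G} (hd : d * d = 1)
    (h : L ⊔ Subgroup.zpowers d = ⊤) : L.index ≤ 2 := by
  have hs : Function.Surjective ((QuotientGroup.mk' L).comp (Subgroup.zpowers d).subtype) := by
    intro q
    induction q using QuotientGroup.induction_on with
    | H x =>
      obtain ⟨n, hn, y, hy, rfl⟩ := Subgroup.mem_sup_of_normal_left.1 (show x ∈ L ⊔ Subgroup.zpowers d from h ▸ Subgroup.mem_top x)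
      refine ⟨⟨y, hy⟩, ?_⟩
      show (y : G ⧸ L) = ((n * y : G) : G ⧸ L)
      rw [QuotientGroup.mk_mul, (QuotientGroup.eq_one_iff n).2 hn, one_mul]
  rw [Subgroup.index_eq_card]
  refine (Nat.card_le_card_of_surjective _ hs).trans ?_
  rw [Nat.card_zpowers]
  exact orderOf_le_of_pow_eq_one two_pos (by rw [pow_two, hd])

theorem commutator_le_of_index_le_two [Finite G] {L : Subgroup G} [L.Normal] (h : L.index ≤ 2) :
    commutator G ≤ L := by
  have hc : ∀ x y : G ⧸ L, x * y = y * x := by
    intro x y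
    have hcard : Nat.card (G ⧸ L) ≤ 2 := by rwa [← Subgroup.index_eq_card]
    by_cases hx : x = 1
    · simp [hx]
    by_cases hy : y = 1
    · simp [hy]
    have : x = y := by
      by_contra hne
      have h3 : ({1, x, y} : Set (G ⧸ L)).ncard = 3 :=
        Set.ncard_eq_three.2 ⟨1, x, y, Ne.symm hx, Ne.symm hy, hne, rfl⟩
      have := Set.ncard_le_card ({1, x, y} : Set (G ⧸ L))
      omega
    rw [this]
  rw [commutator_def, Subgroup.commutator_le]
  intro a _ b _
  rw [← QuotientGroup.eq_one_iff, commutatorElement_def]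
  simp only [QuotientGroup.mk_mul, QuotientGroup.mk_inv]
  rw [hc a b]; group

/-! ### Facts about a generating class -/

section Class

variable (hD : IsThreeTranspositionClass D)
include hD

theorem group_of_class : IsThreeTranspositionGroup D := ⟨hD.1, class_conj hD, hD.2.2⟩

theorem normal_of_invariant {K : Subgroup G} (h : ∀ d ∈ D, ∀ x ∈ K, d * x * d⁻¹ ∈ K) : K.Normal := by
  refine ⟨fun n hn g => ?_⟩
  have hg : g ∈ Subgroup.closure D := hD.2.2 ▸ Subgroup.mem_top g
  induction hg using Subgroup.closure_induction_left generalizing n with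
  | one => simpa using hn
  | mul_left d hd y _ ih =>
    rw [show d * y * n * (d * y)⁻¹ = d * (y * n * y⁻¹) * d⁻¹ by group]
    exact h d hd _ (ih n hn)
  | inv_mul_cancel d hd y _ ih =>
    rw [inv_eq hD.1 hd, show d * y * n * (d * y)⁻¹ = d * (y * n * y⁻¹) * d⁻¹ by group]
    exact h d hd _ (ih n hn)

theorem central_of_commute_class {x : G} (h : ∀ d ∈ D, Commute d x) : x ∈ Subgroup.center G :=
  central_of_commute_all hD.2.2 fun d hd => (h d hd).symm

theorem not_central (hD2 : ∃ a ∈ D, ∃ b ∈ D, a ≠ b) {d : G} (hd : d ∈ D) : d ∉ Subgroup.center G := by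
  intro h
  obtain ⟨x, -, hdx⟩ := exists_not_commute hD hD2 hd
  exact hdx (Subgroup.mem_center_iff.1 h x).symm

theorem sup_zpowers_eq_top {N : Subgroup G} [N.Normal] {d : G} (h : ∀ x ∈ D, d * x ∈ N) :
    N ⊔ Subgroup.zpowers d = ⊤ := by
  rw [eq_top_iff, ← hD.2.2, Subgroup.closure_le]
  intro x hx
  have := mul_mem (Subgroup.mem_sup_right (inv_mem (Subgroup.mem_zpowers d)) : d⁻¹ ∈ N ⊔ Subgroup.zpowers d)
    (Subgroup.mem_sup_left (h x hx))
  rwa [inv_mul_cancel_left] at this

theorem sup_zpowers_eq_top_of_index {L : Subgroup G} [L.Normal] [Finite G] (hidx : L.index ≤ 2) {d : G}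
    (hd : d ∈ D) : L ⊔ Subgroup.zpowers d = ⊤ := by
  refine sup_zpowers_eq_top hD fun x hx => ?_
  obtain ⟨g, rfl⟩ := class_trans hD hd hx
  rw [show d * (g * d * g⁻¹) = d * (g * d * g⁻¹ * d⁻¹) * d⁻¹ * (d * d) by group, mul_self hD.1 hd, mul_one]
  exact (inferInstance : L.Normal).conj_mem _
    (commutator_le_of_index_le_two hidx (Subgroup.commutator_mem_commutator (Subgroup.mem_top g) (Subgroup.mem_top d))) d

theorem fitting_le_center [Finite G] (h2 : pCore 2 G ≤ Subgroup.center G) (h3 : pCore 3 G ≤ Subgroup.center G) :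
    fittingSubgroup G ≤ Subgroup.center G := by
  rw [CfsgLib.Core.fittingSubgroup_eq_iSup_pCore]
  refine iSup_le fun p => ?_
  by_cases hp2 : (p : ℕ) = 2
  · rwa [hp2]
  by_cases hp3 : (p : ℕ) = 3
  · rwa [hp3]
  have hp : 3 < (p : ℕ) := by have := p.2.two_le; omega
  intro x hx
  refine central_of_commute_class hD fun d hd => ?_
  exact Cfsg.Agent.S5347.result (group_of_class hD) p.2 hp _ (CfsgLib.Core.isPGroup_pCore _ G) hd
    ((Subgroup.normalizer_eq_top_iff.2 inferInstance : Subgroup.normalizer (pCore (p : ℕ) G : Set G) = ⊤) ▸ Subgroup.mem_top d) x hx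

theorem center_le_fitting [Finite G] : Subgroup.center G ≤ fittingSubgroup G :=
  CfsgLib.Core.le_fittingSubgroup (isNilpotent_of_comm fun a b => Subtype.ext (Subgroup.mem_center_iff.1 b.2 a))

theorem layer_ne_bot [Finite G] (hD2 : ∃ a ∈ D, ∃ b ∈ D, a ≠ b) (hF : fittingSubgroup G ≤ Subgroup.center G) :
    layer G ≠ ⊥ := by
  intro h
  have h1 : generalizedFittingSubgroup G ≤ Subgroup.center G := by
    rw [generalizedFittingSubgroup, h, bot_sup_eq]; exact hF
  obtain ⟨d, hd, -⟩ := id hD2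
  refine not_central hD hD2 hd ?_
  apply h1
  apply CfsgLib.Components.centralizer_gFitting_le
  rw [Subgroup.mem_centralizer_iff]
  intro y hy
  exact (Subgroup.mem_center_iff.1 (h1 hy) d).symm

/-- Every component is normal. -/
theorem component_normal [Finite G] {K : Subgroup G} (hK : IsComponent K) : K.Normal := by
  refine normal_of_invariant hD fun d hd => ?_
  set K' := K.map (MulAut.conj d).toMonoidHom with hK'def
  have hK' : IsComponent K' := CfsgLib.Components.isComponent_conj hK d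
  rcases CfsgLib.Components.components_eq_or_commute hK hK' with e | hc
  · exact fun x hx => e.ge ⟨x, hx, rfl⟩
  exfalso
  have hcomm : ∀ a ∈ K, ∀ b ∈ K', Commute a b := fun a ha b hb =>
    (Subgroup.mem_centralizer_iff.1 (Subgroup.commutator_eq_bot_iff_le_centralizer.1 hc ha) b hb).symm
  have hQ : ∀ q : ↥K ⧸ Subgroup.center ↥K, q ^ 2 = 1 ∨ q ^ 3 = 1 := by
    intro q
    induction q using QuotientGroup.induction_on with
    | H g =>
      have hy : d * (g : G) * d⁻¹ ∈ K' := ⟨g, g.2, rfl⟩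
      have hmain : ∀ n : ℕ, (d * ((g : G) * d * (g : G)⁻¹)) ^ n = 1 → (g ^ n) ∈ Subgroup.center ↥K := by
        intro n hn
        have e : d * ((g : G) * d * (g : G)⁻¹) = (d * (g : G) * d⁻¹) * (g : G)⁻¹ := by
          rw [inv_eq hD.1 hd]; simp only [mul_assoc]
        rw [e, ((hcomm _ (inv_mem g.2) _ hy).symm).mul_pow, inv_pow, mul_inv_eq_one] at hn
        rw [Subgroup.mem_center_iff]
        intro k
        apply Subtype.ext
        show (k : G) * (g : G) ^ n = (g : G) ^ n * (k : G)
        rw [← hn]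
        exact (hcomm _ k.2 _ (pow_mem hy n)).eq
      rcases hD.1.2 d hd _ (class_conj hD (g : G) d hd) with h | h
      · exact Or.inl ((QuotientGroup.eq_one_iff _).2 (hmain 2 h))
      · exact Or.inr ((QuotientGroup.eq_one_iff _).2 (hmain 3 h))
  apply CfsgLib.Components.IsComponent.not_isSolvable hK
  set Q := ↥K ⧸ Subgroup.center ↥K
  have hsolQ : Group.IsSolvable Q := by
    have h0 : Nat.card Q ≠ 0 := Nat.card_pos.ne'
    have hfac : ∀ p ∈ (Nat.card Q).primeFactorsList, p = 2 ∨ p = 3 := by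
      intro p hp
      haveI : Fact p.Prime := ⟨Nat.prime_of_mem_primeFactorsList hp⟩
      obtain ⟨q, hq⟩ := exists_prime_orderOf_dvd_card' (G := Q) p (Nat.dvd_of_mem_primeFactorsList hp)
      rcases hQ q with h | h <;> have h' := orderOf_dvd_of_pow_eq_one h <;> rw [hq] at h'
      · exact Or.inl ((Nat.prime_dvd_prime_iff_eq (Fact.out) Nat.prime_two).1 h')
      · exact Or.inr ((Nat.prime_dvd_prime_iff_eq (Fact.out) Nat.prime_three).1 h')
    have key : ∀ l : List ℕ, (∀ p ∈ l, p = 2 ∨ p = 3) → ∃ a b, l.prod = 2 ^ a * 3 ^ b := by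
      intro l
      induction l with
      | nil => exact fun _ => ⟨0, 0, rfl⟩
      | cons p l ih =>
        intro hl
        obtain ⟨a, b, hab⟩ := ih fun q hq => hl q (List.mem_cons_of_mem _ hq)
        rcases hl p List.mem_cons_self with rfl | rfl
        · exact ⟨a + 1, b, by rw [List.prod_cons, hab]; ring⟩
        · exact ⟨a, b + 1, by rw [List.prod_cons, hab]; ring⟩
    obtain ⟨a, b, hab⟩ := key _ hfac
    rw [Nat.prod_primeFactorsList h0] at hab
    exact CfsgLib.Burnside.isSolvable_of_card_eq Nat.prime_two Nat.prime_three hab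
  haveI := hsolQ
  haveI : Group.IsSolvable (Subgroup.center ↥K) :=
    Group.isSolvable_of_comm fun a b => Subtype.ext (Subgroup.mem_center_iff.1 b.2 a)
  exact Group.isSolvable_of_ker_le_range (Subgroup.center ↥K).subtype (QuotientGroup.mk' (Subgroup.center ↥K))
    (by rw [QuotientGroup.ker_mk', Subgroup.range_subtype])

theorem component_unique [Finite G] {L : Subgroup G} [L.Normal] (hL : IsQuasisimple L) (hidx : L.index ≤ 2)
    {K : Subgroup G} (hK : IsComponent K) : K = L := by
  have hKL : K ≤ L := by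
    rw [← CfsgLib.Components.IsComponent.commutator_eq_self hK]
    exact (Subgroup.commutator_mono le_top le_top).trans ((commutator_def G).symm ▸ commutator_le_of_index_le_two hidx)
  rcases CfsgLib.Components.components_eq_or_commute hK ⟨(inferInstance : L.Normal).isSubnormal, hL⟩ with h | h
  · exact h
  · exact absurd (le_bot_iff.1 ((Subgroup.commutator_mono le_rfl hKL).trans h.le))
      (CfsgLib.Components.IsQuasisimple.commutator_self_ne_bot hK.2)

theorem gFitting_eq [Finite G] {L : Subgroup G} [L.Normal] (hL : IsQuasisimple L) (hidx : L.index ≤ 2)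
    (hF : fittingSubgroup G ≤ Subgroup.center G) :
    generalizedFittingSubgroup G = L ⊔ Subgroup.center G := by
  have h1 : layer G = L := le_antisymm
    (CfsgLib.Components.layer_le_iff.2 fun K hK => (component_unique hD hL hidx hK).le)
    (CfsgLib.Components.le_layer ⟨(inferInstance : L.Normal).isSubnormal, hL⟩)
  rw [generalizedFittingSubgroup, h1]
  exact le_antisymm (sup_le_sup_left hF L) (sup_le_sup_left (center_le_fitting hD) L)

theorem exists_not_commute_mem {L : Subgroup G} [L.Normal] (hL : IsQuasisimple L) {d : G} (hd : d ∈ D) :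
    ∃ g ∈ L, ¬ Commute d g := by
  by_contra h
  simp only [not_exists, not_and, not_not] at h
  have : L ≤ Subgroup.center G := by
    intro g hg
    refine central_of_commute_class hD fun x hx => ?_
    obtain ⟨c, rfl⟩ := class_trans hD hd hx
    rw [← conj_cancel c g, commute_conj_iff]
    exact h _ (by simpa using (inferInstance : L.Normal).conj_mem g hg c⁻¹)
  exact CfsgLib.Components.IsQuasisimple.not_isMulCommutative hL
    ⟨⟨fun a b => Subtype.ext (Subgroup.mem_center_iff.1 (this b.2) a)⟩⟩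

theorem exists_not_commute_conj {L : Subgroup G} [L.Normal] (hL : IsQuasisimple L) {b d : G} (hb : b ∈ D)
    (hd : d ∈ D) : ∃ g ∈ L, ¬ Commute b (g * d * g⁻¹) := by
  by_contra h
  simp only [not_exists, not_and, not_not] at h
  set H := Subgroup.closure {x : G | ∃ g ∈ L, x = g * d * g⁻¹} with hH
  have hbH : ∀ x ∈ H, Commute b x := by
    intro x hx
    induction hx using Subgroup.closure_induction with
    | mem y hy => obtain ⟨g, hg, rfl⟩ := hy; exact h g hg
    | one => exact Commute.one_right b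
    | mul p q _ _ hp hq => exact hp.mul_right hq
    | inv p _ hp => exact hp.inv_right
  have hn : (H.subgroupOf L).Normal := by
    refine ⟨fun n hn l => ?_⟩
    rw [Subgroup.mem_subgroupOf] at hn ⊢
    have hle : H.map (MulAut.conj (l : G)).toMonoidHom ≤ H := by
      rw [MonoidHom.map_closure, Subgroup.closure_le]
      rintro _ ⟨_, ⟨g, hg, rfl⟩, rfl⟩
      exact Subgroup.subset_closure ⟨(l : G) * g, mul_mem l.2 hg, by
        show (l : G) * (g * d * g⁻¹) * (l : G)⁻¹ = _; group⟩
    exact hle ⟨n, hn, rfl⟩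
  have hmem : ∀ g ∈ L, g * d * g⁻¹ * d ∈ L := by
    intro g hg
    have := L.mul_mem hg ((inferInstance : L.Normal).conj_mem _ (inv_mem hg) d)
    rw [inv_eq hD.1 hd] at this
    simpa only [mul_assoc] using this
  have hmemH : ∀ g ∈ L, g * d * g⁻¹ * d ∈ H := fun g hg =>
    mul_mem (Subgroup.subset_closure ⟨g, hg, rfl⟩) (Subgroup.subset_closure ⟨1, one_mem L, by group⟩)
  rcases CfsgLib.Components.IsQuasisimple.normal_le_center_or_eq_top hL hn with hc | ht
  · let f : L →* Subgroup.center L :=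
      MonoidHom.mk' (fun g => ⟨⟨(g : G) * d * (g : G)⁻¹ * d, hmem g g.2⟩, hc (hmemH g g.2)⟩) (fun g k => by
        apply Subtype.ext; apply Subtype.ext
        show (g : G) * k * d * ((g : G) * k)⁻¹ * d = (g : G) * d * (g : G)⁻¹ * d * ((k : G) * d * (k : G)⁻¹ * d)
        have e : (g : G) * ((k : G) * d * (k : G)⁻¹ * d) = ((k : G) * d * (k : G)⁻¹ * d) * g :=
          congrArg Subtype.val (Subgroup.mem_center_iff.1
            (hc (show (⟨_, hmem k k.2⟩ : L) ∈ H.subgroupOf L from hmemH k k.2)) g)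
        have e' : (⟨_, hmem g g.2⟩ : L) * ⟨_, hmem k k.2⟩ = ⟨_, hmem k k.2⟩ * ⟨_, hmem g g.2⟩ :=
          Subgroup.mem_center_iff.1 (hc (show (⟨_, hmem k k.2⟩ : L) ∈ H.subgroupOf L from hmemH k k.2)) _
        have e'' := congrArg Subtype.val e'
        simp only [Subgroup.coe_mul] at e''
        rw [e'']
        calc (g : G) * k * d * ((g : G) * k)⁻¹ * d = ((g : G) * ((k : G) * d * (k : G)⁻¹ * d)) * (d⁻¹ * (g : G)⁻¹ * d) := by group
          _ = ((k : G) * d * (k : G)⁻¹ * d) * ((g : G) * d * (g : G)⁻¹ * d) := by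
            rw [e, inv_eq hD.1 hd]; simp only [mul_assoc])
    haveI := hL.1
    letI : CommGroup (Subgroup.center L) :=
      { (inferInstance : Group (Subgroup.center L)) with
        mul_comm := fun a b => Subtype.ext (Subgroup.mem_center_iff.1 b.2 a) }
    obtain ⟨g, hg, hne⟩ := exists_not_commute_mem hD hL hd
    have hker : (⟨g, hg⟩ : L) ∈ f.ker := by
      have h1 := Abelianization.commutator_subset_ker f
      rw [Group.IsPerfect.commutator_eq_top] at h1
      exact h1 (Subgroup.mem_top _)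
    have : g * d * g⁻¹ * d = 1 := congrArg (fun t : Subgroup.center L => ((t : L) : G)) hker
    have h2 := eq_inv_of_mul_eq_one_left this
    rw [inv_eq hD.1 hd, mul_inv_eq_iff_eq_mul] at h2
    exact hne h2.symm
  · obtain ⟨g, hg, hne⟩ := exists_not_commute_mem hD hL hb
    exact hne (hbH g (Subgroup.subgroupOf_eq_top.1 ht hg))

/-- In the quotient by a quasisimple normal subgroup the image of the class has width one. -/
theorem mul_mem_of_sq_mem {L : Subgroup G} [L.Normal] (hL : IsQuasisimple L) {a b : G} (ha : a ∈ D) (hb : b ∈ D)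
    (h : (a * b) ^ 2 ∈ L) : a * b ∈ L := by
  have hcube : ∀ x y : G, x ∈ D → y ∈ D → ¬ Commute x y → (x * y) ^ 2 ∈ L → x * y ∈ L := by
    intro x y hx hy hn hsq
    have h3 : x * y = ((x * y) ^ 2)⁻¹ * (x * y) ^ 3 := by group
    rw [h3, pow_three hD.1 hx hy hn, mul_one]
    exact inv_mem hsq
  by_cases hc : Commute a b
  · obtain ⟨g, hg, hne⟩ := exists_not_commute_conj hD hL hb ha
    let π := QuotientGroup.mk' L
    have hπ : π (g * a * g⁻¹) = π a := by
      rw [map_mul, map_mul, show π g = 1 from (QuotientGroup.eq_one_iff g).2 hg, map_inv,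
        show π g = 1 from (QuotientGroup.eq_one_iff g).2 hg, one_mul, inv_one, mul_one]
    have hba : π ((b * a) ^ 2) = 1 := by
      rw [← hc.eq]; exact (QuotientGroup.eq_one_iff _).2 h
    have h1 : b * (g * a * g⁻¹) ∈ L := hcube _ _ hb (class_conj hD g a ha) hne
      ((QuotientGroup.eq_one_iff _).1 (show π _ = 1 by rw [map_pow, map_mul, hπ, ← map_mul, ← map_pow, hba]))
    have h2 : π (b * a) = 1 := by
      rw [map_mul, ← hπ, ← map_mul]; exact (QuotientGroup.eq_one_iff _).2 h1
    rw [hc.eq]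
    exact (QuotientGroup.eq_one_iff _).1 h2
  · exact hcube a b ha hb hc h

theorem index_le_two_of_connected [Finite G] {L : Subgroup G} [L.Normal] (hL : IsQuasisimple L)
    (hconn : (commutingGraph D).Connected) : L.index ≤ 2 := by
  obtain ⟨d, hd, -⟩ := hD.2.1
  refine index_le_two_of_sup (mul_self hD.1 hd) (sup_zpowers_eq_top hD fun x hx => ?_)
  have key : ∀ {a b : D}, (commutingGraph D).Reachable a b → (a : G) * b ∈ L := by
    intro a b hr
    rw [SimpleGraph.reachable_iff_reflTransGen] at hr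
    induction hr with
    | refl => rw [mul_self hD.1 a.2]; exact one_mem L
    | @tail p q _ hadj ih =>
      have hc : Commute (p : G) q := by
        rcases (SimpleGraph.fromRel_adj _ _ _).1 hadj with ⟨-, h | h⟩
        exacts [h, h.symm]
      have h1 : (p : G) * q ∈ L :=
        mul_mem_of_sq_mem hD hL p.2 q.2 (by rw [(commute_iff_sq hD.1 p.2 q.2).1 hc]; exact one_mem L)
      have := L.mul_mem ih h1
      rwa [mul_assoc, mul_self_assoc hD.1 p.2] at this
  exact key (hconn.preconnected ⟨d, hd⟩ ⟨x, hx⟩)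

end Class

/-! ### Blocks -/

section Block

variable (hD : IsThreeTranspositionClass D) (hD2 : ∃ a ∈ D, ∃ b ∈ D, a ≠ b)
include hD hD2

theorem primitive_of_quasisimple [Finite G] {L : Subgroup G} [L.Normal] (hL : IsQuasisimple L)
    (hidx : L.index ≤ 2) (hF : fittingSubgroup G ≤ Subgroup.center G)
    (hFs : generalizedFittingSubgroup G = L ⊔ Subgroup.center G) : IsPrimitiveUnderConj D := by
  refine ⟨fun a ha b hb => class_trans hD ha hb, hD2, fun B hBD hblock => ?_⟩
  by_cases hsub : B.Subsingleton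
  · exact Or.inl hsub
  right
  simp only [Set.Subsingleton, not_forall] at hsub
  obtain ⟨b, hb, b', hb', hne⟩ := hsub
  let C : G → Set G := fun g => (fun x => g * x * g⁻¹) '' B
  have hcomp : ∀ g h, (fun x => g * x * g⁻¹) '' C h = C (g * h) := by
    intro g h
    simp only [C, Set.image_image]
    refine Set.image_congr' fun x => ?_
    group
  have hC1 : C 1 = B := by simp [C]
  have hmeet : ∀ g h x, x ∈ C g → x ∈ C h → C g = C h := by
    intro g h x hxg hxh
    rcases hblock (h⁻¹ * g) with e | e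
    · rw [show g = h * (h⁻¹ * g) by group, ← hcomp]
      show (fun x => h * x * h⁻¹) '' C (h⁻¹ * g) = C h
      rw [show C (h⁻¹ * g) = B from e]
    · exfalso
      refine Set.disjoint_left.1 e ?_ (?_ : h⁻¹ * x * h ∈ B)
      · show h⁻¹ * x * h ∈ C (h⁻¹ * g)
        rw [← hcomp]
        exact ⟨x, hxg, by rw [inv_inv]⟩
      · obtain ⟨y, hy, rfl⟩ := hxh
        simpa [mul_assoc] using hy
  have hfix : ∀ e x, x ∈ B → e * x * e⁻¹ ∈ B → C e = B := fun e x hx hex => by
    rw [← hC1]; exact hmeet e 1 _ ⟨x, hx, rfl⟩ (hC1.symm ▸ hex)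
  have hself : ∀ x ∈ B, C x = B := fun x hx => hfix x x hx (by simpa using hx)
  have hcm : ∀ e ∈ D, ∀ x ∈ B, Commute e x → C e = B := fun e _ x hx hc =>
    hfix e x hx (by rw [hc.eq, mul_inv_cancel_right]; exact hx)
  have hnc : ∀ e ∈ D, ∀ x ∈ B, C e = B → ¬ Commute e x → e ∈ B := by
    intro e he x hx hCe hn
    have h1 : e * x * e⁻¹ ∈ B := hCe ▸ ⟨x, hx, rfl⟩
    rw [inv_eq hD.1 he, braid hD.1 he (hBD hx) hn] at h1
    have h2 : x * (x * e * x) * x⁻¹ ∈ B := (hself x hx) ▸ ⟨_, h1, rfl⟩
    rwa [inv_eq hD.1 (hBD hx), mul_assoc, show x * e * x * x = x * e by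
      rw [mul_assoc, mul_self hD.1 (hBD hx), mul_one], mul_self_assoc hD.1 (hBD hx)] at h2
  have hall : ∀ e ∈ D, e ∉ B → ∀ x ∈ B, ∀ y ∈ B, Commute e x → Commute e y := by
    intro e he heB x hx y hy hc
    by_contra hn
    exact heB (hnc e he y hy (hcm e he x hx hc) hn)
  have hpq : ∀ g : G, ∀ p q, p ∈ C g → q ∈ C g → C (p * q) = B := by
    intro g p q hp hq
    have hpD : p ∈ D := by obtain ⟨y, hy, rfl⟩ := hp; exact class_conj hD g y (hBD hy)
    have hqD : q ∈ D := by obtain ⟨y, hy, rfl⟩ := hq; exact class_conj hD g y (hBD hy)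
    by_cases hpB : p ∈ B
    · have e : C g = B := by rw [← hC1]; exact hmeet g 1 p hp (hC1.symm ▸ hpB)
      rw [← hcomp, hself q (e ▸ hq)]
      exact hself p hpB
    have hdisj : ∀ x, x ∈ C g → x ∉ B := fun x hx hxB =>
      hpB ((hmeet g 1 x hx (hC1.symm ▸ hxB)).trans hC1 ▸ hp)
    have hqB := hdisj q hq
    -- the block of `g` seen from a member of `B`
    have hswitch : ∀ x ∈ B, Commute p x → Commute q x := by
      intro x hx hc
      by_contra hn
      have hxg : x ∉ C g := fun h => hdisj x h hx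
      have hp' : g⁻¹ * p * g ∈ B := by obtain ⟨y, hy, rfl⟩ := hp; simpa [mul_assoc] using hy
      have hq' : g⁻¹ * q * g ∈ B := by obtain ⟨y, hy, rfl⟩ := hq; simpa [mul_assoc] using hy
      have hx' : g⁻¹ * x * g ∉ B := fun h => hxg ⟨_, h, by group⟩
      have := hall _ (by simpa using class_conj hD g⁻¹ x (hBD hx)) hx' _ hp' _ hq'
        ((commute_conj_iff (g := g)).1 (by rw [conj_cancel, conj_cancel]; exact hc.symm))
      refine hn ?_
      have h2 := (commute_conj_iff (g := g)).2 this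
      rw [conj_cancel, conj_cancel] at h2
      exact h2.symm
    by_cases hc : Commute p b
    · rw [← hcomp, hcm q hqD b hb (hswitch b hb hc)]
      exact hcm p hpD b hb hc
    · have hqb : ¬ Commute q b := by
        intro h
        have hp' : g⁻¹ * p * g ∈ B := by obtain ⟨y, hy, rfl⟩ := hp; simpa [mul_assoc] using hy
        have hq' : g⁻¹ * q * g ∈ B := by obtain ⟨y, hy, rfl⟩ := hq; simpa [mul_assoc] using hy
        have hx' : g⁻¹ * b * g ∉ B := fun h => hdisj b ⟨_, h, by group⟩ hb
        have := hall _ (by simpa using class_conj hD g⁻¹ b (hBD hb)) hx' _ hq' _ hp'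
          ((commute_conj_iff (g := g)).1 (by rw [conj_cancel, conj_cancel]; exact h.symm))
        apply hc
        have h2 := (commute_conj_iff (g := g)).2 this
        rw [conj_cancel, conj_cancel] at h2
        exact h2.symm
      -- both send `B` to the translate by `b` of the block of `g`
      have key : ∀ r, r ∈ C g → r ∈ D → ¬ Commute r b → C r = C (b * g) := by
        intro r hr hrD hrb
        refine hmeet r (b * g) (r * b * r⁻¹) ⟨b, hb, rfl⟩ ?_
        rw [← hcomp]
        refine ⟨r, hr, ?_⟩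
        show b * r * b⁻¹ = r * b * r⁻¹
        rw [inv_eq hD.1 (hBD hb), inv_eq hD.1 hrD, braid hD.1 hrD (hBD hb) hrb]
      rw [← hcomp, key q hq hqD hqb, ← key p hp hpD hc, hcomp, mul_self hD.1 hpD, hC1]
  -- the kernel of the action on the blocks
  let S : Subgroup G :=
    { carrier := {g | C g = B}
      one_mem' := hC1
      mul_mem' := fun {x y} hx hy => by
        show C (x * y) = B
        rw [← hcomp, show C y = B from hy]
        exact hx
      inv_mem' := fun {x} hx => by
        show C x⁻¹ = B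
        conv_lhs => rw [← mul_one x⁻¹]
        rw [← hcomp, hC1]
        show C x⁻¹ = B
        have h := hcomp x⁻¹ x
        rw [show C x = B from hx, inv_mul_cancel, hC1] at h
        exact h }
  have huK : b * b' ∈ S.normalCore := by
    intro g
    show C (g * (b * b') * g⁻¹) = B
    rw [show g * (b * b') * g⁻¹ = (g * b * g⁻¹) * (g * b' * g⁻¹) by group]
    exact hpq g _ _ ⟨b, hb, rfl⟩ ⟨b', hb', rfl⟩
  have huZ : b * b' ∉ Subgroup.center G := by
    intro hz
    have hcu : ∀ x, Commute x (b * b') := fun x => Subgroup.mem_center_iff.1 hz x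
    have hbb : Commute b b' := by
      have := (hcu b).eq
      rw [mul_self_assoc hD.1 (hBD hb)] at this
      show b * b' = b' * b
      calc b * b' = (b * b') * b * b := by rw [mul_assoc, mul_self hD.1 (hBD hb), mul_one]
        _ = b' * b := by rw [← this]
    have hu2 : (b * b') ^ 2 = 1 := (commute_iff_sq hD.1 (hBD hb) (hBD hb')).1 hbb
    obtain ⟨x, hx, hbx⟩ := exists_not_commute hD hD2 (hBD hb)
    have e : x * b' = (x * b) * (b * b') := by
      rw [mul_assoc x b, mul_self_assoc hD.1 (hBD hb)]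
    rcases hD.1.2 x hx b' (hBD hb') with h | h
    · rw [e, ((hcu (x * b))).mul_pow, hu2, mul_one] at h
      exact hbx ((commute_iff_sq hD.1 hx (hBD hb)).2 h).symm
    · rw [e, ((hcu (x * b))).mul_pow, pow_three hD.1 hx (hBD hb) (fun h => hbx h.symm), one_mul,
        _root_.pow_succ, hu2, one_mul] at h
      refine hne ?_
      rw [← inv_eq hD.1 (hBD hb')]
      exact eq_inv_of_mul_eq_one_left h
  have hKn : S.normalCore.Normal := inferInstance
  rcases CfsgLib.Components.component_le_or_commutes (H := S.normalCore) (⟨(inferInstance : L.Normal).isSubnormal, hL⟩ : IsComponent L) hKn.isSubnormal with hLK | hLK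
  · have hS : S = ⊤ := by
      rw [eq_top_iff, ← sup_zpowers_eq_top_of_index hD hidx (hBD hb), sup_le_iff]
      exact ⟨hLK.trans S.normalCore_le, Subgroup.zpowers_le.2 (hself b hb)⟩
    refine subset_antisymm hBD fun x hx => ?_
    obtain ⟨g, rfl⟩ := class_trans hD (hBD hb) hx
    exact (show C g = B from (hS ▸ Subgroup.mem_top g : g ∈ S)) ▸ ⟨b, hb, rfl⟩
  · exfalso
    set K := S.normalCore
    have hKC : K ≤ Subgroup.centralizer (generalizedFittingSubgroup G : Set G) := by
      rw [hFs, Subgroup.le_centralizer_iff, sup_le_iff]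
      exact ⟨Subgroup.commutator_eq_bot_iff_le_centralizer.1 hLK, Subgroup.center_le_centralizer _⟩
    haveI : IsMulCommutative K := ⟨⟨fun x y => Subtype.ext
      ((Subgroup.mem_centralizer_iff.1 (hKC x.2) y ((CfsgLib.Components.centralizer_gFitting_le) (hKC y.2))).symm)⟩⟩
    exact huZ (hF (CfsgLib.Core.le_fittingSubgroup (N := K) (isNilpotent_of_comm IsMulCommutative.is_comm.comm) huK))

end Block

end CfsgLib.ThreeTrans

namespace CfsgLib.ThreeTrans

open Cfsg

variable {G : Type*} [Group G] {D : Set G}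

section Prim

variable (hD : IsThreeTranspositionGroup D) (hp : IsPrimitiveUnderConj D)
include hD hp

theorem class_of_primitive : IsThreeTranspositionClass D := by
  obtain ⟨d, hd, -⟩ := id hp.2.1
  refine ⟨hD.1, ⟨d, hd, Set.ext fun x => ⟨fun hx => ?_, fun hx => ?_⟩⟩, hD.2.2⟩
  · exact isConj_iff.2 (hp.1 d hd x hx)
  · obtain ⟨c, rfl⟩ := isConj_iff.1 hx
    exact hD.2.1 c d hd

/-- A non-central normal subgroup is transitive on the class. -/
theorem mul_mem_of_normal {N : Subgroup G} [N.Normal] (hN : ¬ N ≤ Subgroup.center G) {d x : G}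
    (hd : d ∈ D) (hx : x ∈ D) : d * x ∈ N := by
  let B : Set G := {y | ∃ n ∈ N, y = n * d * n⁻¹}
  have hBD : B ⊆ D := by rintro _ ⟨n, -, rfl⟩; exact hD.2.1 n d hd
  have hblock : ∀ g : G, (fun y => g * y * g⁻¹) '' B = B ∨ Disjoint ((fun y => g * y * g⁻¹) '' B) B := by
    intro g
    rw [or_iff_not_imp_right, Set.not_disjoint_iff]
    rintro ⟨_, ⟨_, ⟨n, hn, rfl⟩, rfl⟩, m, hm, he⟩
    have he : g * (n * d * n⁻¹) * g⁻¹ = m * d * m⁻¹ := he
    -- `g d g⁻¹` is in the orbit
    have hgd : ∃ k ∈ N, g * d * g⁻¹ = k * d * k⁻¹ := by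
      refine ⟨(g * n * g⁻¹)⁻¹ * m, mul_mem (inv_mem ((inferInstance : N.Normal).conj_mem n hn g)) hm, ?_⟩
      calc g * d * g⁻¹ = (g * n * g⁻¹)⁻¹ * (g * (n * d * n⁻¹) * g⁻¹) * (g * n * g⁻¹) := by group
        _ = _ := by rw [he]; group
    obtain ⟨k, hk, hgd⟩ := hgd
    ext y
    constructor
    · rintro ⟨_, ⟨j, hj, rfl⟩, rfl⟩
      refine ⟨g * j * g⁻¹ * k, mul_mem ((inferInstance : N.Normal).conj_mem j hj g) hk, ?_⟩
      calc g * (j * d * j⁻¹) * g⁻¹ = (g * j * g⁻¹) * (g * d * g⁻¹) * (g * j * g⁻¹)⁻¹ := by group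
        _ = _ := by rw [hgd]; group
    · rintro ⟨j, hj, rfl⟩
      have hj' : g⁻¹ * (j * k⁻¹) * g ∈ N := by
        simpa using (inferInstance : N.Normal).conj_mem _ (mul_mem hj (inv_mem hk)) g⁻¹
      refine ⟨_, ⟨_, hj', rfl⟩, ?_⟩
      calc g * (g⁻¹ * (j * k⁻¹) * g * d * (g⁻¹ * (j * k⁻¹) * g)⁻¹) * g⁻¹
          = j * k⁻¹ * (g * d * g⁻¹) * (j * k⁻¹)⁻¹ := by group
        _ = j * d * j⁻¹ := by rw [hgd]; group
  rcases hp.2.2 B hBD hblock with h | h
  · exfalso
    apply hN
    have hcd : ∀ n ∈ N, Commute d n := by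
      intro n hn
      have := h (⟨1, one_mem N, by group⟩ : d ∈ B) ⟨n, hn, rfl⟩
      exact (mul_inv_eq_iff_eq_mul.1 this.symm).symm
    intro n hn
    refine central_of_commute_class (class_of_primitive hD hp) fun y hy => ?_
    obtain ⟨g, rfl⟩ := hp.1 d hd y hy
    rw [← conj_cancel g n, commute_conj_iff]
    exact hcd _ (by simpa using (inferInstance : N.Normal).conj_mem n hn g⁻¹)
  · obtain ⟨n, hn, rfl⟩ : x ∈ B := h.symm ▸ hx
    rw [show d * (n * d * n⁻¹) = (d * n * d⁻¹) * (d * d) * n⁻¹ by group, mul_self hD.1 hd, mul_one]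
    exact mul_mem ((inferInstance : N.Normal).conj_mem n hn d) (inv_mem hn)

theorem exists_component_normal [Finite G] (hF : fittingSubgroup G ≤ Subgroup.center G) :
    ∃ L : Subgroup G, L.Normal ∧ IsQuasisimple L ∧ L.index ≤ 2 := by
  have hc := class_of_primitive hD hp
  have hne := layer_ne_bot hc hp.2.1 hF
  rw [Ne, CfsgLib.Components.layer_eq_bot_iff, not_forall] at hne
  obtain ⟨L, hL⟩ := hne
  rw [not_not] at hL
  haveI := component_normal hc hL
  refine ⟨L, inferInstance, hL.2, ?_⟩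
  obtain ⟨d, hd, -⟩ := id hp.2.1
  refine index_le_two_of_sup (mul_self hD.1 hd) (sup_zpowers_eq_top hc fun x hx => mul_mem_of_normal hD hp ?_ hd hx)
  intro hle
  exact CfsgLib.Components.IsQuasisimple.not_isMulCommutative hL.2
    ⟨⟨fun a b => Subtype.ext (Subgroup.mem_center_iff.1 (hle b.2) a)⟩⟩

theorem pCore_le_center [Finite G] (hw : ∃ a ∈ D, ∃ b ∈ D, a ≠ b ∧ Commute a b) {p : ℕ} (hpp : p.Prime) :
    pCore p G ≤ Subgroup.center G := by
  by_contra hN
  haveI := Fact.mk hpp
  obtain ⟨a, ha, b, hb, hab, hcm⟩ := hw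
  by_cases hp2 : p = 2
  · subst hp2
    obtain ⟨x, hx, hax⟩ := exists_not_commute (class_of_primitive hD hp) hp.2.1 ha
    have hQ := mul_mem_of_normal hD hp hN ha hx
    obtain ⟨k, hk⟩ := CfsgLib.Core.isPGroup_pCore 2 G ⟨_, hQ⟩
    have h3 := orderOf_mul hD.1 ha hx hax
    have hdvd : 3 ∣ 2 ^ k := h3 ▸ orderOf_dvd_of_pow_eq_one (congrArg Subtype.val hk)
    have := Nat.prime_three.dvd_of_dvd_pow hdvd
    omega
  · have hQ := mul_mem_of_normal hD hp hN ha hb
    obtain ⟨k, hk⟩ := CfsgLib.Core.isPGroup_pCore p G ⟨_, hQ⟩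
    have h2 := orderOf_dvd_of_pow_eq_one ((commute_iff_sq hD.1 ha hb).1 hcm)
    have hp' := orderOf_dvd_of_pow_eq_one (congrArg Subtype.val hk : (a * b) ^ p ^ k = 1)
    have hcop : Nat.Coprime 2 (p ^ k) := Nat.Coprime.pow_right k ((Nat.coprime_primes Nat.prime_two hpp).2 (Ne.symm hp2))
    have h1 := orderOf_eq_one_iff.1 (Nat.eq_one_of_dvd_one (hcop.gcd_eq_one ▸ Nat.dvd_gcd h2 hp'))
    apply hab
    rw [← inv_eq hD.1 hb]
    exact eq_inv_of_mul_eq_one_left h1

theorem connected_of_primitive (hw : ∃ a ∈ D, ∃ b ∈ D, a ≠ b ∧ Commute a b) :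
    (commutingGraph D).Connected := by
  obtain ⟨d, hd, -⟩ := id hp.2.1
  let R : G → G → Prop := fun x y => x ∈ D ∧ y ∈ D ∧ Commute x y
  have hconv : ∀ x y (hx : x ∈ D) (hy : y ∈ D), Relation.ReflTransGen R x y →
      (commutingGraph D).Reachable ⟨x, hx⟩ ⟨y, hy⟩ := by
    intro x y hx hy h
    induction h with
    | refl => exact SimpleGraph.Reachable.refl _
    | @tail p q _ hpq ih =>
      obtain ⟨hp', hq', hc⟩ := hpq
      refine (ih hp').trans ?_
      by_cases e : p = q
      · subst e; exact SimpleGraph.Reachable.refl _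
      · exact SimpleGraph.Adj.reachable ((SimpleGraph.fromRel_adj _ _ _).2 ⟨fun h => e (congrArg Subtype.val h), Or.inl hc⟩)
  have hmap : ∀ g x y, Relation.ReflTransGen R x y → Relation.ReflTransGen R (g * x * g⁻¹) (g * y * g⁻¹) :=
    fun g x y h => by
      induction h with
      | refl => exact .refl
      | tail _ hpq ih =>
        exact ih.tail ⟨hD.2.1 g _ hpq.1, hD.2.1 g _ hpq.2.1, commute_conj_iff.2 hpq.2.2⟩
  have hsymm : ∀ x y, Relation.ReflTransGen R x y → Relation.ReflTransGen R y x := by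
    intro x y h
    induction h with
    | refl => exact .refl
    | tail _ hpq ih => exact Relation.ReflTransGen.head ⟨hpq.2.1, hpq.1, hpq.2.2.symm⟩ ih
  let B : Set G := {y | y ∈ D ∧ Relation.ReflTransGen R d y}
  have hblock : ∀ g : G, (fun y => g * y * g⁻¹) '' B = B ∨ Disjoint ((fun y => g * y * g⁻¹) '' B) B := by
    intro g
    rw [or_iff_not_imp_right, Set.not_disjoint_iff]
    rintro ⟨_, ⟨x, ⟨hxD, hx⟩, rfl⟩, -, hgx⟩
    have hdg : Relation.ReflTransGen R d (g * d * g⁻¹) := hgx.trans (hsymm _ _ (hmap g _ _ hx))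
    ext y
    constructor
    · rintro ⟨z, ⟨hzD, hz⟩, rfl⟩
      exact ⟨hD.2.1 g z hzD, hdg.trans (hmap g _ _ hz)⟩
    · rintro ⟨hyD, hy⟩
      refine ⟨g⁻¹ * y * g, ⟨by simpa using hD.2.1 g⁻¹ y hyD, ?_⟩, by group⟩
      have := hmap g⁻¹ _ _ ((hsymm _ _ hdg).trans hy)
      simpa [mul_assoc] using this
  have hBD : B = D := by
    rcases hp.2.2 B (fun y hy => hy.1) hblock with h | h
    · exfalso
      obtain ⟨a, ha, b, hb, hab, hc⟩ := hw
      obtain ⟨g, hg⟩ := hp.1 a ha d hd
      refine hab (mul_left_cancel (mul_right_cancel (hg.trans ?_) : g * a = g * b))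
      exact h ⟨hd, .refl⟩ ⟨hD.2.1 g b hb, .single ⟨hd, hD.2.1 g b hb, hg ▸ commute_conj_iff.2 hc⟩⟩
    · exact h
  haveI : Nonempty D := ⟨⟨d, hd⟩⟩
  refine ⟨fun x y => ?_⟩
  have h1 : (x : G) ∈ B := hBD.symm ▸ x.2
  have h2 : (y : G) ∈ B := hBD.symm ▸ y.2
  exact hconv _ _ x.2 y.2 ((hsymm _ _ h1.2).trans h2.2)

theorem closure_commuting_ne_top {d : G} (hd : d ∈ D) :
    Subgroup.closure {y : G | y ∈ D ∧ Commute d y} ≠ ⊤ := by
  intro h
  have hz : ∀ x : G, Commute d x := by
    intro x
    have hx : x ∈ Subgroup.closure {y : G | y ∈ D ∧ Commute d y} := h ▸ Subgroup.mem_top x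
    induction hx using Subgroup.closure_induction with
    | mem y hy => exact hy.2
    | one => exact Commute.one_right d
    | mul p q _ _ hp hq => exact hp.mul_right hq
    | inv p _ hp => exact hp.inv_right
  exact not_central (class_of_primitive hD hp) hp.2.1 hd (Subgroup.mem_center_iff.2 fun x => (hz x).symm)

theorem closure_commuting_maximal [Finite G] (hw : ∃ a ∈ D, ∃ b ∈ D, a ≠ b ∧ Commute a b) {d : G} (hd : d ∈ D) {H : Subgroup G} (hH : IsDSubgroup D H)
    (hle : Subgroup.closure {y : G | y ∈ D ∧ Commute d y} ≤ H) :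
    H = Subgroup.closure {y : G | y ∈ D ∧ Commute d y} ∨ H = ⊤ := by
  have hc := class_of_primitive hD hp
  have hCD : ∀ y ∈ D, Commute d y → y ∈ H := fun y hy hy' => hle (Subgroup.subset_closure ⟨hy, hy'⟩)
  have hdH : d ∈ H := hCD d hd (Commute.refl d)
  let B : Set G := {y | ∃ h ∈ H, y = h * d * h⁻¹}
  let T : Set G := {y | y ∈ D ∧ y ∈ H ∧ y ∉ B}
  have hBH : ∀ y ∈ B, y ∈ D ∧ y ∈ H := by
    rintro _ ⟨h, hh, rfl⟩
    exact ⟨hD.2.1 h d hd, mul_mem (mul_mem hh hdH) (inv_mem hh)⟩
  have hBinv : ∀ h ∈ H, ∀ y ∈ B, h * y * h⁻¹ ∈ B := by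
    rintro h hh _ ⟨k, hk, rfl⟩
    exact ⟨h * k, mul_mem hh hk, by group⟩
  have hCB : ∀ b ∈ B, ∀ y ∈ D, Commute b y → y ∈ H := by
    rintro _ ⟨h, hh, rfl⟩ y hy hc
    rw [← conj_cancel h y, commute_conj_iff] at hc
    rw [← conj_cancel h y]
    exact mul_mem (mul_mem hh (hCD _ (by simpa using hD.2.1 h⁻¹ y hy) hc)) (inv_mem hh)
  have hTB : ∀ t ∈ T, ∀ b ∈ B, Commute b t := by
    rintro t ⟨htD, htH, htB⟩ b hb
    by_contra hn
    obtain ⟨hbD, hbH⟩ := hBH b hb
    apply htB
    have := hBinv (t * b) (mul_mem htH hbH) b hb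
    rw [show t * b * b * (t * b)⁻¹ = t * (b * b⁻¹) * (b * t⁻¹) by group,
      mul_inv_cancel, mul_one, inv_eq hD.1 htD, ← mul_assoc, braid hD.1 htD hbD (fun h => hn h.symm)] at this
    have h2 := hBinv b hbH _ this
    rwa [inv_eq hD.1 hbD, mul_assoc, show b * t * b * b = b * t by
      rw [mul_assoc, mul_self hD.1 hbD, mul_one], mul_self_assoc hD.1 hbD] at h2
  by_cases hB1 : ∀ y ∈ B, y = d
  · left
    refine le_antisymm ?_ hle
    conv_lhs => rw [← hH]
    refine Subgroup.closure_mono fun y hy => ⟨hy.1, ?_⟩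
    have := hB1 _ ⟨y, hy.2, rfl⟩
    exact (mul_inv_eq_iff_eq_mul.1 this).symm
  right
  by_cases hT : T = ∅
  · have hall : ∀ (a b : D), (commutingGraph D).Reachable a b → (a : G) ∈ B → (b : G) ∈ B := by
      intro a b hr
      rw [SimpleGraph.reachable_iff_reflTransGen] at hr
      induction hr with
      | refl => exact id
      | @tail p q _ hadj ih =>
        intro ha
        have hcq : Commute (p : G) q := by
          rcases (SimpleGraph.fromRel_adj _ _ _).1 hadj with ⟨-, h | h⟩
          exacts [h, h.symm]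
        by_contra hq
        exact (Set.eq_empty_iff_forall_notMem.1 hT) q ⟨q.2, hCB _ (ih ha) q q.2 hcq, hq⟩
    rw [eq_top_iff, ← hD.2.2, Subgroup.closure_le]
    intro x hx
    exact (hBH x (hall ⟨d, hd⟩ ⟨x, hx⟩ ((connected_of_primitive hD hp hw).preconnected _ _)
      ⟨1, one_mem H, by group⟩)).2
  · obtain ⟨t₀, ht₀⟩ := Set.nonempty_iff_ne_empty.2 hT
    have hTinv : ∀ h ∈ H, ∀ t ∈ T, h * t * h⁻¹ ∈ T := by
      rintro h hh t ⟨htD, htH, htB⟩
      refine ⟨hD.2.1 h t htD, mul_mem (mul_mem hh htH) (inv_mem hh), fun hb => htB ?_⟩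
      have := hBinv h⁻¹ (inv_mem hh) _ hb
      simpa [mul_assoc] using this
    have hcd : ∀ c, Commute c d → ∀ t ∈ T, c * t * c⁻¹ ∈ T := by
      intro c hc
      have hcdc : c * d * c⁻¹ = d := by rw [hc.eq, mul_inv_cancel_right]
      let T' : Set G := (fun y => c * y * c⁻¹) '' T
      let B' : Set G := (fun y => c * y * c⁻¹) '' B
      have hsub : T ⊆ T' := by
        rintro t ⟨htD, htH, htB⟩
        have h1 : c⁻¹ * t * c ∈ D := by simpa using hD.2.1 c⁻¹ t htD
        have h2 : Commute d (c⁻¹ * t * c) := by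
          rw [← commute_conj_iff (g := c), hcdc, conj_cancel]
          exact hTB t ⟨htD, htH, htB⟩ d ⟨1, one_mem H, by group⟩
        refine ⟨c⁻¹ * t * c, ⟨h1, hCD _ h1 h2, fun hb => htB ?_⟩, conj_cancel c t⟩
        -- `B` lies in the translate
        have hBB' : B ⊆ B' := by
          have hgen : ∀ h ∈ H, ∀ y ∈ B, y ∈ B' → h * y * h⁻¹ ∈ B' := by
            intro h hh
            rw [← hH] at hh
            have hstep : ∀ x, x ∈ D ∧ x ∈ H → ∀ y ∈ B, y ∈ B' → x * y * x⁻¹ ∈ B' := by
              rintro x ⟨hxD, hxH⟩ y hy hy'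
              by_cases hxy : Commute x y
              · rwa [hxy.eq, mul_inv_cancel_right]
              have hxB : x ∈ B := by
                by_contra h
                exact hxy (hTB x ⟨hxD, hxH, h⟩ y hy).symm
              -- `x` commutes with `t`, hence lies in the translate of `H`
              have hxt : Commute x t := hTB t ⟨htD, htH, htB⟩ x hxB
              have hx' : Commute (c⁻¹ * t * c) (c⁻¹ * x * c) := by
                rw [← commute_conj_iff (g := c), conj_cancel, conj_cancel]; exact hxt.symm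
              have hxH' := hCB _ hb _ (by simpa using hD.2.1 c⁻¹ x hxD) hx'
              obtain ⟨y', hy'B, rfl⟩ := hy'
              refine ⟨_, hBinv _ hxH' _ hy'B, ?_⟩
              show c * (c⁻¹ * x * c * y' * (c⁻¹ * x * c)⁻¹) * c⁻¹ = x * (c * y' * c⁻¹) * x⁻¹
              group
            induction hh using Subgroup.closure_induction_left with
            | one => intro y _ hy'; simpa using hy'
            | mul_left x hx k hk ih =>
              intro y hy hy'
              rw [show x * k * y * (x * k)⁻¹ = x * (k * y * k⁻¹) * x⁻¹ by group]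
              exact hstep x hx _ (hBinv k (hH ▸ hk) y hy) (ih y hy hy')
            | inv_mul_cancel x hx k hk ih =>
              intro y hy hy'
              rw [inv_eq hD.1 hx.1, show x * k * y * (x * k)⁻¹ = x * (k * y * k⁻¹) * x⁻¹ by group]
              exact hstep x hx _ (hBinv k (hH ▸ hk) y hy) (ih y hy hy')
          rintro _ ⟨h, hh, rfl⟩
          exact hgen h hh d ⟨1, one_mem H, by group⟩ ⟨d, ⟨1, one_mem H, by group⟩, hcdc⟩
        have heq : B = B' := Set.eq_of_subset_of_ncard_le hBB'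
          (le_of_eq (Set.ncard_image_of_injective B fun x y e => mul_left_cancel (mul_right_cancel e))) (Set.toFinite _)
        rw [heq]
        exact ⟨_, hb, conj_cancel c t⟩
      have heq : T = T' := Set.eq_of_subset_of_ncard_le hsub
        (le_of_eq (Set.ncard_image_of_injective T fun x y e => mul_left_cancel (mul_right_cancel e))) (Set.toFinite _)
      intro t ht
      rw [heq]
      exact ⟨t, ht, rfl⟩
    let S : Subgroup G :=
      { carrier := {g | ∀ t, t ∈ T ↔ g * t * g⁻¹ ∈ T}
        one_mem' := fun t => by simp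
        mul_mem' := fun {g h} hg hh t => by
          rw [hh t, hg, show g * (h * t * h⁻¹) * g⁻¹ = g * h * t * (g * h)⁻¹ by group]
        inv_mem' := fun {g} hg t => by
          rw [hg (g⁻¹ * t * g⁻¹⁻¹)]; group }
    have hmemS : ∀ g, (∀ t ∈ T, g * t * g⁻¹ ∈ T) → g ∈ S := by
      intro g hg t
      refine ⟨hg t, fun h => ?_⟩
      have heq : (fun y => g * y * g⁻¹) '' T = T := Set.eq_of_subset_of_ncard_le (by rintro _ ⟨y, hy, rfl⟩; exact hg y hy)
        (le_of_eq (Set.ncard_image_of_injective T fun x y e => mul_left_cancel (mul_right_cancel e)).symm) (Set.toFinite _)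
      rw [← heq] at h
      obtain ⟨y, hy, hye⟩ := h
      rwa [mul_left_cancel (mul_right_cancel hye)] at hy
    let O : Set G := {y | ∃ s ∈ S, y = s * d * s⁻¹}
    have hblock : ∀ g : G, (fun y => g * y * g⁻¹) '' O = O ∨ Disjoint ((fun y => g * y * g⁻¹) '' O) O := by
      intro g
      rw [or_iff_not_imp_right, Set.not_disjoint_iff]
      rintro ⟨_, ⟨_, ⟨s, hs, rfl⟩, rfl⟩, s', hs', he⟩
      have he : g * (s * d * s⁻¹) * g⁻¹ = s' * d * s'⁻¹ := he
      have hg : g ∈ S := by
        have hc : Commute (s'⁻¹ * g * s) d := by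
          rw [Commute, SemiconjBy, ← mul_inv_eq_iff_eq_mul]
          calc s'⁻¹ * g * s * d * (s'⁻¹ * g * s)⁻¹ = s'⁻¹ * (g * (s * d * s⁻¹) * g⁻¹) * s' := by group
            _ = d := by rw [he]; group
        have := mul_mem (mul_mem hs' (hmemS _ (hcd _ hc))) (inv_mem hs)
        rwa [show s' * (s'⁻¹ * g * s) * s⁻¹ = g by group] at this
      ext y
      constructor
      · rintro ⟨_, ⟨k, hk, rfl⟩, rfl⟩
        exact ⟨g * k, mul_mem hg hk, by group⟩
      · rintro ⟨k, hk, rfl⟩
        exact ⟨_, ⟨g⁻¹ * k, mul_mem (inv_mem hg) hk, rfl⟩, by group⟩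
    have hOD : O = D := by
      rcases hp.2.2 O (by rintro _ ⟨s, -, rfl⟩; exact hD.2.1 s d hd) hblock with h | h
      · exfalso
        simp only [not_forall] at hB1
        obtain ⟨_, ⟨k, hk, rfl⟩, hne⟩ := hB1
        exact hne (h ⟨k, hmemS k (hTinv k hk), rfl⟩ ⟨1, one_mem S, by group⟩)
      · exact h
    exfalso
    refine not_central hc hp.2.1 ht₀.1 (central_of_commute_class hc fun x hx => ?_)
    obtain ⟨s, hs, rfl⟩ : x ∈ O := hOD.symm ▸ hx
    have h1 : s⁻¹ * t₀ * s ∈ T := (hs _).2 (by rw [conj_cancel]; exact ht₀)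
    rw [← conj_cancel s t₀, commute_conj_iff]
    exact hTB _ h1 d ⟨1, one_mem H, by group⟩

end Prim

end CfsgLib.ThreeTrans
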