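import Cfsg.Agent.Lib.ThreeTrans.ReflectionsF3
import Cfsg.Agent.Lib.ThreeTrans.Primitive

/-!
The reflections of a given norm over the field with three elements form a primitive class
(owner: helper28).
-/

set_option autoImplicit false

namespace CfsgLib.ThreeTrans.ReflectionsF3

open Cfsg CfsgLib.Classical.Quad
open QuadraticMap (polar polarBilin)

theorem sq_of_ne : ∀ t : ZMod 3, t ≠ 0 → t * t = 1 := by decide

theorem three_zero : (3 : ZMod 3) = 0 := by decide

variable {n : ℕ} {Q : QuadraticForm (ZMod 3) (Fin n → ZMod 3)} {c : ZMod 3} (hc : c ≠ 0)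

/-- The reflection of a vector of norm `c` inside the group they generate. -/
noncomputable def elt {v : Fin n → ZMod 3} (hv : Q v = c) : ↥(Cfsg.reflectionSubgroup (⇑Q) c) :=
  ⟨(oEquiv Q).symm (refl (v := v) (by rw [hv]; exact hc)), Subgroup.subset_closure
    ((mem_norm_iff hc).2 ⟨v, by rw [hv]; exact hc, hv, MulEquiv.apply_symm_apply _ _⟩)⟩

/-- The faithful map to the linear isometries. -/
noncomputable def toOQ : ↥(Cfsg.reflectionSubgroup (⇑Q) c) →* OQ Q :=
  (oEquiv Q).toMonoidHom.comp (Cfsg.reflectionSubgroup (⇑Q) c).subtype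

theorem toOQ_injective : Function.Injective (toOQ (Q := Q) (c := c)) :=
  (oEquiv Q).injective.comp (Subgroup.subtype_injective _)

theorem toOQ_elt {v : Fin n → ZMod 3} (hv : Q v = c) :
    toOQ (elt hc hv) = refl (v := v) (by rw [hv]; exact hc) :=
  MulEquiv.apply_symm_apply (oEquiv Q) (refl (v := v) (by rw [hv]; exact hc))

theorem elt_mem {v : Fin n → ZMod 3} (hv : Q v = c) :
    ((elt hc hv : ↥(Cfsg.reflectionSubgroup (⇑Q) c)) : Cfsg.isometryGroup (ZMod 3) (⇑Q)) ∈
      Cfsg.reflectionsOfNorm (⇑Q) c :=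
  (mem_norm_iff hc).2 ⟨v, by rw [hv]; exact hc, hv, toOQ_elt hc hv⟩

theorem exists_elt {g : ↥(Cfsg.reflectionSubgroup (⇑Q) c)}
    (hg : (g : Cfsg.isometryGroup (ZMod 3) (⇑Q)) ∈ Cfsg.reflectionsOfNorm (⇑Q) c) :
    ∃ (v : Fin n → ZMod 3) (hv : Q v = c), g = elt hc hv := by
  obtain ⟨v, hv0, hv, e⟩ := (mem_norm_iff hc).1 hg
  exact ⟨v, hv, toOQ_injective (e.trans (toOQ_elt hc hv).symm)⟩

theorem elt_conj {x v : Fin n → ZMod 3} (hx : Q x = c) (hv : Q v = c) :
    ∃ hw : Q (v - ((c⁻¹ * polar Q v x)) • x) = c,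
      elt hc hx * elt hc hv * (elt hc hx)⁻¹ = elt hc hw := by
  have hx0 : Q x ≠ 0 := by rw [hx]; exact hc
  have e : (refl hx0 : (Fin n → ZMod 3) ≃ₗ[ZMod 3] (Fin n → ZMod 3)) v = v - (c⁻¹ * polar Q v x) • x := by
    rw [refl_apply, hx]
  have hw : Q (v - (c⁻¹ * polar Q v x) • x) = c := by rw [← e, OQ.map_apply, hv]
  refine ⟨hw, toOQ_injective ?_⟩
  rw [map_mul, map_mul, map_inv, toOQ_elt, toOQ_elt, toOQ_elt, refl_conj]
  simp only [e]

theorem elt_eq {v w : Fin n → ZMod 3} (hv : Q v = c) (hw : Q w = c) {t : ZMod 3} (ht : t ≠ 0)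
    (e : w = t • v) : elt hc hw = elt hc hv :=
  toOQ_injective (by rw [toOQ_elt, toOQ_elt]; exact refl_eq _ _ ht e)

theorem commute_elt {v w : Fin n → ZMod 3} (hv : Q v = c) (hw : Q w = c) (hp : polar Q v w = 0) :
    elt hc hv * elt hc hw = elt hc hw * elt hc hv := by
  obtain ⟨hw', e⟩ := elt_conj hc hv hw
  have : elt hc hw' = elt hc hw := elt_eq hc hw hw' one_ne_zero (by
    rw [one_smul, QuadraticMap.polar_comm, hp, mul_zero, zero_smul, sub_zero])
  rw [this] at e
  exact mul_inv_eq_iff_eq_mul.1 e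

variable (hQ : (polarBilin Q).Nondegenerate)
include hQ

theorem exists_perp_of_le {P : Submodule (ZMod 3) (Fin n → ZMod 3)} (hn : 5 ≤ n)
    (hP : ∀ x ∈ P, (∀ y ∈ P, polar Q x y = 0) → x = 0) (hd : Module.finrank (ZMod 3) P ≤ 3)
    {d : ZMod 3} (hd0 : d ≠ 0) : ∃ v, Q v = d ∧ ∀ u ∈ P, polar Q u v = 0 :=
  exists_apply_eq_perp_nondeg hQ hP (by rw [Module.finrank_pi, Fintype.card_fin]; omega) hd0

omit hQ in
theorem finrank_triple (a b e : Fin n → ZMod 3) :
    Module.finrank (ZMod 3) (Submodule.span (ZMod 3) ({a, b, e} : Set (Fin n → ZMod 3))) ≤ 3 := by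
  classical
  have h := finrank_span_finset_le_card (R := ZMod 3) ({a, b, e} : Finset (Fin n → ZMod 3))
  have hle := h.trans (Finset.card_le_three (a := a) (b := b) (c := e))
  rw [show (({a, b, e} : Finset (Fin n → ZMod 3)) : Set (Fin n → ZMod 3)) = {a, b, e} by simp] at hle
  exact hle

include hc

/-- An isotropic vector orthogonal to `a` has a hyperbolic partner orthogonal to `a`. -/
theorem exists_partner {a z : Fin n → ZMod 3} (ha : Q a = c) (hz : Q z = 0) (hz0 : z ≠ 0)
    (haz : polar Q a z = 0) : ∃ w, Q w = 0 ∧ polar Q a w = 0 ∧ polar Q z w = 1 := by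
  haveI : Fact (Nat.Prime 3) := ⟨Nat.prime_three⟩
  obtain ⟨y₀, hy₀⟩ : ∃ y, polar Q z y ≠ 0 := by
    by_contra hall
    push Not at hall
    exact hz0 (eq_zero_of_polar hQ hall)
  have h2c : 2 * c ≠ 0 := mul_ne_zero two_ne hc
  have hza : polar Q z a = 0 := by rw [QuadraticMap.polar_comm]; exact haz
  set y₁ := (polar Q z y₀)⁻¹ • (y₀ - (polar Q a y₀ / (2 * c)) • a) with hy₁
  have h1 : polar Q z y₁ = 1 := by
    rw [hy₁, polar_smul_right', QuadraticMap.polar_sub_right, polar_smul_right', hza, mul_zero, sub_zero,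
      inv_mul_cancel₀ hy₀]
  have h1' : polar Q a y₁ = 0 := by
    rw [hy₁, polar_smul_right', QuadraticMap.polar_sub_right, polar_smul_right', polar_self', ha,
      div_mul_cancel₀ _ h2c, sub_self, mul_zero]
  clear_value y₁
  refine ⟨y₁ + (-Q y₁) • z, ?_, ?_, ?_⟩
  · rw [apply_add, apply_smul, hz, polar_smul_right', QuadraticMap.polar_comm (⇑Q) y₁ z, h1]
    ring
  · rw [polar_add_right', polar_smul_right', haz, h1']; ring
  · rw [polar_add_right', polar_smul_right', polar_self', hz, h1]; ring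

theorem nondeg_hyperbolic {a z w : Fin n → ZMod 3} (ha : Q a = c) (hz : Q z = 0) (hw : Q w = 0)
    (haz : polar Q a z = 0) (haw : polar Q a w = 0) (hzw : polar Q z w = 1) :
    ∀ x ∈ Submodule.span (ZMod 3) ({a, z, w} : Set (Fin n → ZMod 3)),
      (∀ y ∈ Submodule.span (ZMod 3) ({a, z, w} : Set (Fin n → ZMod 3)), polar Q x y = 0) → x = 0 := by
  haveI : Fact (Nat.Prime 3) := ⟨Nat.prime_three⟩
  intro x hx hxy
  obtain ⟨g0, g1, g2, rfl⟩ := Submodule.mem_span_triple.1 hx
  have e0 := hxy a (Submodule.subset_span (by simp))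
  have e1 := hxy z (Submodule.subset_span (by simp))
  have e2 := hxy w (Submodule.subset_span (by simp))
  simp only [polar_add_left', polar_smul_left', polar_self', ha, hz, hw, haz, haw, hzw,
    QuadraticMap.polar_comm (⇑Q) z a, QuadraticMap.polar_comm (⇑Q) w a, QuadraticMap.polar_comm (⇑Q) w z] at e0 e1 e2
  simp [hc, two_ne] at e0 e1 e2
  simp [e0, e1, e2]

/-- Two vectors of norm `c` are orthogonal to a common one. -/
theorem exists_perp_norm (hn : 5 ≤ n) {a x : Fin n → ZMod 3} (ha : Q a = c) (hx : Q x = c) :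
    ∃ y, Q y = c ∧ polar Q a y = 0 ∧ polar Q x y = 0 := by
  haveI : Fact (Nat.Prime 3) := ⟨Nat.prime_three⟩
  by_cases hp : polar Q a x = 0
  · obtain ⟨y, hy, hperp⟩ := exists_perp_of_le hQ (P := Submodule.span (ZMod 3) ({a, x, x} : Set (Fin n → ZMod 3))) hn
      (fun t ht hty => by
        obtain ⟨g0, g1, g2, rfl⟩ := Submodule.mem_span_triple.1 ht
        have e0 := hty a (Submodule.subset_span (by simp))
        have e1 := hty x (Submodule.subset_span (by simp))
        simp only [polar_add_left', polar_smul_left', polar_self', ha, hx, hp,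
          QuadraticMap.polar_comm (⇑Q) x a] at e0 e1
        simp [hc, two_ne] at e0 e1
        have e1' : g1 + g2 = 0 := by
          refine ((mul_eq_zero (a := g1 + g2) (b := 2 * c)).1 ?_).resolve_right (mul_ne_zero two_ne hc)
          linear_combination e1
        rw [e0, zero_smul, zero_add, ← add_smul, e1', zero_smul])
      (finrank_triple _ _ _) hc
    exact ⟨y, hy, hperp a (Submodule.subset_span (by simp)), hperp x (Submodule.subset_span (by simp))⟩
  set l := polar Q a x / (2 * c) with hl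
  have hal : polar Q a x = l * (2 * c) := (div_mul_cancel₀ _ (mul_ne_zero two_ne hc)).symm
  set z := x - l • a with hz
  have haz : polar Q a z = 0 := by
    rw [hz, QuadraticMap.polar_sub_right, polar_smul_right', polar_self', ha, hal, sub_self]
  have hll : l * l = 1 := sq_of_ne _ (div_ne_zero hp (mul_ne_zero two_ne hc))
  have hxe : x = l • a + z := by rw [hz]; abel
  have hqz : Q z = 0 := by
    have h := hx
    rw [hxe, apply_add, apply_smul, hll, ha, polar_smul_left', haz] at h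
    linear_combination h
  by_cases hz0 : z = 0
  · obtain ⟨y, hy, hperp⟩ := exists_perp_of_le hQ (P := Submodule.span (ZMod 3) ({a, a, a} : Set (Fin n → ZMod 3))) hn
      (fun t ht hty => by
        simp only [Set.insert_eq_of_mem, Set.mem_singleton_iff] at ht hty
        obtain ⟨g, rfl⟩ := Submodule.mem_span_singleton.1 ht
        have e0 := hty a (Submodule.mem_span_singleton_self a)
        rw [polar_smul_left', polar_self', ha] at e0
        simp [hc, two_ne] at e0
        rw [e0, zero_smul])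
      (finrank_triple _ _ _) hc
    have hay := hperp a (Submodule.subset_span (by simp))
    exact ⟨y, hy, hay, by rw [hxe, hz0, add_zero, polar_smul_left', hay, mul_zero]⟩
  obtain ⟨w, hw, haw, hzw⟩ := exists_partner hc hQ ha hqz hz0 haz
  obtain ⟨y, hy, hperp⟩ := exists_perp_of_le hQ hn (nondeg_hyperbolic hc hQ ha hqz hw haz haw hzw)
    (finrank_triple _ _ _) hc
  have hay := hperp a (Submodule.subset_span (by simp))
  exact ⟨y, hy, hay, by rw [hxe, polar_add_left', polar_smul_left', hay, hperp z (Submodule.subset_span (by simp))]; ring⟩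

/-- The reflections of norm `c` are permuted primitively. -/
theorem primitive (hn : 5 ≤ n) :
    Cfsg.IsPrimitiveUnderConj {g : ↥(Cfsg.reflectionSubgroup (⇑Q) c) |
      (g : ↥(Cfsg.isometryGroup (ZMod 3) (⇑Q))) ∈ Cfsg.reflectionsOfNorm (⇑Q) c} ∧
    ∃ a ∈ {g : ↥(Cfsg.reflectionSubgroup (⇑Q) c) |
      (g : ↥(Cfsg.isometryGroup (ZMod 3) (⇑Q))) ∈ Cfsg.reflectionsOfNorm (⇑Q) c},
      ∃ b ∈ {g : ↥(Cfsg.reflectionSubgroup (⇑Q) c) |
      (g : ↥(Cfsg.isometryGroup (ZMod 3) (⇑Q))) ∈ Cfsg.reflectionsOfNorm (⇑Q) c}, a ≠ b ∧ Commute a b := by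
  haveI : Fact (Nat.Prime 3) := ⟨Nat.prime_three⟩
  set D := {g : ↥(Cfsg.reflectionSubgroup (⇑Q) c) |
    (g : ↥(Cfsg.isometryGroup (ZMod 3) (⇑Q))) ∈ Cfsg.reflectionsOfNorm (⇑Q) c}
  have hclass : IsThreeTranspositionClass D := threeTranspositionClass (by omega) hQ hc
  have h2c : 2 * c ≠ 0 := mul_ne_zero two_ne hc
  have h2fin : 2 ≤ Module.finrank (ZMod 3) (Fin n → ZMod 3) := by rw [Module.finrank_pi, Fintype.card_fin]; omega
  obtain ⟨v₀, hv₀⟩ := exists_apply_eq hQ h2fin hc
  obtain ⟨y₀, hy₀, hvy, -⟩ := exists_perp_norm hc hQ hn hv₀ hv₀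
  have hne : ∀ {v w : Fin n → ZMod 3} (hv : Q v = c) (hw : Q w = c), polar Q v w = 0 → elt hc hv ≠ elt hc hw := by
    intro v w hv hw hp e
    have h := congrArg (fun g => (toOQ g : (Fin n → ZMod 3) ≃ₗ[ZMod 3] (Fin n → ZMod 3)) w) e
    simp only [toOQ_elt, refl_apply, polar_self', hv, hw, QuadraticMap.polar_comm (⇑Q) w v, hp, mul_zero,
      zero_smul, sub_zero] at h
    rw [show c⁻¹ * (2 * c) = 2 by field_simp, eq_comm, sub_eq_self, smul_eq_zero] at h
    rcases h with h | h
    · exact two_ne h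
    · exact hc (by rw [← hw, h, QuadraticMap.map_zero])
  have hw2 : ∃ a ∈ D, ∃ b ∈ D, a ≠ b ∧ Commute a b :=
    ⟨_, elt_mem hc hv₀, _, elt_mem hc hy₀, hne hv₀ hy₀ hvy, commute_elt hc hv₀ hy₀ hvy⟩
  refine ⟨⟨fun a ha b hb => ?_, ?_, fun B hB hblock => ?_⟩, hw2⟩
  · exact class_trans hclass ha hb
  · obtain ⟨a, ha, b, hb, h, -⟩ := hw2
    exact ⟨a, ha, b, hb, h⟩
  have stab : ∀ {x y : Fin n → ZMod 3} (hx : Q x = c) (hy : Q y = c), polar Q x y = 0 → elt hc hy ∈ B →
      ∀ g ∈ B, elt hc hx * g * (elt hc hx)⁻¹ ∈ B := by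
    intro x y hx hy hp hyB g hg
    rcases hblock (elt hc hx) with e | e
    · rw [← e]; exact ⟨g, hg, rfl⟩
    · refine absurd hyB (Set.disjoint_left.1 e ⟨_, hyB, ?_⟩)
      show elt hc hx * elt hc hy * (elt hc hx)⁻¹ = elt hc hy
      rw [commute_elt hc hx hy hp, mul_inv_cancel_right]
  -- two orthogonal members
  have spread : ∀ {y₁ y₂ v : Fin n → ZMod 3} (h₁ : Q y₁ = c) (h₂ : Q y₂ = c) (hv : Q v = c),
      polar Q y₁ y₂ = 0 → elt hc h₁ ∈ B → elt hc h₂ ∈ B → polar Q v y₁ = 0 → elt hc hv ∈ B := by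
    intro y₁ y₂ v h₁ h₂ hv h12 hB1 hB2 hv1
    have step : ∀ {u w : Fin n → ZMod 3} (hu : Q u = c) (hw : Q w = c), elt hc hu ∈ B → polar Q u y₁ = 0 →
        polar Q w y₁ = 0 → polar Q u w ≠ 0 → elt hc hw ∈ B := by
      intro u w hu hw hBu hu1 hw1 hp
      have hb : elt hc hu * elt hc hw * elt hc hu = elt hc hw * elt hc hu * elt hc hw :=
        toOQ_injective (by rw [map_mul, map_mul, map_mul, map_mul, toOQ_elt, toOQ_elt, braid hc hu hw _ _ hp])
      have hself : ∀ {t : Fin n → ZMod 3} (ht : Q t = c), elt hc ht * elt hc ht = 1 := fun ht =>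
        toOQ_injective (by rw [map_mul, map_one, toOQ_elt, refl_mul_self])
      rw [← conj_of_braid (hself hu) (hself hw) hb]
      have h1 := stab hw h₁ hw1 hB1 _ hBu
      have h2 := stab hu h₁ hu1 hB1 _ h1
      rwa [show elt hc hu * (elt hc hw * elt hc hu * (elt hc hw)⁻¹) * (elt hc hu)⁻¹ =
        elt hc hu * elt hc hw * elt hc hu * (elt hc hu * elt hc hw)⁻¹ by group] at h2
    have h21 : polar Q y₂ y₁ = 0 := by rw [QuadraticMap.polar_comm]; exact h12
    by_cases hp : polar Q y₂ v = 0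
    · have hP : ∀ t ∈ Submodule.span (ZMod 3) ({y₁, y₂, v} : Set (Fin n → ZMod 3)),
          (∀ y ∈ Submodule.span (ZMod 3) ({y₁, y₂, v} : Set (Fin n → ZMod 3)), polar Q t y = 0) → t = 0 := by
        intro t ht hty
        obtain ⟨g0, g1, g2, rfl⟩ := Submodule.mem_span_triple.1 ht
        have e0 := hty y₁ (Submodule.subset_span (by simp))
        have e1 := hty y₂ (Submodule.subset_span (by simp))
        have e2 := hty v (Submodule.subset_span (by simp))
        simp only [polar_add_left', polar_smul_left', polar_self', h₁, h₂, hv, h12, h21, hv1, hp,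
          QuadraticMap.polar_comm (⇑Q) v y₂, QuadraticMap.polar_comm (⇑Q) y₁ v] at e0 e1 e2
        simp [hc, two_ne] at e0 e1 e2
        simp [e0, e1, e2]
      obtain ⟨z, hz, hperp⟩ := exists_perp_of_le hQ hn hP (finrank_triple _ _ _) (neg_ne_zero.2 hc)
      have hz0 := hperp y₁ (Submodule.subset_span (by simp))
      have hz1 := hperp y₂ (Submodule.subset_span (by simp))
      have hz2 := hperp v (Submodule.subset_span (by simp))
      have huc : Q (y₂ + v + z) = c := by
        rw [apply_add, apply_add, h₂, hv, hz, hp, polar_add_left', hz1, hz2]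
        ring
      have hu1 : polar Q (y₂ + v + z) y₁ = 0 := by
        rw [polar_add_left', polar_add_left', h21, hv1, QuadraticMap.polar_comm, hz0]; ring
      refine step huc hv (step h₂ huc hB2 h21 hu1 ?_) hu1 hv1 ?_
      · rw [polar_add_right', polar_add_right', polar_self', h₂, hp, hz1, add_zero, add_zero]
        exact h2c
      · rw [QuadraticMap.polar_comm, polar_add_right', polar_add_right', polar_self', hv,
          QuadraticMap.polar_comm (⇑Q) v y₂, hp, hz2, zero_add, add_zero]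
        exact h2c
    · exact step h₂ hv hB2 h21 hv1 hp
  have allB : ∀ {y₁ y₂ : Fin n → ZMod 3} (h₁ : Q y₁ = c) (h₂ : Q y₂ = c),
      polar Q y₁ y₂ = 0 → elt hc h₁ ∈ B → elt hc h₂ ∈ B → B = D := by
    intro y₁ y₂ h₁ h₂ h12 hB1 hB2
    refine Set.Subset.antisymm hB fun g hg => ?_
    obtain ⟨x, hx, rfl⟩ := exists_elt hc hg
    obtain ⟨y, hy, h1y, hxy⟩ := exists_perp_norm hc hQ hn h₁ hx
    have hy1 : polar Q y y₁ = 0 := by rw [QuadraticMap.polar_comm]; exact h1y
    exact spread hy h₁ hx hy1 (spread h₁ h₂ hy h12 hB1 hB2 hy1) hB1 hxy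
  by_cases hsub : B.Subsingleton
  · exact Or.inl hsub
  refine Or.inr ?_
  obtain ⟨ga, hga, gb, hgb, hab⟩ := Set.not_subsingleton_iff.1 hsub
  obtain ⟨a, ha, rfl⟩ := exists_elt hc (hB hga)
  obtain ⟨b, hb, rfl⟩ := exists_elt hc (hB hgb)
  by_cases hp : polar Q a b = 0
  · exact allB ha hb hp hga hgb
  set l := polar Q a b / (2 * c) with hl
  have hal : polar Q a b = l * (2 * c) := (div_mul_cancel₀ _ h2c).symm
  set z := b - l • a with hzdef
  have haz : polar Q a z = 0 := by
    rw [hzdef, QuadraticMap.polar_sub_right, polar_smul_right', polar_self', ha, hal, sub_self]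
  have hl0 : l ≠ 0 := div_ne_zero hp h2c
  have hll : l * l = 1 := sq_of_ne _ hl0
  have hbe : b = l • a + z := by rw [hzdef]; abel
  have hqz : Q z = 0 := by
    have h := hb
    rw [hbe, apply_add, apply_smul, hll, ha, polar_smul_left', haz] at h
    linear_combination h
  have hz0 : z ≠ 0 := fun e => hab (elt_eq hc ha hb hl0 (by rw [hbe, e, add_zero])).symm
  obtain ⟨w, hw, haw, hzw⟩ := exists_partner hc hQ ha hqz hz0 haz
  obtain ⟨u, hu, hperp⟩ := exists_perp_of_le hQ hn (nondeg_hyperbolic hc hQ ha hqz hw haz haw hzw)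
    (finrank_triple _ _ _) (neg_ne_zero.2 hc)
  have hau := hperp a (Submodule.subset_span (by simp))
  have hzu := hperp z (Submodule.subset_span (by simp))
  have hwu := hperp w (Submodule.subset_span (by simp))
  set x₁ := z + c • w with hx₁
  set x₂ := z + (-c) • w + u with hx₂
  have hc2 : c * c = 1 := sq_of_ne _ hc
  have hx₁c : Q x₁ = c := by
    rw [hx₁, apply_add, apply_smul, hqz, hw, polar_smul_right', hzw]; ring
  have h3 : (3 : ZMod 3) = 0 := three_zero
  have hx₂c : Q x₂ = c := by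
    rw [hx₂, apply_add, apply_add, apply_smul, hqz, hw, hu, polar_smul_right', hzw, polar_add_left',
      polar_smul_left', hzu, hwu]
    linear_combination (-c) * h3
  have hax₁ : polar Q x₁ a = 0 := by
    rw [QuadraticMap.polar_comm, hx₁, polar_add_right', polar_smul_right', haz, haw]; ring
  have hax₂ : polar Q x₂ a = 0 := by
    rw [QuadraticMap.polar_comm, hx₂, polar_add_right', polar_add_right', polar_smul_right', haz, haw, hau]; ring
  obtain ⟨hb₁, e₁⟩ := elt_conj hc hx₁c hb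
  have hB₁ := stab hx₁c ha hax₁ hga _ hgb
  rw [e₁] at hB₁
  obtain ⟨hb₂, e₂⟩ := elt_conj hc hx₂c hb₁
  have hB₂ := stab hx₂c ha hax₂ hga _ hB₁
  rw [e₂] at hB₂
  refine allB hb hb₂ ?_ hgb hB₂
  have hc1 : c⁻¹ = c := inv_eq_of_mul_eq_one_left hc2
  have hbx₁ : polar Q b x₁ = c := by
    rw [hbe, hx₁]
    simp only [polar_add_left', polar_add_right', polar_smul_left', polar_smul_right', haz, haw, hzw,
      polar_self', hqz]
    ring
  have hbx₂ : polar Q b x₂ = -c := by
    rw [hbe, hx₂]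
    simp only [polar_add_left', polar_add_right', polar_smul_left', polar_smul_right', haz, haw, hau, hzw, hzu,
      polar_self', hqz]
    ring
  have hx₁₂ : polar Q x₁ x₂ = 0 := by
    rw [hx₁, hx₂]
    simp only [polar_add_left', polar_add_right', polar_smul_left', polar_smul_right', hzw, hzu, hwu,
      polar_self', hqz, hw, QuadraticMap.polar_comm (⇑Q) w z]
    ring
  rw [hc1, hbx₁, hc2]
  simp only [one_smul, QuadraticMap.polar_sub_right, QuadraticMap.polar_sub_left, polar_smul_right', polar_self', hb,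
    hbx₁, hbx₂, hx₁₂, hc1]
  linear_combination (c - c ^ 3) * h3 + 2 * c * hc2

theorem structure_thm (hn : 5 ≤ n) :
    Cfsg.IsQuasisimple (commutator ↥(Cfsg.reflectionSubgroup (⇑Q) c)) ∧
    (commutator ↥(Cfsg.reflectionSubgroup (⇑Q) c)).index ≤ 2 ∧
    Cfsg.generalizedFittingSubgroup ↥(Cfsg.reflectionSubgroup (⇑Q) c) =
      Subgroup.center ↥(Cfsg.reflectionSubgroup (⇑Q) c) ⊔ commutator ↥(Cfsg.reflectionSubgroup (⇑Q) c) ∧
    Cfsg.IsPrimitiveUnderConj {g : ↥(Cfsg.reflectionSubgroup (⇑Q) c) |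
      (g : ↥(Cfsg.isometryGroup (ZMod 3) (⇑Q))) ∈ Cfsg.reflectionsOfNorm (⇑Q) c} := by
  haveI : Fact (Nat.Prime 3) := ⟨Nat.prime_three⟩
  obtain ⟨hprim, hw⟩ := primitive hc hQ hn
  have hclass := threeTranspositionClass (by omega) hQ hc
  have hD := group_of_class hclass
  have hF := fitting_le_center hclass (pCore_le_center hD hprim hw Nat.prime_two)
    (pCore_le_center hD hprim hw Nat.prime_three)
  obtain ⟨L, hLn, hL, hidx⟩ := exists_component_normal hD hprim hF
  have hperf : ⁅L, L⁆ = L := by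
    rw [← Subgroup.map_subtype_commutator, hL.1.commutator_eq_top, ← MonoidHom.range_eq_map,
      Subgroup.range_subtype]
  have hcomm : commutator ↥(Cfsg.reflectionSubgroup (⇑Q) c) = L := by
    refine le_antisymm (commutator_le_of_index_le_two hidx) ?_
    rw [← hperf, commutator_def]
    exact Subgroup.commutator_mono le_top le_top
  rw [hcomm]
  exact ⟨hL, hidx, by rw [sup_comm]; exact gFitting_eq hclass hL hidx hF, hprim⟩

end CfsgLib.ThreeTrans.ReflectionsF3
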