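import Cfsg.Agent.Lib.ThreeTrans.Primitive
import Cfsg.Agent.Lib.ThreeTrans.WidthOneThm

set_option autoImplicit false

/-!
The centralizer of a member of a class of 3-transpositions is transitive on the members commuting
with it and on the others (owner: lead).
-/

namespace CfsgLib.ThreeTrans.RankThree

open Cfsg
open scoped commutatorElement

universe u

variable {G : Type u} [Group G] {D : Set G}

/-- Two pairs are conjugate. -/
def PairConj (a b a' b' : G) : Prop := ∃ g : G, g * a * g⁻¹ = a' ∧ g * b * g⁻¹ = b'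

theorem PairConj.symm {a b a' b' : G} (h : PairConj a b a' b') : PairConj a' b' a b := by
  obtain ⟨g, rfl, rfl⟩ := h
  exact ⟨g⁻¹, by group, by group⟩

theorem PairConj.trans {a b a' b' a'' b'' : G} (h : PairConj a b a' b') (h' : PairConj a' b' a'' b'') :
    PairConj a b a'' b'' := by
  obtain ⟨g, rfl, rfl⟩ := h
  obtain ⟨k, rfl, rfl⟩ := h'
  exact ⟨k * g, by group, by group⟩

theorem PairConj.flip {a b a' b' : G} (h : PairConj a b a' b') : PairConj b a b' a' :=
  let ⟨g, h1, h2⟩ := h
  ⟨g, h2, h1⟩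

variable (hD : IsThreeTranspositionSet D)
include hD

theorem pair_swap {u v : G} (hu : u ∈ D) (hv : v ∈ D) (h : ¬ Commute u v) : PairConj u v v u := by
  have hb := braid hD hu hv h
  refine ⟨u * v * u, ?_, ?_⟩
  · simp only [mul_inv_rev, inv_eq hD hu, inv_eq hD hv]
    calc u * v * u * u * (u * (v * u)) = (u * v * u) * (v * u) := by
          simp only [mul_assoc, mul_self_assoc hD hu]
      _ = v := by rw [hb]; simp only [mul_assoc, mul_self_assoc hD hv, mul_self hD hu, mul_one]
  · simp only [mul_inv_rev, inv_eq hD hu, inv_eq hD hv]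
    calc u * v * u * v * (u * (v * u)) = (v * u * v) * v * (v * u * v) := by
          rw [← hb]; simp only [mul_assoc]
      _ = v * (u * v * u) * v := by simp only [mul_assoc, mul_self_assoc hD hv]
      _ = u := by rw [hb]; simp only [mul_assoc, mul_self_assoc hD hv, mul_self hD hv, mul_one]

theorem pair_fan {u v w : G} (hu : u ∈ D) (hv : v ∈ D) (hw : w ∈ D) (huv : ¬ Commute u v)
    (huw : ¬ Commute u w) (hvw : Commute v w) : PairConj u v u w := by
  have hb := braid hD hu hv huv
  have hb2 := braid hD hu hw huw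
  have hvwv : v * w * v = w := by rw [hvw.eq, mul_assoc, mul_self hD hv, mul_one]
  have hwvw : w * v * w = v := by rw [← hvw.eq, mul_assoc, mul_self hD hw, mul_one]
  have hvvv : v * v * v = v := by rw [mul_self hD hv, one_mul]
  have c1 : ∀ x, u * (u * x * u) * u = x := fun x => by
    simp only [mul_assoc, mul_self_assoc hD hu, mul_self hD hu, mul_one]
  have c2 : ∀ x, v * (v * x * v) * v = x := fun x => by
    simp only [mul_assoc, mul_self_assoc hD hv, mul_self hD hv, mul_one]
  have key : w * (v * u * v) * w = v * (w * u * w) * v := by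
    calc w * (v * u * v) * w = w * v * u * (v * w) := by simp only [mul_assoc]
      _ = v * w * u * (w * v) := by rw [hvw.eq]
      _ = v * (w * u * w) * v := by simp only [mul_assoc]
  refine ⟨u * v * u * w * u * v, ?_, ?_⟩
  · calc u * v * u * w * u * v * u * (u * v * u * w * u * v)⁻¹
        = u * (v * (u * (w * (u * (v * u * v) * u) * w) * u) * v) * u := by
          simp only [mul_inv_rev, inv_eq hD hu, inv_eq hD hv, inv_eq hD hw, mul_assoc]
      _ = u * (v * (u * v * u) * v) * u := by rw [← hb, c1, hwvw]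
      _ = u := by rw [hb, c2, mul_self hD hu, one_mul]
  · calc u * v * u * w * u * v * v * (u * v * u * w * u * v)⁻¹
        = u * (v * (u * (w * (u * (v * v * v) * u) * w) * u) * v) * u := by
          simp only [mul_inv_rev, inv_eq hD hu, inv_eq hD hv, inv_eq hD hw, mul_assoc]
      _ = u * (v * (u * (v * (w * u * w) * v) * u) * v) * u := by
          rw [hvvv, hb, key]
      _ = u * (v * (u * v * u * w * (u * v * u)) * v) * u := by
          rw [← hb2]; simp only [mul_assoc]
      _ = u * (v * (v * (u * (v * w * v) * u) * v) * v) * u := by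
          rw [hb]; simp only [mul_assoc]
      _ = u * (u * w * u) * u := by rw [c2, hvwv]
      _ = w := c1 w

omit hD

variable [Finite G]

omit [Finite G] in
theorem commute_closure {a : G} {T : Set G} (h : ∀ t ∈ T, Commute a t) {x : G}
    (hx : x ∈ Subgroup.closure T) : Commute a x := by
  induction hx using Subgroup.closure_induction with
  | mem y hy => exact h y hy
  | one => exact Commute.one_right a
  | mul p q _ _ hp hq => exact hp.mul_right hq
  | inv p _ hp => exact hp.inv_right

/-- The standing facts. -/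
structure Setting (D : Set G) : Prop where
  cls : IsThreeTranspositionClass D
  nontriv : ∃ a ∈ D, ∃ b ∈ D, a ≠ b
  width : ∃ a ∈ D, ∃ b ∈ D, a ≠ b ∧ Commute a b
  prim : IsPrimitiveUnderConj D
  core : pCore 2 G ≤ Subgroup.center G

variable {S : Setting D}

theorem Setting.grp (S : Setting D) : IsThreeTranspositionGroup D := group_of_class S.cls

theorem Setting.max (S : Setting D) {d e : G} (hd : d ∈ D) (he : e ∈ D) (h : ¬ Commute d e) :
    Subgroup.closure ({y | y ∈ D ∧ Commute d y} ∪ {e}) = ⊤ := by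
  set H := Subgroup.closure ({y | y ∈ D ∧ Commute d y} ∪ {e}) with hH
  have hHD : IsDSubgroup D H := by
    refine le_antisymm ((Subgroup.closure_le _).2 fun x hx => hx.2) ?_
    refine Subgroup.closure_mono ?_
    rintro x (hx | hx)
    · exact ⟨hx.1, Subgroup.subset_closure (Or.inl hx)⟩
    · exact ⟨Set.mem_singleton_iff.1 hx ▸ he, Subgroup.subset_closure (Or.inr hx)⟩
  refine (closure_commuting_maximal S.grp S.prim S.width hd hHD
    (Subgroup.closure_mono Set.subset_union_left)).resolve_left fun heq => h ?_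
  have heH : e ∈ Subgroup.closure {y | y ∈ D ∧ Commute d y} :=
    heq ▸ Subgroup.subset_closure (Or.inr rfl)
  exact commute_closure (fun t ht => ht.2) heH

/-- A set of members commuting with `d` and `e` and stable under the others is empty. -/
theorem Setting.no_set (S : Setting D) {d e : G} (hd : d ∈ D) (he : e ∈ D) (hde : ¬ Commute d e) {T : Set G}
    (hTD : T ⊆ D) (hTd : ∀ s ∈ T, Commute d s)
    (hT : ∀ y ∈ D, Commute d y → y ∈ T ∨ ∀ s ∈ T, Commute y s) (hTe : ∀ s ∈ T, Commute e s) :
    T = ∅ := by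
  by_contra hne
  obtain ⟨s, hs⟩ := Set.nonempty_iff_ne_empty.2 hne
  have hn : Subgroup.normalizer (Subgroup.closure T : Set G) = ⊤ := by
    rw [eq_top_iff, ← S.max hd he hde, Subgroup.closure_le]
    have hc : ∀ y, (∀ s ∈ T, Commute y s) → y ∈ Subgroup.centralizer (Subgroup.closure T : Set G) := by
      intro y hy
      rw [Subgroup.centralizer_closure, Subgroup.mem_centralizer_iff]
      exact fun s hs => (hy s hs).symm.eq
    rintro y (⟨hy, hdy⟩ | rfl)
    · rcases hT y hy hdy with h | h
      · exact Subgroup.le_normalizer (Subgroup.subset_closure h)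
      · exact Subgroup.centralizer_le_normalizer _ (hc y h)
    · exact Subgroup.centralizer_le_normalizer _ (hc y hTe)
  haveI := Subgroup.normalizer_eq_top_iff.1 hn
  obtain ⟨x, hx, hdx⟩ := exists_not_commute S.cls S.nontriv hd
  obtain ⟨g, rfl⟩ := class_trans S.cls (hTD hs) hx
  have hm : g * s * g⁻¹ ∈ Subgroup.closure T :=
    (inferInstance : (Subgroup.closure T).Normal).conj_mem _ (Subgroup.subset_closure hs) g
  exact hdx (commute_closure hTd hm)

theorem Setting.perp_card (S : Setting D) {a b : G} (ha : a ∈ D) (hb : b ∈ D) :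
    {z | z ∈ D ∧ Commute a z}.ncard = {z | z ∈ D ∧ Commute b z}.ncard := by
  obtain ⟨g, rfl⟩ := class_trans S.cls ha hb
  refine (Set.ncard_congr' ((MulAut.conj g).toEquiv.subtypeEquiv fun x => ?_))
  show x ∈ D ∧ Commute a x ↔ g * x * g⁻¹ ∈ D ∧ Commute (g * a * g⁻¹) (g * x * g⁻¹)
  rw [commute_conj_iff]
  refine and_congr_left' ⟨fun h => class_conj S.cls g x h, fun h => ?_⟩
  have := class_conj S.cls g⁻¹ _ h
  simpa [mul_assoc] using this

theorem Setting.exists_sep (S : Setting D) {d y : G} (hd : d ∈ D) (hy : y ∈ D) (hne : y ≠ d) :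
    ∃ e ∈ D, Commute y e ∧ ¬ Commute d e := by
  by_contra h
  push Not at h
  have hss : {z | z ∈ D ∧ Commute y z} = {z | z ∈ D ∧ Commute d z} :=
    Set.eq_of_subset_of_ncard_le (fun z hz => ⟨hz.1, h z hz.1 hz.2⟩) (S.perp_card hd hy).le (Set.toFinite _)
  have hV : SameV D d y := ⟨hy, fun e he => by
    have := Set.ext_iff.1 hss e
    simpa [he] using this⟩
  have hm := sameV_mul_mem_pCore S.cls.1 (class_conj S.cls) hV hd
  obtain ⟨x, hx, hdx⟩ := exists_not_commute S.cls S.nontriv hd
  exact hdx (commute_of_commute_mul S.cls.1 hd hy hx (fun h => hne h.symm)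
    (Subgroup.mem_center_iff.1 (S.core hm) x)).1.symm

/-- The component of `x` among the members commuting with `d`. -/
def comp (D : Set G) (d x : G) : Set G :=
  {y | ∃ g ∈ Subgroup.closure {z | z ∈ D ∧ z ≠ d ∧ Commute d z}, g * x * g⁻¹ = y}

omit [Finite G] in
theorem comp_sub (hconj : ∀ g : G, ∀ z ∈ D, g * z * g⁻¹ ∈ D) {d x : G} (hx : x ∈ D) (hxd : x ≠ d)
    (hc : Commute d x) {y : G} (hy : y ∈ comp D d x) : y ∈ D ∧ y ≠ d ∧ Commute d y := by
  obtain ⟨g, hg, rfl⟩ := hy
  have hgd : Commute d g := by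
    induction hg using Subgroup.closure_induction with
    | mem z hz => exact hz.2.2
    | one => exact Commute.one_right d
    | mul p q _ _ hp hq => exact hp.mul_right hq
    | inv p _ hp => exact hp.inv_right
  refine ⟨hconj g x hx, fun h => hxd ?_, (hgd.mul_right hc).mul_right hgd.inv_right⟩
  have := congrArg (fun t => g⁻¹ * t * g) h
  simp only [← mul_assoc, inv_mul_cancel, one_mul, inv_mul_cancel_right] at this
  rw [this, mul_assoc, hgd.eq, inv_mul_cancel_left]

omit [Finite G] in
theorem comp_step (hS : IsThreeTranspositionSet D) {d a b : G} (ha : a ∈ D) (had : a ≠ d) (hca : Commute d a)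
    (hb : b ∈ D) (hbd : b ≠ d) (hcb : Commute d b) (hab : ¬ Commute a b) : b ∈ comp D d a := by
  refine ⟨a * b, mul_mem (Subgroup.subset_closure ⟨ha, had, hca⟩) (Subgroup.subset_closure ⟨hb, hbd, hcb⟩), ?_⟩
  rw [mul_inv_rev, inv_eq hS ha, inv_eq hS hb]
  calc a * b * a * (b * a) = (a * b * a) * b * a := by simp only [mul_assoc]
    _ = b := by
      rw [braid hS ha hb hab]
      simp only [mul_assoc, mul_self_assoc hS hb, mul_self hS ha, mul_one]

omit [Finite G] in
theorem comp_trans {d x y z : G} (hy : y ∈ comp D d x) (hz : z ∈ comp D d y) : z ∈ comp D d x := by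
  obtain ⟨g, hg, rfl⟩ := hy
  obtain ⟨k, hk, rfl⟩ := hz
  exact ⟨k * g, mul_mem hk hg, by group⟩

/-- The members commuting with `d` form one class of the subgroup they generate. -/
theorem Setting.commute_comp (S : Setting D) {d b b' : G} (hd : d ∈ D) (hb : b ∈ D) (hbd : b ≠ d)
    (hcb : Commute d b) (hb' : b' ∈ D) (hb'd : b' ≠ d) (hcb' : Commute d b') :
    ∃ g ∈ Subgroup.closure {z | z ∈ D ∧ z ≠ d ∧ Commute d z}, g * b * g⁻¹ = b' := by
  classical
  have hS := S.cls.1
  have hconj := class_conj S.cls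
  obtain ⟨x₀, ⟨hx₀, hx₀d, hcx₀⟩, hmax⟩ := Set.exists_max_image {z | z ∈ D ∧ z ≠ d ∧ Commute d z}
    (fun z => (comp D d z).ncard) (Set.toFinite _) ⟨b, hb, hbd, hcb⟩
  have hall : ∀ y, y ∈ D → y ≠ d → Commute d y → y ∈ comp D d x₀ := by
    intro y hy hyd hcy
    by_contra hny
    have hcomm : ∀ z, z ∈ D → z ≠ d → Commute d z → z ∉ comp D d x₀ → ∀ s ∈ comp D d x₀, Commute z s := by
      intro z hz hzd hcz hnz s hs
      by_contra hzs
      obtain ⟨hsD, hsd, hcs⟩ := comp_sub hconj hx₀ hx₀d hcx₀ hs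
      exact hnz (comp_trans hs (comp_step hS hsD hsd hcs hz hzd hcz fun h => hzs h.symm))
    obtain ⟨e, he, hye, hde⟩ := S.exists_sep hd hy hyd
    obtain ⟨x, hx, hxe⟩ : ∃ x ∈ comp D d x₀, ¬ Commute e x := by
      by_contra h
      push Not at h
      have := S.no_set hd he hde (T := comp D d x₀) (fun s hs => (comp_sub hconj hx₀ hx₀d hcx₀ hs).1)
        (fun s hs => (comp_sub hconj hx₀ hx₀d hcx₀ hs).2.2)
        (fun z hz hcz => by
          by_cases hzd : z = d
          · exact Or.inr fun s hs => hzd ▸ (comp_sub hconj hx₀ hx₀d hcx₀ hs).2.2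
          · exact or_iff_not_imp_left.2 (hcomm z hz hzd hcz)) h
      exact (Set.eq_empty_iff_forall_notMem.1 this) x₀ ⟨1, one_mem _, by group⟩
    obtain ⟨hxD, hxd, hcx⟩ := comp_sub hconj hx₀ hx₀d hcx₀ hx
    have hey : e ≠ y := fun h => hde (h ▸ hcy)
    -- the component of `d` as seen from `y`
    have hey' : e ∈ comp D y d := comp_step hS hd (Ne.symm hyd) hcy.symm he hey hye hde
    have hin : ∀ s ∈ comp D d x₀, Commute y s ∧ s ≠ y := fun s hs =>
      ⟨hcomm y hy hyd hcy hny s hs, fun h => hny (h ▸ hs)⟩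
    have hxy : x ∈ comp D y d :=
      comp_trans hey' (comp_step hS he hey hye hxD (hin x hx).2 (hin x hx).1 hxe)
    have hsub : comp D d x₀ ⊆ comp D y d := by
      intro s hs
      obtain ⟨g, hg, rfl⟩ := hx
      obtain ⟨k, hk, rfl⟩ := hs
      have hkg : k * g⁻¹ ∈ Subgroup.closure {z | z ∈ D ∧ z ≠ d ∧ Commute d z} := mul_mem hk (inv_mem hg)
      rw [show k * x₀ * k⁻¹ = k * g⁻¹ * (g * x₀ * g⁻¹) * (k * g⁻¹)⁻¹ by group]
      have key : ∀ m ∈ Subgroup.closure {z | z ∈ D ∧ z ≠ d ∧ Commute d z}, ∀ t ∈ comp D d x₀,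
          t ∈ comp D y d → m * t * m⁻¹ ∈ comp D y d := by
        intro m hm
        have hstep : ∀ z, (z ∈ D ∧ z ≠ d ∧ Commute d z) → ∀ t ∈ comp D d x₀, t ∈ comp D y d →
            z * t * z⁻¹ ∈ comp D y d := by
          rintro z ⟨hz, hzd, hcz⟩ t ht hty
          by_cases hzt : Commute z t
          · rwa [hzt.eq, mul_inv_cancel_right]
          obtain ⟨htD, htd, hct⟩ := comp_sub hconj hx₀ hx₀d hcx₀ ht
          have hzO : z ∈ comp D d x₀ :=
            comp_trans ht (comp_step hS htD htd hct hz hzd hcz fun h => hzt h.symm)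
          exact comp_trans hty ⟨z, Subgroup.subset_closure ⟨hz, (hin z hzO).2, (hin z hzO).1⟩, rfl⟩
        induction hm using Subgroup.closure_induction_left with
        | one => intro t _ hty; simpa using hty
        | mul_left z hz p hp ih =>
          intro t ht hty
          rw [show z * p * t * (z * p)⁻¹ = z * (p * t * p⁻¹) * z⁻¹ by group]
          exact hstep z hz _ (comp_trans ht ⟨p, hp, rfl⟩) (ih t ht hty)
        | inv_mul_cancel z hz p hp ih =>
          intro t ht hty
          rw [inv_eq hS hz.1, show z * p * t * (z * p)⁻¹ = z * (p * t * p⁻¹) * z⁻¹ by group]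
          exact hstep z hz _ (comp_trans ht ⟨p, hp, rfl⟩) (ih t ht hty)
      exact key _ hkg _ ⟨g, hg, rfl⟩ hxy
    have hd_mem : d ∈ comp D y d := ⟨1, one_mem _, by group⟩
    have hlt : (comp D d x₀).ncard < (comp D y d).ncard := by
      refine Set.ncard_lt_ncard ⟨hsub, fun h => ?_⟩ (Set.toFinite _)
      exact (comp_sub hconj hx₀ hx₀d hcx₀ (h hd_mem)).2.1 rfl
    obtain ⟨g, hg⟩ := class_trans S.cls hy hd
    have himg : (MulAut.conj g) '' comp D y d ⊆ comp D d (g * d * g⁻¹) := by
      rintro _ ⟨_, ⟨k, hk, rfl⟩, rfl⟩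
      refine ⟨g * k * g⁻¹, ?_, by simp only [MulAut.conj_apply]; group⟩
      induction hk using Subgroup.closure_induction with
      | mem z hz =>
        refine Subgroup.subset_closure ⟨hconj g z hz.1, fun h => hz.2.1 ?_, ?_⟩
        · rw [← hg] at h
          exact mul_left_cancel (mul_right_cancel h)
        · rw [← hg]
          exact commute_conj_iff.2 hz.2.2
      | one => simp
      | mul p q _ _ hp hq =>
        rw [show g * (p * q) * g⁻¹ = g * p * g⁻¹ * (g * q * g⁻¹) by group]
        exact mul_mem hp hq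
      | inv p _ hp =>
        rw [show g * p⁻¹ * g⁻¹ = (g * p * g⁻¹)⁻¹ by group]
        exact inv_mem hp
    have h1 := Set.ncard_le_ncard himg (Set.toFinite _)
    rw [Set.ncard_image_of_injective _ (MulAut.conj g).injective] at h1
    have hgd : g * d * g⁻¹ ≠ d := fun h => hyd (mul_left_cancel (mul_right_cancel (hg.trans h.symm)))
    have h2 := hmax (g * d * g⁻¹) ⟨hconj g d hd, hgd, by
      have h3 := (commute_conj_iff (g := g)).2 hcy.symm
      rwa [hg] at h3⟩
    omega
  obtain ⟨g, hg, e1⟩ := hall b hb hbd hcb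
  obtain ⟨k, hk, e2⟩ := hall b' hb' hb'd hcb'
  exact ⟨k * g⁻¹, mul_mem hk (inv_mem hg), by rw [← e1, ← e2]; group⟩

/-- The members commuting with `d` are conjugate in its centralizer. -/
theorem Setting.commute_transitive (S : Setting D) {d b b' : G} (hd : d ∈ D) (hb : b ∈ D) (hbd : b ≠ d)
    (hcb : Commute d b) (hb' : b' ∈ D) (hb'd : b' ≠ d) (hcb' : Commute d b') :
    ∃ g : G, Commute g d ∧ g * b * g⁻¹ = b' :=
  let ⟨g, hg, e⟩ := S.commute_comp hd hb hbd hcb hb' hb'd hcb'
  ⟨g, (commute_closure (fun _ hz => hz.2.2) hg).symm, e⟩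

/-- The members not commuting with `d` are conjugate in its centralizer. -/
theorem Setting.noncommute_transitive (S : Setting D) {d c c' : G} (hd : d ∈ D) (hc : c ∈ D)
    (hdc : ¬ Commute d c) (hc' : c' ∈ D) (hdc' : ¬ Commute d c') :
    ∃ g : G, Commute g d ∧ g * c * g⁻¹ = c' := by
  classical
  by_contra hno
  have hS := S.cls.1
  have hconj := class_conj S.cls
  let O : G → G → Prop := fun e f => ∃ g : G, Commute g d ∧ g * e * g⁻¹ = f
  have hO : ∀ e f, PairConj d e d f → O e f := by
    rintro e f ⟨g, h1, h2⟩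
    exact ⟨g, mul_inv_eq_iff_eq_mul.1 h1, h2⟩
  have hOsymm : ∀ e f, O e f → O f e := by
    rintro e f ⟨g, h1, rfl⟩
    exact ⟨g⁻¹, h1.inv_left, by group⟩
  have hOtrans : ∀ e f h, O e f → O f h → O e h := by
    rintro e f h ⟨g, h1, rfl⟩ ⟨k, k1, rfl⟩
    exact ⟨k * g, k1.mul_left h1, by group⟩
  have hOA : ∀ e f, e ∈ D → ¬ Commute d e → O e f → f ∈ D ∧ ¬ Commute d f := by
    rintro e f he hde ⟨g, h1, rfl⟩
    refine ⟨hconj g e he, fun h => hde ((commute_conj_iff (g := g)).1 ?_)⟩
    rwa [h1.eq, mul_inv_cancel_right]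
  let N : G → Set G := fun e => {x | x ∈ D ∧ x ≠ d ∧ Commute d x ∧ Commute e x}
  have hincl : ∀ e f, e ∈ D → ¬ Commute d e → f ∈ D → ¬ Commute d f → ¬ O e f → N e ⊆ N f ∨ N f ⊆ N e := by
    intro e f he hde hf hdf hef
    have hnef : ¬ Commute e f := fun h => hef (hO _ _ (pair_fan hS hd he hf hde hdf h))
    by_contra hh
    rw [not_or, Set.not_subset, Set.not_subset] at hh
    obtain ⟨⟨x', ⟨hx', hx'd, hdx', hex'⟩, hx'f⟩, x, ⟨hx, hxd, hdx, hfx⟩, hxe⟩ := hh
    have hxe' : ¬ Commute e x := fun h => hxe ⟨hx, hxd, hdx, h⟩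
    have hx'f' : ¬ Commute f x' := fun h => hx'f ⟨hx', hx'd, hdx', h⟩
    have hed : ¬ Commute e d := fun h => hde h.symm
    have hfd : ¬ Commute f d := fun h => hdf h.symm
    have h1 : PairConj e d e f := (pair_fan hS he hd hx hed hxe' hdx).trans
      (pair_fan hS he hx hf hxe' hnef hfx.symm)
    have h2 : PairConj f d f e := (pair_fan hS hf hd hx' hfd hx'f' hdx').trans
      (pair_fan hS hf hx' he hx'f' (fun h => hnef h.symm) hex'.symm)
    exact hef (hO _ _ ((h1.trans (pair_swap hS he hf hnef)).trans h2.symm).flip)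
  obtain ⟨e₀, ⟨he₀, hde₀⟩, hmin⟩ := Set.exists_min_image {e | e ∈ D ∧ ¬ Commute d e}
    (fun e => (N e).ncard) (Set.toFinite _) ⟨c, hc, hdc⟩
  have hNconj : ∀ g : G, Commute g d → ∀ e x, x ∈ N e → g * x * g⁻¹ ∈ N (g * e * g⁻¹) := by
    rintro g hg e x ⟨hx, hxd, hdx, hex⟩
    refine ⟨hconj g x hx, fun h => hxd ?_, ?_, commute_conj_iff.2 hex⟩
    · have : g * x * g⁻¹ = g * d * g⁻¹ := by rw [h, hg.eq, mul_inv_cancel_right]
      exact mul_left_cancel (mul_right_cancel this)
    · have := (commute_conj_iff (g := g)).2 hdx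
      rwa [hg.eq, mul_inv_cancel_right] at this
  obtain ⟨f, hf, hdf, hef⟩ : ∃ f ∈ D, ¬ Commute d f ∧ ¬ O e₀ f := by
    by_contra hh
    push Not at hh
    exact hno (hOtrans _ _ _ (hOsymm _ _ (hh c hc hdc)) (hh c' hc' hdc'))
  have hsub : ∀ e, O e₀ e → N e ⊆ N f := by
    intro e he
    obtain ⟨heD, hde⟩ := hOA _ _ he₀ hde₀ he
    have hle : (N e).ncard ≤ (N e₀).ncard := by
      obtain ⟨g, hg, rfl⟩ := hOsymm _ _ he
      refine Set.ncard_le_ncard_of_injOn (fun x => g * x * g⁻¹) (fun x hx => hNconj g hg _ x hx) ?_ (Set.toFinite _)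
      exact fun a _ b _ h => mul_left_cancel (mul_right_cancel h)
    rcases hincl e f heD hde hf hdf fun h => hef (hOtrans _ _ _ he h) with h | h
    · exact h
    · rw [Set.eq_of_subset_of_ncard_le h (hle.trans (hmin f ⟨hf, hdf⟩)) (Set.toFinite _)]
  have hempty : ∀ e, O e₀ e → N e = ∅ := by
    intro e he
    by_contra hne
    obtain ⟨x, hx⟩ := Set.nonempty_iff_ne_empty.2 hne
    have := S.no_set hd hf hdf (T := {z | z ∈ D ∧ z ≠ d ∧ Commute d z}) (fun s hs => hs.1) (fun s hs => hs.2.2)
      (fun z hz hcz => by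
        by_cases hzd : z = d
        · exact Or.inr fun s hs => hzd ▸ hs.2.2
        · exact Or.inl ⟨hz, hzd, hcz⟩)
      (by
        rintro s ⟨hs, hsd, hds⟩
        obtain ⟨g, hg, rfl⟩ := S.commute_transitive hd hx.1 hx.2.1 hx.2.2.1 hs hsd hds
        exact (hsub _ (hOtrans _ _ _ he ⟨g, hg, rfl⟩) (hNconj g hg e x hx)).2.2.2)
    exact (Set.eq_empty_iff_forall_notMem.1 this) x ⟨hx.1, hx.2.1, hx.2.2.1⟩
  have hclosed : ∀ p q : D, (commutingGraph D).Reachable p q → O e₀ p → O e₀ q := by
    intro p q hr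
    rw [SimpleGraph.reachable_iff_reflTransGen] at hr
    induction hr with
    | refl => exact id
    | @tail a b _ hadj ih =>
      intro hp
      have ha := ih hp
      obtain ⟨haD, hda⟩ := hOA _ _ he₀ hde₀ ha
      have hcab : Commute (a : G) b := by
        rcases (SimpleGraph.fromRel_adj _ _ _).1 hadj with ⟨-, h | h⟩
        exacts [h, h.symm]
      by_cases hdb : Commute d (b : G)
      · exfalso
        by_cases hbd : (b : G) = d
        · exact hda (hbd ▸ hcab.symm)
        · exact (Set.eq_empty_iff_forall_notMem.1 (hempty _ ha)) b ⟨b.2, hbd, hdb, hcab⟩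
      · exact hOtrans _ _ _ ha (hO _ _ (pair_fan hS hd haD b.2 hda hdb hcab))
  have := hclosed ⟨e₀, he₀⟩ ⟨d, hd⟩
    ((connected_of_primitive S.grp S.prim S.width).preconnected _ _) ⟨1, Commute.one_left d, by group⟩
  exact (hOA _ _ he₀ hde₀ this).2 (Commute.refl d)

/-- A class of 3-transpositions with non-abelian simple derived subgroup. -/
theorem setting_of_simple (hD : IsThreeTranspositionClass D) [IsSimpleGroup (commutator G)]
    (hna : ∃ x y : commutator G, x * y ≠ y * x) : Setting D := by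
  have hp : ∀ (p : ℕ) [Fact p.Prime] (N : Subgroup G), IsPGroup p N → ¬ commutator G ≤ N := by
    intro p _ N hN hle
    have hc := (hN.to_le hle).center_nontrivial
    have := ((inferInstance : (Subgroup.center (commutator G)).Normal)).eq_bot_or_eq_top
    rcases this with h | h
    · rw [h] at hc
      exact not_subsingleton _ (inferInstance : Subsingleton (⊥ : Subgroup (commutator G)))
    · obtain ⟨x, y, hxy⟩ := hna
      exact hxy (Subgroup.mem_center_iff.1 (h ▸ Subgroup.mem_top y : y ∈ Subgroup.center (commutator G)) x)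
  have hcomm : ∀ d ∈ D, ∀ x ∈ D, d * x ∈ commutator G := by
    intro d hd x hx
    obtain ⟨g, rfl⟩ := class_trans hD hd hx
    rw [show d * (g * d * g⁻¹) = ⁅d, g⁆ by
      rw [commutatorElement_def, inv_eq hD.1 hd]; simp only [mul_assoc]]
    exact Subgroup.commutator_mem_commutator (Subgroup.mem_top d) (Subgroup.mem_top g)
  obtain ⟨d₀, hd₀, -⟩ := hD.2.1
  have hidx : (commutator G).index ≤ 2 :=
    index_le_two_of_sup (mul_self hD.1 hd₀) (sup_zpowers_eq_top hD (hcomm d₀ hd₀))
  have hN : ∀ N : Subgroup G, N.Normal → (¬ commutator G ≤ N) → N ≤ Subgroup.center G := by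
    intro N hNn hnle x hx
    rw [Subgroup.mem_center_iff]
    intro g
    have h1 : ⁅g, x⁆ ∈ N ⊓ commutator G := by
      refine Subgroup.mem_inf.2 ⟨?_, Subgroup.commutator_mem_commutator (Subgroup.mem_top g) (Subgroup.mem_top x)⟩
      rw [commutatorElement_def]
      exact mul_mem (hNn.conj_mem x hx g) (inv_mem hx)
    haveI : ((N ⊓ commutator G).subgroupOf (commutator G)).Normal :=
      Subgroup.Normal.subgroupOf (Subgroup.normal_inf_normal N (commutator G)) _
    rcases Subgroup.Normal.eq_bot_or_eq_top (inferInstance : ((N ⊓ commutator G).subgroupOf (commutator G)).Normal) with h | h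
    · have : (⟨⁅g, x⁆, h1.2⟩ : commutator G) ∈ (N ⊓ commutator G).subgroupOf (commutator G) := h1
      rw [h, Subgroup.mem_bot] at this
      exact commutatorElement_eq_one_iff_mul_comm.1 (congrArg Subtype.val this)
    · exact absurd (fun y hy => ((Subgroup.subgroupOf_eq_top.1 h) hy).1) hnle
  have hpc : ∀ (p : ℕ) [Fact p.Prime], pCore p G ≤ Subgroup.center G := fun p _ =>
    hN _ inferInstance (hp p _ (CfsgLib.Core.isPGroup_pCore p G))
  haveI : Fact (Nat.Prime 2) := ⟨Nat.prime_two⟩
  haveI : Fact (Nat.Prime 3) := ⟨Nat.prime_three⟩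
  have hD2 : ∃ a ∈ D, ∃ b ∈ D, a ≠ b := by
    by_contra h
    push Not at h
    obtain ⟨x, y, hxy⟩ := hna
    have htop : ∀ z : G, z ∈ Subgroup.zpowers d₀ := fun z => by
      have hz : z ∈ Subgroup.closure D := hD.2.2 ▸ Subgroup.mem_top z
      refine (Subgroup.closure_le _).2 (fun w hw => ?_) hz
      rw [h w hw d₀ hd₀]
      exact Subgroup.mem_zpowers d₀
    obtain ⟨i, hi⟩ := Subgroup.mem_zpowers_iff.1 (htop (x : G))
    obtain ⟨j, hj⟩ := Subgroup.mem_zpowers_iff.1 (htop (y : G))
    exact hxy (Subtype.ext (show (x : G) * y = y * x by rw [← hi, ← hj]; exact (Commute.refl d₀).zpow_zpow i j))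
  have hperf : Group.IsPerfect (commutator G) := by
    refine ⟨?_⟩
    rcases Subgroup.Normal.eq_bot_or_eq_top (inferInstance : (commutator (commutator G)).Normal) with h | h
    · obtain ⟨x, y, hxy⟩ := hna
      refine absurd ?_ hxy
      have := Subgroup.commutator_mem_commutator (Subgroup.mem_top x) (Subgroup.mem_top y)
      rw [← commutator_def, h, Subgroup.mem_bot] at this
      exact commutatorElement_eq_one_iff_mul_comm.1 this
    · exact h
  have hq : IsQuasisimple (commutator G) := by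
    have hc : Subgroup.center (commutator G) = ⊥ := by
      rcases Subgroup.Normal.eq_bot_or_eq_top (inferInstance : (Subgroup.center (commutator G)).Normal) with h | h
      · exact h
      · obtain ⟨x, y, hxy⟩ := hna
        exact absurd (Subgroup.mem_center_iff.1 (h ▸ Subgroup.mem_top y : y ∈ Subgroup.center (commutator G)) x) hxy
    refine ⟨hperf, ?_⟩
    exact ((QuotientGroup.quotientMulEquivOfEq hc).trans QuotientGroup.quotientBot).isSimpleGroup
  have hF := fitting_le_center hD (hpc 2) (hpc 3)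
  refine ⟨hD, hD2, ?_, primitive_of_quasisimple hD hD2 hq hidx hF (gFitting_eq hD hq hidx hF), hpc 2⟩
  · by_contra h
    push Not at h
    refine hp 3 _ (CfsgLib.Core.isPGroup_pCore 3 G) (commutator_le_of_index_le_two
      (index_le_two_of_sup (mul_self hD.1 hd₀) (sup_zpowers_eq_top hD fun x hx =>
        widthOne G D (group_of_class hD) (fun a ha b hb hab => by
          by_contra hne
          exact h a ha b hb hne hab) d₀ hd₀ x hx)))

end CfsgLib.ThreeTrans.RankThree
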