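import Cfsg.Agent.Lib.ThreeTrans.Co0Elts

/-!
The lattice modulo twice itself is a faithful irreducible module for the automorphism group.
-/

set_option autoImplicit false

namespace CfsgLib.ThreeTrans.Leech

open Cfsg Finset CfsgLib.Sporadic
open scoped Pointwise

/-- An additive subgroup between twice the lattice and the lattice, invariant under the three kinds
of automorphisms. -/
structure InvSub (M : AddSubgroup Vec) : Prop where
  le : ∀ x ∈ M, IsL x
  two : ∀ x, IsL x → x + x ∈ M
  perm : ∀ σ ∈ M24, ∀ x ∈ M, permVec σ x ∈ M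
  flip : ∀ s ∈ supports (golayCode : Set (GolayPt → ZMod 2)), ∀ x ∈ M, flipVec s x ∈ M
  xi : ∀ x ∈ M, Leech.xi x ∈ M

variable {M : AddSubgroup Vec}

/-- The classes mod 2 of the `d` with `k • d ∈ M`. -/
def layer (M : AddSubgroup Vec) (k : ℤ) : Submodule (ZMod 2) Golay.Word where
  carrier := {w | ∃ d : Vec, red d = w ∧ k • d ∈ M}
  zero_mem' := ⟨0, red_zero, by rw [smul_zero]; exact M.zero_mem⟩
  add_mem' := fun ⟨d, h, hd⟩ ⟨e, h', he⟩ =>
    ⟨d + e, by rw [red_add, h, h'], by rw [smul_add]; exact M.add_mem hd he⟩
  smul_mem' a w := fun ⟨d, h, hd⟩ => by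
    rcases (show a = 0 ∨ a = 1 by revert a; decide) with rfl | rfl
    · exact ⟨0, by rw [red_zero, zero_smul], by rw [smul_zero]; exact M.zero_mem⟩
    · exact ⟨d, by rw [h, one_smul], hd⟩

theorem layer_invariant (h : InvSub M) (k : ℤ) : Golay.Invariant (layer M k) := by
  rintro σ hσ w ⟨d, hd, hdM⟩
  exact ⟨permVec σ d, by rw [← hd]; rfl, h.perm σ hσ _ hdM⟩

theorem support_red (d : Vec) (i : GolayPt) : i ∈ support₂ (red d) ↔ d i % 2 = 1 := by
  rw [support₂, Finset.mem_filter]
  simp [red, cast_ne_zero_iff]

theorem dvd_sum_red (d : Vec) {n : ℤ} (hn : n = 2) :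
    n ∣ (∑ i, d i) - ((support₂ (red d)).card : ℤ) := by
  subst hn
  rw [card_odd, ← Finset.sum_sub_distrib]
  exact Finset.dvd_sum fun i _ => by
    show (2 : ℤ) ∣ d i - d i % 2
    omega

/-- `2` on the support of an indicator: a code word supported inside `o`. -/
theorem sub_flip (s : Finset GolayPt) (x : Vec) :
    x - flipVec s x = fun i => if i ∈ s then 2 * x i else 0 := by
  funext i
  simp only [Pi.sub_apply, flipVec]
  split_ifs <;> ring

theorem omega_norm_facts : (∀ i, omegaVec i % 2 = 1) := by decide

theorem xi_eight : xi (pairVec none none) =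
    (4 : ℤ) • fun i => if tetIx i = 0 then (if i = none then 1 else -1) else 0 := by
  decide +kernel

theorem tet_zero_notMem :
    red (fun i => if tetIx i = 0 then (if i = none then 1 else -1) else 0) ∉ golayCode := by
  rw [mem_golayCode]
  decide +kernel

/-- From any member outside twice the lattice, a member divisible by four off the code. -/
theorem exists_four (h : InvSub M) {x : Vec} (hx : x ∈ M) (hx2 : ¬ ∃ w, IsL w ∧ x = w + w) :
    ∃ e : Vec, red e ∉ golayCode ∧ (4 : ℤ) • e ∈ M := by
  -- the case `x = 4 e`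
  have four : ∀ e : Vec, (4 : ℤ) • e ∈ M → (¬ ∃ w, IsL w ∧ (4 : ℤ) • e = w + w) →
      ∃ e : Vec, red e ∉ golayCode ∧ (4 : ℤ) • e ∈ M := by
    intro e he hne
    by_cases hc : red e ∈ golayCode
    swap; · exact ⟨e, hc, he⟩
    have hev : (∑ i, e i) % 2 = 0 := by
      have h1 := dvd_sum_red e (n := 2) rfl
      have h2 := (weight hc).2
      omega
    have hmod : (∑ i, e i) % 4 ≠ 0 := by
      intro h4
      refine hne ⟨(2 : ℤ) • e, ⟨0, e, fun i => by simp, hc, ?_⟩, by rw [← add_smul]; rfl⟩
      simp only [Pi.smul_apply, smul_eq_mul, ← Finset.mul_sum, Int.ModEq]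
      omega
    -- so `8 e_∞` is in `M`
    let e' : Vec := fun i => e i - (if i = none then 2 else 0)
    have h8 : pairVec none none ∈ M := by
      have hw : IsL ((2 : ℤ) • e') := by
        refine ⟨0, e', fun i => by simp, ?_, ?_⟩
        · have : red e' = red e := by
            funext i; simp only [red, e']; split_ifs <;> simp [CharTwo.two_eq_zero]
          rw [this]; exact hc
        · simp only [Pi.smul_apply, smul_eq_mul, ← Finset.mul_sum, Int.ModEq, e',
            Finset.sum_sub_distrib, Finset.sum_ite_eq', Finset.mem_univ, if_true]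
          omega
      have := M.sub_mem he (h.two _ hw)
      convert this using 1
      funext i
      simp only [pairVec, Pi.sub_apply, Pi.add_apply, Pi.smul_apply, smul_eq_mul, e']
      split_ifs <;> ring
    exact ⟨_, tet_zero_notMem, by rw [← xi_eight]; exact h.xi _ h8⟩
  -- even members
  have even : ∀ x ∈ M, (∀ i, x i % 2 = 0) → (¬ ∃ w, IsL w ∧ x = w + w) →
      ∃ e : Vec, red e ∉ golayCode ∧ (4 : ℤ) • e ∈ M := by
    intro x hx hev hne
    let d : Vec := fun i => x i / 2
    have hd : ∀ i, x i = 2 * d i := fun i => by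
      show x i = 2 * (x i / 2)
      have := hev i; omega
    have hdC : red d ∈ golayCode := by
      obtain ⟨m, d', h1, h2, -⟩ := h.le x hx
      have hm : ∀ i, d i = d' i + m / 2 := fun i => by
        show x i / 2 = _
        have := hev i; have := h1 i; omega
      have : red d = red d' + ((m / 2 : ℤ) : ZMod 2) • (1 : Golay.Word) := by
        funext i; simp [red, hm]
      rw [this]; exact add_mem h2 (Submodule.smul_mem _ _ one_mem_code)
    by_cases h0 : red d = 0
    · have hd2 : ∀ i, d i % 2 = 0 := fun i => by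
        have h' : ¬ (red d i ≠ 0) := by simp [h0]
        rw [red, cast_ne_zero_iff] at h'
        omega
      have e4 : x = (4 : ℤ) • fun i => d i / 2 := by
        funext i
        simp only [Pi.smul_apply, smul_eq_mul]
        rw [hd i]; have := hd2 i; omega
      rw [e4] at hx hne
      exact four _ hx hne
    by_cases h1 : red d = 1
    · -- subtract twice the odd vector
      have hy : x - (omegaVec + omegaVec) ∈ M := M.sub_mem hx (h.two _ isL_omega)
      let f : Vec := fun i => (d i - omegaVec i) / 2
      have hdodd : ∀ i, d i % 2 = 1 := fun i => by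
        have h' : red d i ≠ 0 := by simp [h1]
        rwa [red, cast_ne_zero_iff] at h'
      have e4 : x - (omegaVec + omegaVec) = (4 : ℤ) • f := by
        funext i
        show x i - (omegaVec i + omegaVec i) = 4 * ((d i - omegaVec i) / 2)
        rw [hd i]; have := hdodd i; have := omega_norm_facts i; omega
      rw [e4] at hy
      refine four f hy ?_
      rintro ⟨w, hw, e⟩
      refine hne ⟨w + omegaVec, isL_add hw isL_omega, ?_⟩
      rw [← e4] at e
      rw [sub_eq_iff_eq_add] at e
      rw [e]; abel
    · obtain ⟨a, ha⟩ : ∃ a, a ∈ support₂ (red d) := by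
        by_contra hn
        push Not at hn
        exact h0 (Golay.mk_injective (by
          rw [Golay.mk, Finset.eq_empty_of_forall_notMem hn, maskOf_empty, Golay.mk_zero]))
      obtain ⟨b, hb⟩ : ∃ b, b ∉ support₂ (red d) := by
        by_contra hn
        push Not at hn
        exact h1 (Golay.mk_injective (by
          rw [Golay.mk, Finset.eq_univ_iff_forall.2 hn, maskOf_univ, Golay.mk_one]))
      obtain ⟨o, ho, hao, hbo⟩ : ∃ o ∈ octads, a ∈ o ∧ b ∈ o := by
        obtain ⟨s, hs1, -, hs2⟩ := Finset.exists_subsuperset_card_eq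
          (s := ({a, b} : Finset GolayPt)) (t := Finset.univ) (n := 5) (Finset.subset_univ _)
          (Finset.card_le_two.trans (by norm_num)) (by decide)
        obtain ⟨o, ho, hso⟩ := exists_octad_of_five hs2
        exact ⟨o, ho, hso (hs1 (Finset.mem_insert_self a _)),
          hso (hs1 (Finset.mem_insert_of_mem (Finset.mem_singleton_self b)))⟩
      let e : Vec := fun i => if i ∈ o then d i else 0
      have hy : (4 : ℤ) • e ∈ M := by
        have := M.sub_mem hx (h.flip o ho.1 x hx)
        rw [sub_flip] at this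
        convert this using 1
        funext i
        simp only [Pi.smul_apply, smul_eq_mul, e]
        split_ifs
        · rw [hd]; ring
        · ring
      refine ⟨e, fun hc => ?_, hy⟩
      have hsub : support₂ (red e) ⊆ o := fun i hi => by
        rw [support_red] at hi
        by_contra hio
        simp [e, hio] at hi
      have hae : a ∈ support₂ (red e) := by
        rw [support_red] at ha ⊢
        simp only [e, if_pos hao]; exact ha
      have hbe : b ∉ support₂ (red e) := by
        rw [support_red] at hb ⊢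
        simp only [e, if_pos hbo]; exact hb
      have hlt : (support₂ (red e)).card < o.card :=
        Finset.card_lt_card ⟨hsub, fun hh => hbe (hh hbo)⟩
      have hpos : 0 < (support₂ (red e)).card := Finset.card_pos.2 ⟨a, hae⟩
      rw [ho.2] at hlt
      rcases (weight hc).1 with h' | h'
      · rw [h'] at hpos; simp [support₂] at hpos
      · omega
  by_cases hpar : x none % 2 = 0
  · refine even x hx (fun i => ?_) hx2
    obtain ⟨m, d, h1, -, -⟩ := h.le x hx
    have := h1 i; have := h1 none; omega
  · -- odd members: restrict to an octad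
    have hodd : ∀ i, x i % 2 = 1 := fun i => by
      obtain ⟨m, d, h1, -, -⟩ := h.le x hx
      have := h1 i; have := h1 none; omega
    obtain ⟨o, ho⟩ : ∃ o : Finset GolayPt, o ∈ octads := by
      refine Set.nonempty_of_ncard_ne_zero ?_
      rw [octads_ncard]; norm_num
    have hy := M.sub_mem hx (h.flip o ho.1 x hx)
    refine even _ hy (fun i => ?_) ?_
    · rw [sub_flip]; dsimp only; split_ifs <;> omega
    · rintro ⟨w, hw, e⟩
      rw [sub_flip] at e
      obtain ⟨i, hi⟩ : ∃ i, i ∈ o := Finset.card_pos.1 (by rw [ho.2]; norm_num)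
      obtain ⟨j, -, hj⟩ := Finset.exists_mem_notMem_of_card_lt_card (s := o) (t := Finset.univ)
        (by rw [ho.2]; decide)
      obtain ⟨m, d, h1, -, -⟩ := hw
      have ei := congrFun e i
      have ej := congrFun e j
      simp only [if_pos hi, if_neg hj, Pi.add_apply, h1] at ei ej
      have := hodd i
      omega

theorem flip_witness : inCode 1302533 = true ∧ bitAt 1302533 0 = 1 ∧ bitAt 1302533 23 = 0 := by
  decide +kernel

theorem pair_mem (h : InvSub M) {e : Vec} (he : red e ∉ golayCode) (heM : (4 : ℤ) • e ∈ M)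
    (i j : GolayPt) : pairVec i j ∈ M := by
  have heven : Golay.evenSub ≤ layer M 4 :=
    Golay.even_le_of_not_le (layer_invariant h 4) fun hle => he (hle ⟨e, rfl, heM⟩)
  have hpair : ∀ a b : GolayPt, Golay.pairWord a b ∈ Golay.evenSub := fun a b => by
    show ∑ p, Golay.pairWord a b p = 0
    simp [Golay.pairWord, Finset.sum_add_distrib, CharTwo.add_self_eq_zero]
  -- eight times any basis vector
  have h8 : ∀ a, pairVec a a ∈ M := by
    obtain ⟨f, hf, hfM⟩ := heven (hpair (some 0) none)
    let c := setOfMask 1302533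
    obtain ⟨w1, w2, w3⟩ := flip_witness
    have hc : c ∈ supports (golayCode : Set (GolayPt → ZMod 2)) := by
      rw [mem_supports_iff, maskOf_setOfMask (by norm_num)]; exact w1
    have hy := M.sub_mem hfM (h.flip c hc _ hfM)
    rw [sub_flip] at hy
    have hodd : (∑ i ∈ c, f i) % 2 = 1 := by
      have h0 : some 0 ∈ c := by rw [mem_setOfMask]; decide
      have hn : (none : GolayPt) ∉ c := by rw [mem_setOfMask]; decide
      have hmod : ∀ i, f i % 2 = (if i = some 0 ∨ i = none then 1 else 0) := fun i => by
        have hi := congrFun hf i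
        simp only [red, Golay.pairWord, Pi.add_apply, Pi.single_apply] at hi
        split_ifs with hor
        · rw [← cast_ne_zero_iff, hi]
          rcases hor with rfl | rfl <;> simp
        · rw [not_or] at hor
          have : ¬ ((f i : ZMod 2) ≠ 0) := by rw [hi]; simp [hor.1, hor.2]
          rw [cast_ne_zero_iff] at this
          omega
      have hs : (2 : ℤ) ∣ (∑ i ∈ c, f i) - ∑ i ∈ c, f i % 2 := by
        rw [← Finset.sum_sub_distrib]
        exact Finset.dvd_sum fun i _ => by
          show (2 : ℤ) ∣ f i - f i % 2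
          omega
      have h1 : ∑ i ∈ c, f i % 2 = 1 := by
        rw [Finset.sum_eq_single (some 0) (fun b hb hne => by
          rw [hmod, if_neg (not_or.2 ⟨hne, fun (e' : b = none) => hn (e' ▸ hb)⟩)]) (fun hh => absurd h0 hh),
          hmod, if_pos (Or.inl rfl)]
      omega
    intro a
    let g : Vec := fun i => (if i ∈ c then f i else 0) - (if i = a then 1 else 0)
    have hg : IsL ((4 : ℤ) • g) := by
      refine ⟨0, (2 : ℤ) • g, fun i => by simp; ring, ?_, ?_⟩
      · have : red ((2 : ℤ) • g) = 0 := by funext i; simp [red, CharTwo.two_eq_zero]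
        rw [this]; exact zero_mem _
      · simp only [g, Pi.smul_apply, smul_eq_mul, ← Finset.mul_sum, Finset.sum_sub_distrib,
          Finset.sum_ite_mem, Finset.univ_inter, Finset.sum_ite_eq', Finset.mem_univ, if_true,
          Int.ModEq]
        omega
    have := M.sub_mem hy (h.two _ hg)
    convert this using 1
    funext i
    simp only [pairVec, Pi.sub_apply, Pi.add_apply, Pi.smul_apply, smul_eq_mul, g]
    split_ifs <;> ring
  obtain ⟨f, hf, hfM⟩ := heven (hpair i j)
  let g : Vec := fun k =>
    (((if k = i then (1 : ℤ) else 0) + (if k = j then 1 else 0)) - f k) / 2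
  have hk : pairVec i j = (4 : ℤ) • f + (8 : ℤ) • g := by
    funext k
    have hk := congrFun hf k
    simp only [red, Golay.pairWord, Pi.add_apply, Pi.single_apply] at hk
    have hdvd : (2 : ℤ) ∣ ((if k = i then (1 : ℤ) else 0) + (if k = j then 1 else 0)) - f k := by
      refine (ZMod.intCast_zmod_eq_zero_iff_dvd _ 2).1 ?_
      rw [Int.cast_sub, hk]
      push_cast [apply_ite]
      split_ifs <;> simp
    show 4 * ((if k = i then (1 : ℤ) else 0) + (if k = j then 1 else 0)) = 4 * f k + 8 * g k
    simp only [g]
    omega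
  rw [hk]
  refine M.add_mem hfM ?_
  have : (8 : ℤ) • g = ∑ k, g k • pairVec k k := by
    funext l
    simp only [Finset.sum_apply, Pi.smul_apply, smul_eq_mul, pairVec]
    rw [Finset.sum_eq_single l (fun b _ hb => by rw [if_neg (Ne.symm hb)]; ring) (by simp)]
    simp; ring
  rw [this]
  exact M.sum_mem fun k _ => M.zsmul_mem (h8 k) _

theorem xi_pair_cross : xi (pairVec (some 4) (some 3)) + pairVec (some 4) (some 3) =
    octVec (setOfMask 4415544) := by decide +kernel

theorem xi_oct_odd : xi (octVec (setOfMask (basisMask 1))) none % 2 = 1 := by decide +kernel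

/-- Irreducibility. -/
theorem irreducible (h : InvSub M) {x : Vec} (hx : x ∈ M) (hx2 : ¬ ∃ w, IsL w ∧ x = w + w) :
    leechLattice ≤ M := by
  obtain ⟨e, he, heM⟩ := exists_four h hx hx2
  have hpair := pair_mem h he heM
  -- multiples of four
  have hfour : ∀ f : Vec, (∑ i, f i) % 2 = 0 → (4 : ℤ) • f ∈ M := by
    intro f hf
    have : (4 : ℤ) • f = (∑ j, f j • pairVec j none) -
        ((∑ j, f j) / 2) • pairVec none none := by
      rw [show (4 : ℤ) • f = fun k => 4 * f k from rfl, single_four none f]
      congr 1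
      funext k
      simp only [Pi.smul_apply, smul_eq_mul, pairVec]
      obtain ⟨t, ht⟩ : ∃ t, (∑ j, f j) = 2 * t := ⟨(∑ j, f j) / 2, by omega⟩
      rw [ht]
      split_ifs <;> simp <;> ring
    rw [this]
    exact M.sub_mem (M.sum_mem fun j _ => M.zsmul_mem (hpair j none) _)
      (M.zsmul_mem (hpair none none) _)
  -- an octad
  have hX : octVec (setOfMask 4415544) ∈ M := by
    rw [← xi_pair_cross]
    exact M.add_mem (h.xi _ (hpair _ _)) (hpair _ _)
  have hcode : golayCode ≤ layer M 2 := by
    let c : Vec := fun k => if k ∈ setOfMask 4415544 then 1 else 0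
    refine Golay.octad_span fun o ho =>
      Golay.octad_mem (layer_invariant h 2) (c := red c) ⟨c, rfl, ?_⟩ ?_ ho
    · convert hX using 1
      funext k
      simp only [octVec, c, Pi.smul_apply, smul_eq_mul]
      split_ifs <;> rfl
    · rw [red_indicator, mem_octads_iff, maskOf_setOfMask (by norm_num)]
      decide +kernel
  have heven : ∀ y, IsL y → y none % 2 = 0 → y ∈ M := by
    intro y hy hpar
    obtain ⟨m, d, h1, h2, h3⟩ := hy
    have hm : m % 2 = 0 := by have := h1 none; omega
    let d' : Vec := fun i => m / 2 + d i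
    have hd' : y = (2 : ℤ) • d' := by
      funext i
      simp only [Pi.smul_apply, smul_eq_mul, d', h1]; omega
    have hred : red d' ∈ golayCode := by
      have : red d' = ((m / 2 : ℤ) : ZMod 2) • (1 : Golay.Word) + red d := by
        funext i; simp [red, d']
      rw [this]; exact add_mem (Submodule.smul_mem _ _ one_mem_code) h2
    obtain ⟨f, hf, hfM⟩ := hcode hred
    let g : Vec := fun i => (d' i - f i) / 2
    have hg : ∀ i, d' i = f i + 2 * g i := fun i => by
      have hdvd : (2 : ℤ) ∣ d' i - f i := by
        refine (ZMod.intCast_zmod_eq_zero_iff_dvd _ 2).1 ?_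
        rw [Int.cast_sub, show (f i : ZMod 2) = (d' i : ZMod 2) from congrFun hf i, sub_self]
      show d' i = f i + 2 * ((d' i - f i) / 2)
      omega
    have hsplit : y = (2 : ℤ) • f + (4 : ℤ) • g := by
      rw [hd']; funext i
      simp only [Pi.smul_apply, Pi.add_apply, smul_eq_mul, hg]; ring
    have hgs : (∑ i, g i) % 2 = 0 := by
      obtain ⟨m', d'', k1, -, k3⟩ := h.le _ hfM
      have hm' : m' % 2 = 0 := by
        have := k1 none
        simp only [Pi.smul_apply, smul_eq_mul] at this
        omega
      have hs : (∑ i, y i) = 2 * ∑ i, f i + 4 * ∑ i, g i := by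
        rw [hsplit]
        simp only [Pi.add_apply, Pi.smul_apply, smul_eq_mul, Finset.sum_add_distrib,
          ← Finset.mul_sum]
      simp only [Pi.smul_apply, smul_eq_mul, ← Finset.mul_sum, Int.ModEq] at k3 h3
      omega
    rw [hsplit]
    exact M.add_mem hfM (hfour g hgs)
  have hodd : ∃ z ∈ M, z none % 2 = 1 := by
    refine ⟨_, h.xi _ (heven (octVec (setOfMask (basisMask 1)))
      (isL_octVec (basis_supports (by norm_num))) ?_), xi_oct_odd⟩
    simp only [octVec]; split_ifs <;> norm_num
  obtain ⟨z, hz, hzodd⟩ := hodd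
  intro y hy
  by_cases hpar : y none % 2 = 0
  · exact heven y (mem_iff.1 hy) hpar
  · have := M.add_mem (heven (y - z) (by
      rw [sub_eq_add_neg]; exact isL_add (mem_iff.1 hy) (isL_neg (h.le z hz))) (by
      simp only [Pi.sub_apply]; omega)) hz
    rwa [sub_add_cancel] at this

/-! ### faithfulness -/

theorem dot_table : (∀ i : GolayPt, i ≠ none → dotInt omegaVec (pairVec i none) ≠ 0 ∧
      sqNorm (pairVec i none) = 32) ∧
    (∀ b < 12, dotInt omegaVec (octVec (setOfMask (basisMask b))) ≠ 0 ∧
      sqNorm (octVec (setOfMask (basisMask b))) = 32) ∧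
    dotInt omegaVec (pairVec none none - pairVec (some 0) none) ≠ 0 ∧
    sqNorm (pairVec none none - pairVec (some 0) none) = 32 ∧ sqNorm omegaVec = 32 := by
  decide +kernel

theorem norm_comb (u v : Vec) (a b : ℤ) :
    sqNorm (a • u + b • v) = a ^ 2 * sqNorm u + 2 * a * b * dotInt u v + b ^ 2 * sqNorm v := by
  simp only [sqNorm, dotInt, Finset.mul_sum, ← Finset.sum_add_distrib, Pi.add_apply,
    Pi.smul_apply, smul_eq_mul]
  exact Finset.sum_congr rfl fun i _ => by ring

/-- An automorphism trivial modulo twice the lattice is central. -/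
theorem faithful (g : ↥Co0) (hg : ∀ v : ↥leechLattice, ∃ w : ↥leechLattice,
    ((g • v : ↥leechLattice) : Vec) - (v : Vec) = 2 • (w : Vec)) : g ∈ Subgroup.center ↥Co0 := by
  have hadd : ∀ v w : ↥leechLattice, g • (v + w) = g • v + g • w := g.2.1
  have hnorm : ∀ v : ↥leechLattice, sqNorm ((g • v : ↥leechLattice) : Vec) = sqNorm (v : Vec) :=
    g.2.2
  have hpm : ∀ v : ↥leechLattice, sqNorm (v : Vec) = 32 →
      ∃ ε : ℤ, (ε = 1 ∨ ε = -1) ∧ ((g • v : ↥leechLattice) : Vec) = ε • (v : Vec) := by
    intro v hv
    obtain ⟨w, hw⟩ := hg v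
    obtain ⟨-, hcase⟩ := short_congr (mem_iff.1 v.2) (mem_iff.1 w.2)
      (by rw [hnorm, hv]; norm_num) (by rw [hv]; norm_num) hw
    rcases hcase (by rw [hnorm, hv]; norm_num) with h | h
    · exact ⟨1, Or.inl rfl, by rw [one_smul]; exact h.symm⟩
    · exact ⟨-1, Or.inr rfl, by rw [neg_one_smul, h, neg_neg]⟩
  obtain ⟨t1, t2, t3, t4, t5⟩ := dot_table
  let ω : ↥leechLattice := ⟨omegaVec, mem_iff.2 isL_omega⟩
  obtain ⟨ε, hε, hεω⟩ := hpm ω t5
  -- the set where the map is multiplication by `ε`
  let M : AddSubgroup Vec :=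
    { carrier := {x | ∃ hx : x ∈ leechLattice, ((g • (⟨x, hx⟩ : ↥leechLattice) : ↥leechLattice) : Vec) = ε • x}
      zero_mem' := ⟨zero_mem _, by
        have h0 : g • (0 : ↥leechLattice) = 0 := by
          have := hadd 0 0
          rw [add_zero] at this
          exact left_eq_add.1 this
        rw [smul_zero]
        exact congrArg Subtype.val h0⟩
      add_mem' := fun {a b} ⟨ha, ea⟩ ⟨hb, eb⟩ => ⟨add_mem ha hb, by
        rw [smul_add, ← ea, ← eb]
        exact congrArg Subtype.val (hadd ⟨a, ha⟩ ⟨b, hb⟩)⟩
      neg_mem' := fun {a} ⟨ha, ea⟩ => ⟨neg_mem ha, by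
        have h0 := hadd ⟨a, ha⟩ (-⟨a, ha⟩)
        have hz : g • (0 : ↥leechLattice) = 0 := by
          have := hadd 0 0
          rw [add_zero] at this
          exact left_eq_add.1 this
        rw [add_neg_cancel, hz] at h0
        rw [smul_neg, ← ea]
        exact congrArg Subtype.val (eq_neg_of_add_eq_zero_right h0.symm)⟩ }
  have hshort : ∀ x : Vec, IsL x → sqNorm x = 32 → dotInt omegaVec x ≠ 0 → x ∈ M := by
    intro x hx hn hd
    obtain ⟨δ, hδ, e⟩ := hpm ⟨x, mem_iff.2 hx⟩ hn
    refine ⟨mem_iff.2 hx, ?_⟩
    have hsum := hnorm (ω + ⟨x, mem_iff.2 hx⟩)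
    rw [hadd, AddSubgroup.coe_add, hεω, e, norm_comb, AddSubgroup.coe_add] at hsum
    have h11 := norm_comb omegaVec x 1 1
    rw [one_smul, one_smul] at h11
    simp only [ω] at hsum
    rw [h11] at hsum
    rcases hε with rfl | rfl <;> rcases hδ with rfl | rfl
    · exact e
    · exact absurd (by linarith) hd
    · exact absurd (by linarith) hd
    · exact e
  have hle : leechLattice ≤ M := by
    refine le_of_gen fun x hx => ?_
    rcases hx with rfl | ⟨i, rfl⟩ | ⟨b, hb, rfl⟩
    · exact ⟨ω.2, hεω⟩
    · by_cases hi : i = none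
      · subst hi
        have hv : IsL (pairVec none none - pairVec (some 0) none) := by
          rw [sub_eq_add_neg]; exact isL_add (isL_pair _ _) (isL_neg (isL_pair _ _))
        have := M.add_mem (hshort _ hv t4 t3)
          (hshort _ (isL_pair (some 0) none) (t1 _ (by simp)).2 (t1 _ (by simp)).1)
        rwa [sub_add_cancel] at this
      · exact hshort _ (isL_pair i none) (t1 i hi).2 (t1 i hi).1
    · exact hshort _ (isL_octVec (basis_supports hb)) (t2 b hb).2 (t2 b hb).1
  have hall : ∀ v : ↥leechLattice, ((g • v : ↥leechLattice) : Vec) = ε • (v : Vec) := fun v => by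
    obtain ⟨_, h⟩ := hle v.2
    exact h
  rw [Subgroup.mem_center_iff]
  intro f
  apply Subtype.ext
  refine Equiv.ext fun v => Subtype.ext ?_
  show ((f • (g • v) : ↥leechLattice) : Vec) = ((g • (f • v) : ↥leechLattice) : Vec)
  rw [hall]
  rcases hε with rfl | rfl
  · rw [one_smul]
    have : g • v = v := Subtype.ext ((hall v).trans (one_smul ℤ _))
    rw [this]
  · rw [neg_one_smul]
    have : g • v = -v := Subtype.ext ((hall v).trans (neg_one_smul ℤ _))
    rw [this]
    have hf := f.2.1 v (-v)
    have hz : f.1 0 = 0 := by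
      have := f.2.1 0 0
      rw [add_zero] at this
      exact left_eq_add.1 this
    rw [add_neg_cancel, hz] at hf
    exact congrArg Subtype.val (eq_neg_of_add_eq_zero_right hf.symm)

end CfsgLib.ThreeTrans.Leech
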