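import Cfsg.Prelude.Def_Spor_Conway
import Cfsg.Agent.Lib.ThreeTrans.LeechIrred

/-!
The automorphisms of the rank 24 lattice as matrices modulo 13.
-/

set_option autoImplicit false

namespace CfsgLib.ThreeTrans.Leech

open Cfsg Finset Matrix

/-- The lattice vector with entry 8 at `i`. -/
def eight (i : GolayPt) : Vec := fun k => if k = i then 8 else 0

theorem isL_eight (i : GolayPt) : IsL (eight i) := by
  refine ⟨0, fun k => if k = i then 4 else 0, fun k => ?_, ?_, ?_⟩
  · simp only [eight]; split_ifs <;> norm_num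
  · have : red (fun k => if k = i then 4 else 0) = 0 := by
      funext k; simp only [red, Pi.zero_apply]; split_ifs <;> decide
    rw [this]; exact zero_mem _
  · simp only [eight, Finset.sum_ite_eq', Finset.mem_univ, if_true]
    decide

/-- The vector with entry 8 at `i`, as an element of the lattice. -/
def eightElt (i : GolayPt) : ↥leechLattice := ⟨eight i, mem_iff.2 (isL_eight i)⟩

theorem coe_sum_lattice (s : Finset GolayPt) (f : GolayPt → ↥leechLattice) :
    (((∑ i ∈ s, f i : ↥leechLattice)) : Vec) = ∑ i ∈ s, (f i : Vec) :=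
  map_sum (AddSubgroup.subtype leechLattice) f s

theorem decomp (v : ↥leechLattice) :
    (8 : ℤ) • v = ∑ i, (v : Vec) i • eightElt i := by
  apply Subtype.ext
  rw [coe_sum_lattice]
  funext k
  simp only [AddSubgroup.coe_zsmul, Finset.sum_apply, Pi.smul_apply, eightElt, eight, smul_eq_mul,
    mul_ite, mul_zero, Finset.sum_ite_eq, Finset.mem_univ, if_true]
  ring

variable {g : Equiv.Perm ↥leechLattice}

theorem eight_apply (hg : g ∈ Co0) (v : ↥leechLattice) (k : GolayPt) :
    8 * (g v : Vec) k = ∑ i, (v : Vec) i * (g (eightElt i) : Vec) k := by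
  let F : ↥leechLattice →+ ↥leechLattice := AddMonoidHom.mk' g hg.1
  have h := congrArg (fun w : ↥leechLattice => (w : Vec) k) (congrArg F (decomp v))
  simp only [map_zsmul, map_sum, coe_sum_lattice, AddSubgroup.coe_zsmul, Finset.sum_apply,
    Pi.smul_apply, smul_eq_mul] at h
  exact h

theorem dot_apply (hg : g ∈ Co0) (v w : ↥leechLattice) :
    dotInt (g v : Vec) (g w : Vec) = dotInt (v : Vec) (w : Vec) := by
  have key : ∀ a b : Vec, sqNorm (a + b) = sqNorm a + 2 * dotInt a b + sqNorm b := by
    intro a b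
    simp only [sqNorm, dotInt, Finset.mul_sum, ← Finset.sum_add_distrib, Pi.add_apply]
    exact Finset.sum_congr rfl fun i _ => by ring
  have h := hg.2 (v + w)
  rw [hg.1, AddSubgroup.coe_add, AddSubgroup.coe_add, key, key, hg.2, hg.2] at h
  omega

instance : Fact (Nat.Prime 13) := ⟨by norm_num⟩

/-- Reduction modulo 13. -/
def red13 (x : Vec) : GolayPt → ZMod 13 := fun i => (x i : ZMod 13)

/-- The matrix of an automorphism modulo 13. -/
def mat13 (g : Equiv.Perm ↥leechLattice) : Matrix GolayPt GolayPt (ZMod 13) :=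
  Matrix.of fun k i => 5 * ((g (eightElt i) : Vec) k : ZMod 13)

theorem mat13_apply (hg : g ∈ Co0) (v : ↥leechLattice) :
    mat13 g *ᵥ red13 (v : Vec) = red13 (g v : Vec) := by
  funext k
  have h := congrArg (fun z : ℤ => (z : ZMod 13)) (eight_apply hg v k)
  simp only [Int.cast_mul, Int.cast_sum] at h
  simp only [mulVec, dotProduct, mat13, red13, of_apply, mul_assoc]
  rw [← Finset.mul_sum, Finset.sum_congr rfl fun i _ => mul_comm _ ((v : Vec) i : ZMod 13), ← h,
    ← mul_assoc]
  rw [show (5 : ZMod 13) * ((8 : ℤ) : ZMod 13) = 1 by decide, one_mul]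

theorem mat13_one : mat13 1 = 1 := by
  ext k i
  simp only [mat13, of_apply, Equiv.Perm.one_apply, eightElt, eight, one_apply]
  split_ifs <;> decide

theorem mat13_mul {h : Equiv.Perm ↥leechLattice} (hg : g ∈ Co0) :
    mat13 (g * h) = mat13 g * mat13 h := by
  ext k i
  simp only [mul_apply, Equiv.Perm.mul_apply, mat13, of_apply]
  have := congrFun (mat13_apply hg (h (eightElt i))) k
  simp only [mulVec, dotProduct, mat13, red13, of_apply] at this
  rw [← this, Finset.mul_sum]
  exact Finset.sum_congr rfl fun j _ => by ring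

theorem mat13_injective (hg : g ∈ Co0) (h : mat13 g = 1) : g = 1 := by
  have key : ∀ i, g (eightElt i) = eightElt i := by
    intro i
    have hdiv : ∀ k, (13 : ℤ) ∣ (g (eightElt i) : Vec) k - eight i k := by
      intro k
      have := congrArg (fun m : Matrix GolayPt GolayPt (ZMod 13) => m k i) h
      simp only [mat13, of_apply, one_apply] at this
      refine (ZMod.intCast_eq_intCast_iff_dvd_sub (eight i k) _ 13).1 ?_
      simp only [eight]
      have e8 : (((g (eightElt i) : Vec) k : ℤ) : ZMod 13) = 8 * (if k = i then 1 else 0) := by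
        rw [← this, ← mul_assoc, show (8 : ZMod 13) * 5 = 1 by decide, one_mul]
      rw [e8]
      split_ifs <;> simp
    choose w hw using hdiv
    have e13 : (13 : ℤ) • w = (g (eightElt i) : Vec) - eight i := funext fun k => (hw k).symm
    have hd : IsL ((13 : ℤ) • w) := by
      rw [e13, sub_eq_add_neg]
      exact isL_add (mem_iff.1 (g (eightElt i)).2) (isL_neg (isL_eight i))
    have h8 : IsL ((8 : ℤ) • w) := by
      have e : (8 : ℤ) • w = ((∑ j, w j • eightElt j : ↥leechLattice) : Vec) := by
        rw [coe_sum_lattice]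
        funext k
        simp only [AddSubgroup.coe_zsmul, Finset.sum_apply, Pi.smul_apply, eightElt, eight,
          smul_eq_mul, mul_ite, mul_zero, Finset.sum_ite_eq, Finset.mem_univ, if_true]
        ring
      rw [e]; exact mem_iff.1 (SetLike.coe_mem _)
    have hwL : IsL w := by
      have e : w = (5 : ℤ) • ((13 : ℤ) • w) + (-8 : ℤ) • ((8 : ℤ) • w) := by
        funext k; simp; ring
      rw [e]
      exact isL_add (isL_smul hd _) (isL_smul h8 _)
    by_contra hne
    have hw0 : w ≠ 0 := fun h0 => hne (Subtype.ext (sub_eq_zero.1 (by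
      show (g (eightElt i) : Vec) - eight i = 0
      rw [← e13, h0, smul_zero])))
    have h32 := norm_ge hwL hw0
    have hn : sqNorm (g (eightElt i) : Vec) = 64 := by
      rw [hg.2]; show sqNorm (eight i) = 64
      simp [sqNorm, eight, ite_pow]
    have hn8 : sqNorm (eight i) = 64 := by simp [sqNorm, eight, ite_pow]
    have h169 : sqNorm ((13 : ℤ) • w) = 169 * sqNorm w := by
      simp only [sqNorm, Finset.mul_sum]
      exact Finset.sum_congr rfl fun k _ => by simp; ring
    have hle : sqNorm ((g (eightElt i) : Vec) - eight i) ≤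
        2 * sqNorm (g (eightElt i) : Vec) + 2 * sqNorm (eight i) := by
      simp only [sqNorm, Finset.mul_sum, ← Finset.sum_add_distrib]
      exact Finset.sum_le_sum fun k _ => by
        simp only [Pi.sub_apply]
        nlinarith [sq_nonneg ((g (eightElt i) : Vec) k + eight i k)]
    rw [← e13, h169, hn, hn8] at hle
    omega
  refine Equiv.ext fun v => Subtype.ext (funext fun k => ?_)
  show (g v : Vec) k = (v : Vec) k
  have h1 := eight_apply hg v k
  have h2 := congrArg (fun w : ↥leechLattice => (w : Vec) k) (decomp v)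
  simp only [key] at h1
  simp only [coe_sum_lattice, AddSubgroup.coe_zsmul, Finset.sum_apply, Pi.smul_apply,
    smul_eq_mul] at h2
  omega

/-- The fixed vector modulo 13. -/
def uVec : GolayPt → ZMod 13 := red13 (Spor.leechU : Vec)

theorem uVec_sq : uVec ⬝ᵥ uVec = 6 := by decide +kernel

/-- The hyperplane orthogonal to the fixed vector. -/
def perpU : Submodule (ZMod 13) (GolayPt → ZMod 13) where
  carrier := {x | uVec ⬝ᵥ x = 0}
  add_mem' {a b} ha hb := by
    show uVec ⬝ᵥ (a + b) = 0
    rw [dotProduct_add, (ha : uVec ⬝ᵥ a = 0), (hb : uVec ⬝ᵥ b = 0), add_zero]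
  zero_mem' := dotProduct_zero _
  smul_mem' c x hx := by
    show uVec ⬝ᵥ (c • x) = 0
    rw [dotProduct_smul, (hx : uVec ⬝ᵥ x = 0), smul_zero]

theorem finrank_perpU : Module.finrank (ZMod 13) perpU = 23 := by
  let φ : (GolayPt → ZMod 13) →ₗ[ZMod 13] ZMod 13 :=
    { toFun := fun x => uVec ⬝ᵥ x
      map_add' := fun a b => dotProduct_add _ _ _
      map_smul' := fun c a => dotProduct_smul _ _ _ }
  have e : perpU = LinearMap.ker φ := by ext x; rfl
  have hsurj : LinearMap.range φ = ⊤ := by
    refine LinearMap.range_eq_top.2 fun c => ⟨(c * 11) • uVec, ?_⟩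
    show uVec ⬝ᵥ ((c * 11) • uVec) = c
    rw [dotProduct_smul, uVec_sq, smul_eq_mul, mul_assoc, show (11 : ZMod 13) * 6 = 1 by decide,
      mul_one]
  have := LinearMap.finrank_range_add_finrank_ker φ
  rw [hsurj, finrank_top, Module.finrank_self, Module.finrank_pi] at this
  rw [e]
  have : Fintype.card GolayPt = 24 := rfl
  omega

theorem vecMul_mat13 (hg : g ∈ Co0) (hu : g Spor.leechU = Spor.leechU) :
    uVec ᵥ* mat13 g = uVec := by
  funext i
  have h := congrArg (fun z : ℤ => (z : ZMod 13)) (dot_apply hg Spor.leechU (eightElt i))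
  rw [hu] at h
  simp only [dotInt, eightElt, eight, mul_ite, mul_zero, Finset.sum_ite_eq', Finset.mem_univ,
    if_true, Int.cast_sum, Int.cast_mul] at h
  simp only [vecMul, dotProduct, mat13, of_apply, uVec, red13]
  rw [Finset.sum_congr rfl fun j _ => mul_left_comm (((Spor.leechU : Vec) j : ℤ) : ZMod 13) 5 _,
    ← Finset.mul_sum]
  erw [h]
  rw [mul_left_comm, show (5 : ZMod 13) * ((8 : ℤ) : ZMod 13) = 1 by decide, mul_one]

theorem co2_maps {g : ↥Spor.Co2} {x : GolayPt → ZMod 13} (hx : x ∈ perpU) :
    mat13 g.1 *ᵥ x ∈ perpU := by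
  show uVec ⬝ᵥ (mat13 g.1 *ᵥ x) = 0
  rw [dotProduct_mulVec, vecMul_mat13 g.2.1 g.2.2]
  exact hx

/-- The action on the hyperplane. -/
def co2End : ↥Spor.Co2 →* Module.End (ZMod 13) perpU where
  toFun g := (Matrix.mulVecLin (mat13 g.1)).restrict fun _ hx => co2_maps hx
  map_one' := LinearMap.ext fun x => Subtype.ext (by
    show mat13 1 *ᵥ (x : GolayPt → ZMod 13) = x
    rw [mat13_one, one_mulVec])
  map_mul' g h := LinearMap.ext fun x => Subtype.ext (by
    show mat13 (g.1 * h.1) *ᵥ (x : GolayPt → ZMod 13) = mat13 g.1 *ᵥ (mat13 h.1 *ᵥ x)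
    rw [mat13_mul g.2.1, mulVec_mulVec])

theorem co2End_injective : Function.Injective co2End.toHomUnits := by
  rw [injective_iff_map_eq_one]
  intro g hg
  have hM : co2End g = 1 := by
    rw [← MonoidHom.coe_toHomUnits, hg, Units.val_one]
  have hfix : mat13 g.1 *ᵥ uVec = uVec := by
    show mat13 g.1 *ᵥ red13 (Spor.leechU : Vec) = _
    rw [mat13_apply g.2.1, show g.1 Spor.leechU = Spor.leechU from g.2.2]
    rfl
  have hall : ∀ x, mat13 g.1 *ᵥ x = x := by
    intro x
    let c := (uVec ⬝ᵥ x) * 11
    have hy : x - c • uVec ∈ perpU := by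
      show uVec ⬝ᵥ (x - c • uVec) = 0
      rw [dotProduct_sub, dotProduct_smul, uVec_sq, smul_eq_mul, mul_assoc,
        show (11 : ZMod 13) * 6 = 1 by decide, mul_one, sub_self]
    have h1 : mat13 g.1 *ᵥ (x - c • uVec) = x - c • uVec := by
      have h2 := congrArg Subtype.val (LinearMap.congr_fun hM ⟨x - c • uVec, hy⟩)
      simp only [co2End, MonoidHom.coe_mk, OneHom.coe_mk, Module.End.one_apply] at h2
      rw [← Matrix.mulVecLin_apply]
      exact h2
    rw [mulVec_sub, mulVec_smul, hfix] at h1
    exact sub_left_injective h1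
  have : mat13 g.1 = 1 := Matrix.mulVec_injective.eq_iff.1 (funext fun x => by rw [hall x, one_mulVec]) 
  exact Subtype.ext (mat13_injective g.2.1 this)

theorem co2_gl : ∃ f : ↥Spor.Co2 →* GL (Fin 23) (ZMod 13), Function.Injective f := by
  let b : Module.Basis (Fin 23) (ZMod 13) perpU :=
    Module.finBasisOfFinrankEq (ZMod 13) perpU finrank_perpU
  let e := LinearMap.toMatrixAlgEquiv b
  refine ⟨(Units.mapEquiv e.toMulEquiv).toMonoidHom.comp co2End.toHomUnits, ?_⟩
  exact (Units.mapEquiv e.toMulEquiv).injective.comp co2End_injective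

end CfsgLib.ThreeTrans.Leech
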