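import Cfsg.Agent.Lib.ThreeTrans.Leech
import Cfsg.Agent.Lib.ThreeTrans.GolayModule

/-!
Elements of the automorphism group of the rank 24 lattice: coordinate permutations, sign changes on
code words, and a sextet involution; generators of the lattice.
-/

set_option autoImplicit false

namespace CfsgLib.ThreeTrans.Leech

open Cfsg Finset CfsgLib.Sporadic
open scoped Pointwise

/-- Integer vectors on the 24 points. -/
abbrev Vec := GolayPt → ℤ

/-- The odd vector `(-3, 1, ..., 1)`. -/
def omegaVec : Vec := fun i => if i = none then -3 else 1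

/-- `4 e_i + 4 e_j`. -/
def pairVec (i j : GolayPt) : Vec := fun k =>
  4 * ((if k = i then 1 else 0) + (if k = j then 1 else 0))

/-- `2` on a set of points. -/
def octVec (s : Finset GolayPt) : Vec := fun k => if k ∈ s then 2 else 0

/-- Generators of the lattice. -/
def IsGen (x : Vec) : Prop :=
  x = omegaVec ∨ (∃ i, x = pairVec i none) ∨ ∃ b < 12, x = octVec (setOfMask (basisMask b))

theorem isL_omega : IsL omegaVec := by
  refine ⟨1, fun i => if i = none then -2 else 0, fun i => ?_, ?_, by decide⟩
  · simp only [omegaVec]; split_ifs <;> rfl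
  · have : red (fun i : GolayPt => if i = none then -2 else 0) = 0 := by
      funext i; simp only [red]; split_ifs <;> simp [CharTwo.two_eq_zero]
    rw [this]; exact zero_mem _

theorem sum_pair (i j : GolayPt) : ∑ k, pairVec i j k = 8 := by
  simp only [pairVec, ← Finset.mul_sum, Finset.sum_add_distrib, Finset.sum_ite_eq',
    Finset.mem_univ, if_true]
  norm_num

theorem isL_pair (i j : GolayPt) : IsL (pairVec i j) := by
  refine ⟨0, fun k => 2 * ((if k = i then 1 else 0) + (if k = j then 1 else 0)),
    fun k => by simp [pairVec]; ring, ?_, by rw [sum_pair]; decide⟩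
  have : red (fun k => 2 * (((if k = i then 1 else 0) : ℤ) + (if k = j then 1 else 0))) = 0 := by
    funext k; simp [red, CharTwo.two_eq_zero]
  rw [this]; exact zero_mem _

theorem red_indicator (s : Finset GolayPt) :
    support₂ (red fun k => if k ∈ s then 1 else 0) = s := by
  ext k
  rw [support₂, Finset.mem_filter]
  by_cases h : k ∈ s <;> simp [red, h]

theorem isL_octVec {s : Finset GolayPt} (hs : s ∈ supports (golayCode : Set (GolayPt → ZMod 2))) :
    IsL (octVec s) := by
  obtain ⟨w, hw, hws⟩ := hs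
  have hd : red (fun k => if k ∈ s then 1 else 0) = w := by
    apply Golay.mk_injective
    rw [Golay.mk, Golay.mk, red_indicator, hws]
  refine ⟨0, fun k => if k ∈ s then 1 else 0, fun k => by simp only [octVec]; split_ifs <;> rfl,
    by rw [hd]; exact hw, ?_⟩
  have hc := (weight (c := w) hw).2
  rw [hws] at hc
  simp only [octVec, Finset.sum_ite_mem, Finset.univ_inter, Finset.sum_const, nsmul_eq_mul]
  simp only [Int.ModEq]
  omega

theorem basisMask_inCode : ∀ b < 12, inCode (basisMask b) = true := by decide +kernel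

theorem basis_supports {b : ℕ} (hb : b < 12) :
    setOfMask (basisMask b) ∈ supports (golayCode : Set (GolayPt → ZMod 2)) := by
  rw [mem_supports_iff, maskOf_setOfMask (inCode_lt (basisMask_inCode b hb))]
  exact basisMask_inCode b hb

theorem isL_gen {x : Vec} (h : IsGen x) : IsL x := by
  rcases h with rfl | ⟨i, rfl⟩ | ⟨b, hb, rfl⟩
  · exact isL_omega
  · exact isL_pair i none
  · exact isL_octVec (basis_supports hb)

theorem isL_smul {x : Vec} (h : IsL x) (k : ℤ) : IsL (k • x) := by
  rw [← mem_iff] at h ⊢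
  exact AddSubgroup.zsmul_mem _ h k

theorem single_four (i : GolayPt) (e : Vec) :
    (fun k => 4 * e k) = (∑ j, e j • pairVec j i) - (∑ j, e j) • (fun k => if k = i then (4 : ℤ) else 0) := by
  funext k
  simp only [Pi.sub_apply, Finset.sum_apply, Pi.smul_apply, smul_eq_mul, pairVec, mul_add,
    Finset.sum_add_distrib, ← Finset.sum_mul]
  rw [Finset.sum_eq_single k (fun j _ hj => by rw [if_neg (Ne.symm hj)]; simp) (by simp)]
  simp only [if_true]
  split_ifs <;> ring

/-- An additive subgroup containing the generators contains the lattice. -/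
theorem le_of_gen {M : AddSubgroup Vec} (h : ∀ x, IsGen x → x ∈ M) : leechLattice ≤ M := by
  intro x hx
  obtain ⟨m, d, h1, h2, h3⟩ := mem_iff.1 hx
  -- remove the odd part
  let δ : Vec := fun i => if i = none then -2 else 0
  let d' : Vec := fun i => d i - m * δ i
  have hd' : ∀ i, (x - m • omegaVec) i = 2 * d' i := fun i => by
    simp only [Pi.sub_apply, Pi.smul_apply, smul_eq_mul, omegaVec, d', δ, h1]
    split_ifs <;> ring
  have hy : IsL (x - m • omegaVec) := by
    rw [sub_eq_add_neg]; exact isL_add (mem_iff.1 hx) (isL_neg (isL_smul isL_omega m))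
  have hred : red d' ∈ golayCode := by
    have : red d' = red d := by
      funext i
      simp only [red, d', δ]
      split_ifs <;> simp [CharTwo.two_eq_zero]
    rw [this]; exact h2
  -- the code part
  have hbase : ∀ n ≤ 12, ∀ k, ∃ f : Vec, red f = wordOf (xorComb basisMask k n) ∧
      (fun i => 2 * f i) ∈ M ∧ IsL (fun i => 2 * f i) := by
    intro n
    induction n with
    | zero =>
      have z : (fun i => 2 * (0 : Vec) i) = 0 := by funext i; simp
      refine fun _ k => ⟨0, ?_, by rw [z]; exact M.zero_mem, by rw [z]; exact isL_zero⟩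
      rw [red_zero]; exact wordOf_zero.symm
    | succ n ih =>
      intro hn k
      obtain ⟨f, hf, hfM, hfL⟩ := ih (by omega) k
      rw [xorComb_succ, bitAt_eq]
      split
      · rw [one_mul, wordOf_xor]
        let g : Vec := fun i => if i ∈ setOfMask (basisMask n) then 1 else 0
        have hg : (fun i => 2 * g i) = octVec (setOfMask (basisMask n)) := by
          funext i; simp only [g, octVec]; split_ifs <;> rfl
        have e : (fun i => 2 * (f + g) i) =
            (fun i => 2 * f i) + octVec (setOfMask (basisMask n)) := by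
          rw [← hg]; funext i; simp [mul_add]
        refine ⟨f + g, ?_, ?_, ?_⟩
        · rw [red_add, hf]
          congr 1
          apply Golay.mk_injective
          rw [Golay.mk, Golay.mk, red_indicator, support₂_wordOf]
        · rw [e]; exact M.add_mem hfM (h _ (Or.inr (Or.inr ⟨n, by omega, rfl⟩)))
        · rw [e]; exact isL_add hfL (isL_octVec (basis_supports (by omega)))
      · exact ⟨f, by rw [zero_mul, Nat.xor_zero]; exact hf, hfM, hfL⟩
  obtain ⟨k, -, hk⟩ := mem_golayCode_iff.1 hred
  obtain ⟨f, hf, hfM, hfL⟩ := hbase 12 le_rfl k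
  change red f = wordOf (enc k) at hf
  rw [hk] at hf
  -- the part divisible by four
  let e : Vec := fun i => (d' i - f i) / 2
  have he : ∀ i, d' i = f i + 2 * e i := fun i => by
    have : (d' i : ZMod 2) = (f i : ZMod 2) := (congrFun hf i).symm
    have h' : ((d' i - f i : ℤ) : ZMod 2) = 0 := by rw [Int.cast_sub, this, sub_self]
    have hdvd := (ZMod.intCast_zmod_eq_zero_iff_dvd _ 2).1 h'
    show d' i = f i + 2 * ((d' i - f i) / 2)
    omega
  have hx4 : x = m • omegaVec + ((fun i => 2 * f i) + fun i => 4 * e i) := by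
    funext i
    have := hd' i
    simp only [Pi.sub_apply, Pi.smul_apply, smul_eq_mul] at this
    simp only [Pi.add_apply, Pi.smul_apply, smul_eq_mul]
    rw [he i] at this
    linarith
  have h4 : IsL fun i => 4 * e i := by
    have : (fun i => 4 * e i) = (x - m • omegaVec) - fun i => 2 * f i := by
      funext i
      rw [Pi.sub_apply, hd', he i]; ring
    rw [this, sub_eq_add_neg]; exact isL_add hy (isL_neg hfL)
  have hsum : (∑ i, e i) % 2 = 0 := by
    obtain ⟨m', d'', k1, -, k3⟩ := h4
    have hm : m' % 2 = 0 := by have : 4 * e none = m' + 2 * d'' none := k1 none; omega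
    rw [← Finset.mul_sum] at k3
    simp only [Int.ModEq] at k3
    omega
  rw [hx4]
  refine M.add_mem (M.zsmul_mem (h _ (Or.inl rfl)) m) (M.add_mem hfM ?_)
  rw [single_four none e]
  refine M.sub_mem (M.sum_mem fun j _ => M.zsmul_mem (h _ (Or.inr (Or.inl ⟨j, rfl⟩))) _) ?_
  have : (∑ j, e j) • (fun k : GolayPt => if k = none then (4 : ℤ) else 0) =
      ((∑ j, e j) / 2) • pairVec none none := by
    funext k
    simp only [Pi.smul_apply, smul_eq_mul, pairVec]
    obtain ⟨t, ht⟩ : ∃ t, (∑ j, e j) = 2 * t := ⟨(∑ j, e j) / 2, by omega⟩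
    rw [ht]
    split_ifs <;> simp <;> ring
  rw [this]
  exact M.zsmul_mem (h _ (Or.inr (Or.inl ⟨none, rfl⟩))) _

/-! ### permutations and sign changes -/

/-- Permuting coordinates. -/
def permVec (σ : Equiv.Perm GolayPt) (x : Vec) : Vec := fun i => x (σ.symm i)

/-- Changing the sign on a set of coordinates. -/
def flipVec (s : Finset GolayPt) (x : Vec) : Vec := fun i => if i ∈ s then -x i else x i

theorem isL_perm {σ : Equiv.Perm GolayPt} (hσ : σ ∈ M24) {x : Vec} (hx : IsL x) :
    IsL (permVec σ x) := by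
  obtain ⟨m, d, h1, h2, h3⟩ := hx
  refine ⟨m, permVec σ d, fun i => h1 _, Golay.act_code hσ h2, ?_⟩
  show (∑ i, x (σ.symm i)) ≡ 4 * m [ZMOD 8]
  rw [Equiv.sum_comp σ.symm x]
  exact h3

theorem inter_even {s t : Finset GolayPt} (hs : s ∈ supports (golayCode : Set (GolayPt → ZMod 2)))
    (ht : t ∈ supports (golayCode : Set (GolayPt → ZMod 2))) : 2 ∣ (s ∩ t).card := by
  have h1 := card_code_support hs
  have h2 := card_code_support ht
  have h3 := card_code_support (symmDiff_mem_supports hs ht)
  have h4 := card_symmDiff s t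
  omega

theorem isL_flip {s : Finset GolayPt} (hs : s ∈ supports (golayCode : Set (GolayPt → ZMod 2)))
    {x : Vec} (hx : IsL x) : IsL (flipVec s x) := by
  obtain ⟨w, hw, hws⟩ := hs
  obtain ⟨m, d, h1, h2, h3⟩ := hx
  let d' : Vec := fun i => if i ∈ s then -m - d i else d i
  refine ⟨m, d', fun i => ?_, ?_, ?_⟩
  · simp only [flipVec, d', h1]; split_ifs <;> ring
  · have : red d' = red d + ((m : ℤ) : ZMod 2) • w := by
      funext i
      have hi : i ∈ s ↔ w i ≠ 0 := by
        rw [← hws, support₂, Finset.mem_filter]; simp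
      simp only [red, d', Pi.add_apply, Pi.smul_apply, smul_eq_mul]
      split_ifs with h
      · rw [eq_one_of_ne_zero (hi.1 h)]
        simp [CharTwo.neg_eq, CharTwo.sub_eq_add, add_comm]
      · rw [not_ne_iff.1 (mt hi.2 h)]; simp
    rw [this]
    exact add_mem h2 (Submodule.smul_mem _ _ hw)
  · have hdiff : (∑ i, flipVec s x i) = (∑ i, x i) - 2 * ∑ i ∈ s, x i := by
      have : ∀ i, flipVec s x i = x i - 2 * (if i ∈ s then x i else 0) := fun i => by
        simp only [flipVec]; split_ifs <;> ring
      rw [Finset.sum_congr rfl fun i _ => this i, Finset.sum_sub_distrib, ← Finset.mul_sum,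
        Finset.sum_ite_mem, Finset.univ_inter]
    have hs' : s ∈ supports (golayCode : Set (GolayPt → ZMod 2)) := ⟨w, hw, hws⟩
    have hev := inter_even hs' (t := support₂ (red d)) ⟨_, h2, rfl⟩
    have h4 := card_code_support hs'
    have hsd : (∑ i ∈ s, d i) % 2 = 0 := by
      have hc : ((s ∩ support₂ (red d)).card : ℤ) = ∑ i ∈ s, d i % 2 := by
        rw [support₂, Finset.inter_filter, Finset.inter_univ, Finset.card_eq_sum_ones,
          Finset.sum_filter, Nat.cast_sum]
        refine Finset.sum_congr rfl fun i _ => ?_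
        simp only [red, cast_ne_zero_iff]
        split_ifs with h
        · simp [h]
        · omega
      have hp : (2 : ℤ) ∣ (∑ i ∈ s, d i) - ∑ i ∈ s, d i % 2 := by
        rw [← Finset.sum_sub_distrib]
        exact Finset.dvd_sum fun i _ => by
          show (2 : ℤ) ∣ d i - d i % 2
          omega
      omega
    rw [hdiff, Finset.sum_congr (s₂ := s) rfl fun i _ => h1 i, Finset.sum_add_distrib,
      Finset.sum_const, nsmul_eq_mul, ← Finset.mul_sum]
    obtain ⟨q, hq⟩ : ∃ q : ℕ, s.card = 4 * q := ⟨s.card / 4, by omega⟩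
    obtain ⟨u, hu⟩ : ∃ u, (∑ i ∈ s, d i) = 2 * u := ⟨(∑ i ∈ s, d i) / 2, by omega⟩
    rw [hq, hu]
    simp only [Int.ModEq] at h3 ⊢
    push_cast
    rw [show 2 * (4 * (q : ℤ) * m + 2 * (2 * u)) = 8 * ((q : ℤ) * m + u) by ring]
    omega

/-! ### the sextet involution -/

/-- The six tetrads of a sextet. -/
def tets : List ℕ := [8388615, 4268048, 147496, 2621632, 1082880, 268544]

/-- The tetrad of a point, as an index. -/
noncomputable def tetIx (i : GolayPt) : ℕ :=
  if bitAt 8388615 (ix i) = 1 then 0 else if bitAt 4268048 (ix i) = 1 then 1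
  else if bitAt 147496 (ix i) = 1 then 2 else if bitAt 2621632 (ix i) = 1 then 3
  else if bitAt 1082880 (ix i) = 1 then 4 else 5

/-- The tetrad of a point. -/
noncomputable def tet (i : GolayPt) : Finset GolayPt :=
  Finset.univ.filter fun j => tetIx j = tetIx i

/-- Minus one on the first tetrad, one elsewhere. -/
noncomputable def tetSign (i : GolayPt) : ℤ := if tetIx i = 0 then -1 else 1

/-- The sextet involution. -/
noncomputable def xi (x : Vec) : Vec := fun i => tetSign i * ((∑ j ∈ tet i, x j) / 2 - x i)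

theorem card_tet : ∀ i, (tet i).card = 4 := by decide +kernel

theorem tet_eq {i j : GolayPt} (h : j ∈ tet i) : tet j = tet i := by
  rw [tet, Finset.mem_filter] at h
  ext k
  rw [tet, tet, Finset.mem_filter, Finset.mem_filter, h.2]

theorem tetSign_eq {i j : GolayPt} (h : j ∈ tet i) : tetSign j = tetSign i := by
  rw [tet, Finset.mem_filter] at h
  rw [tetSign, tetSign, h.2]

theorem tetSign_sq (i : GolayPt) : tetSign i * tetSign i = 1 := by
  unfold tetSign; split_ifs <;> rfl

theorem tet_sum_even {x : Vec} (hx : IsL x) (i : GolayPt) :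
    ∃ t, (∑ j ∈ tet i, x j) = 2 * t := by
  obtain ⟨m, d, h1, -, -⟩ := hx
  refine ⟨2 * m + ∑ j ∈ tet i, d j, ?_⟩
  rw [Finset.sum_congr rfl fun j _ => h1 j, Finset.sum_add_distrib, Finset.sum_const, card_tet,
    ← Finset.mul_sum]
  simp; ring

theorem xi_add {x y : Vec} (hx : IsL x) : xi (x + y) = xi x + xi y := by
  funext i
  obtain ⟨t, ht⟩ := tet_sum_even hx i
  simp only [xi, Pi.add_apply, Finset.sum_add_distrib, ht]
  rw [show (2 * t + ∑ j ∈ tet i, y j) / 2 = t + (∑ j ∈ tet i, y j) / 2 by omega,
    show 2 * t / 2 = t by omega]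
  ring

theorem xi_zero : xi 0 = 0 := by funext i; simp [xi]

/-- A test for membership in the lattice. -/
def LTest (x : Vec) : Prop :=
  (∀ i, (x i - x none) % 2 = 0) ∧ (∑ i, x i) % 8 = (4 * x none) % 8 ∧
    inCode (maskOf (Finset.univ.filter fun i => ((x i - x none) / 2) % 2 = 1)) = true

noncomputable instance (x : Vec) : Decidable (LTest x) := inferInstanceAs (Decidable (_ ∧ _ ∧ _))

theorem isL_of_test {x : Vec} (h : LTest x) : IsL x := by
  obtain ⟨h1, h2, h3⟩ := h
  refine ⟨x none, fun i => (x i - x none) / 2, fun i => ?_, ?_, h2⟩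
  · show x i = x none + 2 * ((x i - x none) / 2)
    have := h1 i; omega
  · rw [mem_golayCode]
    have : support₂ (red fun i => (x i - x none) / 2) =
        Finset.univ.filter fun i => ((x i - x none) / 2) % 2 = 1 := by
      rw [support₂]
      exact Finset.filter_congr fun i _ => cast_ne_zero_iff _
    rw [this]; exact h3

theorem xi_omega : LTest (xi omegaVec) := by decide +kernel

theorem xi_pairs : ∀ i, LTest (xi (pairVec i none)) := by decide +kernel

theorem xi_octs : ∀ b < 12, LTest (xi (octVec (setOfMask (basisMask b)))) := by decide +kernel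

theorem isL_xi {x : Vec} (hx : IsL x) : IsL (xi x) := by
  let M : AddSubgroup Vec :=
    { carrier := {y | IsL y ∧ IsL (xi y)}
      zero_mem' := ⟨isL_zero, by rw [xi_zero]; exact isL_zero⟩
      add_mem' := fun {a b} ha hb => ⟨isL_add ha.1 hb.1, by rw [xi_add ha.1]; exact isL_add ha.2 hb.2⟩
      neg_mem' := fun {a} ha => ⟨isL_neg ha.1, by
        have : xi (-a) = -xi a := by
          have h := xi_add (y := -a) ha.1
          rw [add_neg_cancel, xi_zero] at h
          exact eq_neg_of_add_eq_zero_right h.symm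
        rw [this]; exact isL_neg ha.2⟩ }
  have hle : leechLattice ≤ M := le_of_gen fun y hy => ⟨isL_gen hy, by
    rcases hy with rfl | ⟨i, rfl⟩ | ⟨b, hb, rfl⟩
    · exact isL_of_test xi_omega
    · exact isL_of_test (xi_pairs i)
    · exact isL_of_test (xi_octs b hb)⟩
  exact (hle (mem_iff.2 hx)).2

theorem tet_sum_xi {x : Vec} (hx : IsL x) (i : GolayPt) :
    (∑ j ∈ tet i, xi x j) = tetSign i * ∑ j ∈ tet i, x j := by
  obtain ⟨t, ht⟩ := tet_sum_even hx i
  have : ∀ j ∈ tet i, xi x j = tetSign i * (t - x j) := fun j hj => by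
    rw [xi, tet_eq hj, tetSign_eq hj, ht, Int.mul_ediv_cancel_left _ two_ne_zero]
  rw [Finset.sum_congr rfl this, ← Finset.mul_sum, Finset.sum_sub_distrib, Finset.sum_const,
    card_tet, ht, nsmul_eq_mul]
  push_cast; ring

theorem xi_xi {x : Vec} (hx : IsL x) : xi (xi x) = x := by
  funext i
  obtain ⟨t, ht⟩ := tet_sum_even hx i
  show tetSign i * ((∑ j ∈ tet i, xi x j) / 2 - xi x i) = x i
  rw [tet_sum_xi hx, ht, show tetSign i * (2 * t) = 2 * (tetSign i * t) by ring,
    Int.mul_ediv_cancel_left _ two_ne_zero, xi, ht, Int.mul_ediv_cancel_left _ two_ne_zero]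
  linear_combination (x i) * tetSign_sq i

theorem norm_perm (σ : Equiv.Perm GolayPt) (x : Vec) : sqNorm (permVec σ x) = sqNorm x :=
  Equiv.sum_comp σ.symm fun i => x i ^ 2

theorem norm_flip (s : Finset GolayPt) (x : Vec) : sqNorm (flipVec s x) = sqNorm x := by
  refine Finset.sum_congr rfl fun i _ => ?_
  simp only [flipVec]; split_ifs <;> ring

theorem norm_xi {x : Vec} (hx : IsL x) : sqNorm (xi x) = sqNorm x := by
  rw [sqNorm, sqNorm, ← Finset.sum_fiberwise_of_maps_to (t := Finset.univ.image tetIx)
      (g := tetIx) (fun i _ => Finset.mem_image_of_mem _ (Finset.mem_univ i)),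
    ← Finset.sum_fiberwise_of_maps_to (t := Finset.univ.image tetIx) (g := tetIx)
      (fun i _ => Finset.mem_image_of_mem _ (Finset.mem_univ i)) (fun i => x i ^ 2)]
  refine Finset.sum_congr rfl fun c hc => ?_
  obtain ⟨i, -, rfl⟩ := Finset.mem_image.1 hc
  obtain ⟨t, ht⟩ := tet_sum_even hx i
  show ∑ j ∈ tet i, xi x j ^ 2 = ∑ j ∈ tet i, x j ^ 2
  have : ∀ j ∈ tet i, xi x j ^ 2 = t ^ 2 - 2 * t * x j + x j ^ 2 := fun j hj => by
    rw [xi, tet_eq hj, ht, Int.mul_ediv_cancel_left _ two_ne_zero]
    linear_combination (t - x j) ^ 2 * tetSign_sq j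
  rw [Finset.sum_congr rfl this, Finset.sum_add_distrib, Finset.sum_sub_distrib, Finset.sum_const,
    card_tet, ← Finset.mul_sum, ht]
  simp; ring

/-! ### as elements of the automorphism group -/

theorem flip_flip (s : Finset GolayPt) (x : Vec) : flipVec s (flipVec s x) = x := by
  funext i; simp only [flipVec]; split_ifs <;> simp

/-- A sign change as an automorphism. -/
def flipElt {s : Finset GolayPt} (hs : s ∈ supports (golayCode : Set (GolayPt → ZMod 2))) :
    ↥Co0 :=
  ⟨{ toFun := fun v => ⟨flipVec s v, mem_iff.2 (isL_flip hs (mem_iff.1 v.2))⟩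
     invFun := fun v => ⟨flipVec s v, mem_iff.2 (isL_flip hs (mem_iff.1 v.2))⟩
     left_inv := fun v => Subtype.ext (flip_flip s v)
     right_inv := fun v => Subtype.ext (flip_flip s v) },
    fun v w => Subtype.ext (funext fun i => by
      show flipVec s ((v : Vec) + (w : Vec)) i = flipVec s v i + flipVec s w i
      simp only [flipVec, Pi.add_apply]; split_ifs <;> ring),
    fun v => norm_flip s v⟩

theorem flipElt_apply {s : Finset GolayPt}
    (hs : s ∈ supports (golayCode : Set (GolayPt → ZMod 2))) (v : ↥leechLattice) :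
    ((flipElt hs • v : ↥leechLattice) : Vec) = flipVec s v := rfl

/-- A permutation as an automorphism. -/
def permElt {σ : Equiv.Perm GolayPt} (hσ : σ ∈ M24) : ↥Co0 :=
  ⟨{ toFun := fun v => ⟨permVec σ v, mem_iff.2 (isL_perm hσ (mem_iff.1 v.2))⟩
     invFun := fun v => ⟨permVec σ⁻¹ v, mem_iff.2 (isL_perm (inv_mem hσ) (mem_iff.1 v.2))⟩
     left_inv := fun v => Subtype.ext (funext fun i => congrArg (v : Vec) (σ.symm_apply_apply i))
     right_inv := fun v => Subtype.ext (funext fun i => congrArg (v : Vec) (σ.apply_symm_apply i)) },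
    fun v w => rfl,
    fun v => norm_perm σ v⟩

theorem permElt_apply {σ : Equiv.Perm GolayPt} (hσ : σ ∈ M24) (v : ↥leechLattice) :
    ((permElt hσ • v : ↥leechLattice) : Vec) = permVec σ v := rfl

/-- The sextet involution as an automorphism. -/
noncomputable def xiElt : ↥Co0 :=
  ⟨{ toFun := fun v => ⟨xi v, mem_iff.2 (isL_xi (mem_iff.1 v.2))⟩
     invFun := fun v => ⟨xi v, mem_iff.2 (isL_xi (mem_iff.1 v.2))⟩
     left_inv := fun v => Subtype.ext (xi_xi (mem_iff.1 v.2))
     right_inv := fun v => Subtype.ext (xi_xi (mem_iff.1 v.2)) },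
    fun v w => Subtype.ext (xi_add (mem_iff.1 v.2)),
    fun v => norm_xi (mem_iff.1 v.2)⟩

theorem xiElt_apply (v : ↥leechLattice) : ((xiElt • v : ↥leechLattice) : Vec) = xi v := rfl

end CfsgLib.ThreeTrans.Leech
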