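import Cfsg.Agent.Lib.ThreeTrans.M24OrbCert

/-!
Orbits of the stabilisers of octads, sextets, trios and duums.
-/

set_option autoImplicit false

namespace CfsgLib.ThreeTrans.M24Orb

open Cfsg CfsgLib.Sporadic MulAction
open scoped Pointwise

theorem stdO_lt : ∀ v ∈ [stdO], v < 2 ^ 24 := by decide
theorem stdTriad_lt : ∀ v ∈ [stdTriad], v < 2 ^ 24 := by decide
theorem mask_mem_octads {m : ℕ} (h : inCode m = true) (h8 : popc m = 8) : setOfMask m ∈ octads :=
  mem_octads_iff.2 (by rw [maskOf_setOfMask (inCode_lt h)]; exact ⟨h, h8⟩)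
theorem duum_lt : ∀ v ∈ [stdD, 16777215 ^^^ stdD], v < 2 ^ 24 := by decide

theorem octStGens_in : GensIn (stabilizer ↥M24 (setOfMask stdO)) octStGens := fun p hp => by
  obtain ⟨g, h1, h2, -⟩ := stabGens_in (gens := octStGens) (m := stdO) (pts := []) (by decide +kernel) p hp
  exact ⟨g, h1, h2⟩

theorem duumGens_in : GensIn (stabilizer ↥M24 (toQ [stdD, 16777215 ^^^ stdD])) dodStGens :=
  gensIn_family (by decide +kernel) duum_lt (by decide +kernel)

theorem sextets_inv : ∀ (g : ↥M24), ∀ x ∈ sextets, g • x ∈ sextets := fun g _ h => smul_mem_sextets g h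
theorem trios_inv : ∀ (g : ↥M24), ∀ x ∈ trios, g • x ∈ trios := fun g _ h => smul_mem_trios g h
theorem octads_inv : ∀ (g : ↥M24), ∀ x ∈ octads, g • x ∈ octads := fun g _ h =>
  (smul_mem_octads' g).2 h

theorem sq_set_std {m : ℕ} (hm : m < 2 ^ 24) {q : List ℕ} (hq : ∀ v ∈ q, v < 2 ^ 24) :
    sqInv {setOfMask m} (toQ q) = sqList [m] q := by
  rw [← toQ_singleton]
  exact sqInv_toQ (by simpa using hm) hq

theorem sq_fam_oct {m : ℕ} (hm : m < 2 ^ 24) {q : List ℕ} (hq : ∀ v ∈ q, v < 2 ^ 24) :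
    sqInv (toQ q) {setOfMask m} = sqList q [m] := by
  rw [← toQ_singleton]
  exact sqInv_toQ hq (by simpa using hm)

theorem octSx_std : Three (stabilizer ↥M24 (setOfMask stdO)) sextets 35 840 896 :=
  three_of_classes (stabilizer ↥M24 (setOfMask stdO)) (fun g _ => sextets_inv g) (fun R => sqInv {setOfMask stdO} R) (fun g hg x _ => sq_set (mem_stabilizer_iff.1 hg) x)
    ![toQ octSxRoot0, toQ octSxRoot1, toQ octSxRoot2]
    (fun i => by fin_cases i <;> [
      exact (toQ_sextet octSx0_ok.2.1).1;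
      exact (toQ_sextet octSx1_ok.2.1).1;
      exact (toQ_sextet octSx2_ok.2.1).1])
    ![32, 16, 14] ![35, 840, 896]
    (fun i => by fin_cases i <;> [
      exact (sq_set_std (show stdO < 2 ^ 24 by decide) (toQ_sextet octSx0_ok.2.1).2).trans octSx0_ok.2.2;
      exact (sq_set_std (show stdO < 2 ^ 24 by decide) (toQ_sextet octSx1_ok.2.1).2).trans octSx1_ok.2.2;
      exact (sq_set_std (show stdO < 2 ^ 24 by decide) (toQ_sextet octSx2_ok.2.1).2).trans octSx2_ok.2.2])
    (by decide)
    (fun i => by fin_cases i <;> [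
      exact fam_lower octStGens_in octSx0_ok.1;
      exact fam_lower octStGens_in octSx1_ok.1;
      exact fam_lower octStGens_in octSx2_ok.1])
    (by rw [sextets_ncard]; rfl)

theorem octTr_std : Three (stabilizer ↥M24 (setOfMask stdO)) trios 15 420 3360 :=
  three_of_classes (stabilizer ↥M24 (setOfMask stdO)) (fun g _ => trios_inv g) (fun R => sqInv {setOfMask stdO} R) (fun g hg x _ => sq_set (mem_stabilizer_iff.1 hg) x)
    ![toQ octTrRoot0, toQ octTrRoot1, toQ octTrRoot2]
    (fun i => by fin_cases i <;> [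
      exact (toQ_trio octTr0_ok.2.1).1;
      exact (toQ_trio octTr1_ok.2.1).1;
      exact (toQ_trio octTr2_ok.2.1).1])
    ![64, 32, 24] ![15, 420, 3360]
    (fun i => by fin_cases i <;> [
      exact (sq_set_std (show stdO < 2 ^ 24 by decide) (toQ_trio octTr0_ok.2.1).2).trans octTr0_ok.2.2;
      exact (sq_set_std (show stdO < 2 ^ 24 by decide) (toQ_trio octTr1_ok.2.1).2).trans octTr1_ok.2.2;
      exact (sq_set_std (show stdO < 2 ^ 24 by decide) (toQ_trio octTr2_ok.2.1).2).trans octTr2_ok.2.2])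
    (by decide)
    (fun i => by fin_cases i <;> [
      exact fam_lower octStGens_in octTr0_ok.1;
      exact fam_lower octStGens_in octTr1_ok.1;
      exact fam_lower octStGens_in octTr2_ok.1])
    (by rw [trios_ncard]; rfl)

theorem sxOct_std : Three (stabilizer ↥M24 (toQ sextetRoot)) octads 15 360 384 :=
  three_of_classes (stabilizer ↥M24 (toQ sextetRoot)) (fun g _ => octads_inv g) (fun o => sqInv (toQ sextetRoot) {o}) (fun g hg x _ => sq_fam_set (mem_stabilizer_iff.1 hg) x)
    ![setOfMask (sxOctRoot0.headD 0), setOfMask (sxOctRoot1.headD 0), setOfMask (sxOctRoot2.headD 0)]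
    (fun i => by fin_cases i <;> [
      exact mask_mem_octads sxOct0_ok.2.1 sxOct0_ok.2.2.1;
      exact mask_mem_octads sxOct1_ok.2.1 sxOct1_ok.2.2.1;
      exact mask_mem_octads sxOct2_ok.2.1 sxOct2_ok.2.2.1])
    ![32, 16, 14] ![15, 360, 384]
    (fun i => by fin_cases i <;> [
      exact (sq_fam_oct (inCode_lt sxOct0_ok.2.1) (toQ_sextet sextetRoot_ok.1).2).trans sxOct0_ok.2.2.2;
      exact (sq_fam_oct (inCode_lt sxOct1_ok.2.1) (toQ_sextet sextetRoot_ok.1).2).trans sxOct1_ok.2.2.2;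
      exact (sq_fam_oct (inCode_lt sxOct2_ok.2.1) (toQ_sextet sextetRoot_ok.1).2).trans sxOct2_ok.2.2.2])
    (by decide)
    (fun i => by fin_cases i <;> [
      exact mask_lower sextetGens_in sxOct0_ok.1;
      exact mask_lower sextetGens_in sxOct1_ok.1;
      exact mask_lower sextetGens_in sxOct2_ok.1])
    (by rw [octads_ncard]; rfl)

theorem sxTr_std : Four (stabilizer ↥M24 (toQ sextetRoot)) trios 15 180 720 2880 :=
  four_of_classes (stabilizer ↥M24 (toQ sextetRoot)) (fun g _ => trios_inv g) (sqInv (toQ sextetRoot)) (fun g hg x _ => sq_fam (mem_stabilizer_iff.1 hg) x)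
    ![toQ sxTrRoot0, toQ sxTrRoot1, toQ sxTrRoot2, toQ sxTrRoot3]
    (fun i => by fin_cases i <;> [
      exact (toQ_trio sxTr0_ok.2.1).1;
      exact (toQ_trio sxTr1_ok.2.1).1;
      exact (toQ_trio sxTr2_ok.2.1).1;
      exact (toQ_trio sxTr3_ok.2.1).1])
    ![96, 64, 48, 44] ![15, 180, 720, 2880]
    (fun i => by fin_cases i <;> [
      exact (sqInv_toQ (toQ_sextet sextetRoot_ok.1).2 (toQ_trio sxTr0_ok.2.1).2).trans sxTr0_ok.2.2;
      exact (sqInv_toQ (toQ_sextet sextetRoot_ok.1).2 (toQ_trio sxTr1_ok.2.1).2).trans sxTr1_ok.2.2;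
      exact (sqInv_toQ (toQ_sextet sextetRoot_ok.1).2 (toQ_trio sxTr2_ok.2.1).2).trans sxTr2_ok.2.2;
      exact (sqInv_toQ (toQ_sextet sextetRoot_ok.1).2 (toQ_trio sxTr3_ok.2.1).2).trans sxTr3_ok.2.2])
    (by decide)
    (fun i => by fin_cases i <;> [
      exact fam_lower sextetGens_in sxTr0_ok.1;
      exact fam_lower sextetGens_in sxTr1_ok.1;
      exact fam_lower sextetGens_in sxTr2_ok.1;
      exact fam_lower sextetGens_in sxTr3_ok.1])
    (by rw [trios_ncard]; rfl)

theorem trOct_std : Three (stabilizer ↥M24 (toQ trioRoot)) octads 3 84 672 :=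
  three_of_classes (stabilizer ↥M24 (toQ trioRoot)) (fun g _ => octads_inv g) (fun o => sqInv (toQ trioRoot) {o}) (fun g hg x _ => sq_fam_set (mem_stabilizer_iff.1 hg) x)
    ![setOfMask (trOctRoot0.headD 0), setOfMask (trOctRoot1.headD 0), setOfMask (trOctRoot2.headD 0)]
    (fun i => by fin_cases i <;> [
      exact mask_mem_octads trOct0_ok.2.1 trOct0_ok.2.2.1;
      exact mask_mem_octads trOct1_ok.2.1 trOct1_ok.2.2.1;
      exact mask_mem_octads trOct2_ok.2.1 trOct2_ok.2.2.1])
    ![64, 32, 24] ![3, 84, 672]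
    (fun i => by fin_cases i <;> [
      exact (sq_fam_oct (inCode_lt trOct0_ok.2.1) (toQ_trio trioRoot_ok.1).2).trans trOct0_ok.2.2.2;
      exact (sq_fam_oct (inCode_lt trOct1_ok.2.1) (toQ_trio trioRoot_ok.1).2).trans trOct1_ok.2.2.2;
      exact (sq_fam_oct (inCode_lt trOct2_ok.2.1) (toQ_trio trioRoot_ok.1).2).trans trOct2_ok.2.2.2])
    (by decide)
    (fun i => by fin_cases i <;> [
      exact mask_lower trioGens_in trOct0_ok.1;
      exact mask_lower trioGens_in trOct1_ok.1;
      exact mask_lower trioGens_in trOct2_ok.1])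
    (by rw [octads_ncard]; rfl)

theorem trSx_std : Four (stabilizer ↥M24 (toQ trioRoot)) sextets 7 84 336 1344 :=
  four_of_classes (stabilizer ↥M24 (toQ trioRoot)) (fun g _ => sextets_inv g) (sqInv (toQ trioRoot)) (fun g hg x _ => sq_fam (mem_stabilizer_iff.1 hg) x)
    ![toQ trSxRoot0, toQ trSxRoot1, toQ trSxRoot2, toQ trSxRoot3]
    (fun i => by fin_cases i <;> [
      exact (toQ_sextet trSx0_ok.2.1).1;
      exact (toQ_sextet trSx1_ok.2.1).1;
      exact (toQ_sextet trSx2_ok.2.1).1;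
      exact (toQ_sextet trSx3_ok.2.1).1])
    ![96, 64, 48, 44] ![7, 84, 336, 1344]
    (fun i => by fin_cases i <;> [
      exact (sqInv_toQ (toQ_trio trioRoot_ok.1).2 (toQ_sextet trSx0_ok.2.1).2).trans trSx0_ok.2.2;
      exact (sqInv_toQ (toQ_trio trioRoot_ok.1).2 (toQ_sextet trSx1_ok.2.1).2).trans trSx1_ok.2.2;
      exact (sqInv_toQ (toQ_trio trioRoot_ok.1).2 (toQ_sextet trSx2_ok.2.1).2).trans trSx2_ok.2.2;
      exact (sqInv_toQ (toQ_trio trioRoot_ok.1).2 (toQ_sextet trSx3_ok.2.1).2).trans trSx3_ok.2.2])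
    (by decide)
    (fun i => by fin_cases i <;> [
      exact fam_lower trioGens_in trSx0_ok.1;
      exact fam_lower trioGens_in trSx1_ok.1;
      exact fam_lower trioGens_in trSx2_ok.1;
      exact fam_lower trioGens_in trSx3_ok.1])
    (by rw [sextets_ncard]; rfl)

theorem duum_std : Three (stabilizer ↥M24 (toQ [stdD, 16777215 ^^^ stdD])) sextets 396 495 880 :=
  three_of_classes (stabilizer ↥M24 (toQ [stdD, 16777215 ^^^ stdD])) (fun g _ => sextets_inv g) (sqInv (toQ [stdD, 16777215 ^^^ stdD])) (fun g hg x _ => sq_fam (mem_stabilizer_iff.1 hg) x)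
    ![toQ duumRoot0, toQ duumRoot1, toQ duumRoot2]
    (fun i => by fin_cases i <;> [
      exact (toQ_sextet duum0_ok.2.1).1;
      exact (toQ_sextet duum1_ok.2.1).1;
      exact (toQ_sextet duum2_ok.2.1).1])
    ![48, 64, 60] ![396, 495, 880]
    (fun i => by fin_cases i <;> [
      exact (sqInv_toQ duum_lt (toQ_sextet duum0_ok.2.1).2).trans duum0_ok.2.2;
      exact (sqInv_toQ duum_lt (toQ_sextet duum1_ok.2.1).2).trans duum1_ok.2.2;
      exact (sqInv_toQ duum_lt (toQ_sextet duum2_ok.2.1).2).trans duum2_ok.2.2])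
    (by decide)
    (fun i => by fin_cases i <;> [
      exact fam_lower duumGens_in duum0_ok.1;
      exact fam_lower duumGens_in duum1_ok.1;
      exact fam_lower duumGens_in duum2_ok.1])
    (by rw [sextets_ncard]; rfl)

theorem oct_orbits {o : Finset GolayPt} (ho : o ∈ octads) :
    Three (stabilizer ↥M24 o) trios 15 420 3360 ∧ Three (stabilizer ↥M24 o) sextets 35 840 896 := by
  obtain ⟨t, rfl⟩ := exists_smul_stdO ho
  exact ⟨octTr_std.smul trios_inv t, octSx_std.smul sextets_inv t⟩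

theorem sextet_orbits_on {S : Finset (Finset GolayPt)} (hS : S ∈ sextets) :
    Three (stabilizer ↥M24 S) octads 15 360 384 ∧ Four (stabilizer ↥M24 S) trios 15 180 720 2880 := by
  obtain ⟨t, rfl⟩ := exists_smul_sextet (toQ_sextet sextetRoot_ok.1).1 hS
  exact ⟨sxOct_std.smul octads_inv t, sxTr_std.smul trios_inv t⟩

theorem trio_orbits_on {T : Finset (Finset GolayPt)} (hT : T ∈ trios) :
    Three (stabilizer ↥M24 T) octads 3 84 672 ∧ Four (stabilizer ↥M24 T) sextets 7 84 336 1344 := by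
  obtain ⟨t, rfl⟩ := exists_smul_trio (toQ_trio trioRoot_ok.1).1 hT
  exact ⟨trOct_std.smul octads_inv t, trSx_std.smul sextets_inv t⟩

theorem smul_compl_set (g : ↥M24) (s : Finset GolayPt) : g • (Finset.univ \ s) = Finset.univ \ g • s := by
  rw [← Finset.compl_eq_univ_sdiff, ← Finset.compl_eq_univ_sdiff]; exact smul_compl' g s

theorem duum_orbits {d : Finset GolayPt} (hd : d ∈ dodecads) :
    Three (stabilizer ↥M24 ({d, Finset.univ \ d} : Finset (Finset GolayPt))) sextets 396 495 880 := by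
  obtain ⟨t, rfl⟩ := exists_smul_stdD hd
  have h := duum_std.smul sextets_inv t
  have e : t • toQ [stdD, 16777215 ^^^ stdD] =
      ({t • setOfMask stdD, Finset.univ \ t • setOfMask stdD} : Finset (Finset GolayPt)) := by
    have h2 : setOfMask (16777215 ^^^ stdD) = Finset.univ \ setOfMask stdD := by
      rw [← Finset.compl_eq_univ_sdiff, ← setOfMask_maskOf (setOfMask stdD)ᶜ, maskOf_compl,
        maskOf_setOfMask (by decide)]
    simp [toQ, h2, Finset.smul_finset_insert, smul_compl_set]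
  rwa [e] at h

end CfsgLib.ThreeTrans.M24Orb
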