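import Cfsg.Agent.Lib.ThreeTrans.M24Classes
import Cfsg.Agent.Lib.ThreeTrans.M24OrbitThms

/-!
The numbers of octads, dodecads, trios and sextets fixed by elements of orders 2 and 3.
-/

set_option autoImplicit false
set_option maxRecDepth 100000

namespace CfsgLib.ThreeTrans.M24Cls

open Cfsg CfsgLib.Sporadic MulAction M24Inv M24Orb
open scoped Pointwise

/-- All trios, as lists of masks. -/
noncomputable def trioList : List (List ℕ) :=
  walk (stepQ octStGens) octTrOps0 octTrRoot0 ++ walk (stepQ octStGens) octTrOps1 octTrRoot1 ++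
    walk (stepQ octStGens) octTrOps2 octTrRoot2

/-- All sextets, as lists of masks. -/
noncomputable def sextetList : List (List ℕ) :=
  walk (stepQ octStGens) octSxOps0 octSxRoot0 ++ walk (stepQ octStGens) octSxOps1 octSxRoot1 ++
    walk (stepQ octStGens) octSxOps2 octSxRoot2

theorem trioList_ok : trioList.length = 3795 ∧ trioList.all (fun w => distinctList w) = true ∧
    distinctBuckets (trioList.map famCode) = true := by decide +kernel

theorem sextetList_ok : sextetList.length = 1771 ∧ sextetList.all (fun w => distinctList w) = true ∧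
    distinctBuckets (sextetList.map famCode) = true := by decide +kernel

theorem walk_mem_family {F : Set (Finset (Finset GolayPt))}
    (hF : ∀ (g : ↥M24), ∀ x ∈ F, g • x ∈ F) {root ops : List ℕ} (hlt : ∀ v ∈ root, v < 2 ^ 24)
    (h : toQ root ∈ F) {w : List ℕ} (hw : w ∈ walk (stepQ octStGens) ops root) :
    toQ w ∈ F ∧ ∀ v ∈ w, v < 2 ^ 24 := by
  obtain ⟨hl, g, -, e⟩ := walk_quartet octStGens_in ops root hlt w hw
  exact ⟨e ▸ hF g _ h, hl⟩

theorem trioList_mem {w : List ℕ} (hw : w ∈ trioList) : toQ w ∈ trios ∧ ∀ v ∈ w, v < 2 ^ 24 := by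
  simp only [trioList, List.mem_append, or_assoc] at hw
  rcases hw with h | h | h
  · exact walk_mem_family trios_inv (toQ_trio octTr0_ok.2.1).2 (toQ_trio octTr0_ok.2.1).1 h
  · exact walk_mem_family trios_inv (toQ_trio octTr1_ok.2.1).2 (toQ_trio octTr1_ok.2.1).1 h
  · exact walk_mem_family trios_inv (toQ_trio octTr2_ok.2.1).2 (toQ_trio octTr2_ok.2.1).1 h

theorem sextetList_mem {w : List ℕ} (hw : w ∈ sextetList) : toQ w ∈ sextets ∧ ∀ v ∈ w, v < 2 ^ 24 := by
  simp only [sextetList, List.mem_append, or_assoc] at hw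
  rcases hw with h | h | h
  · exact walk_mem_family sextets_inv (toQ_sextet octSx0_ok.2.1).2 (toQ_sextet octSx0_ok.2.1).1 h
  · exact walk_mem_family sextets_inv (toQ_sextet octSx1_ok.2.1).2 (toQ_sextet octSx1_ok.2.1).1 h
  · exact walk_mem_family sextets_inv (toQ_sextet octSx2_ok.2.1).2 (toQ_sextet octSx2_ok.2.1).1 h

/-- A complete list of a family. -/
structure Lists (F : Set (Finset (Finset GolayPt))) (L : List (List ℕ)) : Prop where
  mem : ∀ w ∈ L, toQ w ∈ F ∧ ∀ v ∈ w, v < 2 ^ 24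
  nodup : (L.map toQ).Nodup
  all : ∀ S ∈ F, S ∈ L.map toQ

theorem lists_of {F : Set (Finset (Finset GolayPt))} {L : List (List ℕ)} {N : ℕ}
    (hmem : ∀ w ∈ L, toQ w ∈ F ∧ ∀ v ∈ w, v < 2 ^ 24)
    (h : L.length = N ∧ L.all (fun w => distinctList w) = true ∧ distinctBuckets (L.map famCode) = true)
    (hN : F.ncard = N) : Lists F L := by
  obtain ⟨h1, h2, h3⟩ := h
  have hn : (L.map toQ).Nodup := by
    have e : (L.map toQ).map famCode' = L.map famCode := by
      rw [List.map_map]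
      exact List.map_congr_left fun w hw =>
        famCode_spec (nodup_of_distinctList (List.all_eq_true.1 h2 w hw)) (hmem w hw).2
    exact List.Nodup.of_map famCode' (e ▸ nodup_of_buckets h3)
  refine ⟨hmem, hn, fun S hS => ?_⟩
  have : F = ↑(L.map toQ).toFinset := by
    refine (Set.eq_of_subset_of_ncard_le (fun S hS => ?_) ?_ (Set.toFinite _)).symm
    · rw [Finset.mem_coe, List.mem_toFinset, List.mem_map] at hS
      obtain ⟨w, hw, rfl⟩ := hS
      exact (hmem w hw).1
    · rw [Set.ncard_coe_finset, List.toFinset_card_of_nodup hn, List.length_map, h1, hN]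
  rw [this, Finset.mem_coe, List.mem_toFinset] at hS
  exact hS

theorem trios_lists : Lists trios trioList := lists_of (fun _ h => trioList_mem h) trioList_ok trios_ncard

theorem sextets_lists : Lists sextets sextetList :=
  lists_of (fun _ h => sextetList_mem h) sextetList_ok sextets_ncard

/-- A family is mapped to itself. -/
noncomputable def fixesFam (p : ℕ) (w : List ℕ) : Bool := w.all fun v => hasM w (mimg p v)

theorem fixesFam_iff {σ : Equiv.Perm GolayPt} {p : ℕ} (h : Rep σ p) {w : List ℕ}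
    (hw : ∀ v ∈ w, v < 2 ^ 24) : fixesFam p w = true ↔ σ • toQ w = toQ w := by
  simp only [fixesFam, List.all_eq_true, hasM_iff]
  constructor
  · intro hall
    refine Finset.eq_of_subset_of_card_le ?_ (by rw [Finset.card_smul_finset])
    intro s hs
    obtain ⟨a, ha, rfl⟩ := Finset.mem_smul_finset.1 hs
    rw [mem_toQ hw] at ha
    rw [← setOfMask_maskOf a, smul_setOfMask h]
    exact Finset.mem_image_of_mem _ (List.mem_toFinset.2 (hall _ ha))
  · intro e v hv
    have : σ • setOfMask v ∈ toQ w := by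
      rw [← e]
      exact Finset.smul_mem_smul_finset (a := σ) (Finset.mem_image_of_mem _ (List.mem_toFinset.2 hv))
    rwa [mem_toQ hw, maskOf_smul h, maskOf_setOfMask (hw v hv)] at this

theorem ncard_fixed {F : Set (Finset (Finset GolayPt))} {L : List (List ℕ)} (hL : Lists F L)
    {σ : Equiv.Perm GolayPt} {p : ℕ} (h : Rep σ p) :
    {T | T ∈ F ∧ σ • T = T}.ncard = (L.filter (fixesFam p)).length := by
  have e : {T | T ∈ F ∧ σ • T = T} = ↑((L.filter (fixesFam p)).map toQ).toFinset := by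
    ext T
    simp only [Set.mem_ofPred_eq, Finset.mem_coe, List.mem_toFinset, List.mem_map, List.mem_filter]
    constructor
    · rintro ⟨hT, hfix⟩
      obtain ⟨w, hw, rfl⟩ := List.mem_map.1 (hL.all T hT)
      exact ⟨w, ⟨hw, (fixesFam_iff h (hL.mem w hw).2).2 hfix⟩, rfl⟩
    · rintro ⟨w, ⟨hw, hfix⟩, rfl⟩
      exact ⟨(hL.mem w hw).1, (fixesFam_iff h (hL.mem w hw).2).1 hfix⟩
  rw [e, Set.ncard_coe_finset, List.toFinset_card_of_nodup, List.length_map]
  exact List.Nodup.sublist (List.filter_sublist.map _) hL.nodup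

theorem ncard_fixed_words {w : ℕ} {σ : Equiv.Perm GolayPt} {p : ℕ} (h : Rep σ p) :
    {o : Finset GolayPt | o ∈ wordsOfWeight (golayCode : Set (GolayPt → ZMod 2)) w ∧ σ • o = o}.ncard =
      countList (codeList w) (fun m => Nat.beq (mimg p m) m) := by
  refine ncard_eq_countList w _ fun s => ?_
  rw [Set.mem_ofPred_eq, Nat.beq_eq, ← maskOf_smul h, maskOf_injective.eq_iff]

/-- Counting fixed points after conjugation. -/
theorem ncard_conj {α : Type*} [MulAction (Equiv.Perm GolayPt) α] {P : α → Prop}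
    {q r : Equiv.Perm GolayPt} (hP : ∀ x, P (q • x) ↔ P x) :
    {x | P x ∧ (q * r * q⁻¹) • x = x}.ncard = {x | P x ∧ r • x = x}.ncard := by
  refine (ncard_smul_congr q (P := fun x => P x ∧ r • x = x)
    (Q := fun x => P x ∧ (q * r * q⁻¹) • x = x) fun x => ?_).symm
  rw [hP, mul_smul, mul_smul, inv_smul_smul, smul_left_cancel_iff]

theorem trios_conj {q : Equiv.Perm GolayPt} (hq : q ∈ M24) (x : Finset (Finset GolayPt)) :
    q • x ∈ trios ↔ x ∈ trios :=
  ⟨fun h => by
    have := trios_inv (⟨q, hq⟩⁻¹ : ↥M24) _ h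
    rwa [show q • x = (⟨q, hq⟩ : ↥M24) • x from rfl, inv_smul_smul] at this,
    trios_inv ⟨q, hq⟩ x⟩

theorem sextets_conj {q : Equiv.Perm GolayPt} (hq : q ∈ M24) (x : Finset (Finset GolayPt)) :
    q • x ∈ sextets ↔ x ∈ sextets :=
  ⟨fun h => by
    have := sextets_inv (⟨q, hq⟩⁻¹ : ↥M24) _ h
    rwa [show q • x = (⟨q, hq⟩ : ↥M24) • x from rfl, inv_smul_smul] at this,
    sextets_inv ⟨q, hq⟩ x⟩

theorem fixed_counts :
    countList (codeList 8) (fun m => Nat.beq (mimg rep6 m) m) = 21 ∧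
    (trioList.filter (fixesFam rep6)).length = 15 ∧ (sextetList.filter (fixesFam rep6)).length = 16 ∧
    countList (codeList 12) (fun m => Nat.beq (mimg rep6 m) m) = 20 ∧
    (sextetList.filter (fixesFam rep0)).length = 7 ∧ (trioList.filter (fixesFam rep0)).length = 15 ∧
    countList (codeList 8) (fun m => Nat.beq (mimg repEight m) m) = 71 ∧
    (trioList.filter (fixesFam repEight)).length = 99 ∧
    (sextetList.filter (fixesFam repEight)).length = 91 ∧
    countList (codeList 8) (fun m => Nat.beq (mimg repZero m) m) = 15 ∧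
    (trioList.filter (fixesFam repZero)).length = 75 ∧
    (sextetList.filter (fixesFam repZero)).length = 51 ∧
    popc (fixMask rep6) = 6 ∧ popc (fixMask rep0) = 0 ∧ popc (fixMask repEight) = 8 ∧
    popc (fixMask repZero) = 0 := by
  decide +kernel

theorem three_six {g : Equiv.Perm GolayPt} (hg : g ∈ M24) (h₃ : orderOf g = 3)
    (h₆ : (Finset.univ.filter fun p => g p = p).card = 6) :
    {o : Finset GolayPt | o ∈ octads ∧ g • o = o}.ncard = 21 ∧
    {T : Finset (Finset GolayPt) | T ∈ trios ∧ g • T = T}.ncard = 15 ∧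
    {S : Finset (Finset GolayPt) | S ∈ sextets ∧ g • S = S}.ncard = 16 ∧
    {d : Finset GolayPt | d ∈ dodecads ∧ g • d = d}.ncard = 20 := by
  obtain ⟨q, hq, r, hr, rfl⟩ := conj_three hg h₃
  obtain ⟨c1, c2, c3, c4, -, -, -, -, -, -, -, -, f6, f0, -, -⟩ := fixed_counts
  rcases hr with hr | hr
  · refine ⟨?_, ?_, ?_, ?_⟩
    · rw [ncard_conj (fun x => smul_mem_octads hq)]; exact (ncard_fixed_words hr).trans c1
    · rw [ncard_conj (trios_conj hq)]; exact (ncard_fixed trios_lists hr).trans c2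
    · rw [ncard_conj (sextets_conj hq)]; exact (ncard_fixed sextets_lists hr).trans c3
    · rw [ncard_conj (fun x => smul_mem_dodecads hq)]; exact (ncard_fixed_words hr).trans c4
  · rw [fix_of_rep hr, f0] at h₆; omega

theorem three_free {g : Equiv.Perm GolayPt} (hg : g ∈ M24) (h₃ : orderOf g = 3) (h₀ : ∀ p, g p ≠ p) :
    {S : Finset (Finset GolayPt) | S ∈ sextets ∧ g • S = S}.ncard = 7 ∧
    {T : Finset (Finset GolayPt) | T ∈ trios ∧ g • T = T}.ncard = 15 := by
  obtain ⟨q, hq, r, hr, rfl⟩ := conj_three hg h₃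
  obtain ⟨-, -, -, -, c5, c6, -, -, -, -, -, -, f6, -, -, -⟩ := fixed_counts
  rcases hr with hr | hr
  · have h := fix_of_rep (q := q) hr
    rw [f6, Finset.filter_eq_empty_iff.2 fun p _ => h₀ p] at h
    simp at h
  · refine ⟨?_, ?_⟩
    · rw [ncard_conj (sextets_conj hq)]; exact (ncard_fixed sextets_lists hr).trans c5
    · rw [ncard_conj (trios_conj hq)]; exact (ncard_fixed trios_lists hr).trans c6

theorem two_eight {g : Equiv.Perm GolayPt} (hg : g ∈ M24) (h₂ : orderOf g = 2)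
    (h₈ : (Finset.univ.filter fun p => g p = p).card = 8) :
    {o : Finset GolayPt | o ∈ octads ∧ g • o = o}.ncard = 71 ∧
    {T : Finset (Finset GolayPt) | T ∈ trios ∧ g • T = T}.ncard = 99 ∧
    {S : Finset (Finset GolayPt) | S ∈ sextets ∧ g • S = S}.ncard = 91 := by
  obtain ⟨q, hq, r, hr, rfl⟩ := conj_rep hg h₂
  obtain ⟨-, -, -, -, -, -, c1, c2, c3, -, -, -, -, -, f8, f0⟩ := fixed_counts
  rcases hr with hr | hr
  · refine ⟨?_, ?_, ?_⟩
    · rw [ncard_conj (fun x => smul_mem_octads hq)]; exact (ncard_fixed_words hr).trans c1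
    · rw [ncard_conj (trios_conj hq)]; exact (ncard_fixed trios_lists hr).trans c2
    · rw [ncard_conj (sextets_conj hq)]; exact (ncard_fixed sextets_lists hr).trans c3
  · rw [fix_of_rep hr, f0] at h₈; omega

theorem two_free {g : Equiv.Perm GolayPt} (hg : g ∈ M24) (h₂ : orderOf g = 2) (h₀ : ∀ p, g p ≠ p) :
    {o : Finset GolayPt | o ∈ octads ∧ g • o = o}.ncard = 15 ∧
    {T : Finset (Finset GolayPt) | T ∈ trios ∧ g • T = T}.ncard = 75 ∧
    {S : Finset (Finset GolayPt) | S ∈ sextets ∧ g • S = S}.ncard = 51 := by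
  obtain ⟨q, hq, r, hr, rfl⟩ := conj_rep hg h₂
  obtain ⟨-, -, -, -, -, -, -, -, -, c1, c2, c3, -, -, f8, -⟩ := fixed_counts
  rcases hr with hr | hr
  · have h := fix_of_rep (q := q) hr
    rw [f8, Finset.filter_eq_empty_iff.2 fun p _ => h₀ p] at h
    simp at h
  · refine ⟨?_, ?_, ?_⟩
    · rw [ncard_conj (fun x => smul_mem_octads hq)]; exact (ncard_fixed_words hr).trans c1
    · rw [ncard_conj (trios_conj hq)]; exact (ncard_fixed trios_lists hr).trans c2
    · rw [ncard_conj (sextets_conj hq)]; exact (ncard_fixed sextets_lists hr).trans c3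

theorem fixed_set_zpowers {G : Type*} [Group G] {β : Type*} [MulAction G β] (g : G) :
    {p : β | ∀ x ∈ Subgroup.zpowers g, x • p = p} = {p | g • p = p} := by
  ext p
  refine ⟨fun h => h g (Subgroup.mem_zpowers g), fun h x hx => ?_⟩
  exact (Subgroup.zpowers_le.2 (show g ∈ stabilizer G p from h) hx : x ∈ stabilizer G p)

theorem ncard_fixed_points (g : ↥M24) :
    {p : GolayPt | g • p = p}.ncard = (Finset.univ.filter fun p => (g : Equiv.Perm GolayPt) p = p).card := by
  rw [← Set.ncard_coe_finset]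
  congr 1
  ext p
  rw [Finset.coe_filter]
  exact ⟨fun h => ⟨Finset.mem_univ _, h⟩, fun h => h.2⟩

theorem two_classes_three :
    (∀ X : Subgroup ↥M24, Nat.card X = 3 →
      {p : GolayPt | ∀ x ∈ X, ((x : ↥M24) : Equiv.Perm GolayPt) p = p}.ncard = 6 ∨
      {p : GolayPt | ∀ x ∈ X, ((x : ↥M24) : Equiv.Perm GolayPt) p = p}.ncard = 0) ∧
    (∃ X : Subgroup ↥M24, Nat.card X = 3 ∧
      {p : GolayPt | ∀ x ∈ X, ((x : ↥M24) : Equiv.Perm GolayPt) p = p}.ncard = 6) ∧
    (∃ X : Subgroup ↥M24, Nat.card X = 3 ∧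
      {p : GolayPt | ∀ x ∈ X, ((x : ↥M24) : Equiv.Perm GolayPt) p = p}.ncard = 0) ∧
    ∀ X Y : Subgroup ↥M24, Nat.card X = 3 → Nat.card Y = 3 →
      {p : GolayPt | ∀ x ∈ X, ((x : ↥M24) : Equiv.Perm GolayPt) p = p}.ncard =
      {p : GolayPt | ∀ x ∈ Y, ((x : ↥M24) : Equiv.Perm GolayPt) p = p}.ncard →
      ∃ k : ↥M24, MulAut.conj k • X = Y := by
  haveI : Fact (Nat.Prime 3) := ⟨Nat.prime_three⟩
  obtain ⟨-, -, -, -, -, -, -, -, -, -, -, -, f6, f0, -, -⟩ := fixed_counts
  obtain ⟨-, a6, a0, -, -, -, -, -, -, -, -, -, -, -, -, -, p6, -, p0, n0, -, n6, -⟩ := data_ok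
  obtain ⟨R6, hR6, hr6⟩ := exists_mem_M24 a6
  obtain ⟨R0, hR0, hr0⟩ := exists_mem_M24 a0
  let A : ↥M24 := ⟨R6, hR6⟩
  let B : ↥M24 := ⟨R0, hR0⟩
  have oA : orderOf A = 3 := (orderOf_injective M24.subtype Subtype.val_injective A).symm.trans
    (order_of_rep hr6 p6 n6)
  have oB : orderOf B = 3 := (orderOf_injective M24.subtype Subtype.val_injective B).symm.trans
    (order_of_rep hr0 p0 n0)
  have hA : {p : GolayPt | A • p = p}.ncard = 6 := by
    rw [ncard_fixed_points, M24Inv.fix_eq hr6, card_setOfMask, f6]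
  have hB : {p : GolayPt | B • p = p}.ncard = 0 := by
    rw [ncard_fixed_points, M24Inv.fix_eq hr0, card_setOfMask, f0]
  have key : ∀ X : Subgroup ↥M24, Nat.card X = 3 →
      ∃ q : ↥M24, ∃ C, (C = A ∧ {p : GolayPt | ∀ x ∈ X, x • p = p}.ncard = 6 ∨
        C = B ∧ {p : GolayPt | ∀ x ∈ X, x • p = p}.ncard = 0) ∧ X = Subgroup.zpowers (q * C * q⁻¹) := by
    intro X hX
    obtain ⟨g, hg⟩ := exists_prime_orderOf_dvd_card' (G := ↥X) 3 (by rw [hX])
    have hgo : orderOf (g : ↥M24) = 3 := (orderOf_injective X.subtype Subtype.val_injective g).trans hg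
    have hX' : X = Subgroup.zpowers (g : ↥M24) :=
      (Subgroup.eq_of_le_of_card_ge (Subgroup.zpowers_le.2 g.2)
        (by rw [Nat.card_zpowers, hgo, hX])).symm
    obtain ⟨q, hq, r, hr, e⟩ := conj_three (g : ↥M24).2
      ((orderOf_injective M24.subtype Subtype.val_injective (g : ↥M24)).trans hgo)
    have hfix : {p : GolayPt | ∀ x ∈ X, x • p = p}.ncard =
        (Finset.univ.filter fun p => (q * r * q⁻¹) p = p).card := by
      rw [hX', fixed_set_zpowers, ncard_fixed_points, e]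
    rcases hr with hr | hr
    · obtain rfl := hr.unique hr6
      refine ⟨⟨q, hq⟩, A, Or.inl ⟨rfl, ?_⟩, ?_⟩
      · rw [hfix, fix_of_rep hr6, f6]
      · rw [hX']; congr 1; exact Subtype.ext e.symm
    · obtain rfl := hr.unique hr0
      refine ⟨⟨q, hq⟩, B, Or.inr ⟨rfl, ?_⟩, ?_⟩
      · rw [hfix, fix_of_rep hr0, f0]
      · rw [hX']; congr 1; exact Subtype.ext e.symm
  refine ⟨fun X hX => ?_, ⟨Subgroup.zpowers A, by rw [Nat.card_zpowers, oA], ?_⟩,
    ⟨Subgroup.zpowers B, by rw [Nat.card_zpowers, oB], ?_⟩, fun X Y hX hY heq => ?_⟩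
  · obtain ⟨q, C, h | h, -⟩ := key X hX
    · exact Or.inl h.2
    · exact Or.inr h.2
  · show {p : GolayPt | ∀ x ∈ Subgroup.zpowers A, x • p = p}.ncard = 6
    rw [fixed_set_zpowers, hA]
  · show {p : GolayPt | ∀ x ∈ Subgroup.zpowers B, x • p = p}.ncard = 0
    rw [fixed_set_zpowers, hB]
  · change {p : GolayPt | ∀ x ∈ X, x • p = p}.ncard = {p : GolayPt | ∀ x ∈ Y, x • p = p}.ncard at heq
    obtain ⟨q, C, hC, hXe⟩ := key X hX
    obtain ⟨q', C', hC', hYe⟩ := key Y hY
    have : C = C' := by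
      rcases hC with ⟨rfl, h⟩ | ⟨rfl, h⟩ <;> rcases hC' with ⟨rfl, h'⟩ | ⟨rfl, h'⟩ <;>
        first | rfl | omega
    subst this
    refine ⟨q' * q⁻¹, ?_⟩
    rw [hXe, hYe]
    show Subgroup.map (MulDistribMulAction.toMonoidEnd (MulAut ↥M24) ↥M24 (MulAut.conj (q' * q⁻¹))) _ = _
    erw [MonoidHom.map_zpowers]
    congr 1
    show (q' * q⁻¹) * (q * C * q⁻¹) * (q' * q⁻¹)⁻¹ = _
    group

end CfsgLib.ThreeTrans.M24Cls
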