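import Cfsg.Agent.Lib.ThreeTrans.LargeSection
import Cfsg.Agent.Lib.Core.Coprime
import Cfsg.Prelude.Def_CaseTheorems

set_option autoImplicit false
set_option linter.unusedSectionVars false

/-!
The centralizer in a large extraspecial 2-group of an odd order subgroup of the involution centralizer
(owner: helper18).
-/

namespace CfsgLib.ThreeTrans.LargeOddSection

open Cfsg CfsgLib.ThreeTrans
open scoped commutatorElement

variable {G : Type*} [Group G] [Finite G] {z : G} {Q A : Subgroup G}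

/-- An element of `Q` moving a fixed non-central element can be chosen to centralize `A`. -/
theorem exists_move_fixed (h : LargeData z Q) (hA : A ≤ Subgroup.centralizer ({z} : Set G))
    (hodd : Odd (Nat.card A)) {a : G} (ha : a ∈ Q) (hac : a ∈ Subgroup.centralizer (A : Set G))
    (haz : a ∉ Subgroup.zpowers z) :
    ∃ q ∈ Q, q ∈ Subgroup.centralizer (A : Set G) ∧ q * a * q⁻¹ = z * a := by
  have : Fact (Nat.Prime 2) := ⟨Nat.prime_two⟩
  obtain ⟨k, hk, hka⟩ := h.exists_move ha haz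
  set N := Q ⊓ Subgroup.centralizer ({a} : Set G) with hN
  have hab : ∀ b ∈ A, Commute b a := fun b hb => (Subgroup.mem_centralizer_iff.1 hac b hb)
  have hbz : ∀ b ∈ A, Commute b z := fun b hb => mem_centralizer_singleton_iff'.1 (hA hb)
  have hAQ : ∀ b ∈ A, ∀ q ∈ Q, b * q * b⁻¹ ∈ Q := fun b hb q hq => h.conj_mem (hbz b hb) hq
  have hAN : A ≤ Subgroup.normalizer (N : Set G) := by
    have key : ∀ b ∈ A, ∀ n ∈ N, b * n * b⁻¹ ∈ N := fun b hb n hn =>
      ⟨hAQ b hb n hn.1, mem_centralizer_singleton_iff'.2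
        (((hab b hb).mul_left (show Commute n a from mem_centralizer_singleton_iff'.1 hn.2)).mul_left
          (hab b hb).inv_left).eq⟩
    intro b hb
    rw [Subgroup.mem_normalizer_iff]
    refine fun n => ⟨key b hb n, fun hn => ?_⟩
    have := key b⁻¹ (inv_mem hb) _ hn
    simpa [mul_assoc] using this
  have hQp := CfsgLib.PGroups.IsExtraspecial.isPGroup h.hE
  have hNp : IsPGroup 2 N := hQp.to_le inf_le_left
  have hcop : (Nat.card A).Coprime (Nat.card N) := by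
    obtain ⟨j, hj⟩ := IsPGroup.iff_card.1 hNp
    rw [hj]
    exact Nat.Coprime.pow_right j ((Nat.coprime_two_right).2 hodd)
  have hsolv : Group.IsSolvable N := by
    have := hNp.isNilpotent
    infer_instance
  obtain ⟨n, hn, hkn⟩ := CfsgLib.Core.exists_centralizing_in_coset hAN hcop (Or.inr hsolv) (k := k)
    fun b hb => by
      refine ⟨Q.mul_mem (Q.inv_mem hk) (hAQ b hb k hk), mem_centralizer_singleton_iff'.2 ?_⟩
      apply mul_inv_eq_iff_eq_mul.1
      calc k⁻¹ * (b * k * b⁻¹) * a * (k⁻¹ * (b * k * b⁻¹))⁻¹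
          = k⁻¹ * (b * (k * (b⁻¹ * a * b⁻¹⁻¹) * k⁻¹) * b⁻¹) * k := by group
        _ = k⁻¹ * (b * (z * a) * b⁻¹) * k := by
          rw [(hab b hb).inv_left.eq, mul_inv_cancel_right, hka]
        _ = k⁻¹ * (z * a) * k := by rw [((hbz b hb).mul_right (hab b hb)).eq, mul_inv_cancel_right]
        _ = a := by rw [← hka]; group
  refine ⟨k * n, Q.mul_mem hk hn.1, hkn, ?_⟩
  calc k * n * a * (k * n)⁻¹ = k * (n * a * n⁻¹) * k⁻¹ := by group
    _ = z * a := by rw [mem_centralizer_singleton_iff'.1 hn.2, mul_inv_cancel_right, hka]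

/-- Two 2-elements centralizing the odd group `A` and congruent modulo `A` are equal. -/
theorem eq_of_two_elements (hodd : Odd (Nat.card A)) {S T : Subgroup G} (hS : IsPGroup 2 S)
    (hT : IsPGroup 2 T) {u v : G} (hu : u ∈ S) (hv : v ∈ T)
    (huA : u ∈ Subgroup.centralizer (A : Set G)) (huv : u⁻¹ * v ∈ A) : u = v := by
  obtain ⟨k, hk⟩ := hS ⟨u, hu⟩
  obtain ⟨l, hl⟩ := hT ⟨v, hv⟩
  have hk' : u ^ 2 ^ k = 1 := congrArg Subtype.val hk
  have hl' : v ^ 2 ^ l = 1 := congrArg Subtype.val hl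
  have hc : Commute u (u⁻¹ * v) := (Subgroup.mem_centralizer_iff.1 huA _ huv).symm
  have h1 : (u⁻¹ * v) ^ 2 ^ (k + l) = 1 := by
    have h2 : (u * (u⁻¹ * v)) ^ 2 ^ (k + l) = 1 := by
      rw [mul_inv_cancel_left, pow_add, mul_comm (2 ^ k), pow_mul, hl', one_pow]
    rwa [hc.mul_pow, pow_add, pow_mul, hk', one_pow, one_mul, ← pow_add] at h2
  have h3 : orderOf (u⁻¹ * v) ∣ 2 ^ (k + l) := orderOf_dvd_of_pow_eq_one h1
  have h4 : Nat.Coprime (orderOf (u⁻¹ * v)) (2 ^ (k + l)) :=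
    Nat.Coprime.pow_right _ ((Nat.coprime_two_right).2
      (hodd.of_dvd_nat (Subgroup.orderOf_dvd_natCard A huv)))
  exact inv_mul_eq_one.1 (orderOf_eq_one_iff.1 (Nat.eq_one_of_dvd_coprimes h4 dvd_rfl h3))

/-- A group with an involution in its centre and order not divisible by 4. -/
theorem le_sup_of_not_four_dvd {H B : Subgroup G} (hzH : z ∈ H) (hz : orderOf z = 2)
    (hzc : ∀ u ∈ H, Commute u z) (h4 : ¬ 4 ∣ Nat.card H)
    (hO : (oddCore H).map H.subtype ≤ B) : H ≤ B ⊔ Subgroup.zpowers z := by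
  set Z : Subgroup H := Subgroup.zpowers ⟨z, hzH⟩ with hZ
  have hZn : Z.Normal := by
    refine ⟨fun v hv u => ?_⟩
    obtain ⟨j, rfl⟩ := Subgroup.mem_zpowers_iff.1 hv
    have hc : Commute u (⟨z, hzH⟩ : H) := Subtype.ext (hzc u u.2).eq
    rw [(hc.zpow_right j).eq, mul_inv_cancel_right]
    exact hv
  have hZc : Nat.card Z = 2 := by
    rw [hZ, Nat.card_zpowers, ← hz]
    exact (orderOf_injective H.subtype H.subtype_injective (⟨z, hzH⟩ : H)).symm
  have hmul := Subgroup.card_mul_index Z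
  rw [hZc] at hmul
  have hoddi : Odd Z.index := by
    rw [← Nat.not_even_iff_odd, even_iff_two_dvd]
    rintro ⟨m, hm⟩
    exact h4 ⟨m, by rw [← hmul, hm]; ring⟩
  obtain ⟨K, hK⟩ := Subgroup.exists_right_complement'_of_coprime (N := Z)
    (by rw [hZc]; exact (Nat.coprime_two_left).2 hoddi)
  have hKc : Nat.card K = Z.index := hK.symm.index_eq_card.symm
  have hKn : K.Normal := Subgroup.normal_of_index_eq_two (by rw [hK.index_eq_card, hZc])
  have hKO : K ≤ oddCore H := CfsgLib.Core.le_pPrimeCore (Nat.coprime_two_right.2 (hKc ▸ hoddi))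
  intro u hu
  obtain ⟨v, hv, k, hk, he⟩ : ∃ v ∈ Z, ∃ k ∈ K, (⟨u, hu⟩ : H) = v * k := by
    have : (⟨u, hu⟩ : H) ∈ K ⊔ Z := by rw [sup_comm, hK.sup_eq_top]; trivial
    exact (CfsgLib.Core.mem_sup_iff_mul' (Subgroup.normalizer_eq_top_iff.2 hZn ▸ le_top)).1 this
  rw [show u = ((v : G) * (k : G)) from congrArg Subtype.val he]
  refine Subgroup.mul_mem _ (Subgroup.mem_sup_right ?_) (Subgroup.mem_sup_left (hO ⟨k, hKO hk, rfl⟩))
  obtain ⟨j, rfl⟩ := Subgroup.mem_zpowers_iff.1 hv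
  exact ⟨j, by simp⟩

variable {R M : Subgroup G} {g : G}

/-- The hypotheses shared by the lemmas below. -/
structure OddData (z : G) (Q A R M : Subgroup G) (g : G) : Prop where
  data : LargeData z Q
  hA : A ≤ Subgroup.centralizer ({z} : Set G)
  hodd : Odd (Nat.card A)
  hR : R = Q ⊓ Subgroup.centralizer (A : Set G)
  big : 32 ≤ Nat.card Q
  memR : g * z * g⁻¹ ∈ R
  nz : g * z * g⁻¹ ∉ Subgroup.zpowers z
  hM : M = Subgroup.centralizer (A : Set G) ⊔ A
  hH : Subgroup.centralizer ((A ⊔ R : Subgroup G) : Set G) ≤ A ⊔ Subgroup.zpowers z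

namespace OddData

variable (s : OddData z Q A R M g)
include s

theorem memQ : g * z * g⁻¹ ∈ Q := (s.hR ▸ s.memR : g * z * g⁻¹ ∈ Q ⊓ _).1

theorem memC : g * z * g⁻¹ ∈ Subgroup.centralizer (A : Set G) :=
  (s.hR ▸ s.memR : g * z * g⁻¹ ∈ Q ⊓ _).2

theorem zC : z ∈ Subgroup.centralizer (A : Set G) :=
  Subgroup.mem_centralizer_iff.2 fun _ hb => mem_centralizer_singleton_iff'.1 (s.hA hb)

theorem z_mem' : z ∈ Q.map (MulAut.conj g).toMonoidHom := s.data.mem_conj s.big s.memQ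

theorem z_nx : z ∉ Subgroup.zpowers (g * z * g⁻¹) := fun hc => by
  rcases (s.data.conj g).eq_or hc with e | e
  · exact s.data.z_ne_one e
  · exact s.nz (e ▸ Subgroup.mem_zpowers z)

/-- `x` and `z` are conjugate under the two centralizers of `A`. -/
theorem exists_conj : ∃ x ∈ R ⊔ ((Q).map (MulAut.conj g).toMonoidHom ⊓
    Subgroup.centralizer (A : Set G)), x * (g * z * g⁻¹) * x⁻¹ = z := by
  obtain ⟨q, hq, hqA, hqx⟩ := exists_move_fixed s.data s.hA s.hodd s.memQ s.memC s.nz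
  have hAx : A ≤ Subgroup.centralizer ({g * z * g⁻¹} : Set G) := fun b hb =>
    mem_centralizer_singleton_iff'.2 (Subgroup.mem_centralizer_iff.1 s.memC b hb)
  obtain ⟨q', hq', hqA', hqz⟩ := exists_move_fixed (s.data.conj g) hAx s.hodd s.z_mem' s.zC s.z_nx
  refine ⟨q' * q, Subgroup.mul_mem _ (Subgroup.mem_sup_right ⟨hq', hqA'⟩)
    (Subgroup.mem_sup_left (s.hR ▸ ⟨hq, hqA⟩)), ?_⟩
  have hxx : q' * (g * z * g⁻¹) * q'⁻¹ = g * z * g⁻¹ := by
    rw [((s.data.conj g).commute_z hq').eq, mul_inv_cancel_right]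
  calc q' * q * (g * z * g⁻¹) * (q' * q)⁻¹
      = q' * (q * (g * z * g⁻¹) * q⁻¹) * q'⁻¹ := by group
    _ = (q' * z * q'⁻¹) * (q' * (g * z * g⁻¹) * q'⁻¹) := by rw [hqx]; group
    _ = g * z * g⁻¹ * z * (g * z * g⁻¹) := by rw [hqz, hxx]
    _ = z := by
      rw [mul_assoc, (s.data.commute_z s.memQ).symm.eq, ← mul_assoc, conj_mul,
        s.data.mul_self_z, mul_one, mul_inv_cancel, one_mul]

theorem centralizer_eq :
    (M ⊓ Subgroup.centralizer ((R ⊔ A : Subgroup G) : Set G)) ⊔ A = A ⊔ Subgroup.zpowers z := by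
  rw [sup_comm R A]
  refine le_antisymm (sup_le (inf_le_right.trans s.hH) le_sup_left) (sup_le le_sup_right ?_)
  refine le_trans ?_ le_sup_left
  rw [Subgroup.zpowers_le]
  refine ⟨s.hM ▸ Subgroup.mem_sup_left s.zC, ?_⟩
  have hle : A ⊔ R ≤ Subgroup.centralizer ({z} : Set G) :=
    sup_le s.hA (s.hR ▸ inf_le_left.trans s.data.le_centralizer)
  exact Subgroup.mem_centralizer_iff.2 fun u hu => mem_centralizer_singleton_iff'.1 (hle hu)

/-- `R` maps onto a large extraspecial subgroup of `M / A`. -/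
theorem isLarge [hn : (A.subgroupOf M).Normal] :
    IsLargeExtraspecial ((R.subgroupOf M).map (QuotientGroup.mk' (A.subgroupOf M))) := by
  classical
  have h := s.data
  have : Fact (Nat.Prime 2) := ⟨Nat.prime_two⟩
  set N := A.subgroupOf M with hN
  set π := QuotientGroup.mk' N with hπ
  set Rb := (R.subgroupOf M).map π with hRb
  have hCM : Subgroup.centralizer (A : Set G) ≤ M := s.hM ▸ le_sup_left
  have hRQ : R ≤ Q := s.hR ▸ inf_le_left
  have hRC : R ≤ Subgroup.centralizer (A : Set G) := s.hR ▸ inf_le_right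
  have hQp := CfsgLib.PGroups.IsExtraspecial.isPGroup h.hE
  have hQ'p := CfsgLib.PGroups.IsExtraspecial.isPGroup (h.conj g).hE
  have hπ1 : ∀ a : M, π a = 1 ↔ (a : G) ∈ A := fun a => QuotientGroup.eq_one_iff a
  have hπeq : ∀ a b : M, π a = π b ↔ (a : G)⁻¹ * b ∈ A := fun a b => by
    rw [hπ, QuotientGroup.mk'_apply, QuotientGroup.mk'_apply, QuotientGroup.eq]
    rfl
  -- equality of two-elements modulo `A`
  have heq : ∀ {S T : Subgroup G}, IsPGroup 2 S → IsPGroup 2 T → ∀ {a b : M}, (a : G) ∈ S →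
      (b : G) ∈ T → (a : G) ∈ Subgroup.centralizer (A : Set G) → π a = π b → (a : G) = b :=
    fun hS hT a b ha hb hac hab => eq_of_two_elements s.hodd hS hT ha hb hac ((hπeq a b).1 hab)
  have hsurj : ∀ v : M ⧸ N, ∃ c : M, (c : G) ∈ Subgroup.centralizer (A : Set G) ∧ π c = v := by
    intro v
    obtain ⟨⟨u, hu⟩, rfl⟩ := QuotientGroup.mk'_surjective N v
    obtain ⟨c, hc, n, hn', rfl⟩ := (CfsgLib.Core.mem_sup_iff_mul
      (Subgroup.centralizer_le_normalizer _)).1 (s.hM ▸ hu)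
    refine ⟨⟨c, hCM hc⟩, hc, (hπeq _ _).2 ?_⟩
    show c⁻¹ * (c * n) ∈ A
    rwa [inv_mul_cancel_left]
  have hmemRb : ∀ {u : M}, (u : G) ∈ R → π u ∈ Rb := fun {u} hu => ⟨u, hu, rfl⟩
  have hzR : z ∈ R := s.hR ▸ ⟨h.z_mem, s.zC⟩
  have hzM : z ∈ M := hCM s.zC
  have hxM : g * z * g⁻¹ ∈ M := hCM s.memC
  set zb := π ⟨z, hzM⟩ with hzb
  set xb := π ⟨g * z * g⁻¹, hxM⟩ with hxb
  have hzb1 : zb ≠ 1 := fun e => h.z_ne_one (heq (a := ⟨z, hzM⟩) (b := 1) hQp hQp h.z_mem
    Q.one_mem s.zC (e.trans (map_one π).symm))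
  have hzb2 : zb * zb = 1 := by
    rw [hzb, ← map_mul, hπ1]
    show z * z ∈ _
    rw [h.mul_self_z]
    exact one_mem _
  have hzi : zb⁻¹ = zb := inv_eq_of_mul_eq_one_left hzb2
  have hxb2 : xb * xb = 1 := by
    rw [hxb, ← map_mul, hπ1]
    show g * z * g⁻¹ * (g * z * g⁻¹) ∈ _
    rw [conj_mul, h.mul_self_z, mul_one, mul_inv_cancel]
    exact one_mem _
  have hzbR : zb ∈ Rb := hmemRb hzR
  have hz2 : ∀ {u : M}, (u : G) ∈ Subgroup.zpowers z → π u = 1 ∨ π u = zb := fun {u} hu => by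
    rcases h.eq_or hu with e | e
    · exact Or.inl ((hπ1 u).2 (e ▸ one_mem _))
    · exact Or.inr (congrArg π (Subtype.ext e))
  -- what commutes with the image of `R`
  have hcentralizes : ∀ c : M, (c : G) ∈ Subgroup.centralizer (A : Set G) →
      (∀ r ∈ R, Commute (c : G) r) → π c ∈ Subgroup.zpowers zb := by
    intro c hc hcr
    have hcH : (c : G) ∈ Subgroup.centralizer ((A ⊔ R : Subgroup G) : Set G) := by
      have hle : A ⊔ R ≤ Subgroup.centralizer ({(c : G)} : Set G) := sup_le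
        (fun b hb => mem_centralizer_singleton_iff'.2 (Subgroup.mem_centralizer_iff.1 hc b hb))
        (fun r hr => mem_centralizer_singleton_iff'.2 (hcr r hr).eq.symm)
      exact Subgroup.mem_centralizer_iff.2 fun u hu => mem_centralizer_singleton_iff'.1 (hle hu)
    obtain ⟨n, hn', w, hw, e⟩ := (CfsgLib.Core.mem_sup_iff_mul' (x := (c : G))
      (H := Subgroup.zpowers z) (N := A) (Subgroup.zpowers_le.2
        (Subgroup.centralizer_le_normalizer _ s.zC))).1 (sup_comm A (Subgroup.zpowers z) ▸ s.hH hcH)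
    have hwM : w ∈ M := Subgroup.zpowers_le.2 hzM hw
    have he : π ⟨w, hwM⟩ = π c := by
      rw [hπeq]
      show w⁻¹ * (c : G) ∈ A
      have hwC : w ∈ Subgroup.centralizer (A : Set G) := Subgroup.zpowers_le.2 s.zC hw
      rw [e, Subgroup.mem_centralizer_iff.1 hwC n hn', inv_mul_cancel_left]
      exact hn'
    rw [← he]
    rcases hz2 (u := ⟨w, hwM⟩) hw with e' | e' <;> rw [e']
    exacts [one_mem _, Subgroup.mem_zpowers zb]
  have hconjR : ∀ c : G, c ∈ Subgroup.centralizer (A : Set G) → Commute c z → ∀ r ∈ R,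
      c * r * c⁻¹ ∈ R := fun c hc hcz r hr => s.hR ▸
    ⟨h.conj_mem hcz (hRQ hr), Subgroup.mul_mem _ (Subgroup.mul_mem _ hc (hRC hr)) (inv_mem hc)⟩
  have hfixz : ∀ c : M, (c : G) ∈ Subgroup.centralizer (A : Set G) → π c * zb = zb * π c →
      Commute (c : G) z := by
    intro c hc hcz
    have h1 : π ⟨z, hzM⟩ = π (c * ⟨z, hzM⟩ * c⁻¹) := by
      rw [map_mul, map_mul, map_inv, hcz, mul_inv_cancel_right]
    have hp : IsPGroup 2 (Q.map (MulAut.conj (c : G)).toMonoidHom) := hQp.map _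
    have h2 := heq hQp hp (a := ⟨z, hzM⟩) (b := c * ⟨z, hzM⟩ * c⁻¹) h.z_mem
      ⟨z, h.z_mem, rfl⟩ s.zC h1
    exact mul_inv_eq_iff_eq_mul.1 (show (c : G) * z * (c : G)⁻¹ = z from h2.symm)
  have hcenterOf : ∀ c : M, (c : G) ∈ Subgroup.centralizer (A : Set G) →
      (∀ r : M, (r : G) ∈ R → π r * π c = π c * π r) → π c ∈ Subgroup.zpowers zb := by
    intro c hc hcr
    have hcz : Commute (c : G) z := hfixz c hc (hcr _ hzR).symm
    refine hcentralizes c hc fun r hr => ?_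
    have h1 : π ⟨r, hCM (hRC hr)⟩ = π (c * ⟨r, hCM (hRC hr)⟩ * c⁻¹) := by
      rw [map_mul, map_mul, map_inv, ← hcr ⟨r, hCM (hRC hr)⟩ hr, mul_inv_cancel_right]
    have h2 := heq hQp hQp (a := ⟨r, hCM (hRC hr)⟩) (b := c * ⟨r, hCM (hRC hr)⟩ * c⁻¹) (hRQ hr)
      (hRQ (hconjR c hc hcz r hr)) (hRC hr) h1
    exact mul_inv_eq_iff_eq_mul.1 (show (c : G) * r * (c : G)⁻¹ = r from h2.symm)
  have hzcen : ∀ u : M ⧸ N, u ∈ Rb → u * zb = zb * u := by
    rintro _ ⟨u, hu, rfl⟩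
    rw [hzb, ← map_mul, ← map_mul]
    exact congrArg π (Subtype.ext (h.commute_z (hRQ hu)).eq)
  have hzC : (⟨zb, hzbR⟩ : Rb) ∈ Subgroup.center Rb :=
    Subgroup.mem_center_iff.2 fun u => Subtype.ext (hzcen u u.2)
  have hcenter : (Subgroup.center Rb).map Rb.subtype = Subgroup.zpowers zb := by
    refine le_antisymm ?_ (Subgroup.zpowers_le.2 (Subgroup.mem_map.2 ⟨⟨zb, hzbR⟩, hzC, rfl⟩))
    rintro _ ⟨⟨_, a, ha, rfl⟩, hac, rfl⟩
    exact hcenterOf a (hRC ha) fun r hr =>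
      congrArg Subtype.val (Subgroup.mem_center_iff.1 hac ⟨π r, hmemRb hr⟩)
  obtain ⟨q, hq, hqA, hqx⟩ := exists_move_fixed h s.hA s.hodd s.memQ s.memC s.nz
  set qb := π ⟨q, hCM hqA⟩ with hqb
  have hqR : qb ∈ Rb := hmemRb (u := ⟨q, hCM hqA⟩) (s.hR ▸ ⟨hq, hqA⟩)
  have hxR : xb ∈ Rb := hmemRb (u := ⟨g * z * g⁻¹, hxM⟩) s.memR
  have hqxb : qb * xb * qb⁻¹ = zb * xb := by
    rw [hqb, hxb, hzb, ← map_inv, ← map_mul, ← map_mul, ← map_mul]
    exact congrArg π (Subtype.ext hqx)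
  have hRp : IsPGroup 2 Rb := ((hQp.to_le hRQ).comap_subtype).map π
  have hcomm : ∀ a b : Rb, ((⁅a, b⁆ : Rb) : M ⧸ N) ∈ Subgroup.zpowers zb := by
    rintro ⟨_, a, ha, rfl⟩ ⟨_, b, hb, rfl⟩
    show ⁅π a, π b⁆ ∈ _
    rw [← map_commutatorElement]
    rcases hz2 (u := ⁅a, b⁆) (h.comm_mem (hRQ ha) (hRQ hb)) with e | e <;> rw [e]
    exacts [one_mem _, Subgroup.mem_zpowers zb]
  have hext : IsExtraspecial 2 Rb := by
    refine CfsgLib.PGroups.isExtraspecial_of hRp ?_ ?_ ?_ ?_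
    · intro hab
      apply hzb1
      have h1 := congrArg Subtype.val (hab.1.1 (⟨qb, hqR⟩ : Rb) ⟨xb, hxR⟩)
      change qb * xb = xb * qb at h1
      rw [h1, mul_inv_cancel_right] at hqxb
      exact mul_eq_right.1 hqxb.symm
    · rw [← Subgroup.card_map_of_injective Rb.subtype_injective, hcenter, Nat.card_zpowers]
      exact orderOf_eq_prime (by rw [pow_two]; exact hzb2) hzb1
    · rw [commutator_def, Subgroup.commutator_le]
      intro a _ b _
      obtain ⟨c, hc, hce⟩ : ((⁅a, b⁆ : Rb) : M ⧸ N) ∈ (Subgroup.center Rb).map Rb.subtype :=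
        hcenter ▸ hcomm a b
      exact (Subtype.ext hce : c = ⁅a, b⁆) ▸ hc
    · rintro ⟨_, a, ha, rfl⟩
      obtain ⟨c, hc, hce⟩ : π a ^ 2 ∈ (Subgroup.center Rb).map Rb.subtype := by
        rw [hcenter, pow_two, ← map_mul]
        rcases hz2 (u := a * a) (h.sq_mem (hRQ ha)) with e | e <;> rw [e]
        exacts [one_mem _, Subgroup.mem_zpowers zb]
      have hc2 : c = (⟨π a, a, ha, rfl⟩ : Rb) ^ 2 := Subtype.ext hce
      exact hc2 ▸ hc
  refine ⟨hext, ?_, ?_, ?_⟩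
  · rw [hcenter]
    refine le_antisymm (fun u hu => ?_) (Subgroup.zpowers_le.2 ?_)
    · obtain ⟨c, hc, rfl⟩ := hsurj u
      rw [Subgroup.mem_centralizer_iff] at hu
      exact hcenterOf c hc fun r hr => hu _ (hmemRb hr)
    · rw [Subgroup.mem_centralizer_iff]
      exact fun u hu => hzcen u hu
  · rw [hcenter]
    have key : ∀ u ∈ Subgroup.centralizer ({zb} : Set (M ⧸ N)), ∀ v ∈ Rb, u * v * u⁻¹ ∈ Rb := by
      intro u hu v hv
      obtain ⟨c, hc, rfl⟩ := hsurj u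
      obtain ⟨r, hr, rfl⟩ := hv
      rw [← map_inv, ← map_mul, ← map_mul]
      exact hmemRb (hconjR c hc (hfixz c hc (mem_centralizer_singleton_iff'.1 hu)) _ hr)
    intro u hu
    replace hu : u ∈ Subgroup.centralizer ({zb} : Set (M ⧸ N)) :=
      Subgroup.centralizer_le (Set.singleton_subset_iff.2 (Subgroup.mem_zpowers zb)) hu
    rw [Subgroup.mem_normalizer_iff]
    refine fun v => ⟨key u hu v, fun hv => ?_⟩
    have := key u⁻¹ (inv_mem hu) _ hv
    simpa [mul_assoc] using this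
  · intro K hK hRK
    have hconj : ∀ u ∈ Rb, ∀ k ∈ K, u * k * u⁻¹ ∈ K := fun u hu k hk =>
      (Subgroup.mem_normalizer_iff.1 (hRK hu) k).1 hk
    have hodd2 : ∀ {S : Subgroup G}, IsPGroup 2 S → ∀ {y : M}, (y : G) ∈ S →
        (y : G) ∈ Subgroup.centralizer (A : Set G) → π y ∈ K → (y : G) = 1 := by
      intro S hS y hy hyc hyK
      refine heq hS (IsPGroup.of_bot (p := 2)) (b := 1) hy (Subgroup.one_mem _) hyc ?_
      rw [map_one]
      exact LargeGeneration.eq_one_of_isPGroup_of_odd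
        ((hS.comap_subtype (K := M)).map π) hK ⟨y, hy, rfl⟩ hyK
    have hzfix : ∀ k ∈ K, zb * k * zb = k → k = 1 := by
      intro k hk hzk
      obtain ⟨c, hc, rfl⟩ := hsurj k
      have hczb : π c * zb = zb * π c := by
        have h1 : zb * π c * zb⁻¹ = π c := by rw [hzi]; exact hzk
        exact (mul_inv_eq_iff_eq_mul.1 h1).symm
      have hcz := hfixz c hc hczb
      have hcr : ∀ r ∈ R, Commute (c : G) r := by
        intro r hr
        have h1 : π (c * ⟨r, hCM (hRC hr)⟩ * c⁻¹ * (⟨r, hCM (hRC hr)⟩ : M)⁻¹) ∈ K := by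
          rw [show π (c * ⟨r, hCM (hRC hr)⟩ * c⁻¹ * (⟨r, hCM (hRC hr)⟩ : M)⁻¹) = π c *
              (π ⟨r, hCM (hRC hr)⟩ * (π c)⁻¹ * (π ⟨r, hCM (hRC hr)⟩)⁻¹) by
            simp only [map_mul, map_inv]; group]
          exact K.mul_mem hk (hconj _ (hmemRb hr) _ (K.inv_mem hk))
        have h2 := hodd2 (S := R) (hQp.to_le hRQ)
          (R.mul_mem (hconjR c hc hcz r hr) (R.inv_mem hr))
          (hRC (R.mul_mem (hconjR c hc hcz r hr) (R.inv_mem hr))) h1
        exact mul_inv_eq_iff_eq_mul.1 (mul_inv_eq_one.1 h2)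
      exact LargeGeneration.eq_one_of_isPGroup_of_odd hRp hK
        (Subgroup.zpowers_le.2 hzbR (hcentralizes c hc hcr)) hk
    have hxfix : ∀ k ∈ K, xb * k * xb = k → k = 1 := by
      intro k hk hxk
      refine hzfix k hk ?_
      obtain ⟨c, hc, rfl⟩ := hsurj k
      have h1 : π ⟨g * z * g⁻¹, hxM⟩ = π (c * ⟨g * z * g⁻¹, hxM⟩ * c⁻¹) := by
        have h0 : xb * π c * xb⁻¹ = π c := by rw [inv_eq_of_mul_eq_one_left hxb2]; exact hxk
        rw [map_mul, map_mul, map_inv, ← hxb, ← mul_inv_eq_iff_eq_mul.1 h0, mul_inv_cancel_right]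
      have hp : IsPGroup 2 (Q.map (MulAut.conj (c : G)).toMonoidHom) := hQp.map _
      have hcx : Commute (c : G) (g * z * g⁻¹) := mul_inv_eq_iff_eq_mul.1 (heq hQp hp s.memQ
        ⟨g * z * g⁻¹, s.memQ, rfl⟩ s.memC h1).symm
      have h2 : π (c * ⟨z, hzM⟩ * c⁻¹ * (⟨z, hzM⟩ : M)⁻¹) ∈ K := by
        rw [show π (c * ⟨z, hzM⟩ * c⁻¹ * (⟨z, hzM⟩ : M)⁻¹) = π c * (zb * (π c)⁻¹ * zb⁻¹) by
          simp only [map_mul, map_inv, hzb]; group]
        exact K.mul_mem hk (hconj _ hzbR _ (K.inv_mem hk))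
      have h3 := hodd2 hQ'p (Subgroup.mul_mem _ ((h.conj g).conj_mem hcx s.z_mem')
        (Subgroup.inv_mem _ s.z_mem')) (Subgroup.mul_mem _ (Subgroup.mul_mem _
          (Subgroup.mul_mem _ hc s.zC) (inv_mem hc)) (inv_mem s.zC)) h2
      have hcz : Commute (c : G) z := mul_inv_eq_iff_eq_mul.1 (mul_inv_eq_one.1 h3)
      rw [hzb, ← map_mul, ← map_mul]
      refine congrArg π (Subtype.ext ?_)
      show z * (c : G) * z = c
      rw [← hcz.eq, mul_assoc, h.mul_self_z, mul_one]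
    have hsub : ∀ {u : M ⧸ N}, u ∈ Rb → u * u = 1 → ∀ k ∈ K, u * k * u ∈ K := fun hu huu k hk => by
      have := hconj _ hu k hk
      rwa [inv_eq_of_mul_eq_one_left huu] at this
    refine LargeSection.eq_bot_of_two_inverting (a := zb) (b := xb) (q := qb) (hzcen xb hxR)
      (LargeGeneration.inverts_of_fixedPointFree hzb2 (hsub hzbR hzb2) hzfix)
      (LargeGeneration.inverts_of_fixedPointFree hxb2 (hsub hxR hxb2) hxfix) hxfix
      (fun k hk => ?_) hqxb
    have := hconj _ (Rb.inv_mem hqR) k hk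
    rwa [inv_inv] at this

end OddData

end CfsgLib.ThreeTrans.LargeOddSection
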