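import Cfsg.Agent.Lib.ThreeTrans.LargeExtra
import Cfsg.Agent.Lib.Components.FStar
import Mathlib.GroupTheory.FixedPointFree

/-!
Simplicity from an irreducible extraspecial involution centralizer (owner: helper28).
-/

set_option autoImplicit false

namespace CfsgLib.ThreeTrans.SimpleOfIrreducible

open Cfsg

variable {G : Type*} [Group G] [Finite G]

local notation "Cz" z:max => Subgroup.centralizer ({z} : Set _)

theorem aux (z : G) (hz : orderOf z = 2) (H : Subgroup G) (hH : H = Subgroup.centralizer ({z} : Set G))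
    (Q : Subgroup H) [Q.Normal]
    (hF : generalizedFittingSubgroup ↥H = Q) (hQ : IsExtraspecial 2 ↥Q)
    (hnwc : ∃ g : G, (∃ hq : g * z * g⁻¹ ∈ H,
      (⟨g * z * g⁻¹, hq⟩ : H) ∈ Q) ∧ g * z * g⁻¹ ≠ z)
    (hsimp : IsSimpleGroup (↥H ⧸ Q))
    (hirr : ∀ W : Subgroup H, W.Normal → W ≤ Q →
      (W = Q ∨ ∀ x ∈ W, (x : G) ∈ Subgroup.zpowers z))
    (hwcl : Subgroup.closure {x : H | IsConj z (x : G)} ≠ Q) :
    IsSimpleGroup G := by
  haveI : Fact (Nat.Prime 2) := ⟨Nat.prime_two⟩
  have hHz : ∀ h : H, Commute (h : G) z := fun h => Subgroup.mem_centralizer_singleton_iff.1 (hH.le h.2)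
  have hz2 : z * z = 1 := by rw [← pow_two, ← hz]; exact pow_orderOf_eq_one z
  have hz1 : z ≠ 1 := fun e => by rw [e, orderOf_one] at hz; omega
  let zH : H := ⟨z, hH.ge (Subgroup.mem_centralizer_singleton_iff.2 rfl)⟩
  have hCQ : Subgroup.centralizer (Q : Set H) ≤ Q := by
    have := CfsgLib.Components.centralizer_gFitting_le (G := H)
    rwa [hF] at this
  have hzQ : zH ∈ Q := hCQ (Subgroup.mem_centralizer_iff.2 fun q _ => Subtype.ext (hHz q).eq)
  have hcenQ : ∀ {h : H}, h ∈ Subgroup.centralizer (Q : Set H) → (h : G) ∈ Subgroup.zpowers z := by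
    intro h hh
    have hhQ := hCQ hh
    have hc : (Subgroup.center Q) = Subgroup.zpowers (⟨zH, hzQ⟩ : Q) := by
      refine (Subgroup.eq_of_le_of_card_ge (Subgroup.zpowers_le.2 ?_) ?_).symm
      · exact Subgroup.mem_center_iff.2 fun q => Subtype.ext (Subtype.ext (hHz q).eq)
      · rw [hQ.2, Nat.card_zpowers, ← Subgroup.orderOf_coe, ← Subgroup.orderOf_coe]
        exact hz.ge
    have hm : (⟨h, hhQ⟩ : Q) ∈ Subgroup.center Q :=
      Subgroup.mem_center_iff.2 fun q => Subtype.ext (Subgroup.mem_centralizer_iff.1 hh q q.2)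
    rw [hc] at hm
    obtain ⟨i, hi⟩ := Subgroup.mem_zpowers_iff.1 hm
    exact Subgroup.mem_zpowers_iff.2 ⟨i, congrArg (fun q : Q => ((q : H) : G)) hi⟩
  obtain ⟨g, ⟨hgH, hgQ⟩, hgz⟩ := hnwc
  have hgn : g * z * g⁻¹ ∉ Subgroup.zpowers z := by
    intro h
    rcases mem_zpowers_of_order_two hz h with e | e
    · rw [conj_eq_one_iff] at e; exact hz1 e
    · exact hgz e
  -- the conjugates of `z` in `H` generate `H`
  set S : Set H := {x | IsConj z (x : G)}
  have hSn : (Subgroup.closure S).Normal := by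
    refine ⟨fun a ha h => ?_⟩
    have hle : Subgroup.closure S ≤ (Subgroup.closure S).comap (MulAut.conj h).toMonoidHom :=
      (Subgroup.closure_le _).2 fun s hs => Subgroup.subset_closure (IsConj.trans hs (isConj_iff.2 ⟨(h : G), rfl⟩))
    exact hle ha
  have hWtop : Subgroup.closure S = ⊤ := by
    have hxW : (⟨g * z * g⁻¹, hgH⟩ : H) ∈ Subgroup.closure S := Subgroup.subset_closure (isConj_iff.2 ⟨g, rfl⟩)
    have hQW : Q ≤ Subgroup.closure S := by
      rcases hirr _ (Subgroup.normal_inf_normal (Subgroup.closure S) Q) inf_le_right with e | e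
      · rw [← e]; exact inf_le_left
      · exact absurd (e _ ⟨hxW, hgQ⟩) hgn
    have := hsimp
    rcases (inferInstance : ((Subgroup.closure S).map (QuotientGroup.mk' Q)).Normal).eq_bot_or_eq_top with e | e
    · exfalso
      apply hwcl
      refine le_antisymm ?_ hQW
      rw [Subgroup.map_eq_bot_iff, QuotientGroup.ker_mk'] at e
      exact e
    · rw [eq_top_iff]
      intro h _
      have hh : QuotientGroup.mk' Q h ∈ (Subgroup.closure S).map (QuotientGroup.mk' Q) := e ▸ Subgroup.mem_top _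
      obtain ⟨w, hw, he⟩ := hh
      have : w⁻¹ * h ∈ Q := QuotientGroup.eq.1 he
      have := mul_mem hw (hQW this)
      rwa [mul_inv_cancel_left] at this
  haveI : Nontrivial G := ⟨z, 1, hz1⟩
  refine ⟨fun N hN => ?_⟩
  haveI := hN
  by_cases hzN : z ∈ N
  · refine Or.inr ?_
    have hHN : H ≤ N := by
      intro h hh
      have hm : (⟨h, hh⟩ : H) ∈ Subgroup.closure S := hWtop ▸ Subgroup.mem_top _
      have hle : Subgroup.closure S ≤ N.subgroupOf H := by
        rw [Subgroup.closure_le]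
        intro x hx
        obtain ⟨c, hc⟩ := isConj_iff.1 hx
        show (x : G) ∈ N
        rw [← hc]; exact hN.conj_mem z hzN c
      exact hle hm
    obtain ⟨T, hT⟩ := (hQ.1.1.map H.subtype).exists_le_sylow
    have hzT : z ∈ T := hT ⟨zH, hzQ, rfl⟩
    have hTz : ∀ a, a ∈ (Subgroup.center (T : Subgroup G)).map (T : Subgroup G).subtype → a ∈ Subgroup.zpowers z := by
      rintro _ ⟨a, ha, rfl⟩
      have haH : (a : G) ∈ H := hH.ge (Subgroup.mem_centralizer_singleton_iff.2
        (congrArg Subtype.val (Subgroup.mem_center_iff.1 ha ⟨z, hzT⟩)).symm)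
      exact hcenQ (h := ⟨a, haH⟩) (Subgroup.mem_centralizer_iff.2 fun q hq =>
        Subtype.ext (by
          show (q : G) * a = a * q
          exact congrArg Subtype.val (Subgroup.mem_center_iff.1 ha ⟨q, hT ⟨q, hq, rfl⟩⟩)))
    have hTne : Nontrivial (T : Subgroup G) := ⟨⟨z, hzT⟩, 1, fun e => hz1 (congrArg Subtype.val e)⟩
    haveI := T.isPGroup'.center_nontrivial
    obtain ⟨w, hw⟩ := exists_ne (1 : Subgroup.center (T : Subgroup G))
    have hwz : ((w : (T : Subgroup G)) : G) = z := by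
      rcases mem_zpowers_of_order_two hz (hTz _ ⟨w, w.2, rfl⟩) with e | e
      · exact absurd (Subtype.ext (Subtype.ext e)) hw
      · exact e
    have hnorm : Subgroup.normalizer ((T : Subgroup G) : Set G) ≤ H := by
      intro m hm
      rw [hH, Subgroup.mem_centralizer_singleton_iff]
      refine mul_inv_eq_iff_eq_mul.1 ?_
      have hm' : m * z * m⁻¹ ∈ (Subgroup.center (T : Subgroup G)).map (T : Subgroup G).subtype := by
        refine ⟨⟨m * z * m⁻¹, (Subgroup.mem_normalizer_iff.1 hm z).1 hzT⟩, Subgroup.mem_center_iff.2 fun q => ?_, rfl⟩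
        apply Subtype.ext
        show (q : G) * (m * z * m⁻¹) = m * z * m⁻¹ * q
        have hq : m⁻¹ * q * m ∈ (T : Subgroup G) := by
          refine (Subgroup.mem_normalizer_iff.1 hm _).2 ?_
          rw [show m * (m⁻¹ * (q : G) * m) * m⁻¹ = q by group]
          exact q.2
        have hc := congrArg Subtype.val (Subgroup.mem_center_iff.1 w.2 ⟨_, hq⟩)
        simp only [Subgroup.coe_mul, hwz] at hc
        calc (q : G) * (m * z * m⁻¹) = m * (m⁻¹ * q * m * z) * m⁻¹ := by group
          _ = m * (z * (m⁻¹ * q * m)) * m⁻¹ := by rw [hc]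
          _ = m * z * m⁻¹ * q := by group
      rcases mem_zpowers_of_order_two hz (hTz _ hm') with e | e
      · rw [conj_eq_one_iff] at e; exact absurd e hz1
      · exact e
    have hTN : (T : Subgroup G) ≤ N := le_trans Subgroup.le_normalizer (hnorm.trans hHN)
    have := Sylow.normalizer_sup_eq_top' T hTN
    rw [eq_top_iff, ← this]
    exact sup_le (hnorm.trans hHN) le_rfl
  · refine Or.inl ?_
    have hNH : ∀ n ∈ N, Commute n z → n = 1 := by
      intro n hn hnz
      have hnH : n ∈ H := hH.ge (Subgroup.mem_centralizer_singleton_iff.2 hnz)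
      have hbot : ∀ w ∈ N.subgroupOf H ⊓ Q, w = 1 := by
        intro w hw
        rcases hirr _ (Subgroup.normal_inf_normal (N.subgroupOf H) Q) inf_le_right with e | e
        · exact absurd (show zH ∈ N.subgroupOf H ⊓ Q from e.symm ▸ hzQ).1 hzN
        · rcases mem_zpowers_of_order_two hz (e w hw) with e' | e'
          · exact Subtype.ext e'
          · exact absurd (e' ▸ (hw.1 : (w : G) ∈ N)) hzN
      have hc : (⟨n, hnH⟩ : H) ∈ Subgroup.centralizer (Q : Set H) := by
        rw [Subgroup.mem_centralizer_iff]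
        intro q hq
        have hcomm : (⟨n, hnH⟩ : H) * q * (⟨n, hnH⟩ : H)⁻¹ * q⁻¹ ∈ N.subgroupOf H ⊓ Q := by
          refine Subgroup.mem_inf.2 ⟨?_, mul_mem ((inferInstance : Q.Normal).conj_mem q hq _) (inv_mem hq)⟩
          show n * (q : G) * n⁻¹ * (q : G)⁻¹ ∈ N
          rw [show n * (q : G) * n⁻¹ * (q : G)⁻¹ = n * ((q : G) * n⁻¹ * (q : G)⁻¹) by group]
          exact mul_mem hn (hN.conj_mem _ (inv_mem hn) _)
        exact (mul_inv_eq_iff_eq_mul.1 (mul_inv_eq_one.1 (hbot _ hcomm))).symm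
      rcases mem_zpowers_of_order_two hz (hcenQ hc) with e | e
      · exact e
      · change n = z at e; exact absurd (e ▸ hn) hzN
    have hinv : ∀ (u : G), u * u = 1 → (∀ n ∈ N, Commute n u → n = 1) → ∀ n ∈ N, u * n * u⁻¹ = n⁻¹ := by
      intro u huu h0 n hn
      let φ : N →* N := MonoidHom.mk' (fun k => ⟨u * k * u⁻¹, hN.conj_mem _ k.2 u⟩) fun a b => Subtype.ext (by
        show u * ((a : G) * b) * u⁻¹ = u * a * u⁻¹ * (u * b * u⁻¹)
        group)
      have hff : MonoidHom.FixedPointFree φ := fun a ha => Subtype.ext (h0 a a.2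
        (mul_inv_eq_iff_eq_mul.1 (congrArg Subtype.val ha)).symm)
      have hinvol : Function.Involutive φ := fun a => Subtype.ext (by
        show u * (u * a * u⁻¹) * u⁻¹ = a
        rw [inv_eq_of_mul_eq_one_left huu, show u * (u * (a : G) * u) * u = u * u * a * (u * u) by
          simp only [mul_assoc], huu, one_mul, mul_one])
      exact congrArg Subtype.val (congrFun (hff.coe_eq_inv_of_involutive hinvol) ⟨n, hn⟩)
    have hgg : g * z * g⁻¹ * (g * z * g⁻¹) = 1 := by
      rw [show g * z * g⁻¹ * (g * z * g⁻¹) = g * (z * z) * g⁻¹ by group, hz2, mul_one, mul_inv_cancel]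
    have hgN : ∀ n ∈ N, Commute n (g * z * g⁻¹) → n = 1 := by
      intro n hn hc
      have hc' : Commute (g⁻¹ * n * g) z := by
        calc g⁻¹ * n * g * z = g⁻¹ * (n * (g * z * g⁻¹)) * g := by group
          _ = g⁻¹ * (g * z * g⁻¹ * n) * g := by rw [hc.eq]
          _ = z * (g⁻¹ * n * g) := by group
      have := hNH _ (by simpa using hN.conj_mem n hn g⁻¹) hc'
      calc n = g * (g⁻¹ * n * g) * g⁻¹ := by group
        _ = 1 := by rw [this, mul_one, mul_inv_cancel]
    have hxz : ∀ n ∈ N, Commute n (z * (g * z * g⁻¹)) := by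
      intro n hn
      refine (mul_inv_eq_iff_eq_mul.1 ?_).symm
      calc z * (g * z * g⁻¹) * n * (z * (g * z * g⁻¹))⁻¹ = z * (g * z * g⁻¹ * n * (g * z * g⁻¹)⁻¹) * z⁻¹ := by group
        _ = n := by rw [hinv _ hgg hgN n hn, hinv z hz2 hNH _ (inv_mem hn), inv_inv]
    have hCn : ((Subgroup.centralizer (N : Set G)).subgroupOf H).Normal := by
      haveI : (Subgroup.centralizer (N : Set G)).Normal := Subgroup.normal_centralizer
      infer_instance
    have hmem : zH * ⟨g * z * g⁻¹, hgH⟩ ∈ (Subgroup.centralizer (N : Set G)).subgroupOf H ⊓ Q :=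
      ⟨Subgroup.mem_centralizer_iff.2 fun n hn => (hxz n hn).eq, mul_mem hzQ hgQ⟩
    rcases hirr _ (Subgroup.normal_inf_normal ((Subgroup.centralizer (N : Set G)).subgroupOf H) Q) inf_le_right with e | e
    · rw [eq_bot_iff]
      intro n hn
      have hzc : z ∈ Subgroup.centralizer (N : Set G) :=
        ((e.symm ▸ hzQ : zH ∈ (Subgroup.centralizer (N : Set G)).subgroupOf H ⊓ Q)).1
      exact Subgroup.mem_bot.2 (hNH n hn (Subgroup.mem_centralizer_iff.1 hzc n hn))
    · exfalso
      have := e _ hmem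
      apply hgn
      have h2 := mul_mem (inv_mem (Subgroup.mem_zpowers z)) this
      rwa [Subgroup.coe_mul, inv_mul_cancel_left] at h2

theorem main (z : G) (hz : orderOf z = 2) (Q : Subgroup (Subgroup.centralizer ({z} : Set G))) [Q.Normal]
    (hF : generalizedFittingSubgroup ↥(Subgroup.centralizer ({z} : Set G)) = Q) (hQ : IsExtraspecial 2 ↥Q)
    (hnwc : ∃ g : G, (∃ hq : g * z * g⁻¹ ∈ Subgroup.centralizer ({z} : Set G),
      (⟨g * z * g⁻¹, hq⟩ : Subgroup.centralizer ({z} : Set G)) ∈ Q) ∧ g * z * g⁻¹ ≠ z)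
    (hsimp : IsSimpleGroup (↥(Subgroup.centralizer ({z} : Set G)) ⧸ Q))
    (hirr : ∀ W : Subgroup (Subgroup.centralizer ({z} : Set G)), W.Normal → W ≤ Q →
      (W = Q ∨ ∀ x ∈ W, (x : G) ∈ Subgroup.zpowers z))
    (hwcl : Subgroup.closure {x : Subgroup.centralizer ({z} : Set G) | IsConj z (x : G)} ≠ Q) :
    IsSimpleGroup G :=
  aux z hz _ rfl Q hF hQ hnwc hsimp hirr hwcl

end CfsgLib.ThreeTrans.SimpleOfIrreducible
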