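import Mathlib
import Cfsg.Prelude.Def_RootSubgroups

set_option autoImplicit false

/-!
Rank one pairs, abstract root subgroups: the elementary theory (owner: helper28).
-/

namespace CfsgLib.ThreeTrans

open Cfsg Subgroup
open scoped commutatorElement

variable {G : Type*} [Group G]

theorem mem_conjBy {A : Subgroup G} {g x : G} : x ∈ conjBy A g ↔ g⁻¹ * x * g ∈ A := by
  constructor
  · rintro ⟨a, ha, rfl⟩
    show g⁻¹ * (g * a * g⁻¹) * g ∈ A
    simpa [mul_assoc] using ha
  · exact fun h => ⟨g⁻¹ * x * g, h, by show g * (g⁻¹ * x * g) * g⁻¹ = x; group⟩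

theorem conj_mem_conjBy {A : Subgroup G} {g x : G} (hx : x ∈ A) : g * x * g⁻¹ ∈ conjBy A g :=
  ⟨x, hx, rfl⟩

theorem conjBy_conjBy (A : Subgroup G) (g h : G) : conjBy (conjBy A g) h = conjBy A (h * g) := by
  ext x
  rw [mem_conjBy, mem_conjBy, mem_conjBy, mul_inv_rev]
  simp only [mul_assoc]

theorem conjBy_one (A : Subgroup G) : conjBy A 1 = A := by
  ext x; rw [mem_conjBy]; simp

theorem conjBy_inj {A B : Subgroup G} {g : G} (h : conjBy A g = conjBy B g) : A = B := by
  have := congrArg (conjBy · g⁻¹) h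
  simpa only [conjBy_conjBy, inv_mul_cancel, conjBy_one] using this

theorem conjBy_eq_self_iff {A : Subgroup G} {g : G} :
    conjBy A g = A ↔ g ∈ normalizer (A : Set G) := by
  constructor
  · intro h
    rw [Subgroup.mem_normalizer_iff]
    intro x
    conv_rhs => rw [← h, mem_conjBy]
    simp [mul_assoc]
  · intro h
    ext x
    rw [mem_conjBy, Subgroup.mem_normalizer_iff.1 h (g⁻¹ * x * g)]
    simp [mul_assoc]

theorem conjBy_of_mem {A : Subgroup G} {g : G} (h : g ∈ A) : conjBy A g = A :=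
  conjBy_eq_self_iff.2 (le_normalizer h)

theorem conjBy_eq_conjBy_iff {A : Subgroup G} {g h : G} :
    conjBy A g = conjBy A h ↔ h⁻¹ * g ∈ normalizer (A : Set G) := by
  rw [← conjBy_eq_self_iff]
  constructor
  · intro e
    rw [← conjBy_conjBy, e, conjBy_conjBy, inv_mul_cancel, conjBy_one]
  · intro e
    apply conjBy_inj (g := h⁻¹)
    rw [conjBy_conjBy, conjBy_conjBy, inv_mul_cancel, conjBy_one, e]

theorem conjBy_mono {A B : Subgroup G} (h : A ≤ B) (g : G) : conjBy A g ≤ conjBy B g :=
  Subgroup.map_mono h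

theorem conjBy_le_of_mem {A X : Subgroup G} (h : A ≤ X) {g : G} (hg : g ∈ X) : conjBy A g ≤ X :=
  fun x hx => by
    obtain ⟨a, ha, rfl⟩ := hx
    exact X.mul_mem (X.mul_mem hg (h ha)) (X.inv_mem hg)

theorem mem_normalizer_of_commute {A : Subgroup G} {g : G} (h : ∀ a ∈ A, g * a = a * g) :
    g ∈ normalizer (A : Set G) :=
  Subgroup.centralizer_le_normalizer (s := (A : Set G)) (Subgroup.mem_centralizer_iff.2 fun a ha => (h a ha).symm)

theorem commute_of_commutator_eq_bot {A B : Subgroup G} (h : ⁅A, B⁆ = ⊥) {a b : G} (ha : a ∈ A)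
    (hb : b ∈ B) : a * b = b * a :=
  (Subgroup.mem_centralizer_iff.1 (Subgroup.commutator_eq_bot_iff_le_centralizer.1 h ha) b hb).symm

section Pair

variable {A B : Subgroup G} (h : IsRankOnePair A B)
include h

theorem ne_bot_left : A ≠ ⊥ := by
  intro hA
  rcases (Subgroup.bot_or_exists_ne_one B) with hB | ⟨b, hb, hb1⟩
  · exact h.ne (hA.trans hB.symm)
  · obtain ⟨a, ha, ha1, -⟩ := h.cond_right b hb hb1
    exact ha1 (Subgroup.mem_bot.1 (hA ▸ ha))

theorem ne_bot_right : B ≠ ⊥ := ne_bot_left (RankOnePair_symm h)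

theorem eq_one_of_mem_normalizer {a : G} (ha : a ∈ A) (hn : a ∈ normalizer (B : Set G)) : a = 1 := by
  by_contra ha1
  obtain ⟨b, hb, -, heq⟩ := h.cond_left a ha ha1
  rw [conjBy_eq_self_iff.2 (inv_mem hn)] at heq
  refine h.ne (conjBy_inj (g := b⁻¹) ?_)
  rw [heq, conjBy_of_mem (inv_mem hb)]

theorem inf_normalizer : A ⊓ normalizer (B : Set G) = ⊥ :=
  eq_bot_iff.2 fun _ hx => Subgroup.mem_bot.2 (eq_one_of_mem_normalizer h hx.1 hx.2)

theorem unique_conjBy {a a' : G} (ha : a ∈ A) (ha' : a' ∈ A)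
    (he : conjBy B a = conjBy B a') : a = a' := by
  rw [conjBy_eq_conjBy_iff] at he
  have := eq_one_of_mem_normalizer h (A.mul_mem (A.inv_mem ha') ha) he
  exact (inv_mul_eq_one.1 this).symm

/-- The unipotent subgroups: `A` and the conjugates of `B` under `A`. -/
theorem mem_unipotentSubgroups {C : Subgroup G} :
    C ∈ unipotentSubgroups A B ↔ C = A ∨ ∃ a ∈ A, C = conjBy B a := by
  have hB : ∃ y ∈ A ⊔ B, conjBy A y = B := by
    obtain ⟨a, ha, ha1⟩ := (Subgroup.bot_or_exists_ne_one A).resolve_left (ne_bot_left h)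
    obtain ⟨b, hb, -, he⟩ := h.cond_left a ha ha1
    refine ⟨a * b⁻¹, mul_mem (mem_sup_left ha) (inv_mem (mem_sup_right hb)), ?_⟩
    rw [← conjBy_conjBy, he, conjBy_conjBy, mul_inv_cancel, conjBy_one]
  constructor
  · rintro ⟨x, hx, rfl⟩
    let P : Subgroup G → Prop := fun C => C = A ∨ ∃ a ∈ A, C = conjBy B a
    have stepA : ∀ a ∈ A, ∀ C, P C → P (conjBy C a) := by
      rintro a ha C (rfl | ⟨a', ha', rfl⟩)
      · exact Or.inl (conjBy_of_mem ha)
      · exact Or.inr ⟨a * a', mul_mem ha ha', conjBy_conjBy _ _ _⟩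
    have stepB : ∀ b ∈ B, ∀ C, P C → P (conjBy C b) := by
      intro b hb C hC
      have hbA : ∀ b ∈ B, P (conjBy A b) := by
        intro b hb
        by_cases hb1 : b = 1
        · exact Or.inl (by rw [hb1, conjBy_one])
        obtain ⟨a, ha, -, he⟩ := h.cond_right b⁻¹ (inv_mem hb) (inv_ne_one.2 hb1)
        rw [inv_inv] at he
        exact Or.inr ⟨a⁻¹, inv_mem ha, he.symm⟩
      rcases hC with rfl | ⟨a, ha, rfl⟩
      · exact hbA b hb
      by_cases ha1 : a = 1
      · subst ha1
        exact Or.inr ⟨1, one_mem A, by rw [conjBy_one, conjBy_of_mem hb]⟩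
      obtain ⟨b', hb', -, he⟩ := h.cond_left a⁻¹ (inv_mem ha) (inv_ne_one.2 ha1)
      rw [inv_inv] at he
      rw [← he, conjBy_conjBy]
      exact hbA _ (mul_mem hb (inv_mem hb'))
    have key : ∀ C, P C → P (conjBy C x) := by
      rw [Subgroup.sup_eq_closure] at hx
      induction hx using Subgroup.closure_induction_left with
      | one => intro C hC; rwa [conjBy_one]
      | mul_left g hg y _ ih =>
        intro C hC
        rw [← conjBy_conjBy]
        rcases hg with hg | hg
        exacts [stepA g hg _ (ih C hC), stepB g hg _ (ih C hC)]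
      | inv_mul_cancel g hg y _ ih =>
        intro C hC
        rw [← conjBy_conjBy]
        rcases hg with hg | hg
        exacts [stepA _ (inv_mem hg) _ (ih C hC), stepB _ (inv_mem hg) _ (ih C hC)]
    exact key A (Or.inl rfl)
  · rintro (rfl | ⟨a, ha, rfl⟩)
    · exact ⟨1, one_mem _, (conjBy_one _).symm⟩
    · obtain ⟨y, hy, hyB⟩ := hB
      exact ⟨a * y, mul_mem (mem_sup_left ha) hy, by rw [← conjBy_conjBy, hyB]⟩

theorem left_mem_unipotentSubgroups : A ∈ unipotentSubgroups A B :=
  (mem_unipotentSubgroups h).2 (Or.inl rfl)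

theorem right_mem_unipotentSubgroups : B ∈ unipotentSubgroups A B :=
  (mem_unipotentSubgroups h).2 (Or.inr ⟨1, one_mem A, (conjBy_one B).symm⟩)

theorem conjBy_mem_unipotentSubgroups {C : Subgroup G} (hC : C ∈ unipotentSubgroups A B) {g : G}
    (hg : g ∈ A ⊔ B) : conjBy C g ∈ unipotentSubgroups A B := by
  obtain ⟨x, hx, rfl⟩ := hC
  exact ⟨g * x, mul_mem hg hx, conjBy_conjBy _ _ _⟩

theorem le_sup_of_mem_unipotentSubgroups {C : Subgroup G} (hC : C ∈ unipotentSubgroups A B) :
    C ≤ A ⊔ B := by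
  obtain ⟨x, hx, rfl⟩ := hC
  exact conjBy_le_of_mem le_sup_left hx

/-- Any ordered pair of different unipotent subgroups is conjugate to `(A, B)`. -/
theorem exists_map_pair {C D : Subgroup G} (hC : C ∈ unipotentSubgroups A B)
    (hD : D ∈ unipotentSubgroups A B) (hne : C ≠ D) :
    ∃ x ∈ A ⊔ B, conjBy C x = A ∧ conjBy D x = B := by
  obtain ⟨y, hy, rfl⟩ := hC
  have hD' := conjBy_mem_unipotentSubgroups h hD (inv_mem hy)
  rcases (mem_unipotentSubgroups h).1 hD' with hA | ⟨a, ha, hA⟩
  · refine absurd (conjBy_inj (g := y⁻¹) ?_) hne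
    rw [hA, conjBy_conjBy, inv_mul_cancel, conjBy_one]
  · refine ⟨a⁻¹ * y⁻¹, mul_mem (inv_mem (mem_sup_left ha)) (inv_mem hy), ?_, ?_⟩
    · rw [conjBy_conjBy, mul_assoc, inv_mul_cancel, mul_one, conjBy_of_mem (inv_mem ha)]
    · rw [← conjBy_conjBy, hA, conjBy_conjBy, inv_mul_cancel, conjBy_one]

theorem unipotentSubgroups_comm : unipotentSubgroups A B = unipotentSubgroups B A := by
  have key : ∀ {P Q : Subgroup G}, IsRankOnePair P Q → ∀ C ∈ unipotentSubgroups P Q,
      C ∈ unipotentSubgroups Q P := by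
    intro P Q hPQ C hC
    obtain ⟨x, hx, rfl⟩ := hC
    obtain ⟨y, hy, he⟩ := right_mem_unipotentSubgroups hPQ
    refine ⟨x * y⁻¹, by rw [sup_comm]; exact mul_mem hx (inv_mem hy), ?_⟩
    rw [he, conjBy_conjBy, mul_assoc, inv_mul_cancel, mul_one]
  exact Set.ext fun C => ⟨key h C, key (RankOnePair_symm h) C⟩

theorem sup_of_two_unipotent {C D : Subgroup G} (hC : C ∈ unipotentSubgroups A B)
    (hD : D ∈ unipotentSubgroups A B) (hne : C ≠ D) : C ⊔ D = A ⊔ B := by
  refine le_antisymm (sup_le (le_sup_of_mem_unipotentSubgroups h hC) (le_sup_of_mem_unipotentSubgroups h hD)) ?_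
  obtain ⟨x, hx, h1, h2⟩ := exists_map_pair h hC hD hne
  intro g hg
  have h3 : x * g * x⁻¹ ∈ A ⊔ B := mul_mem (mul_mem hx hg) (inv_mem hx)
  conv at h3 => arg 1; rw [← h1, ← h2, ← Subgroup.map_sup]
  obtain ⟨k, hk, hkx⟩ := h3
  rwa [show k = g from mul_left_cancel (mul_right_cancel (show x * k * x⁻¹ = x * g * x⁻¹ from hkx))] at hk

/-- For abelian `A`, a non-trivial element of `A` fixes only `A` among the unipotent subgroups. -/
theorem eq_left_of_fixed {a : G} (ha : a ∈ A) (ha1 : a ≠ 1) {C : Subgroup G}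
    (hC : C ∈ unipotentSubgroups A B) (hfix : conjBy C a = C) : C = A := by
  rcases (mem_unipotentSubgroups h).1 hC with hA | ⟨a', ha', rfl⟩
  · exact hA
  · rw [conjBy_conjBy] at hfix
    exact absurd (mul_eq_right.1 (unique_conjBy h (mul_mem ha ha') ha' hfix)) ha1

/-- An element of `A` commuting with a non-trivial element of `B` is trivial. -/
theorem eq_one_of_commute {a b : G} (ha : a ∈ A) (hb : b ∈ B) (hb1 : b ≠ 1)
    (hc : a * b = b * a) : a = 1 := by
  by_contra ha1
  have hfix : conjBy (conjBy A b) a = conjBy A b := by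
    rw [conjBy_conjBy, hc, ← conjBy_conjBy, conjBy_of_mem ha]
  have := eq_left_of_fixed h ha ha1
    (conjBy_mem_unipotentSubgroups h (left_mem_unipotentSubgroups h) (mem_sup_right hb)) hfix
  exact hb1 (eq_one_of_mem_normalizer (RankOnePair_symm h) hb (conjBy_eq_self_iff.1 this))

/-- A normal subgroup (of the group generated by the pair) is normalizing everything or covers the group with `A`. -/
theorem normal_dichotomy {N : Subgroup G} (hN : ∀ g ∈ A ⊔ B, ∀ n ∈ N, g * n * g⁻¹ ∈ N) (hNX : N ≤ A ⊔ B) :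
    A ⊔ B ≤ N ⊔ A ∨ N ≤ centralizer ((A ⊔ B : Subgroup G) : Set G) := by
  by_cases hfix : ∀ n ∈ N, conjBy A n = A
  · right
    have key : ∀ C D : Subgroup G, IsRankOnePair C D → C ≤ A ⊔ B → (∀ n ∈ N, conjBy C n = C) →
        (∀ n ∈ N, conjBy D n = D) → ∀ c ∈ C, ∀ n ∈ N, c * n = n * c := by
      intro C D hCD hC hfC hfD c hc n hn
      have h1 : c * n * c⁻¹ * n⁻¹ ∈ N := mul_mem (hN c (hC hc) n hn) (inv_mem hn)
      have h2 : c * n * c⁻¹ * n⁻¹ ∈ C := by
        rw [show c * n * c⁻¹ * n⁻¹ = c * (n * c⁻¹ * n⁻¹) by group]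
        refine mul_mem hc ?_
        rw [← hfC n hn]
        exact conj_mem_conjBy (inv_mem hc)
      have := eq_one_of_mem_normalizer hCD h2 (conjBy_eq_self_iff.1 (hfD _ h1))
      exact mul_inv_eq_iff_eq_mul.1 (mul_inv_eq_one.1 this)
    have hfB : ∀ n ∈ N, conjBy B n = B := by
      intro n hn
      obtain ⟨y, hy, hyB⟩ := right_mem_unipotentSubgroups h
      rw [hyB, conjBy_conjBy, show n * y = y * (y⁻¹ * n * y⁻¹⁻¹) by group, ← conjBy_conjBy,
        hfix _ (hN y⁻¹ (inv_mem hy) n hn)]
    intro n hn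
    rw [Subgroup.mem_centralizer_iff]
    intro g hg
    have hle : A ⊔ B ≤ centralizer ({n} : Set G) := by
      refine sup_le (fun c hc => ?_) (fun c hc => ?_) <;> rw [Subgroup.mem_centralizer_singleton_iff]
      · exact key A B h le_sup_left hfix hfB c hc n hn
      · exact key B A (RankOnePair_symm h) le_sup_right hfB hfix c hc n hn
    exact Subgroup.mem_centralizer_singleton_iff.1 (hle hg)
  · left
    push Not at hfix
    obtain ⟨n, hn, hne⟩ := hfix
    rcases (mem_unipotentSubgroups h).1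
      (conjBy_mem_unipotentSubgroups h (left_mem_unipotentSubgroups h) (hNX hn)) with e | ⟨a, ha, e⟩
    · exact absurd e hne
    refine sup_le le_sup_right ?_
    have h1 : conjBy A n ≤ N ⊔ A := conjBy_le_of_mem le_sup_right (mem_sup_left hn)
    rw [e] at h1
    have h2 := conjBy_le_of_mem h1 (show a⁻¹ ∈ N ⊔ A from mem_sup_right (inv_mem ha))
    rwa [conjBy_conjBy, inv_mul_cancel, conjBy_one] at h2

/-- A non-trivial element of `B` does not commute with any of its conjugates under `A`. -/
theorem eq_one_of_conj_commute {a b : G} (ha : a ∈ A) (hb : b ∈ B) (hb1 : b ≠ 1)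
    (hc : (a * b * a⁻¹) * b = b * (a * b * a⁻¹)) : a = 1 := by
  apply eq_one_of_mem_normalizer h ha
  have h' := RankOnePair_symm h
  set C₀ := conjBy B a with hC₀
  have hC₀m := conjBy_mem_unipotentSubgroups h (right_mem_unipotentSubgroups h) (mem_sup_left (T := B) ha)
  have hg : a * b * a⁻¹ ∈ C₀ := conj_mem_conjBy hb
  have hfixg : ∀ C ∈ unipotentSubgroups A B, conjBy C (a * b * a⁻¹) = C → C = C₀ := by
    intro C hC hfix
    have h1 : conjBy (conjBy C a⁻¹) b = conjBy C a⁻¹ := by
      apply conjBy_inj (g := a)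
      rw [conjBy_conjBy, conjBy_conjBy, conjBy_conjBy, mul_inv_cancel, conjBy_one]
      exact hfix
    have h2 := eq_left_of_fixed h' hb hb1
      (unipotentSubgroups_comm h ▸ conjBy_mem_unipotentSubgroups h hC (inv_mem (mem_sup_left ha))) h1
    rw [hC₀, ← h2, conjBy_conjBy, mul_inv_cancel, conjBy_one]
  have h3 : conjBy C₀ b = C₀ := by
    refine hfixg _ (conjBy_mem_unipotentSubgroups h hC₀m (mem_sup_right hb)) ?_
    rw [conjBy_conjBy, hc, ← conjBy_conjBy, conjBy_of_mem hg]
  exact conjBy_eq_self_iff.1 (eq_left_of_fixed h' hb hb1 (unipotentSubgroups_comm h ▸ hC₀m) h3)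

end Pair

section RootSet

variable {S : Set (Subgroup G)} (hS : IsRootSubgroupSet S)
include hS

/-- If `z` centralizes a rank one group `⟨A, B⟩` generated by members and `z a` lies in a member `C` for some
non-trivial `a ∈ A`, then `C = A` and `z = 1`. -/
theorem central_translate {A B C : Subgroup G} (hA : A ∈ S) (hB : B ∈ S) (h : IsRankOnePair A B) (hC : C ∈ S)
    {z a : G} (hz : ∀ x ∈ A ⊔ B, z * x = x * z) (ha : a ∈ A) (ha1 : a ≠ 1) (hza : z * a ∈ C) :
    C = A ∧ z = 1 := by
  haveI := hS.commutative A hA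
  have haX : a ∈ A ⊔ B := mem_sup_left ha
  have hconjB : ∀ g, (∀ x ∈ A ⊔ B, z * x = x * z) → g ∈ A ⊔ B → conjBy B (z * g) = conjBy B g := by
    intro g _ hg
    ext x
    rw [mem_conjBy, mem_conjBy]
    have key : ∀ y ∈ B, z * y = y * z := fun y hy => hz y (mem_sup_right hy)
    constructor <;> intro hx
    · have e := key _ hx
      have h2 : g⁻¹ * x * g = (z * g)⁻¹ * x * (z * g) := by
        calc g⁻¹ * x * g = z * ((z * g)⁻¹ * x * (z * g)) * z⁻¹ := by
              rw [mul_inv_rev, show g⁻¹ * z⁻¹ = z⁻¹ * g⁻¹ by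
                rw [← mul_inv_rev, ← mul_inv_rev, hz g hg]]
              conv_rhs => rw [show z * g = g * z from hz g hg]
              group
          _ = _ := by rw [e, mul_inv_cancel_right]
      rwa [h2]
    · have e := key _ hx
      have h2 : (z * g)⁻¹ * x * (z * g) = g⁻¹ * x * g := by
        calc (z * g)⁻¹ * x * (z * g) = z⁻¹ * (g⁻¹ * x * g) * z := by
              rw [mul_inv_rev, show g⁻¹ * z⁻¹ = z⁻¹ * g⁻¹ by
                rw [← mul_inv_rev, ← mul_inv_rev, hz g hg], show z * g = g * z from hz g hg]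
              group
          _ = _ := by rw [mul_assoc, ← e, inv_mul_cancel_left]
      rwa [h2]
  have hCA : C = A := by
    rcases hS.pair C hC B hB with hc | hr | ⟨-, hcen, -, -⟩
    · exfalso
      apply ha1
      apply eq_one_of_mem_normalizer h ha
      rw [← conjBy_eq_self_iff, ← hconjB a hz haX, conjBy_eq_self_iff]
      exact mem_normalizer_of_commute fun b hb => commute_of_commutator_eq_bot hc hza hb
    · by_cases hza1 : z * a = 1
      · exfalso
        apply ha1
        apply eq_one_of_mem_normalizer h ha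
        rw [← conjBy_eq_self_iff, ← hconjB a hz haX, hza1, conjBy_one]
      obtain ⟨b, hb, -, he⟩ := hr.cond_left _ hza hza1
      have hzi : conjBy B (z * a)⁻¹ = conjBy B a⁻¹ := by
        apply conjBy_inj (g := z * a)
        rw [conjBy_conjBy, mul_inv_cancel, conjBy_one, conjBy_conjBy, mul_assoc, mul_inv_cancel, mul_one]
        have := hconjB 1 hz (one_mem _)
        rw [mul_one, conjBy_one] at this
        exact this.symm
      rw [hzi] at he
      obtain ⟨b', hb', -, he'⟩ := h.cond_left a ha ha1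
      rw [← he'] at he
      have hCmem : C ∈ unipotentSubgroups A B := by
        refine ⟨b * b'⁻¹, mul_mem (mem_sup_right hb) (inv_mem (mem_sup_right hb')), ?_⟩
        rw [← conjBy_conjBy, ← he, conjBy_conjBy, mul_inv_cancel, conjBy_one]
      haveI := hS.commutative C hC
      refine eq_left_of_fixed h ha ha1 hCmem (conjBy_eq_self_iff.2 (mem_normalizer_of_commute fun c hc => ?_))
      have hcz : z * c = c * z := hz c (le_sup_of_mem_unipotentSubgroups h hCmem hc)
      have e2 : (z * a) * c = c * (z * a) :=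
        congrArg Subtype.val (IsMulCommutative.is_comm.comm (⟨_, hza⟩ : C) ⟨c, hc⟩)
      rw [mul_assoc, ← mul_assoc c z a, ← hcz, mul_assoc] at e2
      exact mul_left_cancel e2
    · exfalso
      set F := ⁅C, B⁆
      have hFB : ∀ f ∈ F, ∀ b ∈ B, f * b = b * f := fun f hf b hb => hcen f hf b (mem_sup_right hb)
      obtain ⟨b, hb, hb1⟩ := (Subgroup.bot_or_exists_ne_one B).resolve_left (ne_bot_right h)
      set f := ⁅z * a, b⁆ with hf
      have hfF : f ∈ F := Subgroup.commutator_mem_commutator hza hb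
      have hfab : f = a * b * a⁻¹ * b⁻¹ := by
        rw [hf, commutatorElement_def]
        have e : z * (a * b * a⁻¹) = (a * b * a⁻¹) * z :=
          hz _ (mul_mem (mul_mem haX (mem_sup_right hb)) (inv_mem haX))
        calc z * a * b * (z * a)⁻¹ * b⁻¹ = (z * (a * b * a⁻¹)) * z⁻¹ * b⁻¹ := by group
          _ = a * b * a⁻¹ * b⁻¹ := by rw [e, mul_inv_cancel_right]
      have hcomm : (a * b * a⁻¹) * b = b * (a * b * a⁻¹) := by
        have e : a * b * a⁻¹ = f * b := by rw [hfab]; group
        rw [e, mul_assoc, ← mul_assoc b f b, ← hFB f hfF b hb, mul_assoc]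
      exact ha1 (eq_one_of_conj_commute h ha hb hb1 hcomm)
  refine ⟨hCA, ?_⟩
  subst hCA
  have hzA : z ∈ C := by
    have := mul_mem hza (inv_mem ha)
    rwa [mul_inv_cancel_right] at this
  exact eq_one_of_mem_normalizer h hzA (mem_normalizer_of_commute fun b hb => hz b (mem_sup_right hb))

end RootSet

end CfsgLib.ThreeTrans

namespace CfsgLib.ThreeTrans

open Cfsg Subgroup
open scoped commutatorElement

variable {G : Type*} [Group G]

section Pair

variable {A B : Subgroup G} (h : IsRankOnePair A B)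
include h

/-- An element of `X = ⟨A, B⟩` fixing every unipotent subgroup centralizes `A`. -/
theorem commute_of_fixes_all {n c : G} (hc : c ∈ A) (hA : conjBy A n = A)
    (hfix : ∀ E ∈ unipotentSubgroups A B, conjBy E n = E) : c * n = n * c := by
  have h2 : c * n * c⁻¹ * n⁻¹ ∈ A := by
    rw [show c * n * c⁻¹ * n⁻¹ = c * (n * c⁻¹ * n⁻¹) by group]
    refine mul_mem hc ?_
    rw [← hA]
    exact conj_mem_conjBy (inv_mem hc)
  have hB := right_mem_unipotentSubgroups h
  have h1 : conjBy B (c * n * c⁻¹ * n⁻¹) = B := by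
    have hn : conjBy B n⁻¹ = B := by
      apply conjBy_inj (g := n)
      rw [conjBy_conjBy, mul_inv_cancel, conjBy_one, hfix B hB]
    rw [← conjBy_conjBy, hn, ← conjBy_conjBy, ← conjBy_conjBy,
      hfix _ (conjBy_mem_unipotentSubgroups h hB (inv_mem (mem_sup_left hc))), conjBy_conjBy,
      mul_inv_cancel, conjBy_one]
  have := eq_one_of_mem_normalizer h h2 (conjBy_eq_self_iff.1 h1)
  exact mul_inv_eq_iff_eq_mul.1 (mul_inv_eq_one.1 this)

/-- An element of `⟨A, B⟩` centralizing abelian `A` is an element of `A` times a central one. -/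
theorem exists_central_of_centralizing (hcomm : IsMulCommutative A) {x : G} (hx : x ∈ A ⊔ B)
    (hc : ∀ a ∈ A, x * a = a * x) :
    ∃ a ∈ A, ∃ z : G, (∀ g ∈ A ⊔ B, z * g = g * z) ∧ x = a * z := by
  haveI := hcomm
  have hxA : conjBy A x = A := conjBy_eq_self_iff.2 (mem_normalizer_of_commute hc)
  rcases (mem_unipotentSubgroups h).1
    (conjBy_mem_unipotentSubgroups h (right_mem_unipotentSubgroups h) hx) with e | ⟨a, ha, e⟩
  · exact absurd (conjBy_inj (e.trans hxA.symm)) h.ne.symm
  refine ⟨a, ha, a⁻¹ * x, ?_, by group⟩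
  set z := a⁻¹ * x with hz
  have hzA : ∀ a' ∈ A, z * a' = a' * z := by
    intro a' ha'
    have e1 : a⁻¹ * a' = a' * a⁻¹ :=
      congrArg Subtype.val (IsMulCommutative.is_comm.comm (⟨_, inv_mem ha⟩ : A) ⟨a', ha'⟩)
    rw [hz, mul_assoc, hc a' ha', ← mul_assoc, e1, mul_assoc]
  have hzB : conjBy B z = B := by
    rw [hz, ← conjBy_conjBy, e, conjBy_conjBy, inv_mul_cancel, conjBy_one]
  have hzA' : conjBy A z = A := conjBy_eq_self_iff.2 (mem_normalizer_of_commute hzA)
  have hzBc : ∀ b ∈ B, z * b = b * z := by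
    intro b hb
    by_cases hb1 : b = 1
    · simp [hb1]
    obtain ⟨a', ha', -, he⟩ := h.cond_right b hb hb1
    have h1 : conjBy A (z * b⁻¹) = conjBy A b⁻¹ := by
      rw [← conjBy_conjBy, ← he, conjBy_conjBy, hzA _ (inv_mem ha'), ← conjBy_conjBy, hzB]
    have h2 : conjBy A (z * b⁻¹ * z⁻¹) = conjBy A b⁻¹ := by
      rw [← conjBy_conjBy, show conjBy A z⁻¹ = A from ?_, h1]
      apply conjBy_inj (g := z)
      rw [conjBy_conjBy, mul_inv_cancel, conjBy_one, hzA']
    have hmem : z * b⁻¹ * z⁻¹ ∈ B := by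
      have := conj_mem_conjBy (g := z) (inv_mem hb)
      rwa [hzB] at this
    have h3 := congrArg (·⁻¹) (unique_conjBy (RankOnePair_symm h) hmem (inv_mem hb) h2)
    simp only [mul_inv_rev, inv_inv] at h3
    rw [← mul_assoc] at h3
    exact mul_inv_eq_iff_eq_mul.1 h3
  intro g hg
  have hle : A ⊔ B ≤ centralizer ({z} : Set G) := by
    refine sup_le (fun a' ha' => ?_) (fun b hb => ?_) <;> rw [Subgroup.mem_centralizer_singleton_iff]
    · exact (hzA a' ha').symm
    · exact (hzBc b hb).symm
  exact (Subgroup.mem_centralizer_singleton_iff.1 (hle hg)).symm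

end Pair

section RootSet

variable {S : Set (Subgroup G)} (hS : IsRootSubgroupSet S)
include hS

/-- If `(A, B)` and `(C, D)` are rank one pairs of members with `⟨A, B⟩ ≤ ⟨C, D⟩`, then `A` is a unipotent
subgroup of `⟨C, D⟩`. -/
theorem mem_unipotentSubgroups_of_pair_le {A B C D : Subgroup G} (hA : A ∈ S) (hAB : IsRankOnePair A B)
    (hC : C ∈ S) (hCD : IsRankOnePair C D) (hle : A ⊔ B ≤ C ⊔ D) :
    A ∈ unipotentSubgroups C D := by
  by_contra hnot
  have hAX : A ≤ C ⊔ D := le_sup_left.trans hle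
  have hES : ∀ E ∈ unipotentSubgroups C D, E ∈ S := by
    rintro E ⟨x, -, rfl⟩
    exact hS.conj_mem C hC x
  have hfix : ∀ a ∈ A, ∀ E ∈ unipotentSubgroups C D, conjBy E a = E := by
    intro a ha E hE
    rcases hS.pair A hA E (hES E hE) with hc | hr | ⟨-, hcen, -, -⟩
    · exact conjBy_eq_self_iff.2 (mem_normalizer_of_commute fun e he => commute_of_commutator_eq_bot hc ha he)
    · exfalso
      obtain ⟨a₁, ha₁, ha₁1⟩ := (Subgroup.bot_or_exists_ne_one A).resolve_left (ne_bot_left hr)
      obtain ⟨e, he, -, heq⟩ := hr.cond_left a₁ ha₁ ha₁1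
      refine hnot ?_
      have h1 := conjBy_mem_unipotentSubgroups hCD
        (conjBy_mem_unipotentSubgroups hCD hE (inv_mem (hAX ha₁)))
        (le_sup_of_mem_unipotentSubgroups hCD hE he)
      rwa [← heq, conjBy_conjBy, mul_inv_cancel, conjBy_one] at h1
    · obtain ⟨D', hD', hne⟩ : ∃ D' ∈ unipotentSubgroups C D, E ≠ D' := by
        by_cases hEC : E = C
        · exact ⟨D, right_mem_unipotentSubgroups hCD, hEC ▸ hCD.ne⟩
        · exact ⟨C, left_mem_unipotentSubgroups hCD, hEC⟩
      have hsup := sup_of_two_unipotent hCD hE hD' hne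
      have hED : IsRankOnePair E D' := by
        rcases hS.pair E (hES E hE) D' (hES D' hD') with hc' | hr' | hcc'
        · exfalso
          obtain ⟨x, hx, hx1, hx2⟩ := exists_map_pair hCD hE hD' hne
          obtain ⟨e, he, he1⟩ := (Subgroup.bot_or_exists_ne_one C).resolve_left (ne_bot_left hCD)
          obtain ⟨d, hd, hd1⟩ := (Subgroup.bot_or_exists_ne_one D).resolve_left (ne_bot_right hCD)
          rw [← hx1] at he
          rw [← hx2] at hd
          rw [mem_conjBy] at he hd
          have e2 := commute_of_commutator_eq_bot hc' he hd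
          have : e * d = d * e := by
            have := congrArg (fun g => x * g * x⁻¹) e2
            simpa [mul_assoc] using this
          rw [← mem_conjBy, hx1] at he
          rw [← mem_conjBy, hx2] at hd
          exact he1 (eq_one_of_commute hCD he hd hd1 this)
        · exact hr'
        · exfalso
          obtain ⟨x, hx, hx1, hx2⟩ := exists_map_pair hCD hE hD' hne
          obtain ⟨c, hc0, hc1⟩ := (Subgroup.bot_or_exists_ne_one C).resolve_left (ne_bot_left hCD)
          obtain ⟨d, hd, hd1⟩ := (Subgroup.bot_or_exists_ne_one D).resolve_left (ne_bot_right hCD)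
          rw [← hx1, mem_conjBy] at hc0
          rw [← hx2, mem_conjBy] at hd
          set c' := x⁻¹ * c * x
          set d' := x⁻¹ * d * x
          have hf : c' * d' * c'⁻¹ * d'⁻¹ ∈ ⁅E, D'⁆ := Subgroup.commutator_mem_commutator hc0 hd
          have e2 := hcc'.2.1 _ hf d' (mem_sup_right hd)
          have hcomm : (c * d * c⁻¹) * d = d * (c * d * c⁻¹) := by
            have e3 := congrArg (fun g => x * g * x⁻¹ * d) e2
            have e4 : (c * d * c⁻¹) * d = x * (c' * d' * c'⁻¹ * d'⁻¹ * d') * x⁻¹ * d := by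
              simp only [c', d']; group
            have e5 : d * (c * d * c⁻¹) = x * (d' * (c' * d' * c'⁻¹ * d'⁻¹)) * x⁻¹ * d := by
              simp only [c', d']; group
            rw [e4, e5]; exact e3
          rw [← mem_conjBy, hx1] at hc0
          rw [← mem_conjBy, hx2] at hd
          exact hc1 (eq_one_of_conj_commute hCD hc0 hd hd1 hcomm)
      obtain ⟨e, he, he1⟩ := (Subgroup.bot_or_exists_ne_one E).resolve_left (ne_bot_left hED)
      haveI := hS.commutative E (hES E hE)
      set f := a * e * a⁻¹ * e⁻¹ with hf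
      have hfA : f ∈ ⁅A, E⁆ := Subgroup.commutator_mem_commutator ha he
      have hEX : E ≤ C ⊔ D := le_sup_of_mem_unipotentSubgroups hCD hE
      have hfX : f ∈ E ⊔ D' := by
        rw [hsup]
        exact mul_mem (mul_mem (mul_mem (hAX ha) (hEX he)) (inv_mem (hAX ha))) (inv_mem (hEX he))
      obtain ⟨e', he', z, hz, hfe⟩ := exists_central_of_centralizing hED (hS.commutative E (hES E hE)) hfX
        fun y hy => hcen f hfA y (mem_sup_right hy)
      have hz' : ∀ g ∈ E ⊔ D', z * g = g * z := hz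
      have hmem : a * e * a⁻¹ ∈ conjBy E a := conj_mem_conjBy he
      have hval : a * e * a⁻¹ = z * (e' * e) := by
        rw [← mul_assoc, hz' e' (mem_sup_left he'), ← hfe, hf]; group
      rw [hval] at hmem
      by_cases hee : e' * e = 1
      · exfalso
        rw [hee, mul_one] at hval
        have hzfix : ∀ g ∈ E ⊔ D', e * g = g * e := by
          intro g hg
          have haX : a ∈ E ⊔ D' := by rw [hsup]; exact hAX ha
          have := hz' (a * g * a⁻¹) (mul_mem (mul_mem haX hg) (inv_mem haX))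
          rw [← hval] at this
          simp only [mul_assoc] at this
          have h2 := congrArg (· * a) (by simpa [mul_assoc] using this : e * (g * a⁻¹) = g * (e * a⁻¹))
          simpa [mul_assoc] using h2
        exact he1 (eq_one_of_mem_normalizer hED he
          (mem_normalizer_of_commute fun y hy => hzfix y (mem_sup_right hy)))
      · exact (central_translate hS (hES E hE) (hES D' hD') hED (hS.conj_mem E (hES E hE) a) hz'
          (mul_mem he' he) hee hmem).1
  obtain ⟨a, ha, ha1⟩ := (Subgroup.bot_or_exists_ne_one A).resolve_left (ne_bot_left hAB)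
  obtain ⟨b, hb, hb1⟩ := (Subgroup.bot_or_exists_ne_one B).resolve_left (ne_bot_right hAB)
  refine ha1 (eq_one_of_commute hAB ha hb hb1 ?_)
  have hle' : C ⊔ D ≤ centralizer ({a} : Set G) := by
    refine sup_le (fun c hc => ?_) (fun d hd => ?_) <;> rw [Subgroup.mem_centralizer_singleton_iff]
    · exact commute_of_fixes_all hCD hc (hfix a ha C (left_mem_unipotentSubgroups hCD)) (hfix a ha)
    · exact commute_of_fixes_all (RankOnePair_symm hCD) hd (hfix a ha D (right_mem_unipotentSubgroups hCD))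
        fun E hE => hfix a ha E (unipotentSubgroups_comm hCD ▸ hE)
  exact (Subgroup.mem_centralizer_singleton_iff.1 (hle' (hle (mem_sup_right hb)))).symm

end RootSet

end CfsgLib.ThreeTrans
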