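import Mathlib
import Cfsg.Prelude
import Cfsg.Agent.Lib.ThreeTrans.RankOne
import Cfsg.Agent.Lib.Classical.SLGroup

/-!
`SL₂(k)` as a special rank one group.
-/

set_option autoImplicit false

namespace CfsgLib.ThreeTrans.RankOneSL2

open Cfsg Matrix

variable {k : Type*} [Field k]

/-- `!![1, 0; t, 1]`. -/
def lowerEl (t : k) : SpecialLinearGroup (Fin 2) k := ⟨!![1, 0; t, 1], by simp [Matrix.det_fin_two]⟩

/-- `!![1, s; 0, 1]`. -/
def upperEl (s : k) : SpecialLinearGroup (Fin 2) k := ⟨!![1, s; 0, 1], by simp [Matrix.det_fin_two]⟩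

theorem lowerEl_add (t t' : k) : lowerEl t * lowerEl t' = lowerEl (t + t') := by
  apply Subtype.ext
  show !![1, 0; t, 1] * !![1, 0; t', 1] = !![1, 0; t + t', 1]
  simp [Matrix.mul_fin_two]

theorem upperEl_add (t t' : k) : upperEl t * upperEl t' = upperEl (t + t') := by
  apply Subtype.ext
  show !![1, t; 0, 1] * !![1, t'; 0, 1] = !![1, t + t'; 0, 1]
  simp [Matrix.mul_fin_two, add_comm]

theorem lowerEl_zero : lowerEl (0 : k) = 1 := by
  apply Subtype.ext; exact Matrix.one_fin_two.symm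

theorem upperEl_zero : upperEl (0 : k) = 1 := by
  apply Subtype.ext; exact Matrix.one_fin_two.symm

theorem lowerEl_inv (t : k) : (lowerEl t)⁻¹ = lowerEl (-t) := by
  rw [inv_eq_iff_mul_eq_one, lowerEl_add, add_neg_cancel, lowerEl_zero]

theorem upperEl_inv (t : k) : (upperEl t)⁻¹ = upperEl (-t) := by
  rw [inv_eq_iff_mul_eq_one, upperEl_add, add_neg_cancel, upperEl_zero]

theorem mem_lower {g : SpecialLinearGroup (Fin 2) k} : g ∈ lowerUnipotentSL2 k ↔ ∃ t, g = lowerEl t := by
  constructor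
  · intro h
    induction h using Subgroup.closure_induction with
    | mem x hx =>
      refine ⟨(x : Matrix (Fin 2) (Fin 2) k) 1 0, ?_⟩
      ext i j; fin_cases i <;> fin_cases j <;> simp [lowerEl, hx.1, hx.2.1, hx.2.2]
    | one => exact ⟨0, lowerEl_zero.symm⟩
    | mul x y _ _ hx hy =>
      obtain ⟨a, rfl⟩ := hx; obtain ⟨b, rfl⟩ := hy; exact ⟨_, lowerEl_add a b⟩
    | inv x _ hx => obtain ⟨a, rfl⟩ := hx; exact ⟨_, lowerEl_inv a⟩
  · rintro ⟨t, rfl⟩
    exact Subgroup.subset_closure ⟨by simp [lowerEl], by simp [lowerEl], by simp [lowerEl]⟩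

theorem mem_upper {g : SpecialLinearGroup (Fin 2) k} : g ∈ upperUnipotentSL2 k ↔ ∃ t, g = upperEl t := by
  constructor
  · intro h
    induction h using Subgroup.closure_induction with
    | mem x hx =>
      refine ⟨(x : Matrix (Fin 2) (Fin 2) k) 0 1, ?_⟩
      ext i j; fin_cases i <;> fin_cases j <;> simp [upperEl, hx.1, hx.2.1, hx.2.2]
    | one => exact ⟨0, upperEl_zero.symm⟩
    | mul x y _ _ hx hy =>
      obtain ⟨a, rfl⟩ := hx; obtain ⟨b, rfl⟩ := hy; exact ⟨_, upperEl_add a b⟩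
    | inv x _ hx => obtain ⟨a, rfl⟩ := hx; exact ⟨_, upperEl_inv a⟩
  · rintro ⟨t, rfl⟩
    exact Subgroup.subset_closure ⟨by simp [upperEl], by simp [upperEl], by simp [upperEl]⟩

theorem conj_key {s t : k} (h : s * t = 1) (r : k) :
    (upperEl s)⁻¹ * lowerEl r * upperEl s = (lowerEl t)⁻¹ * upperEl (-(s * s * r)) * lowerEl t := by
  rw [upperEl_inv, lowerEl_inv]
  apply Subtype.ext
  show !![1, -s; 0, 1] * !![1, 0; r, 1] * !![1, s; 0, 1]
    = !![1, 0; -t, 1] * !![1, -(s * s * r); 0, 1] * !![1, 0; t, 1]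
  rw [Matrix.mul_fin_two, Matrix.mul_fin_two, Matrix.mul_fin_two, Matrix.mul_fin_two]
  simp only [one_mul, zero_mul, mul_zero, mul_one, add_zero, zero_add]
  ext i j
  fin_cases i <;> fin_cases j <;> simp <;> first
    | ring1
    | linear_combination (r * s) * h
    | linear_combination (-(r * s)) * h
    | linear_combination (-r - r * (s * t)) * h
    | linear_combination (r + r * (s * t)) * h

theorem conj_eq {s t : k} (h : s * t = 1) :
    conjBy (lowerUnipotentSL2 k) (upperEl s)⁻¹ = conjBy (upperUnipotentSL2 k) (lowerEl t)⁻¹ := by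
  have hs : s ≠ 0 := left_ne_zero_of_mul_eq_one h
  ext x
  rw [mem_conjBy, mem_conjBy, inv_inv, inv_inv, mem_lower, mem_upper]
  constructor
  · rintro ⟨r, hr⟩
    refine ⟨-(s * s * r), ?_⟩
    have hx : x = (upperEl s)⁻¹ * lowerEl r * upperEl s := by rw [← hr]; group
    rw [hx, conj_key h]; group
  · rintro ⟨u, hu⟩
    refine ⟨-(u / (s * s)), ?_⟩
    have hx : x = (lowerEl t)⁻¹ * upperEl u * lowerEl t := by rw [← hu]; group
    have hk := conj_key h (-(u / (s * s)))
    rw [show -(s * s * -(u / (s * s))) = u by field_simp] at hk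
    rw [hx, ← hk]; group

theorem of_conj_eq {s t : k} (hs : s ≠ 0)
    (h : conjBy (lowerUnipotentSL2 k) (upperEl s)⁻¹ = conjBy (upperUnipotentSL2 k) (lowerEl t)⁻¹) :
    s * t = 1 := by
  have hmem : (upperEl s)⁻¹ * lowerEl 1 * upperEl s ∈ conjBy (upperUnipotentSL2 k) (lowerEl t)⁻¹ := by
    rw [← h, mem_conjBy, inv_inv, mem_lower]; exact ⟨1, by group⟩
  rw [mem_conjBy, inv_inv, mem_upper] at hmem
  obtain ⟨u, hu⟩ := hmem
  have hx : upperEl (-s) * lowerEl 1 * upperEl s = lowerEl (-t) * upperEl u * lowerEl t := by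
    rw [← upperEl_inv, ← lowerEl_inv, ← hu]; group
  have hm : !![1, -s; 0, 1] * !![1, 0; 1, 1] * !![1, s; 0, 1]
      = !![1, 0; -t, 1] * !![1, u; 0, 1] * !![1, 0; t, 1] := congrArg Subtype.val hx
  rw [Matrix.mul_fin_two, Matrix.mul_fin_two, Matrix.mul_fin_two, Matrix.mul_fin_two] at hm
  have h00 := congrFun (congrFun hm 0) 0
  have h01 := congrFun (congrFun hm 0) 1
  simp at h00 h01
  refine mul_left_cancel₀ hs ?_
  linear_combination h00 - t * h01

theorem lower_ne_upper : lowerUnipotentSL2 k ≠ upperUnipotentSL2 k := by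
  intro h
  have : lowerEl (1 : k) ∈ upperUnipotentSL2 k := h ▸ mem_lower.2 ⟨1, rfl⟩
  obtain ⟨s, hs⟩ := mem_upper.1 this
  have := congrFun (congrFun (congrArg Subtype.val hs) 1) 0
  simp [lowerEl, upperEl] at this

theorem isMulCommutative_lower : IsMulCommutative (lowerUnipotentSL2 k) := by
  refine ⟨⟨fun x y => Subtype.ext ?_⟩⟩
  obtain ⟨a, ha⟩ := mem_lower.1 x.2
  obtain ⟨b, hb⟩ := mem_lower.1 y.2
  show (x : SpecialLinearGroup (Fin 2) k) * y = y * x
  rw [ha, hb, lowerEl_add, lowerEl_add, add_comm]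

theorem isMulCommutative_upper : IsMulCommutative (upperUnipotentSL2 k) := by
  refine ⟨⟨fun x y => Subtype.ext ?_⟩⟩
  obtain ⟨a, ha⟩ := mem_upper.1 x.2
  obtain ⟨b, hb⟩ := mem_upper.1 y.2
  show (x : SpecialLinearGroup (Fin 2) k) * y = y * x
  rw [ha, hb, upperEl_add, upperEl_add, add_comm]

theorem sup_eq_top : lowerUnipotentSL2 k ⊔ upperUnipotentSL2 k = ⊤ := by
  refine CfsgLib.Classical.closure_transvection_eq_top _ fun i j hij c => ?_
  fin_cases i <;> fin_cases j
  · exact absurd rfl hij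
  · refine Subgroup.mem_sup_right (mem_upper.2 ⟨c, ?_⟩)
    ext a b; fin_cases a <;> fin_cases b <;>
      simp [upperEl, SpecialLinearGroup.transvection, Matrix.transvection, Matrix.single]
  · refine Subgroup.mem_sup_left (mem_lower.2 ⟨c, ?_⟩)
    ext a b; fin_cases a <;> fin_cases b <;>
      simp [lowerEl, SpecialLinearGroup.transvection, Matrix.transvection, Matrix.single]
  · exact absurd rfl hij

theorem nilp {G : Type*} [Group G] (H : Subgroup G) [IsMulCommutative H] : Group.IsNilpotent H :=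
  letI : CommGroup H := { (inferInstance : Group H) with mul_comm := fun a b => IsMulCommutative.is_comm.comm a b }
  CommGroup.isNilpotent

theorem isRankOnePair : IsRankOnePair (lowerUnipotentSL2 k) (upperUnipotentSL2 k) := by
  have hl : Group.IsNilpotent (lowerUnipotentSL2 k) :=
    haveI := isMulCommutative_lower (k := k); CfsgLib.ThreeTrans.RankOneSL2.nilp _
  have hu : Group.IsNilpotent (upperUnipotentSL2 k) :=
    haveI := isMulCommutative_upper (k := k); CfsgLib.ThreeTrans.RankOneSL2.nilp _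
  refine ⟨lower_ne_upper, hl, hu, fun a ha ha1 => ?_, fun b hb hb1 => ?_⟩
  · obtain ⟨t, rfl⟩ := mem_lower.1 ha
    have ht : t ≠ 0 := fun e => ha1 (by rw [e, lowerEl_zero])
    refine ⟨upperEl t⁻¹, mem_upper.2 ⟨_, rfl⟩, fun e => ?_, conj_eq (inv_mul_cancel₀ ht)⟩
    have := congrFun (congrFun (congrArg Subtype.val e) 0) 1
    simp [upperEl, ht] at this
  · obtain ⟨s, rfl⟩ := mem_upper.1 hb
    have hs : s ≠ 0 := fun e => hb1 (by rw [e, upperEl_zero])
    refine ⟨lowerEl s⁻¹, mem_lower.2 ⟨_, rfl⟩, fun e => ?_, (conj_eq (mul_inv_cancel₀ hs)).symm⟩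
    have := congrFun (congrFun (congrArg Subtype.val e) 1) 0
    simp [lowerEl, hs] at this

theorem isSpecial : IsSpecialRankOnePair (lowerUnipotentSL2 k) (upperUnipotentSL2 k) := by
  refine ⟨isRankOnePair, fun a ha _ b hb hb1 he => ?_⟩
  obtain ⟨t, rfl⟩ := mem_lower.1 ha
  obtain ⟨s, rfl⟩ := mem_upper.1 hb
  have hs : s ≠ 0 := fun e => hb1 (by rw [e, upperEl_zero])
  have h := of_conj_eq hs he
  rw [conj_key h, upperEl_inv, show -(s * s * t) = -s by linear_combination (-s) * h]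

theorem abelian : HasAbelianUnipotents (lowerUnipotentSL2 k) (upperUnipotentSL2 k) :=
  ⟨isMulCommutative_lower, isMulCommutative_upper⟩

end CfsgLib.ThreeTrans.RankOneSL2
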