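import Cfsg.Agent.Lib.Classical.Unitary.Transvection
import Cfsg.Agent.Lib.Classical.Unitary.Matrix
import Cfsg.Prelude.Def_SporadicB

/-!
Unitary transvections over the field with four elements are a class of 3-transpositions.
-/

set_option autoImplicit false

namespace CfsgLib.ThreeTrans.UnitaryTransTwo

open CfsgLib.Classical CfsgLib.Classical.Herm
open scoped Matrix

variable {F : Type} [Field F] [Fintype F] {n : ℕ} (hF : Fintype.card F = 2 ^ 2)

include hF

theorem two_zero : (2 : F) = 0 := by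
  have h : CharP F 2 := charP_of_card_eq_prime_pow hF
  exact CharP.cast_eq_zero F 2

theorem skew_cases {c : F} (hc : c + powHom hF c = 0) : c = 0 ∨ c = 1 := by
  rw [powHom_apply] at hc
  have : c * (c + 1) = 0 := by linear_combination hc
  rcases mul_eq_zero.1 this with h | h
  · exact Or.inl h
  · exact Or.inr (by linear_combination h - two_zero hF)

theorem skew_one : (1 : F) + powHom hF 1 = 0 := by
  rw [map_one, one_add_one_eq_two, two_zero hF]

theorem norm_one {x : F} (hx : x ≠ 0) : powHom hF x * x = 1 := by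
  have h := FiniteField.pow_card_sub_one_eq_one x hx
  rw [hF] at h
  rw [powHom_apply, ← pow_succ]
  exact h

/-- The transvection with centre `u`. -/
noncomputable def t {u : Fin n → F} (hu : hermStd n hF u u = 0) : HU (hermStd n hF) :=
  (hermStd_isHerm hF).tr hu (skew_one hF)

theorem t_apply {u : Fin n → F} (hu : hermStd n hF u u = 0) (y : Fin n → F) :
    (t hF hu : (Fin n → F) ≃ₗ[F] (Fin n → F)) y = y + hermStd n hF u y • u := by
  rw [t, (hermStd_isHerm hF).tr_apply, one_mul]

theorem t_congr {u v : Fin n → F} (hu : hermStd n hF u u = 0) (hv : hermStd n hF v v = 0)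
    {a : F} (ha : a ≠ 0) (e : v = a • u) : t hF hv = t hF hu := by
  refine Subtype.ext (LinearEquiv.ext fun y => ?_)
  rw [t_apply, t_apply, e, smul_left, smul_smul, mul_comm (powHom hF a), mul_assoc, norm_one hF ha, mul_one]

theorem t_mul_self {u : Fin n → F} (hu : hermStd n hF u u = 0) : t hF hu * t hF hu = 1 := by
  refine Subtype.ext (LinearEquiv.ext fun y => ?_)
  show (t hF hu : (Fin n → F) ≃ₗ[F] (Fin n → F)) ((t hF hu : (Fin n → F) ≃ₗ[F] (Fin n → F)) y) = y
  rw [t_apply, t_apply, map_add, smul_right, hu, mul_zero, add_zero, add_assoc, ← add_smul,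
    ← two_mul, two_zero hF, zero_mul, zero_smul, add_zero]

theorem t_conj (g : HU (hermStd n hF)) {u : Fin n → F} (hu : hermStd n hF u u = 0) :
    g * t hF hu * g⁻¹ = t hF (u := (g : (Fin n → F) ≃ₗ[F] (Fin n → F)) u) ((HU.map_eq g u u).trans hu) :=
  (hermStd_isHerm hF).conj_tr hu (skew_one hF) g

theorem products {u v : Fin n → F} (hu : hermStd n hF u u = 0) (hv : hermStd n hF v v = 0) :
    (t hF hu * t hF hv) ^ 2 = 1 ∨ (t hF hu * t hF hv) ^ 3 = 1 := by
  have hi : ∀ {a : Fin n → F} (ha : hermStd n hF a a = 0), (t hF ha)⁻¹ = t hF ha := fun ha =>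
    inv_eq_of_mul_eq_one_right (t_mul_self hF ha)
  have h1 := t_conj hF (t hF hu) hv
  have h2 := t_conj hF (t hF hv) hu
  rw [hi] at h1 h2
  by_cases hb : hermStd n hF u v = 0
  · left
    have hfix : (t hF hu : (Fin n → F) ≃ₗ[F] (Fin n → F)) v = (1 : F) • v := by
      rw [t_apply, hb, zero_smul, add_zero, one_smul]
    rw [t_congr hF hv _ one_ne_zero hfix] at h1
    rw [pow_two, ← mul_assoc, h1, t_mul_self]
  · right
    have e : (t hF hv : (Fin n → F) ≃ₗ[F] (Fin n → F)) u =
        powHom hF (hermStd n hF u v) • (t hF hu : (Fin n → F) ≃ₗ[F] (Fin n → F)) v := by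
      rw [t_apply, t_apply, ← (hermStd_isHerm hF).symm u v, smul_add, smul_smul, norm_one hF hb,
        one_smul, add_comm]
    rw [t_congr hF ((HU.map_eq _ v v).trans hv) _
      (fun h0 => hb (IsInvol.apply_eq_zero_iff.1 h0)) e, ← h1] at h2
    calc (t hF hu * t hF hv) ^ 3
          = (t hF hu * t hF hv * t hF hu) * (t hF hv * t hF hu * t hF hv) := by
          simp only [pow_succ, pow_zero, one_mul, mul_assoc]
      _ = (t hF hu * t hF hv * t hF hu) * (t hF hu * t hF hv * t hF hu) := by rw [h2]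
      _ = 1 := by
        simp only [mul_assoc]
        rw [← mul_assoc (t hF hu) (t hF hu), t_mul_self, one_mul,
          ← mul_assoc (t hF hv) (t hF hv), t_mul_self, one_mul, t_mul_self]

theorem rank_t {u : Fin n → F} (hu : hermStd n hF u u = 0) (hu0 : u ≠ 0)
    {M : Matrix (Fin n) (Fin n) F}
    (hM : ∀ y, M *ᵥ y = (t hF hu : (Fin n → F) ≃ₗ[F] (Fin n → F)) y) : (M - 1).rank = 1 := by
  rw [Matrix.rank]
  have h : LinearMap.range (Matrix.mulVecLin (M - 1)) = Submodule.span F {u} := by
    refine le_antisymm ?_ ((Submodule.span_singleton_le_iff_mem _ _).2 ?_)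
    · rintro _ ⟨x, rfl⟩
      rw [Matrix.mulVecLin_apply, Matrix.sub_mulVec, Matrix.one_mulVec, hM, t_apply,
        add_sub_cancel_left]
      exact Submodule.smul_mem _ _ (Submodule.mem_span_singleton_self u)
    · obtain ⟨y, hy⟩ := (hermStd_isHerm hF).exists_apply_eq_one hu0
      exact ⟨y, by rw [Matrix.mulVecLin_apply, Matrix.sub_mulVec, Matrix.one_mulVec, hM, t_apply,
        hy, one_smul, add_sub_cancel_left]⟩
  rw [h, finrank_span_singleton hu0]

theorem eq_t (g : Cfsg.SU n F 2) (hg : ((g.1.1 : Matrix (Fin n) (Fin n) F) - 1).rank = 1) :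
    ∃ (u : Fin n → F) (hu : hermStd n hF u u = 0), u ≠ 0 ∧
      (suEquiv n hF g : HU (hermStd n hF)) = t hF hu := by
  have h := hermStd_isHerm (n := n) hF
  set e : HU (hermStd n hF) := (suEquiv n hF g : HU (hermStd n hF)) with he
  rw [Matrix.rank] at hg
  obtain ⟨⟨w, hwm⟩, hw0, hall⟩ := finrank_eq_one_iff'.1 hg
  have hw : w ≠ 0 := fun e => hw0 (Subtype.ext e)
  obtain ⟨z, hz⟩ := h.exists_apply_eq_one hw
  let L : (Fin n → F) →ₗ[F] (Fin n → F) := (e : (Fin n → F) ≃ₗ[F] (Fin n → F)).toLinearMap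
  have hspan : ∀ x, ∃ c : F, (e : (Fin n → F) ≃ₗ[F] (Fin n → F)) x = x + c • w := by
    intro x
    obtain ⟨c, hc⟩ := hall ⟨_, x, rfl⟩
    refine ⟨c, ?_⟩
    have hc' := congrArg Subtype.val hc
    simp only [SetLike.val_smul] at hc'
    rw [Matrix.mulVecLin_apply, Matrix.sub_mulVec, Matrix.one_mulVec] at hc'
    rw [he, suEquiv_apply, hc', add_sub_cancel]
  let f : (Fin n → F) →ₗ[F] F := (hermStd n hF z).comp (L - LinearMap.id)
  choose c hc using hspan
  have hzw : hermStd n hF z w = 1 := by rw [← h.symm w z, hz, map_one]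
  have hfc : ∀ x, f x = c x := fun x => by
    simp [f, L, hc, hzw]
  have hfw : f w = 0 := by
    have hdet : LinearMap.det L = 1 := by
      have := (suEquiv n hF g).2
      rw [MonoidHom.mem_ker] at this
      have h2 := congrArg Units.val this
      rw [show ((1 : Fˣ) : F) = 1 from rfl] at h2
      rw [← h2]; exact (LinearEquiv.coe_det _).symm
    have hL : L = LinearMap.transvection f w := LinearMap.ext fun x => by
      rw [LinearMap.transvection.apply, hfc]; exact hc x
    rw [hL, LinearMap.transvection.det] at hdet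
    simpa using hdet
  have hiso : ∀ x y, powHom hF (c x) * hermStd n hF w y + c y * hermStd n hF x w +
      powHom hF (c x) * c y * hermStd n hF w w = 0 := fun x y => by
    have := HU.map_eq e x y
    rw [hc, hc] at this
    simp only [map_add, LinearMap.add_apply, smul_left, smul_right] at this
    linear_combination this
  obtain ⟨x₀, hx₀⟩ : ∃ x, c x ≠ 0 := by
    by_contra hn
    push Not at hn
    obtain ⟨x, hx⟩ := hwm
    apply hw
    rw [← hx, Matrix.mulVecLin_apply, Matrix.sub_mulVec, Matrix.one_mulVec, ← suEquiv_apply hF,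
      ← he, hc, hn, zero_smul, add_zero, sub_self]
  have hcw : c w = 0 := (hfc w).symm.trans hfw
  have hww : hermStd n hF w w = 0 := by
    have := hiso x₀ w
    rw [hcw, mul_zero, zero_mul, add_zero, zero_mul, add_zero, mul_eq_zero] at this
    exact this.resolve_left fun h0 => hx₀ (IsInvol.apply_eq_zero_iff.1 h0)
  have hcx : ∀ x, c x = -(powHom hF (c z)) * hermStd n hF w x := fun x => by
    have := hiso x z
    rw [hww, mul_zero, add_zero, hz, mul_one] at this
    have h2 := congrArg (powHom hF) (eq_neg_of_add_eq_zero_left this)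
    rw [(powHom_isInvol hF).invol, map_neg, map_mul, h.symm] at h2
    rw [h2, neg_mul]
  have hskew : c z + powHom hF (c z) = 0 := by
    have := hcx z
    rw [hz, mul_one] at this
    linear_combination this
  have hc1 : c z = 1 := (skew_cases hF hskew).resolve_left fun h0 => hx₀ (by rw [hcx, h0]; simp)
  refine ⟨w, hww, hw, Subtype.ext (LinearEquiv.ext fun x => ?_)⟩
  rw [hc, t_apply, hcx, hc1, map_one]
  congr 2
  linear_combination -(hermStd n hF w x) * two_zero hF

theorem threeTranspositionClass (hn : 4 ≤ n) :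
    Cfsg.IsThreeTranspositionClass {g : Cfsg.SU n F 2 |
      ((g.1.1 : Matrix (Fin n) (Fin n) F) - 1).rank = 1} := by
  have h := hermStd_isHerm (n := n) hF
  have mk : ∀ {u : Fin n → F} (hu : hermStd n hF u u = 0), t hF hu ∈ HSU (hermStd n hF) :=
    fun hu => h.trGroup_le (h.tr_mem hu _)
  have mem : ∀ g : Cfsg.SU n F 2, ((g.1.1 : Matrix (Fin n) (Fin n) F) - 1).rank = 1 ↔
      ∃ (u : Fin n → F) (hu : hermStd n hF u u = 0), u ≠ 0 ∧
        (suEquiv n hF g : HU (hermStd n hF)) = t hF hu := fun g =>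
    ⟨eq_t hF g, fun ⟨u, hu, hu0, e⟩ => rank_t hF hu hu0 fun y => by rw [← e, suEquiv_apply]⟩
  obtain ⟨u₀, hu₀, huu₀⟩ := h.exists_isotropic (by rw [finrank_std]; omega)
  set d₀ := (suEquiv n hF).symm ⟨t hF huu₀, mk huu₀⟩ with hd₀
  have hd₀' : (suEquiv n hF d₀ : HU (hermStd n hF)) = t hF huu₀ := by
    rw [hd₀, MulEquiv.apply_symm_apply]
  refine ⟨⟨fun d hd => ?_, ?_⟩, ⟨d₀, (mem d₀).2 ⟨u₀, huu₀, hu₀, hd₀'⟩, ?_⟩, ?_⟩
  · obtain ⟨u, hu, -, e⟩ := (mem d).1 hd
    refine orderOf_eq_prime ?_ fun h1 => ?_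
    · apply (suEquiv n hF).injective
      refine Subtype.ext ?_
      rw [map_pow, SubgroupClass.coe_pow, e, pow_two, t_mul_self, map_one]; rfl
    · rw [Set.mem_ofPred_eq, h1] at hd
      simp at hd
  · intro d hd e he
    obtain ⟨u, hu, -, e1⟩ := (mem d).1 hd
    obtain ⟨v, hv, -, e2⟩ := (mem e).1 he
    refine (products hF hu hv).imp (fun h => ?_) (fun h => ?_) <;>
    · apply (suEquiv n hF).injective
      refine Subtype.ext ?_
      rw [map_pow, map_mul, map_one, SubgroupClass.coe_pow, Subgroup.coe_mul, e1, e2, h]; rfl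
  · ext g
    show _ ↔ IsConj d₀ g
    rw [isConj_iff]
    constructor
    · intro hg
      obtain ⟨v, hv, hv0, e⟩ := (mem g).1 hg
      obtain ⟨s, hs, hsv⟩ := h.transitive_isotropic (by rw [finrank_std]; omega) hu₀ hv0 huu₀ hv
      refine ⟨(suEquiv n hF).symm ⟨s, h.trGroup_le hs⟩, ?_⟩
      apply (suEquiv n hF).injective
      refine Subtype.ext ?_
      rw [map_mul, map_mul, map_inv, MulEquiv.apply_symm_apply, Subgroup.coe_mul, Subgroup.coe_mul,
        Subgroup.coe_inv, hd₀', e, t_conj]
      subst hsv; rfl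
    · rintro ⟨c, rfl⟩
      refine (mem _).2 ⟨((suEquiv n hF c : HU (hermStd n hF)) : (Fin n → F) ≃ₗ[F] (Fin n → F)) u₀,
        (HU.map_eq _ _ _).trans huu₀, by simpa using hu₀, ?_⟩
      rw [map_mul, map_mul, map_inv, Subgroup.coe_mul, Subgroup.coe_mul, Subgroup.coe_inv, hd₀',
        t_conj]
  · rw [eq_top_iff]
    intro g _
    have hg : (suEquiv n hF g : HU (hermStd n hF)) ∈ h.trGroup :=
      h.generated (by rw [finrank_std]; omega) (fun h3 => by rw [finrank_std] at h3; omega)
        (suEquiv n hF g).2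
    have hle : h.trGroup ≤ (Subgroup.closure {g : Cfsg.SU n F 2 |
        ((g.1.1 : Matrix (Fin n) (Fin n) F) - 1).rank = 1}).map
        ((HSU (hermStd n hF)).subtype.comp (suEquiv n hF).toMonoidHom) := by
      refine (Subgroup.closure_le _).2 ?_
      rintro _ ⟨u, hu, c, hc, rfl⟩
      rcases skew_cases hF hc with rfl | rfl
      · refine ⟨1, one_mem _, Subtype.ext (LinearEquiv.ext fun y => ?_)⟩
        rw [h.tr_apply, zero_mul, zero_smul, add_zero, map_one]; rfl
      · by_cases hu0 : u = 0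
        · refine ⟨1, one_mem _, Subtype.ext (LinearEquiv.ext fun y => ?_)⟩
          rw [h.tr_apply, hu0, smul_zero, add_zero, map_one]; rfl
        · have e : ((suEquiv n hF ((suEquiv n hF).symm ⟨t hF hu, mk hu⟩)) : HU (hermStd n hF)) =
              t hF hu := by rw [MulEquiv.apply_symm_apply]
          exact ⟨_, Subgroup.subset_closure ((mem _).2 ⟨u, hu, hu0, e⟩), e⟩
    obtain ⟨g', hg', e⟩ := hle hg
    rwa [← (suEquiv n hF).injective (Subtype.ext e)]

end CfsgLib.ThreeTrans.UnitaryTransTwo
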