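import Mathlib

set_option autoImplicit false

/-!
Products of two involutions (owner: helper28).
-/

namespace CfsgLib.ThreeTrans

variable {G : Type*} [Group G]

theorem mul_self_of_orderOf_two {a : G} (ha : orderOf a = 2) : a * a = 1 := by
  rw [← pow_two, ← ha]; exact pow_orderOf_eq_one a

theorem inv_of_orderOf_two {a : G} (ha : orderOf a = 2) : a⁻¹ = a :=
  inv_eq_of_mul_eq_one_right (mul_self_of_orderOf_two ha)

/-- The first of two involutions inverts their product. -/
theorem left_mul_pow_mul {a b : G} (ha : a⁻¹ = a) (hb : b⁻¹ = b) (k : ℕ) :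
    a * (a * b) ^ k = ((a * b) ^ k)⁻¹ * a := by
  have haa : a * a = 1 := by rw [← eq_inv_iff_mul_eq_one, ha]
  have h1 : a * (a * b) * a⁻¹ = (a * b)⁻¹ := by
    rw [mul_inv_rev, hb, ha, ← mul_assoc a a b, haa, one_mul]
  have h2 := congrArg (· * a) (conj_pow (i := k) (a := a) (b := a * b)).symm
  simp only [inv_mul_cancel_right] at h2
  rw [h2, h1, inv_pow]

theorem commute_of_orderOf_mul_le_two {a b : G} (ha : a⁻¹ = a) (hb : b⁻¹ = b)
    (h : (a * b) ^ 2 = 1) : Commute a b := by
  have := eq_inv_of_mul_eq_one_left (show (a * b) * (a * b) = 1 by rw [← pow_two, h])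
  rwa [mul_inv_rev, ha, hb] at this

/-- Conjugating the first involution by a power of the product. -/
theorem conj_pow_first {a b : G} (ha : a⁻¹ = a) (hb : b⁻¹ = b) (k : ℕ) :
    ((a * b) ^ k)⁻¹ * a * (a * b) ^ k = a * (a * b) ^ (2 * k) := by
  rw [← left_mul_pow_mul ha hb k, mul_assoc, ← pow_add, two_mul]

/-- Conjugating the second involution by a power of the product. -/
theorem conj_pow_second {a b : G} (ha : a⁻¹ = a) (hb : b⁻¹ = b) (k : ℕ) :
    ((a * b) ^ k)⁻¹ * b * (a * b) ^ k = b * (a * b) ^ (2 * k) := by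
  have haa : ∀ t, a * (a * t) = t := fun t => by
    rw [← mul_assoc, show a * a = 1 by rw [← eq_inv_iff_mul_eq_one, ha], one_mul]
  have key := left_mul_pow_mul ha hb k
  have hb' : b = a * (a * b) := (haa b).symm
  generalize hw : a * b = w at hb' key
  subst hb'
  rw [← mul_assoc _ a w, ← key]
  simp only [mul_assoc]
  congr 1
  rw [← _root_.pow_succ', ← _root_.pow_succ', ← pow_add]
  congr 1
  omega

/-- An odd order product of involutions: every involution exchanging the two factors is determined. -/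
theorem unique_exchange {e e' a : G} (he : e⁻¹ = e) (ha : a⁻¹ = a) (h : a * e * a = e') (k : ℕ)
    (hk : (e * a) ^ (2 * k + 1) = 1) : a = e * (e * e') ^ (k + 1) := by
  have hsq : e * e' = (e * a) ^ 2 := by rw [← h, pow_two]; simp only [mul_assoc]
  rw [hsq, ← pow_mul, show 2 * (k + 1) = (2 * k + 1) + 1 by omega, pow_add, hk, one_mul, pow_one,
    ← mul_assoc, show e * e = 1 by rw [← eq_inv_iff_mul_eq_one, he], one_mul]

end CfsgLib.ThreeTrans
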