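import Cfsg.Agent.Lib.ThreeTrans.Basic
import Cfsg.Agent.Lib.ThreeTrans.Dihedral
import Cfsg.Agent.Lib.Core.Cores
import Cfsg.Agent.Lib.Core.Coprime

set_option autoImplicit false

/-!
An involution all of whose products with its conjugates have 3-power order: reduction to the
normal odd subgroup given by Glauberman's theorem (owner: helper28).
-/

namespace CfsgLib.ThreeTrans

open Cfsg

variable {G : Type*} [Group G]

theorem eq_of_mul_three_power {a b : G} {p k : ℕ} (hb : b⁻¹ = b) (hp : p ≠ 3) (hpp : p.Prime) {j : ℕ}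
    (h1 : (a * b) ^ p ^ j = 1) (h3 : orderOf (a * b) = 3 ^ k) : a = b := by
  have hd := orderOf_dvd_of_pow_eq_one h1
  rw [h3] at hd
  have hcop : Nat.Coprime (3 ^ k) (p ^ j) :=
    Nat.Coprime.pow _ _ ((Nat.coprime_primes Nat.prime_three hpp).2 (Ne.symm hp))
  have h0 : 3 ^ k = 1 := Nat.eq_one_of_dvd_one (hcop.gcd_eq_one ▸ Nat.dvd_gcd dvd_rfl hd)
  have := eq_inv_of_mul_eq_one_left (orderOf_eq_one_iff.1 (h3.trans h0))
  rwa [hb] at this

/-- The involution is the only member of its class in a Sylow 2-subgroup containing it. -/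
theorem unique_in_sylow {d : G} (hd : orderOf d = 2)
    (hprod : ∀ a ∈ conjugatesOf d, ∀ b ∈ conjugatesOf d, ∃ k : ℕ, orderOf (a * b) = 3 ^ k)
    (P : Sylow 2 G) (hdP : d ∈ P) (g : G) (hg : g * d * g⁻¹ ∈ P) : g * d * g⁻¹ = d := by
  obtain ⟨j, hj⟩ := P.isPGroup' ⟨g * d * g⁻¹ * d, P.mul_mem hg hdP⟩
  obtain ⟨k, hk⟩ := hprod _ (isConj_iff.2 ⟨g, rfl⟩) d mem_conjugatesOf_self
  exact eq_of_mul_three_power (p := 2) (inv_of_orderOf_two hd) (by norm_num) Nat.prime_two
    (congrArg Subtype.val hj) hk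

/-- From a normal subgroup of odd order containing the commutators of `d` to the three core. -/
theorem mul_mem_pCore_three [Finite G] {d : G} (hd : orderOf d = 2)
    (hprod : ∀ a ∈ conjugatesOf d, ∀ b ∈ conjugatesOf d, ∃ k : ℕ, orderOf (a * b) = 3 ^ k)
    {N : Subgroup G} [N.Normal] (hodd : Odd (Nat.card N))
    (hN : ∀ g : G, d * g * d⁻¹ * g⁻¹ ∈ N) :
    ∀ a ∈ conjugatesOf d, ∀ b ∈ conjugatesOf d, a * b ∈ pCore 3 G := by
  haveI : Fact (Nat.Prime 3) := ⟨Nat.prime_three⟩
  set A := Subgroup.zpowers d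
  have hcardA : Nat.card A = 2 := by rw [Nat.card_zpowers, hd]
  have hdinv : d⁻¹ = d := inv_of_orderOf_two hd
  have hAN : A ≤ Subgroup.normalizer (N : Set G) := by
    rw [Subgroup.normalizer_eq_top_iff.2 inferInstance]; exact le_top
  have hcop : (Nat.card A).Coprime (Nat.card N) := by
    rw [hcardA]; exact Nat.coprime_two_left.2 hodd
  haveI : Group.IsSolvable A := Group.isSolvable_of_comm fun x y => by
    obtain ⟨_, i, rfl⟩ := x
    obtain ⟨_, j, rfl⟩ := y
    exact Subtype.ext ((Commute.refl d).zpow_zpow i j).eq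
  set C := (Subgroup.centralizer ({d} : Set G)).subgroupOf N with hC
  have hcent : ∀ {q : ℕ} [Fact q.Prime], q ≠ 3 → ¬ q ∣ C.index := by
    intro q _ hq
    obtain ⟨S, hS⟩ := CfsgLib.Core.exists_invariant_sylow hAN hcop (Or.inl inferInstance) q
    have hSC : (S : Subgroup N) ≤ C := by
      intro x hx
      rw [hC, Subgroup.mem_subgroupOf, Subgroup.mem_centralizer_singleton_iff]
      have hdx : d * (x : G) * d⁻¹ ∈ (S : Subgroup N).map N.subtype :=
        (Subgroup.mem_normalizer_iff.1 (hS (Subgroup.mem_zpowers d)) _).1 ⟨x, hx, rfl⟩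
      obtain ⟨y, hy, hyx⟩ := hdx
      obtain ⟨j, hj⟩ := S.isPGroup' ⟨y * x⁻¹, mul_mem hy (inv_mem hx)⟩
      have hj' : (d * ((x : G) * d * (x : G)⁻¹)) ^ q ^ j = 1 := by
        have := congrArg (fun t : (S : Subgroup N) => ((t : N) : G)) hj
        simp only [SubgroupClass.coe_pow, Subgroup.coe_mul, InvMemClass.coe_inv, OneMemClass.coe_one] at this
        rw [show ((y : G)) = d * (x : G) * d⁻¹ from hyx, hdinv] at this
        simpa only [mul_assoc] using this
      obtain ⟨k, hk⟩ := hprod d mem_conjugatesOf_self _ (isConj_iff.2 ⟨(x : G), rfl⟩)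
      have := eq_of_mul_three_power (a := d) (b := (x : G) * d * (x : G)⁻¹)
        (by rw [mul_inv_rev, mul_inv_rev, inv_inv, hdinv, mul_assoc]) hq (Fact.out) hj' hk
      rw [eq_mul_inv_iff_mul_eq] at this
      exact this.symm
    exact fun h => S.not_dvd_index (h.trans (Subgroup.index_dvd_of_le hSC))
  have hidx : ∃ j, C.index = 3 ^ j := by
    refine ⟨_, Nat.eq_prime_pow_of_unique_prime_dvd (Subgroup.index_ne_zero_of_finite) fun {q} hq hqd => ?_⟩
    by_contra hne
    haveI := Fact.mk hq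
    exact hcent hne hqd
  obtain ⟨j, hj⟩ := hidx
  obtain ⟨S, hS⟩ := CfsgLib.Core.exists_invariant_sylow hAN hcop (Or.inl inferInstance) 3
  -- `N` is the product of `S` and the centralizer
  have hfact : ∀ n : N, ∃ s ∈ (S : Subgroup N), s⁻¹ * n ∈ C := by
    set T := C.subgroupOf (S : Subgroup N)
    let f : (S : Subgroup N) ⧸ T → N ⧸ C := Quotient.map' (fun s => (s : N)) (fun a b h => by
      rw [QuotientGroup.leftRel_apply] at h ⊢
      exact h)
    have hinj : Function.Injective f := by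
      intro p q
      induction p using QuotientGroup.induction_on with
      | H a =>
        induction q using QuotientGroup.induction_on with
        | H b =>
          intro h
          have h' : ((a : N) : N ⧸ C) = ((b : N) : N ⧸ C) := h
          exact QuotientGroup.eq.2 ((QuotientGroup.eq (s := C)).1 h')
    obtain ⟨i, hi⟩ := IsPGroup.iff_card.1 (S.isPGroup'.to_subgroup T)
    have hdvd : 3 ^ (i + j) ∣ Nat.card N := by
      rw [pow_add, ← hi, ← hj, ← C.card_mul_index]
      refine Nat.mul_dvd_mul_right ?_ _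
      exact (Subgroup.card_dvd_of_injective ((S : Subgroup N).subtype.subgroupComap C) (fun a b h =>
        Subtype.ext (Subtype.ext (congrArg (fun t : C => (t : N)) h))))
    have hle : 3 ^ (i + j) ≤ Nat.card (S : Subgroup N) :=
      Nat.le_of_dvd Nat.card_pos (S.pow_dvd_card_of_pow_dvd_card hdvd)
    rw [Subgroup.card_eq_card_quotient_mul_card_subgroup T, hi, pow_add, mul_comm (3 ^ i)] at hle
    have hcard : Nat.card (N ⧸ C) ≤ Nat.card ((S : Subgroup N) ⧸ T) := by
      rw [← Subgroup.index_eq_card, hj]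
      exact Nat.le_of_mul_le_mul_right hle (pow_pos (by norm_num) i)
    have hsurj : Function.Surjective f := by
      haveI : Fintype ((S : Subgroup N) ⧸ T) := Fintype.ofFinite _
      haveI : Fintype (N ⧸ C) := Fintype.ofFinite _
      have he : Nat.card ((S : Subgroup N) ⧸ T) = Nat.card (N ⧸ C) :=
        le_antisymm (Nat.card_le_card_of_injective f hinj) hcard
      rw [Nat.card_eq_fintype_card, Nat.card_eq_fintype_card] at he
      exact ((Fintype.bijective_iff_injective_and_card f).2 ⟨hinj, he⟩).2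
    intro n
    obtain ⟨q, hq⟩ := hsurj (n : N ⧸ C)
    induction q using QuotientGroup.induction_on with
    | H s => exact ⟨s, s.2, QuotientGroup.eq.1 hq⟩
  set P := (S : Subgroup N).map N.subtype with hP
  have hPd : ∀ y ∈ P, d * y * d⁻¹ ∈ P := fun y hy =>
    (Subgroup.mem_normalizer_iff.1 (hS (Subgroup.mem_zpowers d)) y).1 hy
  have hclass : ∀ a ∈ conjugatesOf d, d * a ∈ P := by
    intro a ha
    obtain ⟨g, rfl⟩ := isConj_iff.1 ha
    have hle : Subgroup.zpowers (g * d * g⁻¹) ≤ A ⊔ N := by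
      rw [Subgroup.zpowers_le, show g * d * g⁻¹ = d * (d⁻¹ * (d * g * d⁻¹ * g⁻¹)⁻¹ * d⁻¹⁻¹) by group]
      exact mul_mem (Subgroup.mem_sup_left (Subgroup.mem_zpowers d))
        (Subgroup.mem_sup_right ((inferInstance : N.Normal).conj_mem _ (inv_mem (hN g)) d⁻¹))
    obtain ⟨n, hn, hconj⟩ := CfsgLib.Core.exists_conj_eq_of_coprime hAN hle
      (by rw [Nat.card_zpowers, hcardA]; exact (orderOf_injective (MulAut.conj g).toMonoidHom (MulAut.conj g).injective d).trans hd)
      hcop (Or.inr inferInstance)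
    have he : n * d * n⁻¹ = g * d * g⁻¹ := by
      have h1 : n * d * n⁻¹ ∈ Subgroup.zpowers (g * d * g⁻¹) := by
        rw [← hconj]
        exact CfsgLib.Core.conj_mem_conj_smul (Subgroup.mem_zpowers d)
      obtain ⟨i, hi⟩ := h1
      have hord : orderOf (g * d * g⁻¹) = 2 :=
        (orderOf_injective (MulAut.conj g).toMonoidHom (MulAut.conj g).injective d).trans hd
      rcases Int.even_or_odd i with ⟨m, rfl⟩ | ⟨m, rfl⟩
      · exfalso
        simp only [zpow_add, ← (Commute.refl (g * d * g⁻¹)).mul_zpow, mul_self_of_orderOf_two hord, one_zpow] at hi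
        have hd1 := (conj_eq_one_iff.1 hi.symm : d = 1)
        rw [hd1, orderOf_one] at hd
        exact absurd hd (by norm_num)
      · rw [← hi]
        simp only [zpow_add, zpow_one, two_mul, ← (Commute.refl (g * d * g⁻¹)).mul_zpow,
          mul_self_of_orderOf_two hord, one_zpow, one_mul]
    obtain ⟨s, hs, hsc⟩ := hfact ⟨n, hn⟩
    rw [hC, Subgroup.mem_subgroupOf, Subgroup.mem_centralizer_singleton_iff] at hsc
    simp only [Subgroup.coe_mul, InvMemClass.coe_inv] at hsc
    have hn' : n * d * n⁻¹ = (s : G) * d * (s : G)⁻¹ := by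
      calc n * d * n⁻¹ = (s : G) * (((s : G)⁻¹ * n) * d) * n⁻¹ := by group
        _ = (s : G) * d * (s : G)⁻¹ := by rw [hsc]; group
    rw [← he, hn', show d * ((s : G) * d * (s : G)⁻¹) = (d * (s : G) * d⁻¹) * (d * d) * (s : G)⁻¹ by group,
      mul_self_of_orderOf_two hd, mul_one]
    exact mul_mem (hPd _ ⟨s, hs, rfl⟩) (inv_mem ⟨s, hs, rfl⟩)
  let X := Subgroup.closure {x : G | ∃ a ∈ conjugatesOf d, ∃ b ∈ conjugatesOf d, x = a * b}
  haveI : X.Normal := by
    refine ⟨fun x hx g => ?_⟩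
    have hle : X.map (MulAut.conj g).toMonoidHom ≤ X := by
      rw [MonoidHom.map_closure, Subgroup.closure_le]
      rintro _ ⟨_, ⟨a, ha, b, hb, rfl⟩, rfl⟩
      refine Subgroup.subset_closure ⟨g * a * g⁻¹, IsConj.trans ha (isConj_iff.2 ⟨g, rfl⟩),
        g * b * g⁻¹, IsConj.trans hb (isConj_iff.2 ⟨g, rfl⟩), ?_⟩
      show g * (a * b) * g⁻¹ = g * a * g⁻¹ * (g * b * g⁻¹)
      group
    exact hle ⟨x, hx, rfl⟩
  have hXP : X ≤ P := by
    rw [Subgroup.closure_le]
    rintro _ ⟨a, ha, b, hb, rfl⟩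
    have h1 : a * d ∈ P := by
      have := hPd _ (hclass a ha)
      rwa [hdinv, ← mul_assoc, mul_self_of_orderOf_two hd, one_mul] at this
    have := mul_mem h1 (hclass b hb)
    rwa [mul_assoc, ← mul_assoc d d, mul_self_of_orderOf_two hd, one_mul] at this
  intro a ha b hb
  exact CfsgLib.Core.le_pCore ((S.isPGroup'.map N.subtype).to_le hXP) (Subgroup.subset_closure ⟨a, ha, b, hb, rfl⟩)

end CfsgLib.ThreeTrans
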