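import Cfsg.Agent.Lib.ThreeTrans.PerpW
import Cfsg.Agent.Lib.ThreeTrans.WidthOne
import Cfsg.Agent.Lib.ThreeTrans.Primitive
import Cfsg.Agent.S5348
import Cfsg.Agent.Lib.Core.SchurZassenhaus

set_option autoImplicit false

/-!
The cores and components of a group generated by 3-transpositions, given that a set of 3-transpositions
without distinct commuting members generates modulo the three core (owner: helper28).
-/

namespace CfsgLib.ThreeTrans

open Cfsg
open scoped Pointwise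

universe u

variable {G : Type u} [Group G] {D : Set G}

/-- The conclusion of Glauberman's isolated involution theorem. -/
def IsolatedInvolution : Prop :=
  ∀ (G : Type u) [Group G] [Finite G] (P : Sylow 2 G) (t : G), orderOf t = 2 → t ∈ P →
    (∀ g : G, g * t * g⁻¹ ∈ P → g * t * g⁻¹ = t) →
      ∃ N : Subgroup G, N.Normal ∧ Odd (Nat.card N) ∧ ∀ g : G, t * g * t⁻¹ * g⁻¹ ∈ N

theorem mul_mem_pCore_three_of_zStar (hZ : IsolatedInvolution.{u}) [Finite G] {d : G} (hd : orderOf d = 2)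
    (hprod : ∀ a ∈ conjugatesOf d, ∀ b ∈ conjugatesOf d, ∃ k : ℕ, orderOf (a * b) = 3 ^ k) :
    ∀ a ∈ conjugatesOf d, ∀ b ∈ conjugatesOf d, a * b ∈ pCore 3 G := by
  haveI : Fact (Nat.Prime 2) := ⟨Nat.prime_two⟩
  have hP : IsPGroup 2 (Subgroup.zpowers d) := IsPGroup.of_card (n := 1) (by rw [Nat.card_zpowers, hd, pow_one])
  obtain ⟨P, hle⟩ := hP.exists_le_sylow
  have hdP : d ∈ P := hle (Subgroup.mem_zpowers d)
  obtain ⟨N, hNn, hodd, hN⟩ := hZ G P d hd hdP (unique_in_sylow hd hprod P hdP)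
  exact mul_mem_pCore_three hd hprod hodd hN

theorem widthOne_of_zStar (hZ : IsolatedInvolution.{u}) : WidthOne.{u} := by
  intro G _ _ D hD hw a ha b hb
  have hsub : conjugatesOf a ⊆ D := by
    intro x hx
    obtain ⟨c, rfl⟩ := isConj_iff.1 hx
    exact hD.2.1 c a ha
  have hprod : ∀ x ∈ D, ∀ y ∈ D, ∃ k : ℕ, orderOf (x * y) = 3 ^ k := by
    intro x hx y hy
    by_cases hxy : Commute x y
    · exact ⟨0, by rw [hw x hx y hy hxy, mul_self hD.1 hy, orderOf_one, pow_zero]⟩
    · exact ⟨1, by rw [orderOf_mul hD.1 hx hy hxy, pow_one]⟩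
  refine mul_mem_pCore_three_of_zStar hZ (hD.1.1 a ha)
    (fun x hx y hy => hprod x (hsub hx) y (hsub hy)) a mem_conjugatesOf_self b ?_
  by_cases hc : Commute a b
  · rw [← hw a ha b hb hc]; exact mem_conjugatesOf_self
  · refine isConj_iff.2 ⟨a * b, ?_⟩
    rw [mul_inv_rev, inv_eq hD.1 hb, inv_eq hD.1 ha,
      show a * b * a * (b * a) = a * b * a * b * a by simp only [mul_assoc], braid hD.1 ha hb hc]
    simp only [mul_assoc, mul_self_assoc hD.1 hb, mul_self hD.1 ha, mul_one]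

/-- An element of a `p`-subgroup killed by a power prime to `p` is trivial. -/
theorem eq_one_of_pow_mem_pGroup {p n : ℕ} (hn : p.Coprime n) {H : Subgroup G} (hH : IsPGroup p H) {x : G}
    (hx : x ∈ H) (h : x ^ n = 1) : x = 1 := by
  obtain ⟨k, hk⟩ := hH ⟨x, hx⟩
  exact orderOf_eq_one_iff.1 (Nat.eq_one_of_dvd_one ((hn.pow_left k).gcd_eq_one ▸
    Nat.dvd_gcd (orderOf_dvd_of_pow_eq_one (congrArg Subtype.val hk)) (orderOf_dvd_of_pow_eq_one h)))

/-! ### Width -/

theorem commutingWidth_eq_one_iff [Finite G] {d : G} (hd : d ∈ D) :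
    commutingWidth D = 1 ↔ ∀ a ∈ D, ∀ b ∈ D, Commute a b → a = b := by
  have hbdd : BddAbove {n : ℕ | ∃ E : Set G, E ⊆ D ∧ E.Finite ∧ (∀ a ∈ E, ∀ b ∈ E, Commute a b) ∧ E.ncard = n} := by
    refine ⟨Nat.card G, ?_⟩
    rintro n ⟨E, -, -, -, rfl⟩
    exact (Set.ncard_le_ncard (Set.subset_univ E) (Set.toFinite _)).trans_eq (Set.ncard_univ G)
  have h1 : 1 ∈ {n : ℕ | ∃ E : Set G, E ⊆ D ∧ E.Finite ∧ (∀ a ∈ E, ∀ b ∈ E, Commute a b) ∧ E.ncard = n} :=
    ⟨{d}, Set.singleton_subset_iff.2 hd, Set.finite_singleton d,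
      fun a ha b hb => by rw [Set.mem_singleton_iff.1 ha, Set.mem_singleton_iff.1 hb], Set.ncard_singleton d⟩
  constructor
  · intro hw a ha b hb hc
    by_contra hne
    have h2 : 2 ≤ commutingWidth D := by
      refine le_csSup hbdd ⟨{a, b}, ?_, Set.toFinite _, ?_, Set.ncard_pair hne⟩
      · rintro x (rfl | rfl) <;> assumption
      · rintro x (rfl | rfl) y (rfl | rfl)
        exacts [Commute.refl _, hc, hc.symm, Commute.refl _]
    omega
  · intro h
    refine le_antisymm (csSup_le ⟨1, h1⟩ ?_) (le_csSup hbdd h1)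
    rintro n ⟨E, hED, hfin, hcomm, rfl⟩
    exact (Set.ncard_le_one hfin).2 fun a ha b hb => h a (hED ha) b (hED hb) (hcomm a ha b hb)

theorem width_one_iff [Finite G] (hW1 : WidthOne.{u}) (hD : IsThreeTranspositionGroup D) {d : G} (hd : d ∈ D) :
    commutingWidth D = 1 ↔ Subgroup.zpowers d ⊔ pCore 3 G = ⊤ := by
  rw [commutingWidth_eq_one_iff hd]
  have h3 := CfsgLib.Core.isPGroup_pCore 3 G
  constructor
  · intro hw
    rw [eq_top_iff, ← hD.2.2, Subgroup.closure_le]
    intro x hx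
    rw [← mul_self_assoc hD.1 hd x]
    exact Subgroup.mul_mem_sup (Subgroup.mem_zpowers d) (hW1 G D hD hw d hd x hx)
  · intro htop a ha b hb hc
    have himg : ∀ x : G, (QuotientGroup.mk' (pCore 3 G) x = 1) ∨
        (QuotientGroup.mk' (pCore 3 G) x = QuotientGroup.mk' (pCore 3 G) d) := by
      intro x
      have hx : x ∈ Subgroup.zpowers d ⊔ pCore 3 G := htop ▸ Subgroup.mem_top x
      obtain ⟨y, hy, z, hz, rfl⟩ := (Subgroup.mem_sup_of_normal_right).1 hx
      rw [map_mul, show QuotientGroup.mk' (pCore 3 G) z = 1 from (QuotientGroup.eq_one_iff z).2 hz, mul_one]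
      obtain ⟨i, rfl⟩ := Subgroup.mem_zpowers_iff.1 hy
      rcases Int.even_or_odd i with ⟨j, rfl⟩ | ⟨j, rfl⟩
      · left
        rw [zpow_add, ← (Commute.refl d).mul_zpow, mul_self hD.1 hd, one_zpow, map_one]
      · right
        rw [zpow_add_one, two_mul, zpow_add, ← (Commute.refl d).mul_zpow, mul_self hD.1 hd, one_zpow, one_mul]
    have hne : ∀ x ∈ D, QuotientGroup.mk' (pCore 3 G) x ≠ 1 := fun x hx h =>
      ne_one hD.1 hx (eq_one_of_pow_mem_pGroup (by norm_num : Nat.Coprime 3 2) h3 ((QuotientGroup.eq_one_iff x).1 h)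
        (by rw [pow_two]; exact mul_self hD.1 hx))
    have hab : QuotientGroup.mk' (pCore 3 G) (a * b) = 1 := by
      rw [map_mul, (himg a).resolve_left (hne a ha), (himg b).resolve_left (hne b hb), ← map_mul,
        mul_self hD.1 hd, map_one]
    have := eq_one_of_pow_mem_pGroup (by norm_num : Nat.Coprime 3 2) h3 ((QuotientGroup.eq_one_iff _).1 hab)
      ((commute_iff_sq hD.1 ha hb).1 hc)
    rw [← inv_eq hD.1 hb]
    exact eq_inv_of_mul_eq_one_left this

/-! ### Components -/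

section Class

variable (hD : IsThreeTranspositionClass D)
include hD

theorem le_center_of_commute_one {N : Subgroup G} [N.Normal] {d : G} (hd : d ∈ D) (h : ∀ q ∈ N, Commute d q) :
    N ≤ Subgroup.center G := by
  intro q hq
  refine central_of_commute_class hD fun x hx => ?_
  obtain ⟨c, rfl⟩ := class_trans hD hd hx
  rw [← conj_cancel c q, commute_conj_iff]
  exact h _ (by simpa using (inferInstance : N.Normal).conj_mem q hq c⁻¹)

theorem pCore_le_center_of_three_lt [Finite G] {p : ℕ} (hp : p.Prime) (h : 3 < p) :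
    pCore p G ≤ Subgroup.center G := by
  intro x hx
  refine central_of_commute_class hD fun d hd => ?_
  exact Cfsg.Agent.S5347.result (group_of_class hD) hp h _ (CfsgLib.Core.isPGroup_pCore _ G) hd
    ((Subgroup.normalizer_eq_top_iff.2 inferInstance : Subgroup.normalizer (pCore p G : Set G) = ⊤) ▸
      Subgroup.mem_top d) x hx

omit hD in
theorem conj_mul_self_mem (hD : IsThreeTranspositionSet D) {L : Subgroup G} [L.Normal] {d g : G} (hd : d ∈ D)
    (hg : g ∈ L) : g * d * g⁻¹ * d ∈ L := by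
  have := L.mul_mem hg ((inferInstance : L.Normal).conj_mem _ (inv_mem hg) d)
  rw [inv_eq hD hd] at this
  simpa only [mul_assoc] using this

theorem central_commutators_false {L : Subgroup G} [L.Normal] (hL : IsQuasisimple L) {d : G} (hd : d ∈ D)
    (hc : ∀ g ∈ L, ∀ k ∈ L, Commute (g * d * g⁻¹ * d) k) : False := by
  have hmem : ∀ g ∈ L, g * d * g⁻¹ * d ∈ L := fun g hg => conj_mul_self_mem hD.1 hd hg
  have hcen : ∀ g : L, (⟨_, hmem g g.2⟩ : L) ∈ Subgroup.center L := fun g =>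
    Subgroup.mem_center_iff.2 fun k => Subtype.ext (hc g g.2 k k.2).eq.symm
  let f : L →* Subgroup.center L :=
    MonoidHom.mk' (fun g => ⟨⟨(g : G) * d * (g : G)⁻¹ * d, hmem g g.2⟩, hcen g⟩) (fun g k => by
      apply Subtype.ext; apply Subtype.ext
      show (g : G) * k * d * ((g : G) * k)⁻¹ * d = (g : G) * d * (g : G)⁻¹ * d * ((k : G) * d * (k : G)⁻¹ * d)
      rw [(hc g g.2 _ (hmem k k.2)).eq]
      calc (g : G) * k * d * ((g : G) * k)⁻¹ * d
          = ((g : G) * ((k : G) * d * (k : G)⁻¹ * d)) * (d⁻¹ * (g : G)⁻¹ * d) := by group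
        _ = ((k : G) * d * (k : G)⁻¹ * d) * ((g : G) * d * (g : G)⁻¹ * d) := by
          rw [← (hc k k.2 g g.2).eq, inv_eq hD.1 hd]; simp only [mul_assoc])
  haveI := hL.1
  letI : CommGroup (Subgroup.center L) :=
    { (inferInstance : Group (Subgroup.center L)) with
      mul_comm := fun a b => Subtype.ext (Subgroup.mem_center_iff.1 b.2 a) }
  obtain ⟨g, hg, hne⟩ := exists_not_commute_mem hD hL hd
  have hker : (⟨g, hg⟩ : L) ∈ f.ker := by
    have h1 := Abelianization.commutator_subset_ker f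
    rw [Group.IsPerfect.commutator_eq_top] at h1
    exact h1 (Subgroup.mem_top _)
  have : g * d * g⁻¹ * d = 1 := congrArg (fun t : Subgroup.center L => ((t : L) : G)) hker
  have h2 := eq_inv_of_mul_eq_one_left this
  rw [inv_eq hD.1 hd, mul_inv_eq_iff_eq_mul] at h2
  exact hne h2.symm

/-- The orbit of a member under a component has two distinct commuting members. -/
theorem exists_commute_in_orbit [Finite G] (hW1 : WidthOne.{u}) {K : Subgroup G} [K.Normal] (hK : IsQuasisimple K)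
    {d : G} (hd : d ∈ D) : ∃ g ∈ K, g * d * g⁻¹ ≠ d ∧ Commute d (g * d * g⁻¹) := by
  by_contra hcon
  simp only [not_exists, not_and] at hcon
  haveI : Fact (Nat.Prime 3) := ⟨Nat.prime_three⟩
  have hKn : K.Normal := inferInstance
  set S : Set G := {x | ∃ g ∈ K, x = g * d * g⁻¹} with hS
  have hSD : S ⊆ D := by rintro _ ⟨g, -, rfl⟩; exact class_conj hD g d hd
  have hwid : ∀ a ∈ S, ∀ b ∈ S, Commute a b → a = b := by
    rintro _ ⟨g, hg, rfl⟩ _ ⟨k, hk, rfl⟩ hc
    by_contra hne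
    refine hcon (g⁻¹ * k) (mul_mem (inv_mem hg) hk) (fun e => hne ?_) ?_
    · have : g * (g⁻¹ * k * d * (g⁻¹ * k)⁻¹) * g⁻¹ = g * d * g⁻¹ := by rw [e]
      rw [← this]; group
    · refine (commute_conj_iff (g := g)).1 ?_
      rwa [show g * (g⁻¹ * k * d * (g⁻¹ * k)⁻¹) * g⁻¹ = k * d * k⁻¹ by group]
  have hclosed : ∀ a ∈ S, ∀ y ∈ S, a * y * a⁻¹ ∈ S := by
    rintro _ ⟨g, hg, rfl⟩ _ ⟨k, hk, rfl⟩
    exact ⟨g * (d * (g⁻¹ * k) * d⁻¹), mul_mem hg (hKn.conj_mem _ (mul_mem (inv_mem hg) hk) d), by group⟩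
  have hU := isPGroup_products_of_closed hW1 hD.1 hSD hclosed hwid
  set U := Subgroup.closure {u : G | ∃ a ∈ S, ∃ b ∈ S, u = a * b} with hUdef
  have hUK : U ≤ K := by
    refine (Subgroup.closure_le _).2 ?_
    rintro _ ⟨_, ⟨g, hg, rfl⟩, _, ⟨k, hk, rfl⟩, rfl⟩
    have := K.mul_mem (conj_mul_self_mem hD.1 hd hg) (inv_mem (conj_mul_self_mem hD.1 hd hk))
    simp only [mul_inv_rev, inv_inv, inv_eq hD.1 hd, mul_assoc, mul_self_assoc hD.1 hd] at this
    simpa only [SetLike.mem_coe, mul_assoc] using this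
  have hn : (U.subgroupOf K).Normal := by
    refine ⟨fun n hn l => ?_⟩
    rw [Subgroup.mem_subgroupOf] at hn ⊢
    have hle : U.map (MulAut.conj (l : G)).toMonoidHom ≤ U := by
      rw [MonoidHom.map_closure, Subgroup.closure_le]
      rintro _ ⟨_, ⟨_, ⟨g, hg, rfl⟩, _, ⟨k, hk, rfl⟩, rfl⟩, rfl⟩
      refine Subgroup.subset_closure ⟨_, ⟨(l : G) * g, mul_mem l.2 hg, rfl⟩, _, ⟨(l : G) * k, mul_mem l.2 hk, rfl⟩, ?_⟩
      show (l : G) * (g * d * g⁻¹ * (k * d * k⁻¹)) * (l : G)⁻¹ = _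
      group
    exact hle ⟨n, hn, rfl⟩
  rcases CfsgLib.Components.IsQuasisimple.normal_le_center_or_eq_top hK hn with hc | ht
  · refine central_commutators_false hD hK hd fun g hg k hk => ?_
    have hmem : (⟨_, conj_mul_self_mem hD.1 hd hg⟩ : K) ∈ U.subgroupOf K :=
      Subgroup.subset_closure ⟨_, ⟨g, hg, rfl⟩, d, ⟨1, one_mem K, by group⟩, rfl⟩
    exact (congrArg Subtype.val (Subgroup.mem_center_iff.1 (hc hmem) ⟨k, hk⟩)).symm
  · apply CfsgLib.Components.IsQuasisimple.not_isSolvable hK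
    haveI := ((hU.to_le (Subgroup.subgroupOf_eq_top.1 ht)).isNilpotent : Group.IsNilpotent K)
    infer_instance

theorem component_commute_pCore [Finite G] {p : ℕ} [Fact p.Prime] {K : Subgroup G} (hK : IsComponent K)
    {g q : G} (hg : g ∈ K) (hq : q ∈ pCore p G) : Commute g q := by
  haveI := ((CfsgLib.Core.isPGroup_pCore p G).isNilpotent : Group.IsNilpotent (pCore p G))
  have h := CfsgLib.Components.component_commutes_of_solvable_subnormal hK
    ((inferInstance : (pCore p G).Normal).isSubnormal) inferInstance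
  exact (Subgroup.mem_centralizer_iff.1 (Subgroup.commutator_eq_bot_iff_le_centralizer.1 h hg) q hq).symm

theorem no_component_of_two [Finite G] (hD2 : ∃ a ∈ D, ∃ b ∈ D, a ≠ b) (h : ¬ pCore 2 G ≤ Subgroup.center G) :
    layer G = ⊥ := by
  haveI : Fact (Nat.Prime 2) := ⟨Nat.prime_two⟩
  refine le_bot_iff.1 (CfsgLib.Components.layer_le_iff.2 fun K hK => False.elim ?_)
  obtain ⟨d, hd, -⟩ := id hD2
  haveI := component_normal hD hK
  have hQn : (pCore 2 G).Normal := inferInstance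
  obtain ⟨q, hq, hne⟩ : ∃ q ∈ pCore 2 G, ¬ Commute d q := by
    by_contra hcon
    simp only [not_exists, not_and, not_not] at hcon
    exact h (le_center_of_commute_one hD hd hcon)
  set v := q * d * q⁻¹ with hv
  have hvd : v ≠ d := fun e => hne (mul_inv_eq_iff_eq_mul.1 e).symm
  have hV : SameV D d v := (sameV_conj_pCore hD hD2 hd).2 ⟨q, hq, rfl⟩
  have hdv : d * v ∈ pCore 2 G := sameV_mul_mem_pCore hD.1 (class_conj hD) hV hd
  have hdc : Commute d (d * v) := (Commute.refl d).mul_right (hV.commute hd)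
  obtain ⟨g, hg, hgd⟩ := exists_not_commute_conj hD hK.2 hd hd
  have hx := class_conj hD g d hd
  have hgc : g * (d * v) * g⁻¹ = d * v := by
    rw [(component_commute_pCore hD hK hg hdv).eq, mul_inv_cancel_right]
  have hxc : Commute (g * d * g⁻¹) (d * v) := by
    rw [← hgc]; exact (commute_conj_iff).2 hdc
  exact hgd (commute_of_commute_mul hD.1 hd hV.1 hx (Ne.symm hvd) hxc).1.symm

theorem no_component_of_three [Finite G] (hW1 : WidthOne.{u}) (hD2 : ∃ a ∈ D, ∃ b ∈ D, a ≠ b)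
    (h : ¬ pCore 3 G ≤ Subgroup.center G) : layer G = ⊥ := by
  haveI : Fact (Nat.Prime 3) := ⟨Nat.prime_three⟩
  refine le_bot_iff.1 (CfsgLib.Components.layer_le_iff.2 fun K hK => False.elim ?_)
  obtain ⟨d, hd, -⟩ := id hD2
  haveI := component_normal hD hK
  have hQn : (pCore 3 G).Normal := inferInstance
  obtain ⟨q, hq, hne⟩ : ∃ q ∈ pCore 3 G, ¬ Commute d q := by
    by_contra hcon
    simp only [not_exists, not_and, not_not] at hcon
    exact h (le_center_of_commute_one hD hd hcon)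
  set w := q * d * q⁻¹ with hw
  have hwd : w ≠ d := fun e => hne (mul_inv_eq_iff_eq_mul.1 e).symm
  have hW : SameW D d w := (sameW_conj_pCore hD.1 (class_conj hD) hW1 hd).2 ⟨q, hq, rfl⟩
  have hdw : d * w ∈ pCore 3 G := sameW_mul_mem_pCore hD.1 (class_conj hD) hW1 hW hd
  obtain ⟨g, hg, hgne, hgd⟩ := exists_commute_in_orbit hD hW1 hK.2 hd
  have hx := class_conj hD g d hd
  have hgc : g * (d * w) * g⁻¹ = d * w := by
    rw [(component_commute_pCore hD hK hg hdw).eq, mul_inv_cancel_right]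
  have hwx : Commute (g * d * g⁻¹) w := ((hW.iff hx).1 ⟨hgne, hgd⟩).2.symm
  have hxc : Commute (g * d * g⁻¹) (d * w) := hgd.symm.mul_right hwx
  have hdc : Commute d (d * w) := by
    rw [← hgc] at hxc
    exact commute_conj_iff.1 hxc
  have h2 : Commute d (d * (d * w)) := (Commute.refl d).mul_right hdc
  rw [mul_self_assoc hD.1 hd] at h2
  exact hW.not_commute hwd h2

theorem pCore_three_le_center_of_two [Finite G] (hW1 : WidthOne.{u}) (hD2 : ∃ a ∈ D, ∃ b ∈ D, a ≠ b)
    (h : ¬ pCore 2 G ≤ Subgroup.center G) : pCore 3 G ≤ Subgroup.center G := by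
  obtain ⟨d, hd, -⟩ := id hD2
  obtain ⟨q, hq, hne⟩ : ∃ q ∈ pCore 2 G, ¬ Commute d q := by
    by_contra hcon
    simp only [not_exists, not_and, not_not] at hcon
    exact h (le_center_of_commute_one hD hd hcon)
  refine le_center_of_commute_one hD hd fun r hr => ?_
  by_contra hner
  have hV : SameV D d (q * d * q⁻¹) := (sameV_conj_pCore hD hD2 hd).2 ⟨q, hq, rfl⟩
  have hW : SameW D d (r * d * r⁻¹) := (sameW_conj_pCore hD.1 (class_conj hD) hW1 hd).2 ⟨r, hr, rfl⟩
  rcases Cfsg.Agent.S5348.result (group_of_class hD) hd with e | e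
  · exact hne (mul_inv_eq_iff_eq_mul.1 (Set.mem_singleton_iff.1 (e.subset hV))).symm
  · exact hner (mul_inv_eq_iff_eq_mul.1 (Set.mem_singleton_iff.1 (e.subset hW))).symm

theorem fitting_trichotomy [Finite G] (hW1 : WidthOne.{u}) (hD2 : ∃ a ∈ D, ∃ b ∈ D, a ≠ b) :
    (∀ p : ℕ, p.Prime → 3 < p → pCore p G ≤ Subgroup.center G) ∧
      ((¬ pCore 2 G ≤ Subgroup.center G ∧ pCore 3 G ≤ Subgroup.center G ∧ layer G = ⊥) ∨
        (pCore 2 G ≤ Subgroup.center G ∧ ¬ pCore 3 G ≤ Subgroup.center G ∧ layer G = ⊥) ∨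
        (pCore 2 G ≤ Subgroup.center G ∧ pCore 3 G ≤ Subgroup.center G ∧ layer G ≠ ⊥)) := by
  refine ⟨fun p hp h => pCore_le_center_of_three_lt hD hp h, ?_⟩
  by_cases h2 : pCore 2 G ≤ Subgroup.center G
  · by_cases h3 : pCore 3 G ≤ Subgroup.center G
    · exact Or.inr (Or.inr ⟨h2, h3, layer_ne_bot hD hD2 (fitting_le_center hD h2 h3)⟩)
    · exact Or.inr (Or.inl ⟨h2, h3, no_component_of_three hD hW1 hD2 h3⟩)
  · exact Or.inl ⟨h2, pCore_three_le_center_of_two hD hW1 hD2 h2, no_component_of_two hD hD2 h2⟩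

theorem component_eq [Finite G] (hW1 : WidthOne.{u}) {K L : Subgroup G} (hK : IsComponent K) (hL : IsComponent L) :
    K = L := by
  by_contra hne
  haveI := component_normal hD hK
  haveI := component_normal hD hL
  obtain ⟨d, hd, -⟩ := hD.2.1
  obtain ⟨g, hg, hgne, hgd⟩ := exists_commute_in_orbit hD hW1 hK.2 hd
  obtain ⟨k, hk, hkd⟩ := exists_not_commute_conj hD hL.2 hd hd
  have hxg := class_conj hD g d hd
  have hxk := class_conj hD k d hd
  have hcomm : ∀ a ∈ K, ∀ b ∈ L, Commute a b := fun a ha b hb =>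
    (Subgroup.mem_centralizer_iff.1 (Subgroup.commutator_eq_bot_iff_le_centralizer.1
      (CfsgLib.Components.components_commute hK hL hne) ha) b hb).symm
  have hcg := conj_mul_self_mem hD.1 hd hg
  have hck := conj_mul_self_mem hD.1 hd hk
  have hc2 : (g * d * g⁻¹ * d) ^ 2 = 1 := (commute_iff_sq hD.1 hxg hd).1 hgd.symm
  have hc3 : (k * d * k⁻¹ * d) ^ 3 = 1 := pow_three hD.1 hxk hd fun h => hkd h.symm
  have hne2 : g * d * g⁻¹ * d ≠ 1 := fun h => hgne (by
    have := eq_inv_of_mul_eq_one_left h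
    rwa [inv_eq hD.1 hd] at this)
  have hne3 : k * d * k⁻¹ * d ≠ 1 := fun h => hkd (by
    have := eq_inv_of_mul_eq_one_left h
    rw [inv_eq hD.1 hd] at this
    rw [this])
  have e : g * k * d * (g * k)⁻¹ * d = (k * d * k⁻¹ * d) * (g * d * g⁻¹ * d) := by
    calc g * k * d * (g * k)⁻¹ * d = g * (k * d * k⁻¹ * d) * (d⁻¹ * g⁻¹ * d) := by group
      _ = (k * d * k⁻¹ * d) * (g * d * g⁻¹ * d) := by
        rw [(hcomm g hg _ hck).eq, inv_eq hD.1 hd]; simp only [mul_assoc]
  have hcc : Commute (k * d * k⁻¹ * d) (g * d * g⁻¹ * d) := (hcomm _ hcg _ hck).symm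
  rcases hD.1.2 _ (class_conj hD (g * k) d hd) d hd with h | h <;> rw [e, hcc.mul_pow] at h
  · rw [hc2, mul_one] at h
    apply hne3
    rw [_root_.pow_succ, h, one_mul] at hc3
    exact hc3
  · rw [hc3, one_mul] at h
    apply hne2
    rw [_root_.pow_succ, hc2, one_mul] at h
    exact h

theorem component_structure [Finite G] (hW1 : WidthOne.{u}) (hD2 : ∃ a ∈ D, ∃ b ∈ D, a ≠ b)
    (h2 : pCore 2 G ≤ Subgroup.center G) (h3 : pCore 3 G ≤ Subgroup.center G) :
    ∃ L : Subgroup G, L.Normal ∧ IsQuasisimple L ∧ generalizedFittingSubgroup G = L ⊔ Subgroup.center G ∧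
      (L = ⊤ ∨ ∀ a ∈ D, ∀ b ∈ D, a * b * a⁻¹ * b⁻¹ ∈ L → a⁻¹ * b ∈ L) := by
  have hF := fitting_le_center hD h2 h3
  obtain ⟨K, hK⟩ : ∃ K : Subgroup G, IsComponent K := by
    by_contra hcon
    simp only [not_exists] at hcon
    exact layer_ne_bot hD hD2 hF (le_bot_iff.1 (CfsgLib.Components.layer_le_iff.2 fun K hK => absurd hK (hcon K)))
  haveI := component_normal hD hK
  refine ⟨K, inferInstance, hK.2, ?_, Or.inr fun a ha b hb h => ?_⟩
  · have h1 : layer G = K := le_antisymm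
      (CfsgLib.Components.layer_le_iff.2 fun L hL => (component_eq hD hW1 hL hK).le)
      (CfsgLib.Components.le_layer hK)
    rw [generalizedFittingSubgroup, h1]
    exact le_antisymm (sup_le_sup_left hF K) (sup_le_sup_left (center_le_fitting hD) K)
  · rw [inv_eq hD.1 ha] at h ⊢
    rw [inv_eq hD.1 hb] at h
    exact mul_mem_of_sq_mem hD hK.2 ha hb (by simpa only [pow_two, mul_assoc] using h)

end Class

/-! ### Members commuting only with their own two core class -/

/-- Two commuting members with a common non-commuting partner are conjugate by the image of a double transposition. -/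
theorem conj_double_eq (hD : IsThreeTranspositionSet D) {d e x : G} (hd : d ∈ D) (he : e ∈ D) (hx : x ∈ D)
    (hdx : Commute d x) (hde : ¬ Commute d e) (hxe : ¬ Commute x e) :
    e * (d * x) * e * d * (e * (d * x) * e)⁻¹ = x := by
  rw [mul_inv_rev, mul_inv_rev, mul_inv_rev, inv_eq hD he, inv_eq hD hx, inv_eq hD hd,
    show e * (d * x) * e * d * (e * (x * d * e)) = e * (d * x) * (e * d * e) * (x * d * e) by
      simp only [mul_assoc],
    ← braid hD hd he hde,
    show e * (d * x) * (d * e * d) * (x * d * e) = e * (d * x * d) * e * (d * x * d) * e by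
      simp only [mul_assoc],
    show d * x * d = x by rw [hdx.eq, mul_assoc, mul_self hD hd, mul_one],
    show e * x * e * x * e = e * (x * e * x) * e by simp only [mul_assoc],
    braid hD hx he hxe]
  simp only [mul_assoc, mul_self_assoc hD he, mul_self hD he, mul_one]

theorem exists_three_sub (hW1 : WidthOne.{u}) : ∀ (n : ℕ) (G : Type u) [Group G] [Finite G], Nat.card G = n →
    ∀ (D : Set G) (Q : Subgroup G), IsThreeTranspositionGroup D → Q.Normal → IsPGroup 2 Q →
      (∀ a ∈ D, ∀ b ∈ D, Commute a b → a * b ∈ Q) → ∀ d ∈ D,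
        ∃ P : Subgroup G, IsPGroup 3 P ∧ d ∈ Subgroup.normalizer (P : Set G) ∧
          Subgroup.zpowers d ⊔ P ⊔ Q = ⊤ := by
  intro n
  induction n using Nat.strong_induction_on with
  | _ n IH =>
  intro G _ _ hn D Q hD hQn hQ hcomm d hd
  haveI : Fact (Nat.Prime 3) := ⟨Nat.prime_three⟩
  haveI : Fact (Nat.Prime 2) := ⟨Nat.prime_two⟩
  by_cases hall : ∀ x ∈ D, d * x ∈ Q
  · refine ⟨⊥, IsPGroup.of_bot, ?_, ?_⟩
    · rw [Subgroup.normalizer_eq_top_iff.2 (Subgroup.normal_bot : (⊥ : Subgroup G).Normal)]; exact Subgroup.mem_top d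
    · rw [sup_bot_eq, eq_top_iff, ← hD.2.2, Subgroup.closure_le]
      intro x hx
      rw [← mul_self_assoc hD.1 hd x]
      exact Subgroup.mul_mem_sup (Subgroup.mem_zpowers d) (hall x hx)
  simp only [not_forall] at hall
  obtain ⟨x₀, hx₀, hdx₀⟩ := hall
  let π := QuotientGroup.mk' Q
  have hπ : ∀ {x : G}, π x = 1 ↔ x ∈ Q := fun {x} => QuotientGroup.eq_one_iff x
  have hcube : ∀ {a b : G}, a ∈ D → b ∈ D → (a * b) ∈ Q → Commute a b := by
    intro a b ha hb hab
    by_contra hn'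
    refine hn' ?_
    have := eq_one_of_pow_mem_pGroup (by norm_num : Nat.Coprime 2 3) hQ hab (pow_three hD.1 ha hb hn')
    have h2 := eq_inv_of_mul_eq_one_left this
    rw [inv_eq hD.1 hb] at h2
    rw [h2]
  have hnQ : ∀ a ∈ D, a ∉ Q := by
    intro a ha haQ
    have hall' : ∀ y ∈ D, y ∈ Q := by
      intro y hy
      by_cases hc : Commute a y
      · have := Q.mul_mem haQ (hcomm a ha y hy hc)
        rwa [mul_self_assoc hD.1 ha] at this
      · have h1 := hQn.conj_mem a haQ y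
        rw [inv_eq hD.1 hy, ← braid hD.1 ha hy hc] at h1
        have h2 := hQn.conj_mem _ h1 a
        rwa [inv_eq hD.1 ha, show a * (a * y * a) * a = y by
          simp only [mul_assoc, mul_self_assoc hD.1 ha, mul_self hD.1 ha, mul_one]] at h2
    exact hdx₀ (Q.mul_mem (hall' d hd) (hall' x₀ hx₀))
  -- the quotient has width one
  let E : Set (G ⧸ Q) := π '' D
  have hE : IsThreeTranspositionGroup E := by
    refine ⟨⟨?_, ?_⟩, ?_, ?_⟩
    · rintro _ ⟨a, ha, rfl⟩
      refine orderOf_eq_prime ?_ fun h => hnQ a ha (hπ.1 h)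
      rw [← map_pow, pow_two, mul_self hD.1 ha, map_one]
    · rintro _ ⟨a, ha, rfl⟩ _ ⟨b, hb, rfl⟩
      simp only [← map_mul, ← map_pow]
      rcases hD.1.2 a ha b hb with h | h
      · exact Or.inl (by rw [h, map_one])
      · exact Or.inr (by rw [h, map_one])
    · intro g
      obtain ⟨g, rfl⟩ := QuotientGroup.mk'_surjective Q g
      rintro _ ⟨a, ha, rfl⟩
      exact ⟨g * a * g⁻¹, hD.2.1 g a ha, by simp only [map_mul, map_inv, π]⟩
    · rw [← MonoidHom.map_closure, hD.2.2, Subgroup.map_top_of_surjective _ (QuotientGroup.mk'_surjective Q)]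
  have hEeq : ∀ a ∈ E, ∀ b ∈ E, Commute a b → a = b := by
    rintro _ ⟨a, ha, rfl⟩ _ ⟨b, hb, rfl⟩ hc
    have hsq : (a * b) ^ 2 ∈ Q := hπ.1 (by
      rw [map_pow, map_mul, pow_two, mul_assoc, ← mul_assoc (π b), ← hc.eq, mul_assoc, ← map_mul π b b,
        mul_self hD.1 hb, map_one, mul_one, ← map_mul, mul_self hD.1 ha, map_one])
    have habQ : a * b ∈ Q := by
      by_cases hab : Commute a b
      · exact hcomm a ha b hb hab
      · have h3 : a * b = ((a * b) ^ 2)⁻¹ * (a * b) ^ 3 := by group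
        rw [h3, pow_three hD.1 ha hb hab, mul_one]
        exact inv_mem hsq
    have h1 : π (a * b) = 1 := hπ.2 habQ
    rw [map_mul] at h1
    rw [eq_inv_of_mul_eq_one_left h1, ← map_inv, inv_eq hD.1 hb]
  set R := pCore 3 (G ⧸ Q) with hR
  have hR3 : IsPGroup 3 R := CfsgLib.Core.isPGroup_pCore 3 _
  have hRmem : ∀ x ∈ D, π d * π x ∈ R := fun x hx => hW1 _ E hE hEeq _ ⟨d, hd, rfl⟩ _ ⟨x, hx, rfl⟩
  have hRd : R ⊔ Subgroup.zpowers (π d) = ⊤ := by
    rw [eq_top_iff, ← hE.2.2, Subgroup.closure_le]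
    rintro _ ⟨x, hx, rfl⟩
    have := Subgroup.mul_mem_sup (T := R) (Subgroup.mem_zpowers (π d)) (hRmem x hx)
    rw [← mul_assoc, ← map_mul, mul_self hD.1 hd, map_one, one_mul, sup_comm] at this
    exact this
  haveI : Nontrivial R := by
    refine ⟨⟨⟨_, hRmem x₀ hx₀⟩, 1, fun h => hdx₀ (hπ.1 ?_)⟩⟩
    rw [map_mul]
    exact congrArg Subtype.val h
  obtain ⟨y, hy⟩ : ∃ y : Subgroup.center R, orderOf y = 3 := by
    haveI := hR3.center_nontrivial
    exact exists_prime_orderOf_dvd_card' 3 (by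
      obtain ⟨k, hk⟩ := IsPGroup.iff_card.1 (hR3.to_subgroup (Subgroup.center R))
      rw [hk]
      refine dvd_pow_self 3 fun h0 => ?_
      rw [h0, pow_zero, Nat.card_eq_one_iff_unique] at hk
      exact not_subsingleton (Subgroup.center R) hk.1)
  have hyne : ((y : R) : G ⧸ Q) ≠ 1 := by
    intro h
    rw [OneMemClass.coe_eq_one, OneMemClass.coe_eq_one] at h
    rw [h, orderOf_one] at hy
    norm_num at hy
  -- a lift normalized by `d`
  obtain ⟨u, hucomm, hu3, hune, m, hm3, hmu, hmd⟩ : ∃ u : G ⧸ Q, (∀ r ∈ R, Commute r u) ∧ u ^ 3 = 1 ∧ u ≠ 1 ∧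
      ∃ m : G, m ^ 3 = 1 ∧ π m = u ∧ (d * m * d = m ∨ d * m * d = m⁻¹) := by
    set Y : G ⧸ Q := ((y : R) : G ⧸ Q) with hY
    have hY3 : Y ^ 3 = 1 := by
      have := congrArg (fun t : Subgroup.center R => ((t : R) : G ⧸ Q)) (hy ▸ pow_orderOf_eq_one y)
      simpa using this
    have hYc : ∀ r ∈ R, Commute r Y := fun r hr =>
      congrArg Subtype.val (Subgroup.mem_center_iff.1 y.2 ⟨r, hr⟩)
    obtain ⟨g, hg⟩ := QuotientGroup.mk'_surjective Q Y
    have hg' : π g = Y := hg
    set x := g * d * g⁻¹ with hxdef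
    have hx : x ∈ D := hD.2.1 g d hd
    by_cases hfix : π d * Y * π d = Y
    · -- fixed: lift into the centralizer
      have hdxQ : d * x ∈ Q := by
        refine hπ.1 ?_
        rw [hxdef, map_mul, map_mul, map_mul, map_inv, hg', ← mul_assoc, ← mul_assoc, hfix, mul_inv_cancel]
      have hdx : Commute d x := hcube hd hx hdxQ
      have hdx₀' : ¬ Commute d x₀ := fun h => hdx₀ (hcomm d hd x₀ hx₀ h)
      have hxx₀ : ¬ Commute x x₀ := fun h => hdx₀ (by
        have := Q.mul_mem hdxQ (hcomm x hx x₀ hx₀ h)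
        rwa [show d * x * (x * x₀) = d * x₀ by rw [mul_assoc, mul_self_assoc hD.1 hx]] at this)
      set q := x₀ * (d * x) * x₀ with hqdef
      have hq : q ∈ Q := by
        have := hQn.conj_mem _ hdxQ x₀
        rwa [inv_eq hD.1 hx₀] at this
      have hqd : q * d * q⁻¹ = x := conj_double_eq hD.1 hd hx₀ hx hdx hdx₀' hxx₀
      set g' := q⁻¹ * g with hg'def
      have hg'd : Commute g' d := by
        show g' * d = d * g'
        rw [hg'def]
        calc q⁻¹ * g * d = q⁻¹ * x * g := by rw [hxdef]; group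
          _ = d * (q⁻¹ * g) := by rw [← hqd]; group
      have hπg' : π g' = Y := by rw [hg'def, map_mul, map_inv, hπ.2 hq, inv_one, one_mul, hg']
      have hg'3 : g' ^ 3 ∈ Q := hπ.1 (by rw [map_pow, hπg', hY3])
      obtain ⟨k, hk⟩ := hQ ⟨_, hg'3⟩
      have hk' : (g' ^ 3) ^ (2 ^ k) = 1 := congrArg Subtype.val hk
      refine ⟨Y, hYc, hY3, hyne, g' ^ (4 ^ k), ?_, ?_, Or.inl ?_⟩
      · rw [← pow_mul, mul_comm, pow_mul, show (4 : ℕ) = 2 * 2 from rfl, mul_pow, pow_mul, hk', one_pow]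
      · rw [map_pow, hπg']
        have h41 : (4 : ℕ) ^ k % 3 = 1 := by rw [Nat.pow_mod]; norm_num
        rw [← Nat.div_add_mod (4 ^ k) 3, h41, _root_.pow_succ, pow_mul, hY3, one_pow, one_mul]
      · rw [((hg'd.pow_left _).symm).eq, mul_assoc, mul_self hD.1 hd, mul_one]
    · -- the product of two members
      have hu : π (d * x) = π d * Y * π d * Y⁻¹ := by
        rw [hxdef, map_mul, map_mul, map_mul, map_inv, hg']; simp only [mul_assoc]
      have hne' : π (d * x) ≠ 1 := fun h => hfix (mul_inv_eq_one.1 (hu ▸ h))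
      have hdx : ¬ Commute d x := fun h => hne' (hπ.2 (hcomm d hd x hx h))
      refine ⟨π (d * x), fun r hr => ?_, by rw [← map_pow, pow_three hD.1 hd hx hdx, map_one], hne', d * x,
        pow_three hD.1 hd hx hdx, rfl, Or.inr ?_⟩
      · rw [hu]
        refine Commute.mul_right ?_ (hYc r hr).inv_right
        have hdd : π d⁻¹ = π d := by rw [inv_eq hD.1 hd]
        have hr' : π d * r * π d ∈ R := by
          have := (inferInstance : R.Normal).conj_mem r hr (π d)
          rwa [← map_inv, hdd] at this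
        have := (commute_conj_iff (g := π d)).2 (hYc _ hr')
        rw [← map_inv, hdd] at this
        have e2 : π d * (π d * r * π d) * π d = r := by
          have h2 : π d * π d = 1 := by rw [← map_mul, mul_self hD.1 hd, map_one]
          simp only [← mul_assoc, h2, one_mul]
          rw [mul_assoc, h2, mul_one]
        rwa [e2] at this
      · rw [mul_inv_rev, inv_eq hD.1 hd, inv_eq hD.1 hx, mul_self_assoc hD.1 hd]
  set M := Subgroup.zpowers m with hMdef
  have hmne : m ≠ 1 := fun h => hune (by rw [← hmu, h, map_one])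
  have hMcard : Nat.card M = 3 := by rw [Nat.card_zpowers, orderOf_eq_prime hm3 hmne]
  have hM : IsPGroup 3 M := IsPGroup.of_card (n := 1) (by rw [hMcard, pow_one])
  have hdM : d ∈ Subgroup.normalizer (M : Set G) := by
    rw [CfsgLib.Core.mem_normalizer_iff_conj_smul_eq, CfsgLib.Core.conj_smul_eq_map, hMdef, MonoidHom.map_zpowers]
    show Subgroup.zpowers (d * m * d⁻¹) = _
    rw [inv_eq hD.1 hd]
    rcases hmd with h | h <;> rw [h]
    exact Subgroup.zpowers_inv
  have hUn : (Subgroup.zpowers u).Normal := by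
    have hle : (⊤ : Subgroup (G ⧸ Q)) ≤ Subgroup.normalizer (Subgroup.zpowers u : Set (G ⧸ Q)) := by
      rw [← hRd]
      refine sup_le ?_ (Subgroup.zpowers_le.2 ?_)
      · intro r hr
        rw [CfsgLib.Core.mem_normalizer_iff_conj_smul_eq, CfsgLib.Core.conj_smul_eq_map, MonoidHom.map_zpowers]
        show Subgroup.zpowers (r * u * r⁻¹) = _
        rw [(hucomm r hr).eq, mul_inv_cancel_right]
      · rw [CfsgLib.Core.mem_normalizer_iff_conj_smul_eq, CfsgLib.Core.conj_smul_eq_map, MonoidHom.map_zpowers]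
        show Subgroup.zpowers (π d * u * (π d)⁻¹) = _
        rw [← hmu, ← map_inv, ← map_mul, ← map_mul, inv_eq hD.1 hd]
        rcases hmd with h | h <;> rw [h]
        rw [map_inv]; exact Subgroup.zpowers_inv
    exact Subgroup.normalizer_eq_top_iff.1 (top_le_iff.1 hle)
  have hfrattini : ∀ g : G, ∃ q ∈ Q, q⁻¹ * g ∈ Subgroup.normalizer (M : Set G) := by
    intro g
    have hKle : MulAut.conj g • M ≤ M ⊔ Q := by
      have h1 : π (g * m * g⁻¹) ∈ Subgroup.zpowers u := by
        rw [map_mul, map_mul, hmu, map_inv]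
        exact hUn.conj_mem u (Subgroup.mem_zpowers u) _
      obtain ⟨i, hi⟩ := Subgroup.mem_zpowers_iff.1 h1
      have h2 : (m ^ i)⁻¹ * (g * m * g⁻¹) ∈ Q := hπ.1 (by rw [map_mul, map_inv, map_zpow, hmu, hi, inv_mul_cancel])
      rw [CfsgLib.Core.conj_smul_eq_map, hMdef, MonoidHom.map_zpowers, Subgroup.zpowers_le]
      show g * m * g⁻¹ ∈ _
      rw [← mul_inv_cancel_left (m ^ i) (g * m * g⁻¹)]
      exact Subgroup.mul_mem_sup (zpow_mem (Subgroup.mem_zpowers m) i) h2
    have hcop : (Nat.card M).Coprime (Nat.card Q) := by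
      obtain ⟨k, hk⟩ := IsPGroup.iff_card.1 hQ
      rw [hMcard, hk]
      exact Nat.Coprime.pow_right k (by norm_num)
    obtain ⟨q, hq, hconj⟩ := CfsgLib.Core.exists_conj_eq_of_coprime (CfsgLib.Core.le_normalizer_of_normal M Q) hKle
      (CfsgLib.Core.card_conj_smul g M) hcop (Or.inl (by haveI := hQ.isNilpotent; infer_instance))
    refine ⟨q, hq, ?_⟩
    rw [CfsgLib.Core.mem_normalizer_iff_conj_smul_eq, map_mul, mul_smul, map_inv, inv_smul_eq_iff]
    exact hconj.symm
  let F : Set G := {x | x ∈ D ∧ x ∈ Subgroup.normalizer (M : Set G)}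
  set G1 := Subgroup.closure F with hG1def
  have hFN : G1 ≤ Subgroup.normalizer (M : Set G) := (Subgroup.closure_le _).2 fun x hx => hx.2
  have hDle : ∀ x ∈ D, ∃ n ∈ F, ∃ q ∈ Q, x = q * n * q⁻¹ := by
    intro x hx
    rcases hD.1.2 d hd x hx with h | h
    · have hdQ : d * x ∈ Q := hcomm d hd x hx ((commute_iff_sq hD.1 hd hx).2 h)
      have hdx₀' : ¬ Commute d x₀ := fun h => hdx₀ (hcomm d hd x₀ hx₀ h)
      have hxx₀ : ¬ Commute x x₀ := fun h' => hdx₀ (by
        have := Q.mul_mem hdQ (hcomm x hx x₀ hx₀ h')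
        rwa [show d * x * (x * x₀) = d * x₀ by rw [mul_assoc, mul_self_assoc hD.1 hx]] at this)
      obtain ⟨g, hg⟩ : ∃ g, x = g * d * g⁻¹ :=
        ⟨_, (conj_double_eq hD.1 hd hx₀ hx ((commute_iff_sq hD.1 hd hx).2 h) hdx₀' hxx₀).symm⟩
      obtain ⟨q, hq, hn⟩ := hfrattini g
      refine ⟨q⁻¹ * g * d * (q⁻¹ * g)⁻¹, ⟨hD.2.1 _ d hd, mul_mem (mul_mem hn hdM) (inv_mem hn)⟩, q, hq, ?_⟩
      rw [hg]; group
    · obtain ⟨g, hg⟩ : ∃ g, x = g * d * g⁻¹ := by
        by_cases hc : Commute d x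
        · have h2 := (commute_iff_sq hD.1 hd hx).1 hc
          rw [_root_.pow_succ, h2, one_mul] at h
          have := eq_inv_of_mul_eq_one_left h
          rw [inv_eq hD.1 hx] at this
          exact ⟨1, by rw [this]; group⟩
        · exact ⟨d * x, by
            rw [mul_inv_rev, inv_eq hD.1 hx, inv_eq hD.1 hd,
              show d * x * d * (x * d) = d * x * d * x * d by simp only [mul_assoc], braid hD.1 hd hx hc]
            simp only [mul_assoc, mul_self_assoc hD.1 hx, mul_self hD.1 hd, mul_one]⟩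
      obtain ⟨q, hq, hn⟩ := hfrattini g
      refine ⟨q⁻¹ * g * d * (q⁻¹ * g)⁻¹, ⟨hD.2.1 _ d hd, mul_mem (mul_mem hn hdM) (inv_mem hn)⟩, q, hq, ?_⟩
      rw [hg]; group
  have hG1Q : G1 ⊔ Q = ⊤ := by
    rw [eq_top_iff, ← hD.2.2, Subgroup.closure_le]
    intro x hx
    obtain ⟨e, he, q, hq, rfl⟩ := hDle x hx
    exact mul_mem (mul_mem (Subgroup.mem_sup_right hq) (Subgroup.mem_sup_left (Subgroup.subset_closure he)))
      (Subgroup.mem_sup_right (inv_mem hq))
  by_cases htop : G1 = ⊤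
  · haveI hMn : M.Normal := Subgroup.normalizer_eq_top_iff.1 (top_le_iff.1 (htop ▸ hFN))
    let ρ := QuotientGroup.mk' M
    have hlt : Nat.card (G ⧸ M) < n := by
      rw [← hn]
      refine CfsgLib.Core.card_quotient_lt M fun h => hmne ?_
      have := Subgroup.mem_zpowers m
      rw [← hMdef, h, Subgroup.mem_bot] at this
      exact this
    have hE' : IsThreeTranspositionGroup (ρ '' D) := by
      refine ⟨⟨?_, ?_⟩, ?_, ?_⟩
      · rintro _ ⟨a, ha, rfl⟩
        refine orderOf_eq_prime ?_ fun h => ne_one hD.1 ha ?_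
        · rw [← map_pow, pow_two, mul_self hD.1 ha, map_one]
        · exact eq_one_of_pow_mem_pGroup (by norm_num : Nat.Coprime 3 2) hM ((QuotientGroup.eq_one_iff a).1 h)
            (by rw [pow_two]; exact mul_self hD.1 ha)
      · rintro _ ⟨a, ha, rfl⟩ _ ⟨b, hb, rfl⟩
        simp only [← map_mul, ← map_pow]
        rcases hD.1.2 a ha b hb with h | h
        · exact Or.inl (by rw [h, map_one])
        · exact Or.inr (by rw [h, map_one])
      · intro g
        obtain ⟨g, rfl⟩ := QuotientGroup.mk'_surjective M g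
        rintro _ ⟨a, ha, rfl⟩
        exact ⟨g * a * g⁻¹, hD.2.1 g a ha, by simp only [map_mul, map_inv, ρ]⟩
      · rw [← MonoidHom.map_closure, hD.2.2, Subgroup.map_top_of_surjective _ (QuotientGroup.mk'_surjective M)]
    have hcomm' : ∀ a ∈ ρ '' D, ∀ b ∈ ρ '' D, Commute a b → a * b ∈ Q.map ρ := by
      rintro _ ⟨a, ha, rfl⟩ _ ⟨b, hb, rfl⟩ hc
      by_cases hab : Commute a b
      · exact ⟨a * b, hcomm a ha b hb hab, map_mul ρ a b⟩
      · refine ⟨1, one_mem Q, ?_⟩
        have h2 : (ρ a * ρ b) ^ 2 = 1 := by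
          rw [pow_two, mul_assoc, ← mul_assoc (ρ b), ← hc.eq, mul_assoc, ← map_mul ρ b b,
            mul_self hD.1 hb, map_one, mul_one, ← map_mul, mul_self hD.1 ha, map_one]
        have h3 : (ρ a * ρ b) ^ 3 = 1 := by rw [← map_mul, ← map_pow, pow_three hD.1 ha hb hab, map_one]
        rw [_root_.pow_succ, h2, one_mul] at h3
        rw [map_one, h3]
    obtain ⟨P, hP, hdP, hPtop⟩ := IH _ hlt (G ⧸ M) rfl _ (Q.map ρ) hE'
      (hQn.map ρ (QuotientGroup.mk'_surjective M)) (hQ.map ρ) hcomm' (ρ d) ⟨d, hd, rfl⟩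
    refine ⟨P.comap ρ, hP.comap_of_ker_isPGroup ρ (by rw [QuotientGroup.ker_mk']; exact hM), ?_, ?_⟩
    · exact Subgroup.le_normalizer_comap ρ hdP
    · have hMle : ρ.ker ≤ Subgroup.zpowers d ⊔ P.comap ρ ⊔ Q :=
        (Subgroup.ker_le_comap ρ P).trans (le_sup_right.trans le_sup_left)
      rw [← Subgroup.comap_map_eq_self hMle, Subgroup.map_sup, Subgroup.map_sup, MonoidHom.map_zpowers,
        Subgroup.map_comap_eq_self_of_surjective (QuotientGroup.mk'_surjective M), hPtop, Subgroup.comap_top]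
  · have hlt : Nat.card G1 < n := by rw [← hn]; exact CfsgLib.Core.card_subgroup_lt G1 htop
    have hE' : IsThreeTranspositionGroup {x : G1 | (x : G) ∈ F} := by
      refine ⟨⟨fun x hx => by rw [← Subgroup.orderOf_coe]; exact hD.1.1 _ hx.1, fun a ha b hb => ?_⟩, ?_, ?_⟩
      · rcases hD.1.2 _ ha.1 _ hb.1 with h | h
        · exact Or.inl (Subtype.ext h)
        · exact Or.inr (Subtype.ext h)
      · exact fun g x hx => ⟨hD.2.1 (g : G) _ hx.1, mul_mem (mul_mem (hFN g.2) hx.2) (inv_mem (hFN g.2))⟩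
      · exact Subgroup.closure_closure_coe_preimage
    have hdF : d ∈ F := ⟨hd, hdM⟩
    obtain ⟨P, hP, hdP, hPtop⟩ := IH _ hlt G1 rfl _ (Q.subgroupOf G1) hE' inferInstance
      (hQ.comap_of_injective G1.subtype G1.subtype_injective)
      (fun a ha b hb hc => hcomm _ ha.1 _ hb.1 (congrArg Subtype.val hc.eq))
      ⟨d, Subgroup.subset_closure hdF⟩ hdF
    refine ⟨P.map G1.subtype, hP.map _, Subgroup.le_normalizer_map G1.subtype ⟨_, hdP, rfl⟩, ?_⟩
    rw [eq_top_iff, ← hG1Q]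
    refine sup_le ?_ le_sup_right
    intro x hx
    have h1 : (⟨x, hx⟩ : G1) ∈ Subgroup.zpowers (⟨d, Subgroup.subset_closure hdF⟩ : G1) ⊔ P ⊔ Q.subgroupOf G1 :=
      hPtop ▸ Subgroup.mem_top _
    have h2 := Subgroup.mem_map_of_mem G1.subtype h1
    rw [Subgroup.map_sup, Subgroup.map_sup, MonoidHom.map_zpowers] at h2
    exact sup_le_sup le_rfl (Subgroup.map_comap_le _ _) h2

theorem perp_sylow_three [Finite G] (hW1 : WidthOne.{u}) (hD : IsThreeTranspositionClass D) {d : G} (hd : d ∈ D)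
    (hV : {y : G | y ∈ D ∧ Commute d y} = {v : G | v ∈ D ∧ ∀ e ∈ D, Commute v e ↔ Commute d e}) :
    ∃ P : Sylow 3 G, d ∈ Subgroup.normalizer (P : Set G) ∧
      Subgroup.zpowers d ⊔ (P : Subgroup G) ⊔ pCore 2 G = ⊤ := by
  haveI : Fact (Nat.Prime 3) := ⟨Nat.prime_three⟩
  haveI : Fact (Nat.Prime 2) := ⟨Nat.prime_two⟩
  have hconj := class_conj hD
  have hcomm : ∀ a ∈ D, ∀ b ∈ D, Commute a b → a * b ∈ pCore 2 G := by
    intro a ha b hb hc
    obtain ⟨g, rfl⟩ := class_trans hD hd ha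
    have hb' : g⁻¹ * b * g ∈ D := by simpa using hconj g⁻¹ b hb
    have hS : SameV D d (g⁻¹ * b * g) := by
      refine hV.subset ⟨hb', ?_⟩
      rw [← conj_cancel g b] at hc
      exact commute_conj_iff.1 hc
    have := hS.conj hconj g
    rw [conj_cancel g b] at this
    exact sameV_mul_mem_pCore hD.1 hconj this (hconj g d hd)
  obtain ⟨P, hP, hdP, htop⟩ := exists_three_sub hW1 _ G rfl D (pCore 2 G) (group_of_class hD) inferInstance
    (CfsgLib.Core.isPGroup_pCore 2 G) hcomm d hd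
  obtain ⟨S, hPS⟩ := hP.exists_le_sylow
  have hS : P = (S : Subgroup G) := by
    refine Subgroup.eq_of_le_of_card_ge hPS ?_
    obtain ⟨a, ha⟩ := IsPGroup.iff_card.1 S.isPGroup'
    obtain ⟨b, hb⟩ := IsPGroup.iff_card.1 hP
    obtain ⟨c, hc⟩ := IsPGroup.iff_card.1 (CfsgLib.Core.isPGroup_pCore 2 G)
    have h1 : Nat.card (Subgroup.zpowers d ⊔ P : Subgroup G) ∣ 2 * Nat.card P := by
      have := CfsgLib.Core.card_sup_dvd _ P (Subgroup.zpowers_le.2 hdP)
      rwa [Nat.card_zpowers, hD.1.1 d hd] at this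
    have h2 : Nat.card G ∣ 2 * Nat.card P * Nat.card (pCore 2 G) := by
      have := CfsgLib.Core.card_sup_dvd _ (pCore 2 G)
        (CfsgLib.Core.le_normalizer_of_normal (Subgroup.zpowers d ⊔ P) (pCore 2 G))
      rw [htop, Subgroup.card_top] at this
      exact this.trans (Nat.mul_dvd_mul_right h1 _)
    have h3 : 3 ^ a ∣ 2 * 3 ^ b * 2 ^ c := by
      rw [← ha, ← hb, ← hc]; exact (Subgroup.card_subgroup_dvd_card _).trans h2
    have h4 : 3 ^ a ∣ 3 ^ b := by
      have hcop : (3 ^ a).Coprime (2 * 2 ^ c) := by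
        rw [← pow_succ']; exact Nat.Coprime.pow _ _ (by norm_num)
      exact hcop.dvd_of_dvd_mul_left (by rwa [mul_right_comm] at h3)
    rw [ha, hb]
    exact Nat.le_of_dvd (pow_pos (by norm_num) _) h4
  refine ⟨S, ?_, ?_⟩
  · show d ∈ Subgroup.normalizer ((S : Subgroup G) : Set G)
    rw [← hS]
    exact hdP
  · rw [← hS]
    exact htop

end CfsgLib.ThreeTrans
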