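import Cfsg.Agent.Lib.ThreeTrans.DicksonSL2Hankel

/-!
Dickson's generation lemma for `SL₂` over a simple algebraic extension of a field of
characteristic not two and order not three.
-/

set_option autoImplicit false

namespace CfsgLib.ThreeTrans.DicksonSL2

open Matrix Polynomial CfsgLib.ThreeTrans.RankOneSL2

variable {k F : Type*} [Field k] [Field F] [Algebra k F]

/-- `f` is polynomial along every affine line. -/
def LinePoly (f : F → k) : Prop := ∀ a v : F, ∃ p : k[X], ∀ s : k, f (a + s • v) = p.eval s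

theorem LinePoly.mul {f g : F → k} (hf : LinePoly f) (hg : LinePoly g) :
    LinePoly fun x => f x * g x := fun a v => by
  obtain ⟨p, hp⟩ := hf a v
  obtain ⟨q, hq⟩ := hg a v
  exact ⟨p * q, fun s => by simp [hp, hq]⟩

theorem exists_common [Infinite k] {ι : Type*} (T : Finset ι) (f : ι → F → k)
    (hl : ∀ i ∈ T, LinePoly (f i)) (hne : ∀ i ∈ T, ∃ x, f i x ≠ 0) :
    ∃ g : F → k, LinePoly g ∧ (∃ x, g x ≠ 0) ∧ ∀ x, g x ≠ 0 → ∀ i ∈ T, f i x ≠ 0 := by
  classical
  induction T using Finset.induction_on with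
  | empty => exact ⟨fun _ => 1, fun _ _ => ⟨1, fun _ => by simp⟩, ⟨0, one_ne_zero⟩, by simp⟩
  | @insert i T hi ih =>
    obtain ⟨g, hg, ⟨b, hb⟩, hgT⟩ := ih (fun j hj => hl j (Finset.mem_insert_of_mem hj))
      (fun j hj => hne j (Finset.mem_insert_of_mem hj))
    obtain ⟨a, ha⟩ := hne i (Finset.mem_insert_self _ _)
    have hfi := hl i (Finset.mem_insert_self _ _)
    refine ⟨fun x => f i x * g x, hfi.mul hg, ?_, fun x hx j hj => ?_⟩
    · obtain ⟨p, hp⟩ := hfi a (b - a)
      obtain ⟨q, hq⟩ := hg a (b - a)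
      have hp0 : p ≠ 0 := fun h => ha (by simpa [h] using hp 0)
      have hq0 : q ≠ 0 := fun h => hb (by simpa [h] using hq 1)
      obtain ⟨s, hs⟩ : ∃ s, (p * q).eval s ≠ 0 := by
        by_contra hall
        push Not at hall
        exact mul_ne_zero hp0 hq0 (Polynomial.funext fun s => by simp [hall s])
      exact ⟨a + s • (b - a), by simpa [hp, hq] using hs⟩
    · rcases Finset.mem_insert.1 hj with rfl | hj
      · exact left_ne_zero_of_mul hx
      · exact hgT x (right_ne_zero_of_mul hx) j hj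

variable (pb : PowerBasis k F)

theorem linePoly_hank (i : ℕ) (u : F) : LinePoly fun w => (hank pb (u * w) i).det := fun a v => by
  refine ⟨(Matrix.of fun x y => Polynomial.C (hank pb (u * a) i x y) +
    Polynomial.X * Polynomial.C (hank pb (u * v) i x y)).det, fun s => ?_⟩
  show (hank pb (u * (a + s • v)) i).det = _
  rw [← Polynomial.coe_evalRingHom, RingHom.map_det]
  congr 1
  ext x y
  simp only [RingHom.mapMatrix_apply, Matrix.map_apply, Matrix.of_apply, Polynomial.coe_evalRingHom,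
    Polynomial.eval_add, Polynomial.eval_mul, Polynomial.eval_C, Polynomial.eval_X, hank]
  rw [mul_add, mul_smul_comm, add_mul, smul_mul_assoc, map_add, map_smul, smul_eq_mul]

/-- All the Hankel determinants attached to `w` are nonzero. -/
def Good (w : F) : Prop :=
  ∀ i ≤ pb.dim, (hank pb w i).det ≠ 0 ∧ (hank pb (pb.gen * w) i).det ≠ 0

theorem exists_good [Infinite k] (hα : pb.gen ≠ 0) :
    ∃ g : F → k, LinePoly g ∧ (∃ x, g x ≠ 0) ∧ ∀ x, g x ≠ 0 → Good pb x := by
  classical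
  let f : ℕ × Bool → F → k := fun q w => (hank pb ((if q.2 then pb.gen else 1) * w) q.1).det
  obtain ⟨g, hg, hne, hgood⟩ :=
    exists_common (Finset.range (pb.dim + 1) ×ˢ (Finset.univ : Finset Bool)) f
    (fun q _ => linePoly_hank pb _ _) (fun q hq => by
      obtain ⟨w, hw⟩ := exists_det_ne_zero pb (i := q.1)
        (Nat.lt_succ_iff.1 (Finset.mem_range.1 (Finset.mem_product.1 hq).1))
      refine ⟨(if q.2 then pb.gen else 1)⁻¹ * w, ?_⟩
      have hu : (if q.2 then pb.gen else 1) ≠ 0 := by split <;> simp [hα]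
      show (hank pb _ q.1).det ≠ 0
      rwa [← mul_assoc, mul_inv_cancel₀ hu, one_mul])
  refine ⟨g, hg, hne, fun x hx i hi => ⟨?_, ?_⟩⟩
  · have h := hgood x hx (i, false)
      (Finset.mem_product.2 ⟨Finset.mem_range.2 (Nat.lt_succ_of_le hi), Finset.mem_univ _⟩)
    simpa [f] using h
  · have h := hgood x hx (i, true)
      (Finset.mem_product.2 ⟨Finset.mem_range.2 (Nat.lt_succ_of_le hi), Finset.mem_univ _⟩)
    simpa [f] using h

variable (H : Subgroup (SpecialLinearGroup (Fin 2) F))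

/-- A column of an element of `H` represented by the `j`-th orthogonal monic elements. -/
def State (w : F) (j : ℕ) : Prop :=
  ∃ g ∈ H, ∃ μ ν : k, μ ≠ 0 ∧ ν ≠ 0 ∧ ∃ p r : F,
    p - pb.gen ^ j ∈ lowSpan pb j ∧ r - pb.gen ^ j ∈ lowSpan pb j ∧
    (∀ a < j, topCoeff pb (w * (p * pb.gen ^ a)) = 0) ∧
    (∀ a < j, topCoeff pb (pb.gen * w * (r * pb.gen ^ a)) = 0) ∧
    (g : Matrix (Fin 2) (Fin 2) F) 0 0 = algebraMap k F μ * p ∧
    (g : Matrix (Fin 2) (Fin 2) F) 1 0 = algebraMap k F ν * (pb.gen * r)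

theorem upper_mul_entries (x : F) (g : SpecialLinearGroup (Fin 2) F) :
    (upperEl x * g : SpecialLinearGroup (Fin 2) F).1 0 0 = g.1 0 0 + x * g.1 1 0 ∧
    (upperEl x * g : SpecialLinearGroup (Fin 2) F).1 1 0 = g.1 1 0 := by
  constructor <;>
    simp [SpecialLinearGroup.coe_mul, upperEl_coe, Matrix.mul_apply, Fin.sum_univ_two]

theorem lower_mul_entries (x : F) (g : SpecialLinearGroup (Fin 2) F) :
    (lowerEl x * g : SpecialLinearGroup (Fin 2) F).1 0 0 = g.1 0 0 ∧
    (lowerEl x * g : SpecialLinearGroup (Fin 2) F).1 1 0 = x * g.1 0 0 + g.1 1 0 := by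
  constructor <;>
    simp [SpecialLinearGroup.coe_mul, lowerEl_coe, Matrix.mul_apply, Fin.sum_univ_two]

theorem monic_mem_succ {j : ℕ} {p : F} (hp : p - pb.gen ^ j ∈ lowSpan pb j) :
    p ∈ lowSpan pb (j + 1) := by
  simpa using Submodule.add_mem _ (lowSpan_mono pb j.le_succ hp)
    (pow_mem_lowSpan pb (Nat.lt_succ_self j))

variable {H}
variable (hU : ∀ c : k, upperEl (algebraMap k F c) ∈ H)
  (hL : ∀ c : k, lowerEl (algebraMap k F c * pb.gen) ∈ H)
include hU

/-- The first half of the induction step. -/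
theorem half_step {w : F} (hw : Good pb w) {j : ℕ} (hj : j < pb.dim) (h : State pb H w j) :
    ∃ g ∈ H, ∃ μ ν : k, μ ≠ 0 ∧ ν ≠ 0 ∧ ∃ p r : F,
      p - pb.gen ^ (j + 1) ∈ lowSpan pb (j + 1) ∧ r - pb.gen ^ j ∈ lowSpan pb j ∧
      (∀ a < j + 1, topCoeff pb (w * (p * pb.gen ^ a)) = 0) ∧
      (∀ a < j, topCoeff pb (pb.gen * w * (r * pb.gen ^ a)) = 0) ∧
      (g : Matrix (Fin 2) (Fin 2) F) 0 0 = algebraMap k F μ * p ∧
      (g : Matrix (Fin 2) (Fin 2) F) 1 0 = algebraMap k F ν * (pb.gen * r) := by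
  obtain ⟨g, hg, μ, ν, hμ, hν, p, r, hp, hr, hpo, hro, h00, h10⟩ := h
  have hpj : topCoeff pb (w * (p * pb.gen ^ j)) ≠ 0 := fun h0 =>
    monic_ne_zero pb hj hp (nondeg pb (hw (j + 1) hj).1 (monic_mem_succ pb hp) fun a ha =>
      (Nat.lt_succ_iff_lt_or_eq.1 ha).elim (hpo a) (fun e => e ▸ h0))
  have hrj : topCoeff pb (pb.gen * w * (r * pb.gen ^ j)) ≠ 0 := fun h0 =>
    monic_ne_zero pb hj hr (nondeg pb (hw (j + 1) hj).2 (monic_mem_succ pb hr) fun a ha =>
      (Nat.lt_succ_iff_lt_or_eq.1 ha).elim (hro a) (fun e => e ▸ h0))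
  set s := -(topCoeff pb (pb.gen * w * (r * pb.gen ^ j)) / topCoeff pb (w * (p * pb.gen ^ j)))
    with hs
  have hs0 : s ≠ 0 := neg_ne_zero.2 (div_ne_zero hrj hpj)
  have horth : ∀ a, topCoeff pb (w * ((pb.gen * r + s • p) * pb.gen ^ a)) =
      topCoeff pb (pb.gen * w * (r * pb.gen ^ a)) + s * topCoeff pb (w * (p * pb.gen ^ a)) := by
    intro a
    rw [add_mul, mul_add, map_add, smul_mul_assoc, mul_smul_comm, map_smul, smul_eq_mul,
      show pb.gen * w * (r * pb.gen ^ a) = w * (pb.gen * r * pb.gen ^ a) by ring]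
  refine ⟨upperEl (algebraMap k F (μ / (s * ν))) * g, H.mul_mem (hU _) hg, μ / s, ν,
    div_ne_zero hμ hs0, hν, pb.gen * r + s • p, r, ?_, hr, ?_, hro, ?_, ?_⟩
  · have h1 := Submodule.add_mem _ (gen_mul_mem pb hr)
      (Submodule.smul_mem _ s (monic_mem_succ pb hp))
    convert h1 using 1
    rw [pow_succ', mul_sub]; ring
  · intro a ha
    rw [horth]
    rcases Nat.lt_succ_iff_lt_or_eq.1 ha with ha | rfl
    · rw [hpo a ha, hro a ha, mul_zero, add_zero]
    · rw [hs, neg_mul, div_mul_cancel₀ _ hpj, add_neg_cancel]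
  · rw [(upper_mul_entries _ g).1, h00, h10, map_div₀, map_div₀, map_mul, Algebra.smul_def]
    have : algebraMap k F s ≠ 0 := by simpa using hs0
    have : algebraMap k F ν ≠ 0 := by simpa using hν
    field_simp
    ring
  · rw [(upper_mul_entries _ g).2, h10]

include hL

theorem state_step {w : F} (hw : Good pb w) {j : ℕ} (hj : j + 1 < pb.dim) (h : State pb H w j) :
    State pb H w (j + 1) := by
  obtain ⟨g, hg, μ, ν, hμ, hν, p, r, hp, hr, hpo, hro, h00, h10⟩ :=
    half_step pb hU hw (Nat.lt_of_succ_lt hj) h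
  have hrj : topCoeff pb (pb.gen * w * (r * pb.gen ^ j)) ≠ 0 := fun h0 =>
    monic_ne_zero pb (Nat.lt_of_succ_lt hj) hr (nondeg pb (hw (j + 1) hj.le).2
      (monic_mem_succ pb hr) fun a ha =>
      (Nat.lt_succ_iff_lt_or_eq.1 ha).elim (hro a) (fun e => e ▸ h0))
  have hshift : ∀ a, topCoeff pb (pb.gen * w * (p * pb.gen ^ a)) =
      topCoeff pb (w * (p * pb.gen ^ (a + 1))) := fun a => by
    rw [show pb.gen * w * (p * pb.gen ^ a) = w * (p * pb.gen ^ (a + 1)) by ring]
  have hpj : topCoeff pb (pb.gen * w * (p * pb.gen ^ j)) ≠ 0 := by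
    rw [hshift]
    exact fun h0 => monic_ne_zero pb hj hp (nondeg pb (hw (j + 1 + 1) hj).1
      (monic_mem_succ pb hp) fun a ha =>
      (Nat.lt_succ_iff_lt_or_eq.1 ha).elim (hpo a) (fun e => e ▸ h0))
  set t := -(topCoeff pb (pb.gen * w * (p * pb.gen ^ j)) /
    topCoeff pb (pb.gen * w * (r * pb.gen ^ j))) with ht
  have ht0 : t ≠ 0 := neg_ne_zero.2 (div_ne_zero hpj hrj)
  refine ⟨lowerEl (algebraMap k F (ν / (t * μ)) * pb.gen) * g, H.mul_mem (hL _) hg, μ, ν / t,
    hμ, div_ne_zero hν ht0, p, p + t • r, hp, ?_, hpo, ?_, ?_, ?_⟩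
  · have h1 := Submodule.add_mem _ hp (Submodule.smul_mem _ t (monic_mem_succ pb hr))
    convert h1 using 1
    ring
  · intro a ha
    rw [add_mul, mul_add, map_add, smul_mul_assoc, mul_smul_comm, map_smul, smul_eq_mul]
    rcases Nat.lt_succ_iff_lt_or_eq.1 ha with ha | rfl
    · rw [hshift, hpo (a + 1) (Nat.succ_lt_succ ha), hro a ha, mul_zero, add_zero]
    · rw [ht, neg_mul, div_mul_cancel₀ _ hrj, add_neg_cancel]
  · rw [(lower_mul_entries _ g).1, h00]
  · rw [(lower_mul_entries _ g).2, h00, h10, map_div₀, map_div₀, map_mul, Algebra.smul_def]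
    have : algebraMap k F t ≠ 0 := by simpa using ht0
    have : algebraMap k F μ ≠ 0 := by simpa using hμ
    field_simp

theorem state {w : F} (hw : Good pb w) : ∀ j < pb.dim, State pb H w j
  | 0, _ => by
    refine ⟨lowerEl (algebraMap k F 1 * pb.gen), hL 1, 1, 1, one_ne_zero, one_ne_zero, 1, 1,
      by simp, by simp, by simp, by simp, by simp [lowerEl_coe], by simp [lowerEl_coe]⟩
  | j + 1, hj => state_step pb hU hL hw hj (state hw j (Nat.lt_of_succ_lt hj))

theorem upper_gen_sq {w : F} (hα : pb.gen ≠ 0) (hw : Good pb w) (c : k) :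
    upperEl (algebraMap k F c * (pb.gen * w ^ 2)) ∈ H := by
  have hn := pb.dim_pos
  obtain ⟨j, hjn⟩ : ∃ j, pb.dim = j + 1 := ⟨pb.dim - 1, by omega⟩
  obtain ⟨g, hg, μ, ν, hμ, hν, p, r, -, hr, hpo, hro, h00, h10⟩ :=
    half_step pb hU hw (by omega) (state pb hU hL hw j (by omega))
  have hp0 : p = 0 :=
    nondeg pb (hw pb.dim le_rfl).1 (mem_lowSpan_dim pb p) fun a ha => hpo a (by omega)
  rw [hp0, mul_zero] at h00
  have hr0 : r ≠ 0 := monic_ne_zero pb (by omega) hr
  have hw0 : w ≠ 0 := fun e => by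
    have := (hw 1 hn).1
    simp [e, hank] at this
  obtain ⟨κ, hκ⟩ := eq_smul_one pb (z := pb.gen * w * r) fun a ha => by
    rw [mul_assoc]; exact hro a (by omega)
  rw [Algebra.smul_def, mul_one] at hκ
  have hdet := g.2
  rw [Matrix.det_fin_two, h00, zero_mul, zero_sub, h10] at hdet
  set y := algebraMap k F ν * (pb.gen * r) with hy
  have hyw : y * w = algebraMap k F (ν * κ) := by rw [map_mul, ← hκ, hy]; ring
  have e : lowerEl (algebraMap k F (-(ν * κ) ^ 2 * c) * pb.gen) * g =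
      g * upperEl (algebraMap k F c * (pb.gen * w ^ 2)) := by
    apply Subtype.ext
    have hx : algebraMap k F (-(ν * κ) ^ 2 * c) = -(y * w) ^ 2 * algebraMap k F c := by
      rw [hyw, map_mul, map_neg, map_pow]
    rw [hx]
    clear_value y
    ext a b
    fin_cases a <;> fin_cases b <;>
      simp [SpecialLinearGroup.coe_mul, lowerEl_coe, upperEl_coe, Matrix.mul_apply, Fin.sum_univ_two, h00, h10]
    linear_combination (y * w ^ 2 * algebraMap k F c * pb.gen) * hdet
  have : upperEl (algebraMap k F c * (pb.gen * w ^ 2)) =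
      g⁻¹ * (lowerEl (algebraMap k F (-(ν * κ) ^ 2 * c) * pb.gen) * g) := by
    rw [e, inv_mul_cancel_left]
  rw [this]
  exact H.mul_mem (H.inv_mem hg) (H.mul_mem (hL _) hg)

theorem upper_of_infinite [Infinite k] (hα : pb.gen ≠ 0) (h2 : (2 : F) ≠ 0) :
    ∀ x : F, upperEl x ∈ H := by
  obtain ⟨f, hf, ⟨w₀, hw₀⟩, hgood⟩ := exists_good pb hα
  let W : Submodule k F :=
    { carrier := {x | ∀ c : k, upperEl (algebraMap k F c * x) ∈ H}
      zero_mem' := fun c => by rw [mul_zero, upperEl_zero]; exact H.one_mem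
      add_mem' := fun {x y} hx hy c => by rw [mul_add, ← upperEl_add]; exact H.mul_mem (hx c) (hy c)
      smul_mem' := fun d x hx c => by
        rw [Algebra.smul_def, ← mul_assoc, ← map_mul]; exact hx (c * d) }
  have hbase : ∀ w, Good pb w → pb.gen * w ^ 2 ∈ W := fun w hw c =>
    upper_gen_sq pb hU hL hα hw c
  have hw00 : w₀ ≠ 0 := fun e => by
    have := (hgood _ hw₀ 1 pb.dim_pos).1
    simp [e, hank] at this
  have hmid : ∀ v : F, pb.gen * (2 * w₀ * v) ∈ W := by
    intro v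
    obtain ⟨p, hp⟩ := hf w₀ v
    have hp0 : p ≠ 0 := fun h => hw₀ (by simpa [h] using hp 0)
    have hXp : Polynomial.X * p ≠ 0 := mul_ne_zero Polynomial.X_ne_zero hp0
    have hinf : ({s : k | (Polynomial.X * p).IsRoot s}ᶜ).Infinite :=
      (Polynomial.finite_setOf_isRoot hXp).infinite_compl
    obtain ⟨s₁, hs₁, s₂, hs₂, hne⟩ := hinf.nontrivial
    have hgd : ∀ s : k, s ∈ {s : k | (Polynomial.X * p).IsRoot s}ᶜ →
        s ≠ 0 ∧ pb.gen * (2 * w₀ * v) + s • (pb.gen * v ^ 2) ∈ W := by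
      intro s hs
      simp only [Set.mem_compl_iff, Set.mem_setOf_eq, Polynomial.IsRoot.def, Polynomial.eval_mul,
        Polynomial.eval_X, mul_eq_zero, not_or] at hs
      obtain ⟨hs0, hps⟩ := hs
      refine ⟨hs0, ?_⟩
      have h1 := W.sub_mem (hbase _ (hgood _ (by rw [hp]; exact hps))) (hbase _ (hgood _ hw₀))
      have h2 := W.smul_mem s⁻¹ h1
      convert h2 using 1
      simp only [Algebra.smul_def, map_inv₀]
      have : algebraMap k F s ≠ 0 := by simpa using hs0
      field_simp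
      ring
    have h1 := W.sub_mem (hgd _ hs₁).2 (hgd _ hs₂).2
    rw [add_sub_add_left_eq_sub, ← sub_smul] at h1
    have hC : pb.gen * v ^ 2 ∈ W := (W.smul_mem_iff (sub_ne_zero.2 hne)).1 h1
    have := W.sub_mem (hgd _ hs₁).2 (W.smul_mem s₁ hC)
    rwa [add_sub_cancel_right] at this
  intro x
  have := hmid (x / (pb.gen * 2 * w₀)) 1
  convert this using 2
  rw [map_one, one_mul]
  field_simp

/-- Dickson's lemma in abstract form. -/
theorem eq_top (hα : pb.gen ≠ 0) (h2 : (2 : F) ≠ 0) (hk3 : Nat.card k ≠ 3) : H = ⊤ := by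
  refine eq_top_of_upper hα H ?_ (by simpa using hL 1)
  cases finite_or_infinite k
  · exact upper_of_finite pb hα h2 hk3 H hU hL
  · exact upper_of_infinite pb hU hL hα h2

end CfsgLib.ThreeTrans.DicksonSL2
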