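import Cfsg.Agent.Lib.ThreeTrans.RankOneSL2
import Cfsg.Agent.Lib.Classical.Dickson.TwoTransvections

/-!
Dickson's generation lemma for `SL₂` over a simple algebraic extension: the reduction to upper
unitriangular matrices, and the case of a finite ground field.
-/

set_option autoImplicit false

namespace CfsgLib.ThreeTrans.DicksonSL2

open Matrix CfsgLib.ThreeTrans.RankOneSL2

variable {k F : Type*} [Field k] [Field F] [Algebra k F]

theorem eq_top_of_upper {α : F} (hα : α ≠ 0) (H : Subgroup (SpecialLinearGroup (Fin 2) F))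
    (hu : ∀ x : F, upperEl x ∈ H) (hl : lowerEl α ∈ H) : H = ⊤ := by
  set w := upperEl (-α⁻¹) * lowerEl α * upperEl (-α⁻¹) with hw
  have hwH : w ∈ H := H.mul_mem (H.mul_mem (hu _) hl) (hu _)
  have hlow : ∀ y : F, lowerEl y ∈ H := fun y => by
    have e : w * upperEl (-y / α ^ 2) = lowerEl y * w := by
      apply Subtype.ext
      show !![1, -α⁻¹; 0, 1] * !![1, 0; α, 1] * !![1, -α⁻¹; 0, 1] * !![1, -y / α ^ 2; 0, 1]
        = !![1, 0; y, 1] * (!![1, -α⁻¹; 0, 1] * !![1, 0; α, 1] * !![1, -α⁻¹; 0, 1])
      have e1 : !![1, -α⁻¹; 0, 1] * !![1, 0; α, 1] * !![1, -α⁻¹; 0, 1] = !![0, -α⁻¹; α, 0] := by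
        rw [Matrix.mul_fin_two, Matrix.mul_fin_two]
        simp [hα]
      rw [e1, Matrix.mul_fin_two, Matrix.mul_fin_two]
      simp only [one_mul, mul_one, zero_mul, mul_zero, add_zero, zero_add]
      ext i j
      fin_cases i <;> fin_cases j <;> simp
      field_simp
    have : lowerEl y = w * upperEl (-y / α ^ 2) * w⁻¹ := by rw [e, mul_inv_cancel_right]
    rw [this]; exact H.mul_mem (H.mul_mem hwH (hu _)) (H.inv_mem hwH)
  rw [eq_top_iff, ← sup_eq_top, sup_le_iff]
  constructor <;> intro g hg
  · obtain ⟨t, rfl⟩ := mem_lower.1 hg; exact hlow t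
  · obtain ⟨t, rfl⟩ := mem_upper.1 hg; exact hu t

/-- Entrywise map followed by conjugation with `diag(s, 1)`. -/
def scaleHom {M : Type*} [CommRing M] (f : M →+* F) (s : F) (hs : s ≠ 0) :
    SpecialLinearGroup (Fin 2) M →* SpecialLinearGroup (Fin 2) F where
  toFun g := ⟨!![f (g.1 0 0), s * f (g.1 0 1); f (g.1 1 0) / s, f (g.1 1 1)], by
    have h := congrArg f g.2
    rw [Matrix.det_fin_two, map_sub, map_mul, map_mul, map_one] at h
    rw [Matrix.det_fin_two_of]
    field_simp
    linear_combination h⟩
  map_one' := by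
    apply Subtype.ext
    ext i j; fin_cases i <;> fin_cases j <;> simp
  map_mul' g g' := by
    apply Subtype.ext
    show !![_, _; _, _] = !![_, _; _, _] * !![_, _; _, _]
    simp only [Matrix.SpecialLinearGroup.coe_mul, Matrix.mul_apply, Fin.sum_univ_two, map_add,
      map_mul, Matrix.mul_fin_two]
    ext i j
    fin_cases i <;> fin_cases j <;> simp <;> field_simp

theorem scaleHom_coe {M : Type*} [CommRing M] (f : M →+* F) (s : F) (hs : s ≠ 0)
    (g : SpecialLinearGroup (Fin 2) M) :
    (scaleHom f s hs g : Matrix (Fin 2) (Fin 2) F) =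
      !![f (g.1 0 0), s * f (g.1 0 1); f (g.1 1 0) / s, f (g.1 1 1)] := rfl

theorem upperEl_coe {R : Type*} [Field R] (s : R) :
    (upperEl s : Matrix (Fin 2) (Fin 2) R) = !![1, s; 0, 1] := rfl

theorem lowerEl_coe {R : Type*} [Field R] (s : R) :
    (lowerEl s : Matrix (Fin 2) (Fin 2) R) = !![1, 0; s, 1] := rfl

theorem upper_of_finite [Finite k] (pb : PowerBasis k F) (hα : pb.gen ≠ 0) (h2 : (2 : F) ≠ 0)
    (hk3 : Nat.card k ≠ 3) (H : Subgroup (SpecialLinearGroup (Fin 2) F))
    (hU : ∀ c : k, upperEl (algebraMap k F c) ∈ H)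
    (hL : ∀ c : k, lowerEl (algebraMap k F c * pb.gen) ∈ H) : ∀ x : F, upperEl x ∈ H := by
  classical
  haveI := pb.finite
  haveI : Finite F := Module.finite_of_finite k
  set α := pb.gen with hαdef
  have h2k : (2 : k) ≠ 0 := fun h => h2 (by rw [← map_ofNat (algebraMap k F) 2, h, map_zero])
  obtain ⟨t, ht, htα⟩ : ∃ t : k, t ≠ 0 ∧ (algebraMap k F t * α) ^ 2 ≠ -1 := by
    by_contra hne
    push_neg at hne
    have h1 := hne 1 one_ne_zero
    rw [map_one, one_mul] at h1
    have hall : ∀ t : k, t = 0 ∨ t = 1 ∨ t = -1 := fun t => by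
      by_cases ht : t = 0
      · exact Or.inl ht
      · have h := hne t ht
        rw [mul_pow, h1, ← map_pow, mul_neg, mul_one, neg_inj, ← map_one (algebraMap k F)] at h
        exact Or.inr (sq_eq_one_iff.1 ((algebraMap k F).injective h))
    apply hk3
    have hn1 : (1 : k) ≠ -1 := fun h => h2k (by linear_combination h)
    haveI := Fintype.ofFinite k
    have huniv : (Finset.univ : Finset k) = {0, 1, -1} := by
      ext x; simpa using hall x
    rw [Nat.card_eq_fintype_card, ← Finset.card_univ, huniv]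
    rw [Finset.card_insert_of_notMem (by simp [eq_comm (a := (0 : k))]),
      Finset.card_insert_of_notMem (by simp [hn1]), Finset.card_singleton]
  set lam := algebraMap k F t * α with hlamdef
  have hlam : lam ≠ 0 := mul_ne_zero (by simpa using ht) hα
  set M := Subfield.closure ({lam} : Set F)
  let lam' : M := ⟨lam, Subfield.subset_closure rfl⟩
  have hgen : Subfield.closure ({lam'} : Set M) = ⊤ := by
    rw [eq_top_iff]
    intro x _
    have hle : M ≤ (Subfield.closure ({lam'} : Set M)).map M.subtype := by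
      refine Subfield.closure_le.2 ?_
      rintro y rfl
      exact ⟨lam', Subfield.subset_closure rfl, rfl⟩
    obtain ⟨y, hy, hyx⟩ := hle x.2
    rwa [← Subtype.ext (show (y : F) = x from hyx)]
  haveI : Fintype M := Fintype.ofFinite M
  have hM2 : (2 : M) ≠ 0 := fun h => h2 (by simpa [map_ofNat] using congrArg M.subtype h)
  have hlam' : lam' ≠ 0 := fun h => hlam (congrArg M.subtype h)
  have htop := CfsgLib.Classical.Dickson.two_transvections hM2 lam' hlam' hgen
  rcases htop with ⟨htop, -⟩ | ⟨-, hbad, -⟩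
  swap
  · exact absurd (by simpa using congrArg M.subtype hbad) htα
  have key : ∀ (c : k) (i : ℕ), upperEl (algebraMap k F c * α ^ i) ∈ H := by
    intro c i
    by_cases hc : c = 0
    · rw [hc, map_zero, zero_mul, upperEl_zero]; exact H.one_mem
    set c' := c / t ^ i with hc'
    have hc0 : c' ≠ 0 := div_ne_zero hc (pow_ne_zero _ ht)
    have hc0F : algebraMap k F c' ≠ 0 := by simpa using hc0
    have hs : algebraMap k F c' / lam ≠ 0 := div_ne_zero hc0F hlam
    have hle : (⊤ : Subgroup (SpecialLinearGroup (Fin 2) M)) ≤ H.comap (scaleHom M.subtype _ hs) := by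
      rw [← htop, Subgroup.closure_le]
      rintro g (hg | hg) <;> rw [SetLike.mem_coe, Subgroup.mem_comap]
      · convert hL (t / c') using 1
        apply Subtype.ext
        rw [scaleHom_coe, lowerEl_coe, hg]
        simp [hlamdef, map_div₀, div_mul_eq_mul_div]
      · convert hU c' using 1
        apply Subtype.ext
        rw [scaleHom_coe, upperEl_coe, hg]
        simp [lam', hlam]
    have h := hle (Subgroup.mem_top (upperEl (lam' ^ (i + 1))))
    rw [Subgroup.mem_comap] at h
    convert h using 1
    apply Subtype.ext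
    have hti : algebraMap k F t ≠ 0 := by simpa using ht
    rw [scaleHom_coe, upperEl_coe, upperEl_coe]
    have e : algebraMap k F c * α ^ i = algebraMap k F c' / lam * lam ^ (i + 1) := by
      rw [hc', map_div₀, map_pow, hlamdef, pow_succ, mul_pow]
      field_simp
    rw [e]
    simp [lam']
  intro x
  obtain ⟨f, rfl⟩ := pb.exists_eq_aeval' x
  induction f using Polynomial.induction_on' with
  | add p q hp hq => rw [map_add, ← upperEl_add]; exact H.mul_mem hp hq
  | monomial n a => rw [Polynomial.aeval_monomial]; exact key a n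

end CfsgLib.ThreeTrans.DicksonSL2
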