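import Cfsg.Agent.Lib.ThreeTrans.DicksonSL2Finite

/-!
Hankel determinants of the functionals `a ↦ λ₀(w a)` on a simple algebraic extension.
-/

set_option autoImplicit false

namespace CfsgLib.ThreeTrans.DicksonSL2

open Matrix Polynomial

variable {k F : Type*} [Field k] [Field F] [Algebra k F] (pb : PowerBasis k F)

/-- The top coefficient of an element with respect to the power basis. -/
noncomputable def topCoeff : F →ₗ[k] k :=
  pb.basis.coord ⟨pb.dim - 1, Nat.sub_lt pb.dim_pos Nat.one_pos⟩

/-- The Hankel matrix of the functional `a ↦ λ₀(w a)`. -/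
noncomputable def hank (w : F) (i : ℕ) : Matrix (Fin i) (Fin i) k :=
  Matrix.of fun a b => topCoeff pb (w * pb.gen ^ ((a : ℕ) + b))

theorem topCoeff_pow {l : ℕ} (hl : l < pb.dim) :
    topCoeff pb (pb.gen ^ l) = if l = pb.dim - 1 then 1 else 0 := by
  rw [show pb.gen ^ l = pb.basis ⟨l, hl⟩ by simp [pb.basis_eq_pow], topCoeff,
    Module.Basis.coord_apply, pb.basis.repr_self, Finsupp.single_apply]
  simp [Fin.ext_iff]

/-- `span {α ^ l | l < i}`. -/
noncomputable def lowSpan (i : ℕ) : Submodule k F :=
  Submodule.span k (Set.range fun a : Fin i => pb.gen ^ (a : ℕ))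

theorem pow_mem_lowSpan {l i : ℕ} (h : l < i) : pb.gen ^ l ∈ lowSpan pb i :=
  Submodule.subset_span ⟨⟨l, h⟩, rfl⟩

theorem lowSpan_mono {i j : ℕ} (h : i ≤ j) : lowSpan pb i ≤ lowSpan pb j := by
  refine Submodule.span_le.2 ?_
  rintro _ ⟨a, rfl⟩
  exact pow_mem_lowSpan pb (a.2.trans_le h)

theorem gen_mul_mem {i : ℕ} {x : F} (h : x ∈ lowSpan pb i) : pb.gen * x ∈ lowSpan pb (i + 1) := by
  induction h using Submodule.span_induction with
  | mem x hx =>
    obtain ⟨a, rfl⟩ := hx
    rw [← pow_succ']
    exact pow_mem_lowSpan pb (Nat.succ_lt_succ a.2)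
  | zero => simp
  | add x y _ _ hx hy => rw [mul_add]; exact Submodule.add_mem _ hx hy
  | smul c x _ hx => rw [mul_smul_comm]; exact Submodule.smul_mem _ c hx

theorem mem_lowSpan_dim (x : F) : x ∈ lowSpan pb pb.dim := by
  have h : Set.range (fun a : Fin pb.dim => pb.gen ^ (a : ℕ)) = Set.range pb.basis := by
    rw [pb.coe_basis]
  rw [lowSpan, h, pb.basis.span_eq]
  trivial

theorem monic_ne_zero {j : ℕ} {p : F} (hj : j < pb.dim) (hp : p - pb.gen ^ j ∈ lowSpan pb j) :
    p ≠ 0 := by
  rintro rfl
  rw [zero_sub, Submodule.neg_mem_iff] at hp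
  have hli : LinearIndependent k fun a : Fin pb.dim => pb.gen ^ (a : ℕ) := by
    rw [← pb.coe_basis]; exact pb.basis.linearIndependent
  refine hli.notMem_span_image (s := {a : Fin pb.dim | (a : ℕ) < j}) (x := ⟨j, hj⟩) ?_ ?_
  · simp
  · refine Submodule.span_mono ?_ hp
    rintro _ ⟨a, rfl⟩
    exact ⟨⟨a, a.2.trans hj⟩, a.2, rfl⟩

theorem nondeg {w : F} {i : ℕ} (hdet : (hank pb w i).det ≠ 0) {v : F} (hv : v ∈ lowSpan pb i)
    (h0 : ∀ b < i, topCoeff pb (w * (v * pb.gen ^ b)) = 0) : v = 0 := by
  obtain ⟨c, rfl⟩ := (Submodule.mem_span_range_iff_exists_fun k).1 hv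
  suffices hc : c = 0 by simp [hc]
  refine Matrix.eq_zero_of_vecMul_eq_zero hdet (funext fun b => ?_)
  have h := h0 b b.2
  rw [Finset.sum_mul, Finset.mul_sum, map_sum] at h
  rw [Pi.zero_apply, ← h]
  simp only [Matrix.vecMul, dotProduct]
  refine Finset.sum_congr rfl fun a _ => ?_
  rw [smul_mul_assoc, mul_smul_comm, map_smul, ← pow_add]
  rfl

theorem eq_smul_one {z : F} (hz : ∀ a < pb.dim - 1, topCoeff pb (z * pb.gen ^ a) = 0) :
    ∃ κ : k, z = κ • 1 := by
  suffices ∀ d, d ≤ pb.dim - 1 → z ∈ lowSpan pb (pb.dim - d) by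
    have h := this (pb.dim - 1) le_rfl
    rw [show pb.dim - (pb.dim - 1) = 1 by have := pb.dim_pos; omega] at h
    obtain ⟨c, rfl⟩ := (Submodule.mem_span_range_iff_exists_fun k).1 h
    exact ⟨c 0, by simp⟩
  intro d
  induction d with
  | zero => intro _; exact mem_lowSpan_dim pb z
  | succ d ih =>
    intro hd
    have hmem := ih (by omega)
    obtain ⟨m, hm⟩ : ∃ m, pb.dim - d = m + 1 := ⟨pb.dim - d - 1, by omega⟩
    rw [show pb.dim - (d + 1) = m by omega]
    rw [hm] at hmem
    obtain ⟨c, hc⟩ := (Submodule.mem_span_range_iff_exists_fun k).1 hmem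
    have h := hz (pb.dim - 1 - m) (by omega)
    rw [← hc, Finset.sum_mul, map_sum, Finset.sum_eq_single (Fin.last m)] at h
    · rw [smul_mul_assoc, map_smul, ← pow_add,
        show ((Fin.last m : Fin (m + 1)) : ℕ) + (pb.dim - 1 - m) = pb.dim - 1 by
          simp only [Fin.val_last]; omega,
        topCoeff_pow pb (by omega), if_pos rfl, smul_eq_mul, mul_one] at h
      rw [← hc, Fin.sum_univ_castSucc, h, zero_smul, add_zero]
      exact Submodule.sum_mem _ fun a _ => Submodule.smul_mem _ _ (pow_mem_lowSpan pb a.2)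
    · intro a _ ha
      have : (a : ℕ) < m := Fin.val_lt_last ha
      rw [smul_mul_assoc, map_smul, ← pow_add, topCoeff_pow pb (by omega),
        if_neg (by omega), smul_zero]
    · intro h'; exact absurd (Finset.mem_univ _) h'

section Exists

variable [Infinite k]

/-- Some functional `a ↦ λ₀(w a)` has a nonzero `i`-th Hankel determinant. -/
theorem exists_det_ne_zero {i : ℕ} (hi : i ≤ pb.dim) : ∃ w : F, (hank pb w i).det ≠ 0 := by
  classical
  haveI := pb.finite
  let c : ℕ → Fin pb.dim → k := fun m j => pb.basis.repr (pb.gen ^ m) j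
  let P : Matrix (Fin i) (Fin i) (MvPolynomial (Fin pb.dim) k) :=
    Matrix.of fun a b => ∑ j, MvPolynomial.C (c ((a : ℕ) + b) j) * MvPolynomial.X j
  let mo : F →ₗ[k] (Fin pb.dim → k) :=
    LinearMap.pi fun j => topCoeff pb ∘ₗ LinearMap.mulRight k (pb.gen ^ (j : ℕ))
  have hmo_inj : Function.Injective mo := by
    rw [injective_iff_map_eq_zero]
    intro w hw
    by_contra hw0
    have hall : ∀ x : F, topCoeff pb (w * x) = 0 := by
      intro x
      rw [← pb.basis.sum_repr x, Finset.mul_sum, map_sum]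
      refine Finset.sum_eq_zero fun j _ => ?_
      rw [mul_smul_comm, map_smul, pb.basis_eq_pow]
      rw [show topCoeff pb (w * pb.gen ^ (j : ℕ)) = 0 from congrFun hw j, smul_zero]
    have h := hall (w⁻¹ * pb.gen ^ (pb.dim - 1))
    rw [← mul_assoc, mul_inv_cancel₀ hw0, one_mul,
      topCoeff_pow pb (Nat.sub_lt pb.dim_pos Nat.one_pos), if_pos rfl] at h
    exact one_ne_zero h
  have hmo : Function.Surjective mo :=
    (LinearMap.injective_iff_surjective_of_finrank_eq_finrank
      (by rw [pb.finrank, Module.finrank_fin_fun])).1 hmo_inj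
  have heval : ∀ w : F, MvPolynomial.eval (mo w) P.det = (hank pb w i).det := by
    intro w
    rw [RingHom.map_det]
    congr 1
    ext a b
    rw [RingHom.mapMatrix_apply, Matrix.map_apply]
    conv_rhs => rw [hank, Matrix.of_apply, ← pb.basis.sum_repr (pb.gen ^ ((a : ℕ) + b)),
      Finset.mul_sum, map_sum]
    simp only [P, Matrix.of_apply, map_sum, map_mul, MvPolynomial.eval_C, MvPolynomial.eval_X]
    refine Finset.sum_congr rfl fun j _ => ?_
    rw [mul_smul_comm, map_smul, pb.basis_eq_pow]
    rfl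
  -- a point over the algebraic closure where the determinant is `± 1`
  have hP : P.det ≠ 0 := by
    let L := AlgebraicClosure k
    have hint : IsIntegral k pb.gen := pb.isIntegral_gen
    let m := (minpoly k pb.gen).map (algebraMap k L)
    have hm0 : m ≠ 0 := Polynomial.map_ne_zero (minpoly.ne_zero hint)
    have hcard : m.roots.card = pb.dim := by
      rw [IsAlgClosed.card_roots_eq_natDegree, Polynomial.natDegree_map, pb.natDegree_minpoly]
    obtain ⟨s, hs, hscard⟩ : ∃ s ≤ m.roots, s.card = i :=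
      ⟨((m.roots.toList.take i : List L) : Multiset L),
        (Multiset.coe_le.2 (List.take_sublist _ _).subperm).trans_eq m.roots.coe_toList,
        by simp [hcard, hi]⟩
    let D : L[X] := (s.map fun r => X - Polynomial.C r).prod
    have hDmon : D.Monic := Polynomial.monic_multiset_prod_of_monic _ _ fun r _ => monic_X_sub_C r
    have hDdeg : D.natDegree = i := by
      rw [Polynomial.natDegree_multiset_prod_X_sub_C_eq_card, hscard]
    have hDdvd : D ∣ m :=
      (Multiset.prod_dvd_prod_of_le (Multiset.map_le_map hs)).trans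
        (Polynomial.prod_multiset_X_sub_C_dvd m)
    let Φ : k[X] → L := fun q => ((q.map (algebraMap k L)) %ₘ D).coeff (i - 1)
    intro hzero
    let pt : Fin pb.dim → L := fun j => Φ (X ^ (j : ℕ))
    have hΦ : ∀ m' : ℕ, ∑ j, algebraMap k L (c m' j) * pt j = Φ (X ^ m') := by
      intro m'
      set q : k[X] := X ^ m' - ∑ j : Fin pb.dim, Polynomial.C (c m' j) * X ^ (j : ℕ) with hq
      have hq0 : aeval pb.gen q = 0 := by
        simp only [hq, map_sub, map_sum, map_mul, aeval_C, map_pow, aeval_X]
        rw [sub_eq_zero]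
        conv_lhs => rw [← pb.basis.sum_repr (pb.gen ^ m')]
        simp [c, Algebra.smul_def, pb.basis_eq_pow]
      have hdvd : D ∣ q.map (algebraMap k L) :=
        hDdvd.trans (Polynomial.map_dvd _ (minpoly.dvd k _ hq0))
      have h := congrArg (fun p : L[X] => p.coeff (i - 1))
        ((Polynomial.modByMonic_eq_zero_iff_dvd hDmon).2 hdvd)
      simp only [hq, Polynomial.map_sub, Polynomial.sub_modByMonic, Polynomial.coeff_sub,
        Polynomial.coeff_zero, sub_eq_zero, Polynomial.map_sum, Polynomial.map_mul, map_C] at h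
      show _ = ((X ^ m').map (algebraMap k L) %ₘ D).coeff (i - 1)
      rw [h, show (∑ j : Fin pb.dim, Polynomial.C (algebraMap k L (c m' j)) *
          (X ^ (j : ℕ)).map (algebraMap k L)) %ₘ D =
          ∑ j : Fin pb.dim, algebraMap k L (c m' j) • ((X ^ (j : ℕ)).map (algebraMap k L) %ₘ D) by
        rw [← Polynomial.modByMonicHom_apply, map_sum]
        simp [← Polynomial.smul_eq_C_mul, map_smul], Polynomial.finsetSum_coeff]
      exact Finset.sum_congr rfl fun j _ => by rw [Polynomial.coeff_smul, smul_eq_mul]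
    have hdet : (MvPolynomial.aeval pt P.det) = 0 := by rw [hzero, map_zero]
    rw [AlgHom.map_det] at hdet
    have hmat : (MvPolynomial.aeval pt).mapMatrix P =
        Matrix.of fun a b : Fin i => Φ (X ^ ((a : ℕ) + b)) := by
      ext a b
      rw [AlgHom.mapMatrix_apply, Matrix.map_apply]
      simp only [P, Matrix.of_apply, map_sum, map_mul, MvPolynomial.aeval_C, MvPolynomial.aeval_X]
      exact hΦ _
    rw [hmat] at hdet
    have hsmall : ∀ l < i, Φ (X ^ l) = if l = i - 1 then 1 else 0 := by
      intro l hl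
      show ((X ^ l : k[X]).map (algebraMap k L) %ₘ D).coeff (i - 1) = _
      rw [Polynomial.map_pow, Polynomial.map_X, (Polynomial.modByMonic_eq_self_iff hDmon).2,
        Polynomial.coeff_X_pow]
      · simp [eq_comm]
      · rw [Polynomial.degree_X_pow, Polynomial.degree_eq_natDegree hDmon.ne_zero, hDdeg]
        exact_mod_cast hl
    have h1 := Matrix.det_permute' (Fin.revPerm (n := i))
      (Matrix.of fun a b : Fin i => Φ (X ^ ((a : ℕ) + b)))
    rw [hdet, mul_zero] at h1
    rw [Matrix.det_of_isLowerTriangular] at h1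
    · refine one_ne_zero (α := L) ?_
      rw [← h1]
      refine (Finset.prod_eq_one fun a _ => ?_).symm
      simp only [Matrix.submatrix_apply, Matrix.of_apply, id, Fin.revPerm_apply, Fin.val_rev]
      have := a.2
      rw [hsmall _ (by omega), if_pos (by omega)]
    · intro a b hab
      simp only [Matrix.submatrix_apply, Matrix.of_apply, id, Fin.revPerm_apply, Fin.val_rev]
      have hab' : (a : ℕ) < b := hab
      have := b.2
      rw [hsmall _ (by omega), if_neg (by omega)]
  by_contra hne
  push_neg at hne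
  refine hP (MvPolynomial.funext fun x => ?_)
  obtain ⟨w, rfl⟩ := hmo x
  rw [heval, hne w, map_zero]

end Exists

end CfsgLib.ThreeTrans.DicksonSL2
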