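import Cfsg.Agent.Lib.PGroups.Extraspecial

/-!
The extraspecial 2-groups of both types given by bilinear cocycles, and their 2-ranks.
The upper bound for minus type uses the sum of signs of the quadratic form.
-/

set_option autoImplicit false
set_option linter.unusedSectionVars false

namespace CfsgLib.ThreeTrans.ExtraRank

open Finset

variable {m : ℕ} {ε : ZMod 2}

/-- The group on `F₂ × F₂^(m+1) × F₂^(m+1)` with cocycle `a·b' + ε (a₀a₀' + b₀b₀')`. -/
@[ext]
structure Ex (m : ℕ) (ε : ZMod 2) where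
  /-- central coordinate -/
  c : ZMod 2
  /-- first half -/
  a : Fin (m + 1) → ZMod 2
  /-- second half -/
  b : Fin (m + 1) → ZMod 2
deriving DecidableEq

/-- Pairing of coordinate vectors. -/
def dot (u v : Fin (m + 1) → ZMod 2) : ZMod 2 := ∑ i, u i * v i

theorem dot_comm (u v : Fin (m + 1) → ZMod 2) : dot u v = dot v u :=
  Finset.sum_congr rfl fun i _ => mul_comm _ _

theorem dot_add_left (u u' v : Fin (m + 1) → ZMod 2) : dot (u + u') v = dot u v + dot u' v := by
  simp [dot, add_mul, Finset.sum_add_distrib]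

theorem dot_add_right (u v v' : Fin (m + 1) → ZMod 2) : dot u (v + v') = dot u v + dot u v' := by
  simp [dot, mul_add, Finset.sum_add_distrib]

theorem dot_single (u : Fin (m + 1) → ZMod 2) (i : Fin (m + 1)) :
    dot u (Pi.single i 1) = u i := by
  rw [dot, Finset.sum_eq_single i (fun j _ hj => by simp [Pi.single_eq_of_ne hj]) (by simp)]
  simp

/-- The cocycle. -/
def bil (x y : Ex m ε) : ZMod 2 := dot x.a y.b + ε * (x.a 0 * y.a 0 + x.b 0 * y.b 0)

/-- The quadratic form. -/
def quad (x : Ex m ε) : ZMod 2 := bil x x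

/-- The commutator form. -/
def pair (x y : Ex m ε) : ZMod 2 := dot x.a y.b + dot y.a x.b

instance : Mul (Ex m ε) := ⟨fun x y => ⟨x.c + y.c + bil x y, x.a + y.a, x.b + y.b⟩⟩
instance : One (Ex m ε) := ⟨⟨0, 0, 0⟩⟩
instance : Inv (Ex m ε) := ⟨fun x => ⟨x.c + quad x, x.a, x.b⟩⟩

@[simp] theorem mul_c (x y : Ex m ε) : (x * y).c = x.c + y.c + bil x y := rfl
@[simp] theorem mul_a (x y : Ex m ε) : (x * y).a = x.a + y.a := rfl
@[simp] theorem mul_b (x y : Ex m ε) : (x * y).b = x.b + y.b := rfl
@[simp] theorem inv_a (x : Ex m ε) : x⁻¹.a = x.a := rfl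
@[simp] theorem inv_b (x : Ex m ε) : x⁻¹.b = x.b := rfl
@[simp] theorem one_c : (1 : Ex m ε).c = 0 := rfl
@[simp] theorem one_a : (1 : Ex m ε).a = 0 := rfl
@[simp] theorem one_b : (1 : Ex m ε).b = 0 := rfl

theorem two_eq (x : ZMod 2) : x + x = 0 := CharTwo.add_self_eq_zero x

instance : Group (Ex m ε) :=
  Group.ofLeftAxioms
    (fun x y z => by
      refine Ex.ext ?_ (add_assoc _ _ _) (add_assoc _ _ _)
      simp only [mul_c, bil, mul_a, mul_b, Pi.add_apply, dot_add_left, dot_add_right]
      ring)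
    (fun x => by refine Ex.ext ?_ (zero_add _) (zero_add _); simp [bil, dot])
    (fun x => by
      refine Ex.ext ?_ ?_ ?_
      · show x.c + quad x + x.c + bil x x = 0
        rw [quad, show x.c + bil x x + x.c + bil x x = (x.c + x.c) + (bil x x + bil x x) by ring,
          two_eq, two_eq, add_zero]
      · funext i; exact two_eq _
      · funext i; exact two_eq _)

theorem four_eq : ∀ p q : ZMod 2, p + q + p + q = 0 := by decide

theorem eq_zero_of_ne_one : ∀ c : ZMod 2, c ≠ 1 → c = 0 := by decide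

theorem pair_comm (x y : Ex m ε) : pair x y = pair y x := add_comm _ _

theorem bil_add_bil (x y : Ex m ε) : bil x y + bil y x = pair x y := by
  simp only [bil, pair]
  rw [mul_comm (y.a 0), mul_comm (y.b 0),
    show ∀ p q r : ZMod 2, p + r + (q + r) = (p + q) + (r + r) by intros; ring, two_eq, add_zero]

theorem commute_iff {x y : Ex m ε} : Commute x y ↔ pair x y = 0 := by
  constructor
  · intro h
    have := congrArg Ex.c h.eq
    simp only [mul_c] at this
    rw [add_comm y.c x.c] at this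
    rw [← bil_add_bil, add_left_cancel this, two_eq]
  · intro h
    refine Ex.ext ?_ (add_comm _ _) (add_comm _ _)
    simp only [mul_c]
    rw [← bil_add_bil] at h
    rw [add_comm y.c x.c, eq_neg_of_add_eq_zero_left h, CharTwo.neg_eq]

theorem sq_eq (x : Ex m ε) : x ^ 2 = ⟨quad x, 0, 0⟩ := by
  rw [pow_two]
  refine Ex.ext ?_ ?_ ?_
  · simp [quad, two_eq]
  · funext i; exact two_eq _
  · funext i; exact two_eq _

theorem sq_eq_one_iff {x : Ex m ε} : x ^ 2 = 1 ↔ quad x = 0 := by
  rw [sq_eq, Ex.ext_iff]; simp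

theorem quad_mul (x y : Ex m ε) : quad (x * y) = quad x + quad y + pair x y := by
  rw [← bil_add_bil]
  simp only [quad, bil, mul_a, mul_b, Pi.add_apply, dot_add_left, dot_add_right]
  ring

theorem pair_mul (x y z : Ex m ε) : pair x (y * z) = pair x y + pair x z := by
  simp only [pair, mul_a, mul_b, dot_add_left, dot_add_right]
  ring

/-- Coordinates. -/
def equivProd : Ex m ε ≃ ZMod 2 × (Fin (m + 1) → ZMod 2) × (Fin (m + 1) → ZMod 2) where
  toFun x := (x.c, x.a, x.b)
  invFun p := ⟨p.1, p.2.1, p.2.2⟩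
  left_inv _ := rfl
  right_inv _ := rfl

instance : Fintype (Ex m ε) := Fintype.ofEquiv _ equivProd.symm

theorem card_eq : Nat.card (Ex m ε) = 2 ^ (2 * (m + 1) + 1) := by
  rw [Nat.card_congr equivProd, Nat.card_prod, Nat.card_prod, Nat.card_fun]
  simp [Nat.card_eq_fintype_card]
  ring

theorem mem_center_iff {x : Ex m ε} : x ∈ Subgroup.center (Ex m ε) ↔ x.a = 0 ∧ x.b = 0 := by
  rw [Subgroup.mem_center_iff]
  constructor
  · intro h
    constructor <;> funext i
    · have := commute_iff.1 (h ⟨0, 0, Pi.single i 1⟩ : Commute (⟨0, 0, Pi.single i 1⟩ : Ex m ε) x)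
      rw [pair, dot_single] at this
      simpa [dot] using this
    · have := commute_iff.1 (h ⟨0, Pi.single i 1, 0⟩ : Commute (⟨0, Pi.single i 1, 0⟩ : Ex m ε) x)
      rw [pair, dot_comm, dot_single] at this
      simpa [dot] using this
  · rintro ⟨ha, hb⟩ y
    exact (commute_iff.2 (by simp [pair, ha, hb, dot]) : Commute y x)

theorem card_center : Nat.card (Subgroup.center (Ex m ε)) = 2 := by
  have e : Subgroup.center (Ex m ε) ≃ ZMod 2 :=
    { toFun := fun x => x.1.c
      invFun := fun c => ⟨⟨c, 0, 0⟩, mem_center_iff.2 ⟨rfl, rfl⟩⟩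
      left_inv := fun x => by
        obtain ⟨ha, hb⟩ := mem_center_iff.1 x.2
        exact Subtype.ext (Ex.ext rfl ha.symm hb.symm)
      right_inv := fun c => rfl }
  rw [Nat.card_congr e, Nat.card_zmod]

theorem isExtraspecial : Cfsg.IsExtraspecial 2 (Ex m ε) := by
  have : Fact (Nat.Prime 2) := ⟨Nat.prime_two⟩
  refine CfsgLib.PGroups.isExtraspecial_of (IsPGroup.of_card card_eq) ?_ card_center ?_ ?_
  · intro h
    have := commute_iff.1 (h.is_comm.comm (⟨0, Pi.single 0 1, 0⟩ : Ex m ε) ⟨0, 0, Pi.single 0 1⟩)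
    rw [pair, dot_single] at this
    simp [dot] at this
  · rw [commutator_def, Subgroup.commutator_le]
    intro x _ y _
    rw [mem_center_iff, commutatorElement_def]
    constructor <;> funext i <;>
      (simp only [mul_a, mul_b, inv_a, inv_b, Pi.add_apply, Pi.zero_apply]
       exact four_eq _ _)
  · intro x
    rw [sq_eq, mem_center_iff]
    exact ⟨rfl, rfl⟩

/-- The sign character of `F₂`. -/
def chi (c : ZMod 2) : ℤ := if c = 0 then 1 else -1

theorem chi_add (c d : ZMod 2) : chi (c + d) = chi c * chi d := by revert c d; decide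

theorem chi_add_one (c : ZMod 2) : chi (c + 1) = - chi c := by revert c; decide

/-- The sum of signs of the quadratic form. -/
def signSum (m : ℕ) (ε : ZMod 2) : ℤ := ∑ x : Ex m ε, chi (quad x)

theorem elementary_iff {A : Subgroup (Ex m ε)} :
    Cfsg.IsElementaryAbelian 2 A ↔
      (∀ x ∈ A, ∀ y ∈ A, pair x y = 0) ∧ ∀ x ∈ A, quad x = 0 := by
  constructor
  · rintro ⟨hc, hs⟩
    exact ⟨fun x hx y hy => commute_iff.1 (congrArg Subtype.val (hc.is_comm.comm (⟨x, hx⟩ : A) ⟨y, hy⟩)),
      fun x hx => sq_eq_one_iff.1 (hs x hx)⟩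
  · rintro ⟨hp, hq⟩
    exact ⟨⟨⟨fun x y => Subtype.ext (commute_iff.2 (hp _ x.2 _ y.2))⟩⟩,
      fun x hx => sq_eq_one_iff.2 (hq x hx)⟩

/-- An elementary abelian subgroup has order at most `2^(m+2)`, and if it has that order the sign
sum is its order. -/
theorem card_le_or {A : Subgroup (Ex m ε)} (hA : Cfsg.IsElementaryAbelian 2 A) :
    Nat.card A ≤ 2 ^ (m + 2) ∧ (Nat.card A = 2 ^ (m + 2) → signSum m ε = Nat.card A) := by
  have : Fact (Nat.Prime 2) := ⟨Nat.prime_two⟩
  obtain ⟨hp, hq⟩ := elementary_iff.1 hA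
  let A' := A ⊔ Subgroup.center (Ex m ε)
  have hle : A' ≤ Subgroup.centralizer (A' : Set (Ex m ε)) := by
    have hmem : ∀ x ∈ A', ∀ y ∈ A', y * x = x * y := by
      intro x hx y hy
      simp only [A', Subgroup.mem_sup_of_normal_right] at hx hy
      obtain ⟨a, ha, z, hz, rfl⟩ := hx
      obtain ⟨a', ha', z', hz', rfl⟩ := hy
      have h1 : Commute a' a := commute_iff.2 (hp _ ha' _ ha)
      have hzc : ∀ w, Commute z w := fun w => (Subgroup.mem_center_iff.1 hz w).symm
      have hzc' : ∀ w, Commute z' w := fun w => (Subgroup.mem_center_iff.1 hz' w).symm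
      exact ((h1.mul_right (hzc a').symm).mul_left ((hzc' a).mul_right (hzc' z))).eq
    intro x hx
    rw [Subgroup.mem_centralizer_iff]
    exact fun y hy => hmem x hx y hy
  have hZ : Subgroup.center (Ex m ε) ≤ A' := le_sup_right
  have hmul := CfsgLib.PGroups.IsExtraspecial.card_centralizer_mul_card isExtraspecial hZ
  rw [card_eq] at hmul
  have h1 : Nat.card A' * Nat.card A' ≤ 2 ^ (m + 2) * 2 ^ (m + 2) := by
    calc Nat.card A' * Nat.card A'
        ≤ Nat.card (Subgroup.centralizer (A' : Set (Ex m ε))) * Nat.card A' :=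
          Nat.mul_le_mul_right _ (Subgroup.card_le_of_le hle)
      _ = 2 ^ (m + 2) * 2 ^ (m + 2) := by rw [hmul, ← pow_succ', ← pow_add]; congr 1; omega
  have hA'le : Nat.card A' ≤ 2 ^ (m + 2) := Nat.mul_self_le_mul_self_iff.1 h1
  have hAle : Nat.card A ≤ Nat.card A' := Subgroup.card_le_of_le le_sup_left
  refine ⟨hAle.trans hA'le, fun heq => ?_⟩
  have hA'eq : A' = A :=
    (Subgroup.eq_of_le_of_card_ge le_sup_left (by rw [heq]; exact hA'le)).symm
  rw [hA'eq] at hmul hle
  have hcent : Subgroup.centralizer (A : Set (Ex m ε)) = A := by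
    refine (Subgroup.eq_of_le_of_card_ge hle ?_).symm
    rw [heq] at hmul ⊢
    refine le_of_eq (Nat.eq_of_mul_eq_mul_right (Nat.two_pow_pos (m + 2)) (hmul.trans ?_))
    rw [← pow_succ', ← pow_add]; congr 1; omega
  -- orthogonality of the characters
  classical
  let S : Finset (Ex m ε) := univ.filter (· ∈ A)
  have hS : (S.card : ℤ) = Nat.card A := by
    rw [Nat.card_eq_fintype_card, Fintype.card_subtype]
  have key : ∀ x : Ex m ε,
      (∑ a ∈ S, chi (pair x a)) = if x ∈ A then (S.card : ℤ) else 0 := by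
    intro x
    by_cases hx : x ∈ A
    · rw [if_pos hx, Finset.sum_congr rfl (fun a ha => by
        rw [hp x hx a (by simpa [S] using ha)]; rfl : ∀ a ∈ S, chi (pair x a) = 1)]
      simp
    · rw [if_neg hx]
      have : ∃ a0 ∈ A, pair x a0 = 1 := by
        by_contra hn
        push Not at hn
        refine hx ?_
        rw [← hcent, Subgroup.mem_centralizer_iff]
        intro a ha
        refine (commute_iff.2 ?_ : Commute a x).eq
        rw [pair_comm]
        have h1 := hn a ha
        exact eq_zero_of_ne_one _ h1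
      obtain ⟨a0, ha0, hpa0⟩ := this
      have hbij : (∑ a ∈ S, chi (pair x a)) = ∑ a ∈ S, chi (pair x (a * a0)) := by
        refine Finset.sum_nbij' (· * a0⁻¹) (· * a0) ?_ ?_ ?_ ?_ ?_ <;>
          intro a ha <;> simp_all [S, mul_mem]
      have hneg : ∀ a, chi (pair x (a * a0)) = - chi (pair x a) := fun a => by
        rw [pair_mul, hpa0, chi_add_one]
      simp only [hneg, Finset.sum_neg_distrib] at hbij
      omega
  have hshift : ∀ a ∈ S, signSum m ε = ∑ x : Ex m ε, chi (quad x) * chi (pair x a) := by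
    intro a ha
    rw [signSum, ← Equiv.sum_comp (Equiv.mulRight a)]
    refine Finset.sum_congr rfl fun x _ => ?_
    simp only [Equiv.coe_mulRight]
    rw [quad_mul, hq a (by simpa [S] using ha), add_zero, chi_add]
  have hdouble : (S.card : ℤ) * signSum m ε = (S.card : ℤ) * (S.card : ℤ) := by
    calc (S.card : ℤ) * signSum m ε = ∑ _a ∈ S, signSum m ε := by simp
      _ = ∑ a ∈ S, ∑ x : Ex m ε, chi (quad x) * chi (pair x a) := Finset.sum_congr rfl hshift
      _ = ∑ x : Ex m ε, chi (quad x) * (∑ a ∈ S, chi (pair x a)) := by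
          rw [Finset.sum_comm]; simp [Finset.mul_sum]
      _ = ∑ x : Ex m ε, if x ∈ A then (S.card : ℤ) else 0 := by
          refine Finset.sum_congr rfl fun x _ => ?_
          rw [key]
          split_ifs with h
          · rw [hq x h]; simp [chi]
          · simp
      _ = (S.card : ℤ) * (S.card : ℤ) := by
          rw [← Finset.sum_filter]; simp [S]
  rw [← hS]
  refine mul_left_cancel₀ ?_ hdouble
  rw [hS]
  exact_mod_cast Nat.card_pos.ne'

/-- The twisting map between the two types. -/
def twist : Ex m 1 ≃ Ex m 0 where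
  toFun x := ⟨x.c, x.a + Pi.single 0 1, x.b + Pi.single 0 1⟩
  invFun x := ⟨x.c, x.a + Pi.single 0 1, x.b + Pi.single 0 1⟩
  left_inv x := by
    refine Ex.ext rfl ?_ ?_ <;> funext i <;> simp [add_assoc, two_eq]
  right_inv x := by
    refine Ex.ext rfl ?_ ?_ <;> funext i <;> simp [add_assoc, two_eq]

theorem quad_twist (x : Ex m 1) : quad (twist x) = quad x + 1 := by
  have hs : ∀ c : ZMod 2, c * c = c := by decide
  simp only [quad, bil, twist, Equiv.coe_fn_mk, dot_add_left, dot_add_right, dot_single,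
    dot_comm (Pi.single (0 : Fin (m + 1)) (1 : ZMod 2)) x.b, Pi.single_eq_same, one_mul, zero_mul,
    add_zero, hs, Pi.add_apply]
  ring_nf

theorem signSum_one : signSum m 1 = - signSum m 0 := by
  rw [signSum, signSum, ← Equiv.sum_comp (twist (m := m)), ← Finset.sum_neg_distrib]
  exact Finset.sum_congr rfl fun x _ => by rw [quad_twist, chi_add_one, neg_neg]

/-- The subgroup `b = 0`, or its part with `a₀ = 0` when the type is minus. -/
def half (m : ℕ) (ε : ZMod 2) : Subgroup (Ex m ε) where
  carrier := {x | x.b = 0 ∧ ε * x.a 0 = 0}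
  one_mem' := ⟨rfl, by simp⟩
  mul_mem' {x y} hx hy := ⟨by simp [hx.1, hy.1], by simp [mul_add, hx.2, hy.2]⟩
  inv_mem' {x} hx := hx

theorem half_elementary : Cfsg.IsElementaryAbelian 2 (half m ε) := by
  rw [elementary_iff]
  refine ⟨fun x hx y hy => by simp [pair, hx.1, hy.1, dot], fun x hx => ?_⟩
  simp [quad, bil, hx.1, dot, ← mul_assoc, hx.2]

theorem card_half_zero : Nat.card (half m 0) = 2 ^ (m + 2) := by
  have e : half m 0 ≃ ZMod 2 × (Fin (m + 1) → ZMod 2) :=
    { toFun := fun x => (x.1.c, x.1.a)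
      invFun := fun p => ⟨⟨p.1, p.2, 0⟩, rfl, zero_mul _⟩
      left_inv := fun x => Subtype.ext (Ex.ext rfl rfl x.2.1.symm)
      right_inv := fun p => rfl }
  rw [Nat.card_congr e, Nat.card_prod, Nat.card_fun]
  simp [pow_succ, mul_comm, mul_left_comm]

theorem card_half_one : Nat.card (half m 1) = 2 ^ (m + 1) := by
  have e : half m 1 ≃ ZMod 2 × (Fin m → ZMod 2) :=
    { toFun := fun x => (x.1.c, fun i => x.1.a i.succ)
      invFun := fun p => ⟨⟨p.1, Fin.cons 0 p.2, 0⟩, rfl, by simp⟩
      left_inv := fun x => by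
        refine Subtype.ext (Ex.ext rfl ?_ x.2.1.symm)
        funext i
        refine Fin.cases ?_ ?_ i
        · have := x.2.2
          rw [one_mul] at this
          simp [this]
        · intro j; simp
      right_inv := fun p => by simp }
  rw [Nat.card_congr e, Nat.card_prod, Nat.card_fun]
  simp [pow_succ, mul_comm, mul_left_comm]

theorem signSum_zero : signSum m 0 = 2 ^ (m + 2) := by
  rw [(card_le_or (half_elementary (m := m) (ε := 0))).2 card_half_zero, card_half_zero]
  norm_num

theorem rank_zero :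
    sSup {k : ℕ | ∃ A : Subgroup (Ex m 0), Cfsg.IsElementaryAbelian 2 A ∧ Nat.card A = 2 ^ k} =
      m + 2 := by
  refine IsGreatest.csSup_eq ⟨⟨_, half_elementary, card_half_zero⟩, ?_⟩
  rintro k ⟨A, hA, hc⟩
  have := (card_le_or hA).1
  rw [hc] at this
  exact (Nat.pow_le_pow_iff_right (le_refl 2)).1 this

theorem rank_one :
    sSup {k : ℕ | ∃ A : Subgroup (Ex m 1), Cfsg.IsElementaryAbelian 2 A ∧ Nat.card A = 2 ^ k} =
      m + 1 := by
  refine IsGreatest.csSup_eq ⟨⟨_, half_elementary, card_half_one⟩, ?_⟩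
  rintro k ⟨A, hA, hc⟩
  obtain ⟨h1, h2⟩ := card_le_or hA
  rw [hc] at h1
  have hk := (Nat.pow_le_pow_iff_right (le_refl 2)).1 h1
  by_contra hlt
  obtain rfl : k = m + 2 := by omega
  have h3 := h2 hc
  rw [signSum_one, signSum_zero, hc] at h3
  push_cast at h3
  have : (0 : ℤ) < 2 ^ (m + 2) := by positivity
  linarith

end CfsgLib.ThreeTrans.ExtraRank
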