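import Cfsg.Agent.Lib.ThreeTrans.FischerPlanes
import Cfsg.Agent.Lib.Classical.Unitary.ThreeTwo

set_option autoImplicit false

/-!
The group of order 54 generated by three 3-transpositions, and its realisation as the derived group
of `SU_3(2)` (owner: helper28).
-/

namespace CfsgLib.ThreeTrans

/-- An involution inverting two elements of order 3 all of whose mixed products have order 3. -/
structure Gen54 {G : Type*} [Group G] (d x y : G) : Prop where
  sq : d * d = 1
  invx : d * x * d⁻¹ = x⁻¹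
  invy : d * y * d⁻¹ = y⁻¹
  cubex : x ^ 3 = 1
  cubey : y ^ 3 = 1
  cubexy : (x * y) ^ 3 = 1
  cubexy' : (x * y⁻¹) ^ 3 = 1

/-- The model: a sign and three coordinates. -/
abbrev Code54 : Type := Fin 2 × ZMod 3 × ZMod 3 × ZMod 3

/-- Apply the sign. -/
def flip54 (e : Fin 2) (i : ZMod 3) : ZMod 3 := if e = 0 then i else -i

/-- The multiplication of the model. -/
def mul54 (p q : Code54) : Code54 :=
  (p.1 + q.1, flip54 q.1 p.2.1 + q.2.1, flip54 q.1 p.2.2.1 + q.2.2.1,
    p.2.2.2 + q.2.2.2 - flip54 q.1 p.2.2.1 * q.2.1)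

/-- Inversion in the model. -/
def inv54 (p : Code54) : Code54 :=
  (p.1, if p.1 = 0 then -p.2.1 else p.2.1, if p.1 = 0 then -p.2.2.1 else p.2.2.1, -p.2.2.2 - p.2.1 * p.2.2.1)

theorem mul54_inv54 : ∀ p : Code54, mul54 p (inv54 p) = (0, 0, 0, 0) := by decide

variable {G : Type*} [Group G]

/-- A power with exponent modulo 3. -/
def pw (a : G) (i : ZMod 3) : G := a ^ i.val

theorem pw_natCast {a : G} (h : a ^ 3 = 1) (n : ℕ) : pw a (n : ZMod 3) = a ^ n := by
  rw [pw, ZMod.val_natCast, ← pow_eq_pow_mod _ h]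

theorem pw_add {a : G} (h : a ^ 3 = 1) (i j : ZMod 3) : pw a (i + j) = pw a i * pw a j := by
  rw [pw, pw, pw, ZMod.val_add, ← pow_eq_pow_mod _ h, pow_add]

theorem pw_zero (a : G) : pw a 0 = 1 := by rw [pw, ZMod.val_zero, pow_zero]

theorem pw_neg {a : G} (h : a ^ 3 = 1) (i : ZMod 3) : pw a (-i) = (pw a i)⁻¹ :=
  eq_inv_of_mul_eq_one_left (by rw [← pw_add h, neg_add_cancel, pw_zero])

/-- The commutator of the two elements of order 3. -/
def comm54 (x y : G) : G := x * y * x⁻¹ * y⁻¹

/-- The normal form. -/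
def val54 (d x y : G) (p : Code54) : G :=
  d ^ (p.1 : ℕ) * (pw x p.2.1 * pw y p.2.2.1 * pw (comm54 x y) p.2.2.2)

namespace Gen54

variable {d x y : G} (h : Gen54 d x y)
include h

theorem comm_left : Commute x (comm54 x y) := by
  have h1 : Commute x (y * x * y⁻¹) := commute_conj_three h.cubey h.cubexy h.cubexy'
  have e : comm54 x y = x * (y * x * y⁻¹)⁻¹ := by rw [comm54]; group
  rw [e]
  exact (Commute.refl x).mul_right h1.inv_right

theorem comm_right : Commute y (comm54 x y) := by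
  have hyx : (y * x) ^ 3 = 1 := by
    have : (y * x) ^ 3 = y * (x * y) ^ 3 * y⁻¹ := by rw [← conj_pow]; group
    rw [this, h.cubexy, mul_one, mul_inv_cancel]
  have hyx' : (y * x⁻¹) ^ 3 = 1 := by
    have : (y * x⁻¹) ^ 3 = ((x * y⁻¹) ^ 3)⁻¹ := by rw [← inv_pow]; group
    rw [this, h.cubexy', inv_one]
  have h1 : Commute y (x * y * x⁻¹) := commute_conj_three h.cubex hyx hyx'
  have e : comm54 x y = (x * y * x⁻¹) * y⁻¹ := rfl
  rw [e]
  exact h1.mul_right (Commute.refl y).inv_right

theorem comm_cube : comm54 x y ^ 3 = 1 := by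
  have hc := h.comm_left
  have key : ∀ n : ℕ, x ^ n * y * (x ^ n)⁻¹ = comm54 x y ^ n * y := by
    intro n
    induction n with
    | zero => simp
    | succ n ih =>
      calc x ^ (n + 1) * y * (x ^ (n + 1))⁻¹
          = x * (x ^ n * y * (x ^ n)⁻¹) * x⁻¹ := by rw [pow_succ', mul_inv_rev]; group
        _ = (x * comm54 x y ^ n) * y * x⁻¹ := by rw [ih]; group
        _ = comm54 x y ^ n * (x * y * x⁻¹) := by rw [(hc.pow_right n).eq]; group
        _ = comm54 x y ^ (n + 1) * y := by rw [pow_succ]; simp only [comm54]; group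
  have := key 3
  rw [h.cubex, one_mul, inv_one, mul_one] at this
  exact right_eq_mul.1 this

theorem swap (a b : ℕ) : y ^ b * x ^ a = x ^ a * y ^ b * ((comm54 x y)⁻¹) ^ (b * a) := by
  have hx := h.comm_left.inv_right
  have hy := h.comm_right.inv_right
  set c := (comm54 x y)⁻¹ with hc
  have h1 : y * x = x * y * c := by
    have : c * (x * y) = y * x := by rw [hc, comm54]; group
    rw [← this, (hx.mul_left hy).eq]
  have h2 : ∀ a : ℕ, y * x ^ a = x ^ a * y * c ^ a := by
    intro a
    induction a with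
    | zero => simp
    | succ a ih =>
      calc y * x ^ (a + 1) = (x ^ a * y * c ^ a) * x := by rw [← ih, pow_succ]; group
        _ = x ^ a * (y * x) * c ^ a := by rw [mul_assoc _ (c ^ a), (hx.pow_right a).symm.eq]; group
        _ = x ^ (a + 1) * y * c ^ (a + 1) := by rw [h1, pow_succ, pow_succ']; group
  induction b with
  | zero => simp
  | succ b ih =>
    calc y ^ (b + 1) * x ^ a = y * (y ^ b * x ^ a) := by rw [pow_succ', mul_assoc]
      _ = (y * x ^ a) * (y ^ b * c ^ (b * a)) := by rw [ih]; group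
      _ = x ^ a * y * (c ^ a * y ^ b) * c ^ (b * a) := by rw [h2]; group
      _ = x ^ a * y ^ (b + 1) * c ^ ((b + 1) * a) := by
        rw [((hy.symm.pow_pow a b)).eq, pow_succ', show (b + 1) * a = a + b * a by ring, pow_add]; group

theorem swap_pw (j i : ZMod 3) :
    pw y j * pw x i = pw x i * pw y j * pw (comm54 x y) (-(j * i)) := by
  rw [pw_neg h.comm_cube]
  show y ^ j.val * x ^ i.val = x ^ i.val * y ^ j.val * _
  rw [h.swap, inv_pow, ← pw_natCast h.comm_cube, Nat.cast_mul, ZMod.natCast_zmod_val, ZMod.natCast_zmod_val]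

theorem conj_comm : d * comm54 x y * d⁻¹ = comm54 x y := by
  have e : d * comm54 x y * d⁻¹ =
      (d * x * d⁻¹) * (d * y * d⁻¹) * (d * x * d⁻¹)⁻¹ * (d * y * d⁻¹)⁻¹ := by
    simp only [comm54]; group
  rw [e, h.invx, h.invy, inv_inv, inv_inv]
  have hy := h.comm_right
  have hx := h.comm_left
  have e2 : x⁻¹ * y⁻¹ * x * y = (y * x)⁻¹ * comm54 x y * (y * x) := by simp only [comm54]; group
  rw [e2, mul_assoc, (hy.mul_left hx).symm.eq, inv_mul_cancel_left]

theorem conj_normal (e : Fin 2) (i j k : ZMod 3) :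
    (d ^ (e : ℕ))⁻¹ * (pw x i * pw y j * pw (comm54 x y) k) * d ^ (e : ℕ) =
      pw x (flip54 e i) * pw y (flip54 e j) * pw (comm54 x y) k := by
  obtain rfl | rfl : e = 0 ∨ e = 1 := by omega
  · simp [flip54]
  · have hd : d⁻¹ = d := inv_eq_of_mul_eq_one_right h.sq
    have hf : ∀ i, flip54 1 i = -i := fun i => rfl
    rw [hf, hf, pw_neg h.cubex, pw_neg h.cubey]
    show (d ^ 1)⁻¹ * (x ^ i.val * y ^ j.val * comm54 x y ^ k.val) * d ^ 1 = _
    have h0 : (d ^ 1)⁻¹ * (x ^ i.val * y ^ j.val * comm54 x y ^ k.val) * d ^ 1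
        = d * (x ^ i.val * y ^ j.val * comm54 x y ^ k.val) * d⁻¹ := by rw [pow_one, hd]
    rw [h0, ← conj_mul, ← conj_mul, ← conj_pow, ← conj_pow, ← conj_pow, h.invx, h.invy, h.conj_comm,
      inv_pow, inv_pow]
    rfl

theorem val54_mul (p q : Code54) : val54 d x y p * val54 d x y q = val54 d x y (mul54 p q) := by
  obtain ⟨e, i, j, k⟩ := p
  obtain ⟨e', i', j', k'⟩ := q
  have hz := h.comm_cube
  have hzx : ∀ a b : ZMod 3, Commute (pw (comm54 x y) a) (pw x b) := fun a b =>
    h.comm_left.symm.pow_pow _ _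
  have hzy : ∀ a b : ZMod 3, Commute (pw (comm54 x y) a) (pw y b) := fun a b =>
    h.comm_right.symm.pow_pow _ _
  have hd2 : d ^ 2 = 1 := by rw [pow_two, h.sq]
  show d ^ (e : ℕ) * (pw x i * pw y j * pw (comm54 x y) k) *
      (d ^ (e' : ℕ) * (pw x i' * pw y j' * pw (comm54 x y) k')) = d ^ ((e + e' : Fin 2) : ℕ) *
      (pw x (flip54 e' i + i') * pw y (flip54 e' j + j') *
        pw (comm54 x y) (k + k' - flip54 e' j * i'))
  have hde : d ^ ((e + e' : Fin 2) : ℕ) = d ^ (e : ℕ) * d ^ (e' : ℕ) := by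
    rw [Fin.val_add, ← pow_eq_pow_mod _ hd2, pow_add]
  rw [hde]
  have h1 : d ^ (e : ℕ) * (pw x i * pw y j * pw (comm54 x y) k) *
      (d ^ (e' : ℕ) * (pw x i' * pw y j' * pw (comm54 x y) k')) = d ^ (e : ℕ) * d ^ (e' : ℕ) *
      (((d ^ (e' : ℕ))⁻¹ * (pw x i * pw y j * pw (comm54 x y) k) * d ^ (e' : ℕ)) *
        (pw x i' * pw y j' * pw (comm54 x y) k')) := by group
  rw [h1, h.conj_normal]
  congr 1
  set a := flip54 e' i
  set b := flip54 e' j
  calc pw x a * pw y b * pw (comm54 x y) k * (pw x i' * pw y j' * pw (comm54 x y) k')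
      = pw x a * pw y b * (pw (comm54 x y) k * (pw x i' * pw y j')) * pw (comm54 x y) k' := by group
    _ = pw x a * (pw y b * pw x i') * pw y j' * pw (comm54 x y) k * pw (comm54 x y) k' := by
      rw [((hzx k i').mul_right (hzy k j')).eq]; group
    _ = pw x a * pw x i' * pw y b * (pw (comm54 x y) (-(b * i')) * pw y j') *
          pw (comm54 x y) k * pw (comm54 x y) k' := by rw [h.swap_pw]; group
    _ = pw x (a + i') * pw y (b + j') * pw (comm54 x y) (k + k' - b * i') := by
      rw [(hzy _ _).eq, pw_add h.cubex, pw_add h.cubey, show k + k' - b * i' = -(b * i') + k + k' by ring,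
        pw_add hz, pw_add hz]
      group

omit h in
theorem val54_zero : val54 d x y (0, 0, 0, 0) = 1 := by simp [val54, pw_zero]

omit h in
theorem val54_gen : val54 d x y (1, 0, 0, 0) = d ∧ val54 d x y (0, 1, 0, 0) = x ∧
    val54 d x y (0, 0, 1, 0) = y := by
  refine ⟨?_, ?_, ?_⟩ <;> simp [val54, pw, ZMod.val_one]

theorem closure_le_range : (Subgroup.closure ({d, x, y} : Set G) : Set G) ⊆ Set.range (val54 d x y) := by
  intro g hg
  induction hg using Subgroup.closure_induction with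
  | mem g hg =>
    obtain ⟨h1, h2, h3⟩ := val54_gen (d := d) (x := x) (y := y)
    rcases hg with rfl | rfl | rfl
    · exact ⟨_, h1⟩
    · exact ⟨_, h2⟩
    · exact ⟨_, h3⟩
  | one => exact ⟨_, val54_zero⟩
  | mul a b _ _ ha hb =>
    obtain ⟨p, rfl⟩ := ha
    obtain ⟨q, rfl⟩ := hb
    exact ⟨_, (h.val54_mul p q).symm⟩
  | inv a _ ha =>
    obtain ⟨p, rfl⟩ := ha
    refine ⟨inv54 p, eq_inv_of_mul_eq_one_right ?_⟩
    rw [h.val54_mul, mul54_inv54, val54_zero]

theorem surjective (hgen : Subgroup.closure ({d, x, y} : Set G) = ⊤) : Function.Surjective (val54 d x y) :=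
  fun g => h.closure_le_range (hgen ▸ Subgroup.mem_top g)

theorem card_closure_le : Nat.card (Subgroup.closure ({d, x, y} : Set G)) ≤ 54 := by
  have h54 : Nat.card Code54 = 54 := by
    rw [Nat.card_eq_fintype_card]; rfl
  rw [← h54]
  refine le_trans ?_ (Finite.card_range_le (val54 d x y))
  exact Nat.card_mono (Set.finite_range _) h.closure_le_range

theorem bijective (hgen : Subgroup.closure ({d, x, y} : Set G) = ⊤) (hc : 54 ≤ Nat.card G) :
    Function.Bijective (val54 d x y) := by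
  have h54 : Nat.card Code54 = 54 := by
    rw [Nat.card_eq_fintype_card]; rfl
  have hs := h.surjective hgen
  have : Finite G := Finite.of_surjective _ hs
  refine (Nat.bijective_iff_surjective_and_card _).2 ⟨hs, ?_⟩
  exact le_antisymm (h54 ▸ hc) (Nat.card_le_card_of_surjective _ hs)

end Gen54

/-- Two groups of order at least 54 so generated are isomorphic. -/
theorem iso54 {G H : Type*} [Group G] [Group H] {d x y : G} {d' x' y' : H} (h : Gen54 d x y)
    (h' : Gen54 d' x' y') (hgen : Subgroup.closure ({d, x, y} : Set G) = ⊤)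
    (hgen' : Subgroup.closure ({d', x', y'} : Set H) = ⊤) (hc : 54 ≤ Nat.card G) (hc' : 54 ≤ Nat.card H) :
    Nonempty (G ≃* H) := by
  let E := Equiv.ofBijective _ (h.bijective hgen hc)
  let E' := Equiv.ofBijective _ (h'.bijective hgen' hc')
  refine ⟨{ toEquiv := E.symm.trans E', map_mul' := fun a b => ?_ }⟩
  obtain ⟨p, rfl⟩ := E.surjective a
  obtain ⟨q, rfl⟩ := E.surjective b
  have e : E p * E q = E (mul54 p q) := h.val54_mul p q
  show E' (E.symm (E p * E q)) = E' (E.symm (E p)) * E' (E.symm (E q))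
  rw [e, E.symm_apply_apply, E.symm_apply_apply, E.symm_apply_apply]
  exact (h'.val54_mul p q).symm

/-- From a twisted commutation to a cube. -/
theorem cube_mul_of_twist {a b c : G} (ha : a ^ 3 = 1) (hb : b ^ 3 = 1) (hc : c ^ 3 = 1)
    (hca : Commute c a) (hcb : Commute c b) (h : b * a = c * a * b) : (a * b) ^ 3 = 1 := by
  calc (a * b) ^ 3 = a * (b * a) * (b * a) * b := by simp only [pow_succ, pow_zero, one_mul]; group
    _ = (a * c) * (a * b * c) * a * b * b := by rw [h]; group
    _ = (c * c) * (a * a * (b * a) * b * b) := by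
      rw [← (hca.mul_right hcb).eq, ← hca.eq]
      have : ∀ t, a * (c * t) = c * (a * t) := fun t => by rw [← mul_assoc, ← hca.eq, mul_assoc]
      simp only [mul_assoc, this]
    _ = (c * c) * (a * a * c * a * b ^ 3) := by rw [h]; simp only [pow_succ, pow_zero, one_mul, mul_assoc]
    _ = (c * c * c) * a ^ 3 * b ^ 3 := by
      rw [← ((hca.mul_right hca)).eq]; simp only [pow_succ, pow_zero, one_mul, mul_assoc]
    _ = c ^ 3 * a ^ 3 * b ^ 3 := by simp only [pow_succ, pow_zero, one_mul]
    _ = 1 := by rw [ha, hb, hc, one_mul, one_mul]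

end CfsgLib.ThreeTrans
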