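import Cfsg.Agent.Lib.ThreeTrans.FiftyFour

set_option autoImplicit false

/-!
The derived group of `SU_3(2)` is the group of order 54 generated by three 3-transpositions (owner: helper28).
-/

namespace CfsgLib.ThreeTrans

open scoped commutatorElement

open Cfsg CfsgLib.Classical CfsgLib.Classical.Herm.ThreeTwo

variable {F : Type*} [Field F] [Fintype F]

omit [Fintype F] in
theorem elZ_pow {w : F} (hw : Omega w) : elZ hw ^ 3 = 1 := by
  refine su_ext ?_
  show matZ w ^ 3 = 1
  obtain ⟨h2, h⟩ := hw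
  ext i j
  fin_cases i <;> fin_cases j <;> simp [matZ, pow_succ] <;> grind

set_option maxHeartbeats 1000000 in
theorem su32_data (hF : Fintype.card F = 4) {w : F} (hw : Omega w) :
    Gen54 (elM hw ^ 2) (elD hw) (elP hw) ∧
      commutator (SU 3 F 2) = Subgroup.closure ({elM hw ^ 2, elD hw, elP hw} : Set (SU 3 F 2)) ∧
      Nat.card (commutator (SU 3 F 2)) = 54 := by
  set M := elM hw with hMdef
  set X := elX hw with hXdef
  set D := elD hw with hDdef
  set P := elP hw with hPdef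
  set Z := elZ hw with hZdef
  have hD3 : D ^ 3 = 1 := elD_pow hw
  have hP3 : P ^ 3 = 1 := elP_pow hw
  have hZc := elZ_mem_center hw
  have hZcomm : ∀ g, Commute Z g := fun g => (Subgroup.mem_center_iff.1 hZc g).symm
  have hPD : P * D = Z * D * P := elP_mul_elD hw
  have hMD : M * D * M⁻¹ = P := mul_inv_eq_iff_eq_mul.2 (elM_mul_elD hw)
  have hMP : M * P * M⁻¹ = D ^ 2 := mul_inv_eq_iff_eq_mul.2 (elM_mul_elP hw)
  have hXD : X * D * X⁻¹ = Z * P * D := mul_inv_eq_iff_eq_mul.2 (elX_mul_elD hw)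
  have hXP : X * P * X⁻¹ = Z ^ 2 * P ^ 2 * D := mul_inv_eq_iff_eq_mul.2 (elX_mul_elP hw)
  have hD2inv : D ^ 2 = D⁻¹ := eq_inv_of_mul_eq_one_left (by rw [← pow_succ]; exact hD3)
  have hP2inv : P ^ 2 = P⁻¹ := eq_inv_of_mul_eq_one_left (by rw [← pow_succ]; exact hP3)
  have hinvx : M ^ 2 * D * (M ^ 2)⁻¹ = D⁻¹ := by
    calc M ^ 2 * D * (M ^ 2)⁻¹ = M * (M * D * M⁻¹) * M⁻¹ := by rw [pow_two]; group
      _ = D⁻¹ := by rw [hMD, hMP, hD2inv]
  have hinvy : M ^ 2 * P * (M ^ 2)⁻¹ = P⁻¹ := by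
    calc M ^ 2 * P * (M ^ 2)⁻¹ = M * (M * P * M⁻¹) * M⁻¹ := by rw [pow_two]; group
      _ = (M * D * M⁻¹) ^ 2 := by rw [hMP, conj_pow]
      _ = P⁻¹ := by rw [hMD, hP2inv]
  have hZ3 : Z ^ 3 = 1 := elZ_pow hw
  have hgen : Gen54 (M ^ 2) D P := by
    refine ⟨by rw [← pow_add]; exact elM_pow hw, hinvx, hinvy, hD3, hP3,
      cube_mul_of_twist hD3 hP3 hZ3 (hZcomm D) (hZcomm P) hPD, ?_⟩
    refine cube_mul_of_twist hD3 (by rw [inv_pow, hP3, inv_one]) (c := Z⁻¹) (by rw [inv_pow, hZ3, inv_one])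
      (hZcomm D).inv_left (hZcomm _).inv_left ?_
    rw [inv_mul_eq_iff_eq_mul]
    calc D = Z⁻¹ * (Z * D * P) * P⁻¹ := by group
      _ = Z⁻¹ * P * (D * P⁻¹) := by rw [← hPD]; group
      _ = P * (Z⁻¹ * D * P⁻¹) := by rw [((hZcomm P).inv_left).eq]; group
  have hF' : Fintype.card F = 2 ^ 2 := by rw [hF]; norm_num
  have hcard : Nat.card (SU 3 F 2) = 216 := by
    have h := Herm.card_SU hF' 3 (by norm_num)
    norm_num [Finset.prod_range_succ, Nat.gcd, even_iff_two_dvd] at h
    omega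
  have hfin : Finite (SU 3 F 2) := Nat.finite_of_card_ne_zero (by rw [hcard]; norm_num)
  set K := Subgroup.closure ({M ^ 2, D, P} : Set (SU 3 F 2)) with hK
  have hMK : M ^ 2 ∈ K := Subgroup.subset_closure (by simp)
  have hDK : D ∈ K := Subgroup.subset_closure (by simp)
  have hPK : P ∈ K := Subgroup.subset_closure (by simp)
  have hZK : Z ∈ K := by
    have : Z = P * D * P⁻¹ * D⁻¹ := by rw [hPD]; group
    rw [this]; exact mul_mem (mul_mem (mul_mem hPK hDK) (inv_mem hPK)) (inv_mem hDK)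
  -- the order of `K`
  set π : SU 3 F 2 →* Cfsg.PSU 3 F 2 := QuotientGroup.mk' (Subgroup.center (SU 3 F 2)) with hπ
  have hker : π.ker = Subgroup.center (SU 3 F 2) := QuotientGroup.ker_mk' _
  have hcenter : Nat.card (Subgroup.center (SU 3 F 2)) = 3 := Herm.card_center_SU hF' 3 le_rfl
  have hM2 : π (M ^ 2) ≠ 1 := by
    intro h1
    have := quatHom_injective hw hF (show quatHom hw (.a 2) = quatHom hw 1 from by rw [map_one]; exact h1)
    exact absurd this (by decide)
  have hZne : Z ≠ 1 := by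
    intro h1
    have := congrFun₂ (congrArg (fun g : SU 3 F 2 => ((g : Matrix.SpecialLinearGroup (Fin 3) F) : Matrix (Fin 3) (Fin 3) F)) h1) 0 0
    exact Herm.ThreeTwo.ne_one hw (by simpa [hZdef, elZ, matZ] using this)
  have h9 : 9 ∣ Nat.card (K.map π) := by
    have hle : (nineHom hw).range ≤ K.map π := by
      rintro _ ⟨a, rfl⟩
      exact mul_mem (pow_mem (Subgroup.mem_map_of_mem π hDK) _) (pow_mem (Subgroup.mem_map_of_mem π hPK) _)
    have h := Subgroup.card_dvd_of_le hle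
    rwa [Nat.card_congr (MonoidHom.ofInjective (nineHom_injective hw hF)).toEquiv.symm, Nat.card_prod,
      show Nat.card (Multiplicative (ZMod 3)) = 3 by simp] at h
  have h2 : 2 ∣ Nat.card (K.map π) := by
    have : orderOf (π (M ^ 2)) = 2 := orderOf_eq_prime (by
      rw [← map_pow, ← pow_mul, elM_pow hw, map_one]) hM2
    have h := Subgroup.orderOf_dvd_natCard (K.map π) (Subgroup.mem_map_of_mem π hMK)
    rwa [this] at h
  have hKcard : Nat.card K = 54 := by
    refine le_antisymm hgen.card_closure_le (Nat.le_of_dvd Nat.card_pos ?_)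
    have h := (π.comp K.subtype).ker.card_mul_index
    rw [Subgroup.index_ker, MonoidHom.range_comp, Subgroup.range_subtype] at h
    rw [← h, show 54 = 3 * (9 * 2) from rfl]
    refine Nat.mul_dvd_mul ?_ ((by norm_num : Nat.Coprime 9 2).mul_dvd_of_dvd_of_dvd h9 h2)
    have hmem : (⟨Z, hZK⟩ : K) ∈ (π.comp K.subtype).ker := (QuotientGroup.eq_one_iff _).2 hZc
    have ho : orderOf (⟨Z, hZK⟩ : K) = 3 := by
      haveI : Fact (Nat.Prime 3) := ⟨Nat.prime_three⟩
      exact orderOf_eq_prime (Subtype.ext hZ3) (fun h1 => hZne (congrArg Subtype.val h1))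
    have h' := Subgroup.orderOf_dvd_natCard _ hmem
    rwa [ho] at h'
  -- `K` is normal
  have hnorm : ∀ g, (g * (M ^ 2) * g⁻¹ ∈ K) → (g * D * g⁻¹ ∈ K) → (g * P * g⁻¹ ∈ K) →
      g ∈ Subgroup.normalizer (K : Set (SU 3 F 2)) := by
    intro g a b c
    refine Subgroup.mem_normalizer_fintype fun n hn => ?_
    show g * n * g⁻¹ ∈ K
    induction hn using Subgroup.closure_induction with
    | mem t ht => rcases ht with rfl | rfl | rfl <;> assumption
    | one => simp
    | mul s t _ _ hs ht => rw [← conj_mul]; exact mul_mem hs ht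
    | inv s _ hs => rw [← conj_inv]; exact inv_mem hs
  set N := Subgroup.normalizer (K : Set (SU 3 F 2)) with hN
  have hMN : M ∈ N := hnorm M (by rw [show M * M ^ 2 * M⁻¹ = M ^ 2 by group]; exact hMK)
    (by rw [hMD]; exact hPK) (by rw [hMP]; exact pow_mem hDK 2)
  have hXN : X ∈ N := hnorm X
    (by rw [← elX_sq hw, show X * X ^ 2 * X⁻¹ = X ^ 2 by group, elX_sq hw]; exact hMK)
    (by rw [hXD]; exact mul_mem (mul_mem hZK hPK) hDK)
    (by rw [hXP]; exact mul_mem (mul_mem (pow_mem hZK 2) (pow_mem hPK 2)) hDK)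
  have h8 : 8 ∣ Nat.card (N.map π) := by
    have hle : (quatHom hw).range ≤ N.map π := by
      rintro _ ⟨g | g, rfl⟩
      · exact pow_mem (Subgroup.mem_map_of_mem π hMN) _
      · exact mul_mem (Subgroup.mem_map_of_mem π hXN) (pow_mem (Subgroup.mem_map_of_mem π hMN) _)
    have h := Subgroup.card_dvd_of_le hle
    rwa [Nat.card_congr (MonoidHom.ofInjective (quatHom_injective hw hF)).toEquiv.symm,
      Nat.card_eq_fintype_card, QuaternionGroup.card] at h
  have hKn : K.Normal := by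
    refine Subgroup.normalizer_eq_top_iff.1 (Subgroup.eq_top_of_card_eq _ ?_)
    refine Nat.dvd_antisymm (Subgroup.card_subgroup_dvd_card _) ?_
    rw [hcard, show 216 = 8 * 27 from rfl]
    refine (by norm_num : Nat.Coprime 8 27).mul_dvd_of_dvd_of_dvd ?_ ?_
    · exact h8.trans (N.card_map_dvd π)
    · exact (show 27 ∣ 54 by norm_num).trans (hKcard ▸ Subgroup.card_dvd_of_le Subgroup.le_normalizer)
  have hle : K ≤ commutator (SU 3 F 2) := by
    have hc : ∀ a b : SU 3 F 2, a * b * a⁻¹ * b⁻¹ ∈ commutator (SU 3 F 2) := fun a b =>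
      Subgroup.commutator_mem_commutator (Subgroup.mem_top a) (Subgroup.mem_top b)
    rw [hK, Subgroup.closure_le]
    rintro t (rfl | rfl | rfl)
    · have h := hc X M
      have e : X * M * X⁻¹ * M⁻¹ = M ^ 2 := by
        have h1 := elX_mul_elM_mul_elX hw
        rw [← hXdef, ← hMdef] at h1
        calc X * M * X⁻¹ * M⁻¹ = (X * M * X) * (X ^ 2)⁻¹ * M⁻¹ := by group
          _ = (M ^ 2)⁻¹ := by rw [h1, hXdef, elX_sq hw, ← hMdef]; group
          _ = M ^ 2 := inv_eq_of_mul_eq_one_right (by rw [← pow_add]; exact elM_pow hw)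
      rwa [e] at h
    · have h := hc (M ^ 2) D
      rw [hinvx] at h
      have : D⁻¹ * D⁻¹ = D := by rw [← mul_inv_rev, ← pow_two, hD2inv, inv_inv]
      rwa [this] at h
    · have h := hc (M ^ 2) P
      rw [hinvy] at h
      have : P⁻¹ * P⁻¹ = P := by rw [← mul_inv_rev, ← pow_two, hP2inv, inv_inv]
      rwa [this] at h
  have hge : commutator (SU 3 F 2) ≤ K := by
    haveI := hKn
    have hq : Nat.card (SU 3 F 2 ⧸ K) = 2 ^ 2 := by
      have h := K.card_eq_card_quotient_mul_card_subgroup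
      rw [hcard, hKcard] at h
      omega
    haveI : Fact (Nat.Prime 2) := ⟨Nat.prime_two⟩
    rw [commutator_def, Subgroup.commutator_le]
    intro a _ b _
    rw [← QuotientGroup.eq_one_iff]
    show QuotientGroup.mk' K ⁅a, b⁆ = 1
    rw [map_commutatorElement, commutatorElement_eq_one_iff_commute]
    exact IsPGroup.commutative_of_card_eq_prime_sq hq _ _
  have e := le_antisymm hge hle
  exact ⟨hgen, e, e ▸ hKcard⟩

theorem su32_gen54 (hF : Fintype.card F = 4) :
    ∃ d x y : commutator (SU 3 F 2), Gen54 d x y ∧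
      Subgroup.closure ({d, x, y} : Set (commutator (SU 3 F 2))) = ⊤ ∧
      Nat.card (commutator (SU 3 F 2)) = 54 := by
  obtain ⟨w, hw⟩ := exists_omega hF
  obtain ⟨hg, he, hc⟩ := su32_data hF hw
  have h1 : elM hw ^ 2 ∈ commutator (SU 3 F 2) := he ▸ Subgroup.subset_closure (by simp)
  have h2 : elD hw ∈ commutator (SU 3 F 2) := he ▸ Subgroup.subset_closure (by simp)
  have h3 : elP hw ∈ commutator (SU 3 F 2) := he ▸ Subgroup.subset_closure (by simp)
  refine ⟨⟨_, h1⟩, ⟨_, h2⟩, ⟨_, h3⟩, ⟨Subtype.ext hg.sq, Subtype.ext hg.invx, Subtype.ext hg.invy,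
    Subtype.ext hg.cubex, Subtype.ext hg.cubey, Subtype.ext hg.cubexy, Subtype.ext hg.cubexy'⟩, ?_, hc⟩
  refine Subgroup.map_injective (commutator (SU 3 F 2)).subtype_injective ?_
  rw [MonoidHom.map_closure, ← MonoidHom.range_eq_map, Subgroup.range_subtype]
  refine Eq.trans ?_ he.symm
  congr 1
  simp [Set.image_insert_eq]

end CfsgLib.ThreeTrans
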