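import Mathlib
import Cfsg.Prelude.Def_FischerSpaces

set_option autoImplicit false

/-!
Three point line systems, embeddings and the two planes of a Fischer space (owner: helper28).
-/

namespace CfsgLib.ThreeTrans

open Cfsg

variable {X P : Type*}

/-- An embedding of a line system whose image is closed under the lines. -/
structure LineEmb (L : Set (Set X)) (M : Set (Set P)) (φ : P → X) : Prop where
  inj : Function.Injective φ
  map : ∀ m ∈ M, φ '' m ∈ L
  back : ∀ l ∈ L, ∀ x ∈ Set.range φ, ∀ y ∈ Set.range φ, x ≠ y → x ∈ l → y ∈ l → ∃ m ∈ M, l = φ '' m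

/-- Every line has three points and two points determine the line. -/
structure ThreeLines (L : Set (Set X)) : Prop where
  linear : LineSystem.IsPartialLinear L
  card : ∀ l ∈ L, l.ncard = 3

theorem ThreeLines.two {L : Set (Set X)} (h : ThreeLines L) {l : Set X} (hl : l ∈ L) :
    ∃ x ∈ l, ∃ y ∈ l, x ≠ y := by
  obtain ⟨x, y, z, hxy, -, -, rfl⟩ := Set.ncard_eq_three.1 (h.card l hl)
  exact ⟨x, by simp, y, by simp, hxy⟩

theorem ThreeLines.third {L : Set (Set X)} (h : ThreeLines L) {l : Set X} (hl : l ∈ L) {x y : X}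
    (hx : x ∈ l) (hy : y ∈ l) (hxy : x ≠ y) : ∃ z, z ≠ x ∧ z ≠ y ∧ l = {x, y, z} := by
  obtain ⟨a, b, c, hab, hac, hbc, rfl⟩ := Set.ncard_eq_three.1 (h.card l hl)
  simp only [Set.mem_insert_iff, Set.mem_singleton_iff] at hx hy
  rcases hx with h1 | h1 | h1 <;> rcases hy with h2 | h2 | h2 <;> rw [h1, h2] at hxy ⊢
  all_goals first
    | exact absurd rfl hxy
    | exact ⟨a, hab, hac, by ext; simp <;> tauto⟩
    | exact ⟨a, hac, hab, by ext; simp <;> tauto⟩
    | exact ⟨b, hab.symm, hbc, by ext; simp <;> tauto⟩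
    | exact ⟨b, hbc, hab.symm, by ext; simp <;> tauto⟩
    | exact ⟨c, hac.symm, hbc.symm, by ext; simp <;> tauto⟩
    | exact ⟨c, hbc.symm, hac.symm, by ext; simp <;> tauto⟩

theorem ThreeLines.lineMap_of_line {L : Set (Set X)} (h : ThreeLines L) {x y z : X}
    (hl : ({x, y, z} : Set X) ∈ L) (hxy : x ≠ y) (hzx : z ≠ x) (hzy : z ≠ y) :
    LineSystem.lineMap L x y = z := by
  classical
  have hex : ∃ w : X, w ≠ x ∧ w ≠ y ∧ x ≠ y ∧ ({x, y, w} : Set X) ∈ L := ⟨z, hzx, hzy, hxy, hl⟩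
  unfold LineSystem.lineMap
  simp only [dif_pos hex]
  obtain ⟨h1, h2, -, h3⟩ := hex.choose_spec
  have e := h.linear _ h3 _ hl x y hxy (by simp) (by simp) (by simp) (by simp)
  have : hex.choose ∈ ({x, y, z} : Set X) := e ▸ (by simp)
  simp only [Set.mem_insert_iff, Set.mem_singleton_iff] at this
  tauto

theorem ThreeLines.lineMap_mem {L : Set (Set X)} (h : ThreeLines L) {l : Set X} (hl : l ∈ L) {x y : X}
    (hx : x ∈ l) (hy : y ∈ l) : LineSystem.lineMap L x y ∈ l := by
  classical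
  by_cases hxy : x = y
  · unfold LineSystem.lineMap
    rw [dif_neg (fun ⟨_, _, _, h3, _⟩ => h3 hxy)]
    exact hy
  obtain ⟨z, hzx, hzy, rfl⟩ := h.third hl hx hy hxy
  rw [h.lineMap_of_line hl hxy hzx hzy]
  simp

theorem lineMap_of_not_collinear {L : Set (Set X)} {x y : X}
    (hn : ∀ l ∈ L, x ∈ l → y ∈ l → x = y) : LineSystem.lineMap L x y = y := by
  classical
  unfold LineSystem.lineMap
  exact dif_neg (fun ⟨w, _, _, h3, h4⟩ => h3 (hn _ h4 (by simp) (by simp)))

theorem ThreeLines.lineMap_cases {L : Set (Set X)} (h : ThreeLines L) (x y : X) :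
    (LineSystem.lineMap L x y = y ∧ ∀ l ∈ L, x ∈ l → y ∈ l → x = y) ∨
      ∃ z, z ≠ x ∧ z ≠ y ∧ x ≠ y ∧ ({x, y, z} : Set X) ∈ L ∧ LineSystem.lineMap L x y = z := by
  by_cases hn : ∀ l ∈ L, x ∈ l → y ∈ l → x = y
  · exact Or.inl ⟨lineMap_of_not_collinear hn, hn⟩
  · right
    simp only [not_forall] at hn
    obtain ⟨l, hl, hx, hy, hxy⟩ := hn
    obtain ⟨z, hzx, hzy, rfl⟩ := h.third hl hx hy hxy
    exact ⟨z, hzx, hzy, hxy, hl, h.lineMap_of_line hl hxy hzx hzy⟩

theorem LineEmb.subspace {L : Set (Set X)} {M : Set (Set P)} {φ : P → X} (e : LineEmb L M φ) :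
    LineSystem.IsSubspace L (Set.range φ) := by
  intro l hl x hx y hy hxy hxl hyl
  obtain ⟨m, -, rfl⟩ := e.back l hl x hx y hy hxy hxl hyl
  exact Set.image_subset_range _ _

theorem LineEmb.span_eq {L : Set (Set X)} {M : Set (Set P)} {φ : P → X} (e : LineEmb L M φ)
    {G₀ : Set P} (hgen : ∀ T : Set P, G₀ ⊆ T → LineSystem.IsSubspace M T → T = Set.univ)
    {S : Set X} (h1 : φ '' G₀ ⊆ S) (h2 : S ⊆ Set.range φ) :
    LineSystem.span L S = Set.range φ := by
  refine subset_antisymm (Set.sInter_subset_of_mem ⟨h2, e.subspace⟩) ?_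
  rintro _ ⟨p, rfl⟩ T ⟨hST, hT⟩
  have hsub : LineSystem.IsSubspace M (φ ⁻¹' T) := by
    intro m hm x hx y hy hxy hxm hym z hz
    exact hT _ (e.map m hm) _ hx _ hy (fun h => hxy (e.inj h)) ⟨x, hxm, rfl⟩ ⟨y, hym, rfl⟩ ⟨z, hz, rfl⟩
  have := hgen (φ ⁻¹' T) (fun q hq => hST (h1 ⟨q, hq, rfl⟩)) hsub
  exact (this ▸ Set.mem_univ p : p ∈ φ ⁻¹' T)

theorem LineEmb.isomorphic {L : Set (Set X)} {M : Set (Set P)} {φ : P → X} (e : LineEmb L M φ)
    (h : ThreeLines L) :
    LineSystem.Isomorphic (LineSystem.restrict L (Set.range φ)) M := by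
  refine ⟨(Equiv.ofInjective φ e.inj).symm, fun s => ?_⟩
  have hs : ∀ m : Set P, (Equiv.ofInjective φ e.inj).symm '' s = m ↔ s = {x : Set.range φ | (x : X) ∈ φ '' m} := by
    intro m
    rw [Equiv.image_eq_preimage_symm, Equiv.symm_symm]
    constructor
    · rintro rfl
      ext x
      obtain ⟨_, p, rfl⟩ := x
      simp [e.inj.eq_iff]
    · rintro rfl
      ext p
      simp [e.inj.eq_iff]
  constructor
  · rintro ⟨l, hl, hsub, rfl⟩
    obtain ⟨x, hx, y, hy, hxy⟩ := h.two hl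
    obtain ⟨m, hm, rfl⟩ := e.back l hl x (hsub hx) y (hsub hy) hxy hx hy
    rwa [(hs m).2 rfl]
  · intro hm
    exact ⟨_, e.map _ hm, Set.image_subset_range _ _, (hs _).1 rfl⟩

theorem exists_lineEmb {L : Set (Set X)} {M : Set (Set P)} {S : Set X} (hS : LineSystem.IsSubspace L S)
    (hi : LineSystem.Isomorphic (LineSystem.restrict L S) M) :
    ∃ φ : P → X, LineEmb L M φ ∧ Set.range φ = S := by
  obtain ⟨e, he⟩ := hi
  have hrange : Set.range (fun p => (e.symm p : X)) = S := by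
    ext x
    exact ⟨fun ⟨p, hp⟩ => hp ▸ (e.symm p).2, fun hx => ⟨e ⟨x, hx⟩, by simp⟩⟩
  refine ⟨fun p => (e.symm p : X), ⟨fun p q h => e.symm.injective (Subtype.ext h), ?_, ?_⟩, hrange⟩
  · intro m hm
    have h1 : e.symm '' m ∈ LineSystem.restrict L S := by
      rw [he, Equiv.image_symm_image]
      · exact hm
    obtain ⟨l, hl, hsub, heq⟩ := h1
    have : (fun p => (e.symm p : X)) '' m = l := by
      rw [← Function.comp_def Subtype.val e.symm, Set.image_comp, heq]
      ext x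
      exact ⟨fun ⟨y, hy, hyx⟩ => hyx ▸ hy, fun hx => ⟨⟨x, hsub hx⟩, hx, rfl⟩⟩
    rw [this]; exact hl
  · intro l hl x hx y hy hxy hxl hyl
    rw [hrange] at hx hy
    have hsub := hS l hl x hx y hy hxy hxl hyl
    refine ⟨e '' {z : S | (z : X) ∈ l}, (he _).1 ⟨l, hl, hsub, rfl⟩, ?_⟩
    ext z
    simp only [Set.image_image, Equiv.symm_apply_apply]
    exact ⟨fun hz => ⟨⟨z, hsub hz⟩, hz, rfl⟩, fun ⟨w, hw, hwz⟩ => hwz ▸ hw⟩

theorem LineEmb.map_lineMap {L : Set (Set X)} {M : Set (Set P)} {φ : P → X} (e : LineEmb L M φ)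
    (hL : ThreeLines L) (hM : ThreeLines M) (p q : P) :
    LineSystem.lineMap L (φ p) (φ q) = φ (LineSystem.lineMap M p q) := by
  rcases hM.lineMap_cases p q with ⟨he, hn⟩ | ⟨r, h1, h2, h3, h4, he⟩
  · rw [he]
    refine lineMap_of_not_collinear fun l hl hp hq => ?_
    by_contra hne
    obtain ⟨m, hm, rfl⟩ := e.back l hl _ ⟨p, rfl⟩ _ ⟨q, rfl⟩ hne hp hq
    exact hne (congrArg φ (hn m hm (e.inj.mem_set_image.1 hp) (e.inj.mem_set_image.1 hq)))
  · rw [he]
    have := e.map _ h4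
    rw [Set.image_insert_eq, Set.image_insert_eq, Set.image_singleton] at this
    exact hL.lineMap_of_line this (fun h => h3 (e.inj h)) (fun h => h1 (e.inj h)) (fun h => h2 (e.inj h))

/-- A line system described by a relation and a third point operation. -/
structure LineRule (M : Set (Set P)) (rel : P → P → Prop) (th : P → P → P) : Prop where
  mem : ∀ m, m ∈ M ↔ ∃ p q, rel p q ∧ m = {p, q, th p q}
  ne : ∀ p q, rel p q → p ≠ q ∧ th p q ≠ p ∧ th p q ≠ q
  swap : ∀ p q, rel p q → rel q p ∧ th q p = th p q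
  move : ∀ p q, rel p q → rel p (th p q) ∧ th p (th p q) = q

theorem LineRule.pair {M : Set (Set P)} {rel : P → P → Prop} {th : P → P → P} (r : LineRule M rel th)
    {m : Set P} (hm : m ∈ M) {u v : P} (hu : u ∈ m) (hv : v ∈ m) (huv : u ≠ v) :
    rel u v ∧ m = {u, v, th u v} := by
  obtain ⟨p, q, hpq, rfl⟩ := (r.mem m).1 hm
  obtain ⟨h1, h1'⟩ := r.swap p q hpq
  obtain ⟨h2, h2'⟩ := r.move p q hpq
  obtain ⟨h3, h3'⟩ := r.swap _ _ h2
  obtain ⟨h4, h4'⟩ := r.move q p h1
  rw [h1'] at h4 h4'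
  obtain ⟨h5, h5'⟩ := r.swap _ _ h4
  rw [h2'] at h3'
  rw [h4'] at h5'
  simp only [Set.mem_insert_iff, Set.mem_singleton_iff] at hu hv
  rcases hu with rfl | rfl | rfl <;> rcases hv with rfl | rfl | rfl
  all_goals first
    | exact absurd rfl huv
    | exact ⟨hpq, rfl⟩
    | (refine ⟨by assumption, ?_⟩; simp only [h1', h2', h3', h4', h5']; ext; simp; tauto)

theorem LineRule.threeLines {M : Set (Set P)} {rel : P → P → Prop} {th : P → P → P} (r : LineRule M rel th) :
    ThreeLines M := by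
  refine ⟨fun l hl m hm x y hxy hxl hyl hxm hym => ?_, fun m hm => ?_⟩
  · rw [(r.pair hl hxl hyl hxy).2, (r.pair hm hxm hym hxy).2]
  · obtain ⟨p, q, hpq, rfl⟩ := (r.mem m).1 hm
    obtain ⟨h1, h2, h3⟩ := r.ne p q hpq
    exact Set.ncard_eq_three.2 ⟨p, q, _, h1, h2.symm, h3.symm, rfl⟩

theorem LineRule.lineMap_eq {M : Set (Set P)} {rel : P → P → Prop} {th : P → P → P} (r : LineRule M rel th)
    [DecidableRel rel] (p q : P) : LineSystem.lineMap M p q = if rel p q then th p q else q := by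
  split
  · rename_i h
    obtain ⟨h1, h2, h3⟩ := r.ne p q h
    exact r.threeLines.lineMap_of_line ((r.mem _).2 ⟨p, q, h, rfl⟩) h1 h2 h3
  · rename_i h
    refine lineMap_of_not_collinear fun l hl hp hq => ?_
    by_contra hne
    exact h (r.pair hl hp hq hne).1

theorem LineRule.image_lineMap {M : Set (Set P)} {rel : P → P → Prop} {th : P → P → P} (r : LineRule M rel th)
    [DecidableRel rel]
    (hd : ∀ p q s, rel q s → rel (if rel p q then th p q else q) (if rel p s then th p s else s) ∧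
      (if rel p (th q s) then th p (th q s) else th q s) =
        th (if rel p q then th p q else q) (if rel p s then th p s else s))
    {m : Set P} (hm : m ∈ M) (p : P) : LineSystem.lineMap M p '' m ∈ M := by
  obtain ⟨q, s, hqs, rfl⟩ := (r.mem m).1 hm
  rw [Set.image_insert_eq, Set.image_insert_eq, Set.image_singleton, r.lineMap_eq, r.lineMap_eq, r.lineMap_eq]
  obtain ⟨h1, h2⟩ := hd p q s hqs
  exact (r.mem _).2 ⟨_, _, h1, by rw [h2]⟩

/-! ### The two planes -/

/-- Points of the affine plane of order three. -/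
abbrev AffPt := Fin 2 → ZMod 3

theorem affine_lineRule : LineRule affinePlaneThree (fun p q : AffPt => p ≠ q) (fun p q => -p - q) := by
  have hline : ∀ v w x : AffPt, w ≠ 0 → ((∃ c : ZMod 3, x = v + c • w) ↔ x = v ∨ x = v + w ∨ x = -v - (v + w)) := by
    decide +kernel
  refine ⟨fun m => ?_, ?_, ?_, ?_⟩
  · constructor
    · rintro ⟨v, w, hw, rfl⟩
      refine ⟨v, v + w, fun h => hw (by simpa using h), ?_⟩
      ext x
      simpa using hline v w x hw
    · rintro ⟨p, q, hpq, rfl⟩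
      refine ⟨p, q - p, sub_ne_zero.2 (Ne.symm hpq), ?_⟩
      ext x
      have := hline p (q - p) x (sub_ne_zero.2 (Ne.symm hpq))
      simp only [add_sub_cancel] at this
      simpa using this.symm
  all_goals decide +kernel

theorem affine_generated (T : Set AffPt) (h : ({![0, 0], ![1, 0], ![0, 1]} : Set AffPt) ⊆ T)
    (hT : LineSystem.IsSubspace affinePlaneThree T) : T = Set.univ := by
  have step : ∀ p q r : AffPt, p ∈ T → q ∈ T → p ≠ q → -p - q = r → r ∈ T := by
    rintro p q r hp hq hne rfl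
    exact hT _ ((affine_lineRule.mem _).2 ⟨p, q, hne, rfl⟩) p hp q hq hne (by simp) (by simp) (by simp)
  have a00 : (![0, 0] : AffPt) ∈ T := h (by simp)
  have a10 : (![1, 0] : AffPt) ∈ T := h (by simp)
  have a01 : (![0, 1] : AffPt) ∈ T := h (by simp)
  have a20 : (![2, 0] : AffPt) ∈ T := step _ _ _ a00 a10 (by decide) (by decide)
  have a02 : (![0, 2] : AffPt) ∈ T := step _ _ _ a00 a01 (by decide) (by decide)
  have a22 : (![2, 2] : AffPt) ∈ T := step _ _ _ a10 a01 (by decide) (by decide)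
  have a11 : (![1, 1] : AffPt) ∈ T := step _ _ _ a20 a02 (by decide) (by decide)
  have a21 : (![2, 1] : AffPt) ∈ T := step _ _ _ a10 a02 (by decide) (by decide)
  have a12 : (![1, 2] : AffPt) ∈ T := step _ _ _ a20 a01 (by decide) (by decide)
  have key : ∀ x : AffPt, x = ![0, 0] ∨ x = ![1, 0] ∨ x = ![0, 1] ∨ x = ![2, 0] ∨ x = ![0, 2] ∨ x = ![2, 2] ∨
      x = ![1, 1] ∨ x = ![2, 1] ∨ x = ![1, 2] := by decide +kernel
  refine Set.eq_univ_of_forall fun x => ?_
  rcases key x with rfl | rfl | rfl | rfl | rfl | rfl | rfl | rfl | rfl <;> assumption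

theorem affine_image_lineMap {m : Set AffPt} (hm : m ∈ affinePlaneThree) (p : AffPt) :
    LineSystem.lineMap affinePlaneThree p '' m ∈ affinePlaneThree :=
  affine_lineRule.image_lineMap (by decide +kernel) hm p

/-- Two points of the dual affine plane on a common line. -/
def dualRel (s t : DualAffinePoint) : Prop := (s.val ∩ t.val).card = 1

instance : DecidableRel dualRel := fun s t => inferInstanceAs (Decidable ((s.val ∩ t.val).card = 1))

/-- The third point of a line of the dual affine plane. -/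
def dualThird (s t : DualAffinePoint) : DualAffinePoint :=
  if h : (symmDiff s.val t.val).card = 2 then ⟨_, h⟩ else s

set_option synthInstance.maxSize 1024 in
set_option synthInstance.maxHeartbeats 200000 in
theorem dual_lineRule : LineRule dualAffinePlaneTwo dualRel dualThird := by
  have h1 : ∀ i : Fin 4, ∃ p q, dualRel p q ∧ ∀ s : DualAffinePoint, i ∉ s.val ↔ s = p ∨ s = q ∨ s = dualThird p q := by
    decide +kernel
  have h2 : ∀ p q : DualAffinePoint, (p.val ∩ q.val).card = 1 → ∃ i : Fin 4, ∀ s : DualAffinePoint, i ∉ s.val ↔ s = p ∨ s = q ∨ s = dualThird p q := by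
    decide +kernel
  refine ⟨fun m => ?_, ?_, ?_, ?_⟩
  · constructor
    · rintro ⟨i, rfl⟩
      obtain ⟨p, q, hr, hs⟩ := h1 i
      refine ⟨p, q, hr, ?_⟩
      ext s
      simpa using hs s
    · rintro ⟨p, q, hr, rfl⟩
      obtain ⟨i, hs⟩ := h2 p q hr
      refine ⟨i, ?_⟩
      ext s
      simpa using (hs s).symm
  all_goals decide +kernel

theorem dual_generated (T : Set DualAffinePoint)
    (h : ({⟨{0, 1}, rfl⟩, ⟨{1, 2}, rfl⟩, ⟨{2, 3}, rfl⟩} : Set DualAffinePoint) ⊆ T)
    (hT : LineSystem.IsSubspace dualAffinePlaneTwo T) : T = Set.univ := by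
  have step : ∀ p q r : DualAffinePoint, p ∈ T → q ∈ T → dualRel p q → dualThird p q = r → r ∈ T := by
    rintro p q r hp hq hr rfl
    exact hT _ ((dual_lineRule.mem _).2 ⟨p, q, hr, rfl⟩) p hp q hq (dual_lineRule.ne p q hr).1
      (by simp) (by simp) (by simp)
  have a01 : (⟨{0, 1}, rfl⟩ : DualAffinePoint) ∈ T := h (by simp)
  have a12 : (⟨{1, 2}, rfl⟩ : DualAffinePoint) ∈ T := h (by simp)
  have a23 : (⟨{2, 3}, rfl⟩ : DualAffinePoint) ∈ T := h (by simp)
  have a02 : (⟨{0, 2}, rfl⟩ : DualAffinePoint) ∈ T := step _ _ _ a01 a12 (by decide) (by decide)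
  have a13 : (⟨{1, 3}, rfl⟩ : DualAffinePoint) ∈ T := step _ _ _ a12 a23 (by decide) (by decide)
  have a03 : (⟨{0, 3}, rfl⟩ : DualAffinePoint) ∈ T := step _ _ _ a02 a23 (by decide) (by decide)
  have key : ∀ x : DualAffinePoint, x = ⟨{0, 1}, rfl⟩ ∨ x = ⟨{1, 2}, rfl⟩ ∨ x = ⟨{2, 3}, rfl⟩ ∨ x = ⟨{0, 2}, rfl⟩ ∨
      x = ⟨{1, 3}, rfl⟩ ∨ x = ⟨{0, 3}, rfl⟩ := by decide +kernel
  refine Set.eq_univ_of_forall fun x => ?_
  rcases key x with rfl | rfl | rfl | rfl | rfl | rfl <;> assumption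

theorem dual_image_lineMap {m : Set DualAffinePoint} (hm : m ∈ dualAffinePlaneTwo) (p : DualAffinePoint) :
    LineSystem.lineMap dualAffinePlaneTwo p '' m ∈ dualAffinePlaneTwo :=
  dual_lineRule.image_lineMap (by decide +kernel) hm p

/-! ### The maps of a Fischer space -/

theorem subset_span {L : Set (Set X)} (S : Set X) : S ⊆ LineSystem.span L S :=
  fun _ hx _ hT => hT.1 hx

theorem isSubspace_span {L : Set (Set X)} (S : Set X) : LineSystem.IsSubspace L (LineSystem.span L S) :=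
  fun l hl x hx y hy hxy hxl hyl z hz T hT => hT.2 l hl x (hx T hT) y (hy T hT) hxy hxl hyl hz

theorem ThreeLines.lineMap_involutive {L : Set (Set X)} (h : ThreeLines L) (x : X) :
    Function.Involutive (LineSystem.lineMap L x) := by
  intro y
  rcases h.lineMap_cases x y with ⟨e, -⟩ | ⟨z, h1, h2, h3, h4, e⟩
  · rw [e, e]
  · rw [e]
    refine h.lineMap_of_line ?_ h1.symm h3.symm h2.symm
    rwa [show ({x, z, y} : Set X) = {x, y, z} from by ext; simp <;> tauto]

theorem fischer_image_lineMap {L : Set (Set X)} (hL : IsFischerSpace L) {l : Set X} (hl : l ∈ L) (x : X) :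
    LineSystem.lineMap L x '' l ∈ L := by
  have h3 : ThreeLines L := ⟨hL.1, hL.2.1⟩
  by_cases hx : x ∈ l
  · have : LineSystem.lineMap L x '' l = l := by
      refine subset_antisymm ?_ fun y hy => ⟨_, h3.lineMap_mem hl hx hy, h3.lineMap_involutive x y⟩
      rintro _ ⟨y, hy, rfl⟩
      exact h3.lineMap_mem hl hx hy
    rw [this]; exact hl
  by_cases hc : ∀ y ∈ l, LineSystem.lineMap L x y = y
  · rwa [Set.image_congr hc, Set.image_id']
  simp only [not_forall] at hc
  obtain ⟨y, hy, hne⟩ := hc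
  rcases h3.lineMap_cases x y with ⟨e, -⟩ | ⟨z, -, -, hxy, hl', -⟩
  · exact absurd e hne
  have hlne : ({x, y, z} : Set X) ≠ l := fun e => hx (e ▸ by simp)
  have hplane := hL.2.2 _ hl' l hl hlne ⟨y, by simp, hy⟩
  set S := LineSystem.span L (({x, y, z} : Set X) ∪ l)
  have hsub : ({x, y, z} : Set X) ∪ l ⊆ S := subset_span _
  have key : ∀ {Q : Type} {M : Set (Set Q)}, ThreeLines M → (∀ m ∈ M, ∀ p : Q, LineSystem.lineMap M p '' m ∈ M) →
      LineSystem.Isomorphic (LineSystem.restrict L S) M → LineSystem.lineMap L x '' l ∈ L := by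
    intro Q M hM hMa hi
    obtain ⟨φ, e, hr⟩ := exists_lineEmb (isSubspace_span _) hi
    obtain ⟨p, hp⟩ : x ∈ Set.range φ := hr ▸ hsub (Or.inl (by simp))
    obtain ⟨u, hu, v, hv, huv⟩ := h3.two hl
    obtain ⟨m, hm, rfl⟩ := e.back l hl u (hr ▸ hsub (Or.inr hu)) v (hr ▸ hsub (Or.inr hv)) huv hu hv
    rw [← hp, Set.image_image]
    simp only [e.map_lineMap h3 hM]
    rw [← Set.image_image φ (LineSystem.lineMap M p)]
    exact e.map _ (hMa m hm p)
  rcases hplane with h | h
  · exact key dual_lineRule.threeLines (fun m hm p => dual_image_lineMap hm p) h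
  · exact key affine_lineRule.threeLines (fun m hm p => affine_image_lineMap hm p) h

end CfsgLib.ThreeTrans
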