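import Cfsg.Agent.Lib.ThreeTrans.Basic
import Cfsg.Agent.Lib.ThreeTrans.Braid
import Cfsg.Agent.Lib.ThreeTrans.LineSystems

set_option autoImplicit false

/-!
The line system of a set of 3-transpositions is a Fischer space (owner: helper28).
-/

namespace CfsgLib.ThreeTrans

open Cfsg

variable {G : Type*} [Group G] {D : Set G}

/-- The third point of the line through two non-commuting members. -/
def thirdPoint (hconj : ∀ g : G, ∀ d ∈ D, g * d * g⁻¹ ∈ D) (x y : D) : D :=
  ⟨(y : G) * x * (y : G)⁻¹, hconj y x x.2⟩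

variable (hD : IsThreeTranspositionSet D)
include hD

theorem braid' {x y : G} (hx : x ∈ D) (hy : y ∈ D) (h : ¬ Commute x y) :
    y * x * y⁻¹ = x * y * x⁻¹ := by
  rw [inv_eq hD hx, inv_eq hD hy, braid hD hx hy h]

theorem not_commute_third {x y : G} (hx : x ∈ D) (hy : y ∈ D) (h : ¬ Commute x y) :
    ¬ Commute x (y * x * y⁻¹) := by
  intro hc
  rw [inv_eq hD hy] at hc
  apply h
  have hc' : x * (y * x * y) = y * x * y * x := hc
  rw [← braid hD hx hy h] at hc'
  simp only [mul_assoc, mul_self_assoc hD hx, mul_self hD hx, mul_one] at hc'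
  exact hc'.symm

theorem third_third {x y : G} (hx : x ∈ D) (hy : y ∈ D) (h : ¬ Commute x y) :
    (y * x * y⁻¹) * x * (y * x * y⁻¹)⁻¹ = y := by
  rw [inv_eq hD hy]
  calc y * x * y * x * (y * x * y)⁻¹ = x * y * x * x * (y * x * y)⁻¹ := by rw [braid hD hx hy h]
    _ = y := by
      simp only [mul_inv_rev, inv_eq hD hx, inv_eq hD hy, mul_assoc, mul_self_assoc hD hx,
        mul_self_assoc hD hy]

theorem lineRule (hconj : ∀ g : G, ∀ d ∈ D, g * d * g⁻¹ ∈ D) :
    LineRule (threeTranspositionLines D) (fun x y : D => ¬ Commute (x : G) (y : G)) (thirdPoint hconj) := by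
  refine ⟨fun m => ?_, ?_, ?_, ?_⟩
  · have key : ∀ x y : D, ({z : D | (z : G) = x ∨ (z : G) = y ∨ (z : G) = (y : G) * (x : G) * (y : G)⁻¹} : Set D)
        = {x, y, thirdPoint hconj x y} := fun x y => by ext z; simp [thirdPoint, Subtype.ext_iff]
    simp only [threeTranspositionLines, Set.mem_ofPred_eq, key]
  · intro x y h
    refine ⟨fun e => h (e ▸ Commute.refl _), fun e => ?_, fun e => ?_⟩
    · have e' : (y : G) * x * (y : G)⁻¹ = x := congrArg Subtype.val e
      exact h (show Commute (y : G) x from mul_inv_eq_iff_eq_mul.1 e').symm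
    · have e' : (y : G) * x * (y : G)⁻¹ = y := congrArg Subtype.val e
      rw [mul_inv_eq_iff_eq_mul, mul_right_inj] at e'
      exact h (e' ▸ Commute.refl _)
  · intro x y h
    exact ⟨fun hc => h hc.symm, Subtype.ext (braid' hD x.2 y.2 h).symm⟩
  · intro x y h
    exact ⟨not_commute_third hD x.2 y.2 h, Subtype.ext (third_third hD x.2 y.2 h)⟩

omit hD in
theorem commute_conj_three {x y : G} (hy3 : y ^ 3 = 1) (hxy : (x * y) ^ 3 = 1) (hxy' : (x * y⁻¹) ^ 3 = 1) :
    Commute x (y * x * y⁻¹) := by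
  have e1 : x * y * x = y⁻¹ * x⁻¹ * y⁻¹ := by
    have h : (x * y * x) * (y * x * y) = 1 := by
      rw [← hxy, _root_.pow_succ, pow_two]; simp only [mul_assoc]
    rw [eq_inv_of_mul_eq_one_left h]; group
  have e2 : x * y⁻¹ * x = y * x⁻¹ * y := by
    have h : (x * y⁻¹ * x) * (y⁻¹ * x * y⁻¹) = 1 := by
      rw [← hxy', _root_.pow_succ, pow_two]; simp only [mul_assoc]
    rw [eq_inv_of_mul_eq_one_left h]; group
  have ey : y⁻¹ * y⁻¹ = y := by
    rw [← mul_inv_rev, inv_eq_iff_mul_eq_one, ← hy3, _root_.pow_succ, pow_two]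
  have ey' : y * y = y⁻¹ := by rw [← inv_inj, mul_inv_rev, ey, inv_inv]
  show x * (y * x * y⁻¹) = (y * x * y⁻¹) * x
  calc x * (y * x * y⁻¹) = (x * y * x) * y⁻¹ := by group
    _ = y⁻¹ * x⁻¹ * (y⁻¹ * y⁻¹) := by rw [e1]; group
    _ = y⁻¹ * x⁻¹ * y := by rw [ey]
    _ = (y * y) * x⁻¹ * y := by rw [ey']
    _ = y * (x * y⁻¹ * x) := by rw [e2]; group
    _ = (y * x * y⁻¹) * x := by group

theorem lineEmb_of_rule {P : Type*} {M : Set (Set P)} {rel : P → P → Prop} {th : P → P → P}
    (r : LineRule M rel th) (hconj : ∀ g : G, ∀ d ∈ D, g * d * g⁻¹ ∈ D) (φ : P → D) (hinj : Function.Injective φ)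
    (h1 : ∀ p q, rel p q → ¬ Commute (φ p : G) (φ q))
    (h2 : ∀ p q, p ≠ q → ¬ Commute (φ p : G) (φ q) → rel p q)
    (h3 : ∀ p q, rel p q → (φ q : G) * φ p * (φ q : G)⁻¹ = φ (th p q)) :
    LineEmb (threeTranspositionLines D) M φ := by
  have R := lineRule hD hconj
  have himg : ∀ p q, rel p q → φ '' ({p, q, th p q} : Set P) = {φ p, φ q, thirdPoint hconj (φ p) (φ q)} := by
    intro p q h
    rw [Set.image_insert_eq, Set.image_insert_eq, Set.image_singleton,
      show φ (th p q) = thirdPoint hconj (φ p) (φ q) from Subtype.ext (h3 p q h).symm]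
  refine ⟨hinj, fun m hm => ?_, ?_⟩
  · obtain ⟨p, q, h, rfl⟩ := (r.mem m).1 hm
    exact (R.mem _).2 ⟨φ p, φ q, h1 p q h, himg p q h⟩
  · rintro l hl _ ⟨p, rfl⟩ _ ⟨q, rfl⟩ hne hp hq
    obtain ⟨hc, he⟩ := R.pair hl hp hq hne
    have hpq := h2 p q (fun e => hne (by rw [e])) hc
    exact ⟨_, (r.mem _).2 ⟨p, q, hpq, rfl⟩, he.trans (himg p q hpq).symm⟩

/-- Three members no two of whose transforms commute lie in an affine plane. -/
theorem exists_affine (hconj : ∀ g : G, ∀ d ∈ D, g * d * g⁻¹ ∈ D) (a b c : D)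
    (hab : ¬ Commute (a : G) b) (hac : ¬ Commute (a : G) c) (hbc : ¬ Commute (b : G) c)
    (hb'c : ¬ Commute ((a : G) * b * (a : G)⁻¹) c) (hbc' : ¬ Commute (b : G) ((a : G) * c * (a : G)⁻¹)) :
    ∃ φ : AffPt → D, LineEmb (threeTranspositionLines D) affinePlaneThree φ ∧
      φ ![0, 0] = a ∧ φ ![1, 0] = b ∧ φ ![0, 1] = c := by
  obtain ⟨a, ha⟩ := a
  obtain ⟨b, hb⟩ := b
  obtain ⟨c, hc⟩ := c
  simp only at hab hac hbc hb'c hbc'
  have a2 := mul_self_assoc hD ha
  have haa := mul_self hD ha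
  have hai := inv_eq hD ha
  rw [hai] at hb'c hbc'
  have hb'D : a * b * a ∈ D := by simpa only [hai] using hconj a b hb
  set x := a * b with hxdef
  set y := a * c with hydef
  have hx3 : x ^ 3 = 1 := pow_three hD ha hb hab
  have hy3 : y ^ 3 = 1 := pow_three hD ha hc hac
  have haxa : a * x * a = x⁻¹ := by
    rw [hxdef, mul_inv_rev, hai, inv_eq hD hb, a2]
  have haya : a * y * a = y⁻¹ := by
    rw [hydef, mul_inv_rev, hai, inv_eq hD hc, a2]
  have hxy : (x * y) ^ 3 = 1 := by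
    rw [hydef, ← mul_assoc]; exact pow_three hD hb'D hc hb'c
  have hxy' : (x * y⁻¹) ^ 3 = 1 := by
    have e : x * y⁻¹ = a * (b * c) * a⁻¹ := by
      rw [hxdef, hydef, mul_inv_rev, inv_eq hD hc]; simp only [mul_assoc]
    rw [e, conj_pow, pow_three hD hb hc hbc, mul_one, mul_inv_cancel]
  have hyx : (y * x) ^ 3 = 1 := by
    rw [show y * x = x⁻¹ * (x * y) * x⁻¹⁻¹ by group, conj_pow, hxy, mul_one, mul_inv_cancel]
  have hyx' : (y * x⁻¹) ^ 3 = 1 := by
    rw [show y * x⁻¹ = (x * y⁻¹)⁻¹ by group, inv_pow, hxy', inv_one]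
  set z := y⁻¹ * x⁻¹ * y * x with hzdef
  have czx : Commute z x := by
    have h := commute_conj_three (x := x) (y := y⁻¹) (by rw [inv_pow, hy3, inv_one]) hxy' (by rwa [inv_inv])
    have h' := (h.inv_right.mul_right (Commute.refl x)).symm
    rwa [show (y⁻¹ * x * y⁻¹⁻¹)⁻¹ * x = z by rw [hzdef]; group] at h'
  have czy : Commute z y := by
    have h := commute_conj_three (x := y) (y := x⁻¹) (by rw [inv_pow, hx3, inv_one]) hyx' (by rwa [inv_inv])
    have h' := ((Commute.refl y).inv_right.mul_right h).symm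
    rwa [show y⁻¹ * (x⁻¹ * y * x⁻¹⁻¹) = z by rw [hzdef]; group] at h'
  have cza : Commute z a := by
    have e1 : z = x⁻¹ * y * x * y⁻¹ := by
      rw [← mul_inv_cancel_right z y, czy.eq, hzdef]; group
    have e2 : z = y * x * y⁻¹ * x⁻¹ := by
      rw [← mul_inv_cancel_right z x, czx.eq]; nth_rewrite 1 [e1]; group
    have d1 : ∀ g h : G, a * (g * h) * a = (a * g * a) * (a * h * a) := fun g h => by
      simp only [mul_assoc, a2]
    have d2 : ∀ g : G, a * g⁻¹ * a = (a * g * a)⁻¹ := fun g => by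
      simp only [mul_inv_rev, hai, mul_assoc]
    have e3 : a * z * a = y * x * y⁻¹ * x⁻¹ := by
      rw [hzdef, d1, d1, d1, d2, d2, haxa, haya, inv_inv, inv_inv]
    rw [← e2] at e3
    show z * a = a * z
    calc z * a = a * z * a * a := by rw [e3]
      _ = a * z := by rw [mul_assoc, haa, mul_one]
  have hswap : ∀ i : ℕ, y * x ^ i = x ^ i * y * z ^ i := by
    intro i
    induction i with
    | zero => simp
    | succ i ih =>
      calc y * x ^ (i + 1) = y * x ^ i * x := by rw [_root_.pow_succ, ← mul_assoc]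
        _ = x ^ i * y * (z ^ i * x) := by rw [ih, mul_assoc]
        _ = x ^ i * (y * x) * z ^ i := by rw [(czx.pow_left i).eq]; simp only [mul_assoc]
        _ = x ^ i * (x * y * z) * z ^ i := by rw [show y * x = x * y * z by rw [hzdef]; group]
        _ = x ^ (i + 1) * y * z ^ (i + 1) := by rw [_root_.pow_succ, _root_.pow_succ']; simp only [mul_assoc]
  let ψ : ℕ → ℕ → G := fun i j => x ^ i * y ^ j * a * (x ^ i * y ^ j)⁻¹
  have hψD : ∀ i j, ψ i j ∈ D := fun i j => hconj _ a ha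
  have hψx : ∀ i j, x * ψ i j * x⁻¹ = ψ (i + 1) j := fun i j => by
    simp only [ψ, _root_.pow_succ', mul_inv_rev, mul_assoc]
  have hψy : ∀ i j, y * ψ i j * y⁻¹ = ψ i (j + 1) := by
    intro i j
    have e : y * (x ^ i * y ^ j) = x ^ i * y ^ (j + 1) * z ^ i := by
      rw [← mul_assoc, hswap, mul_assoc _ (z ^ i), (czy.pow_pow i j).eq, _root_.pow_succ']
      simp only [mul_assoc]
    calc y * ψ i j * y⁻¹ = (y * (x ^ i * y ^ j)) * a * (y * (x ^ i * y ^ j))⁻¹ := by
          simp only [ψ, mul_inv_rev, mul_assoc]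
      _ = x ^ i * y ^ (j + 1) * (z ^ i * a * (z ^ i)⁻¹) * (x ^ i * y ^ (j + 1))⁻¹ := by
          rw [e]; simp only [mul_inv_rev, mul_assoc]
      _ = ψ i (j + 1) := by rw [(cza.pow_left i).eq, mul_inv_cancel_right]
  have hψxy : ∀ i j k l, x ^ i * y ^ j * ψ k l * (x ^ i * y ^ j)⁻¹ = ψ (k + i) (l + j) := by
    intro i j k l
    induction j generalizing l with
    | zero =>
      induction i generalizing k with
      | zero => simp
      | succ i ih =>
        rw [show x ^ (i + 1) * y ^ 0 * ψ k l * (x ^ (i + 1) * y ^ 0)⁻¹ =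
          x ^ i * y ^ 0 * (x * ψ k l * x⁻¹) * (x ^ i * y ^ 0)⁻¹ by
            simp only [pow_zero, mul_one, _root_.pow_succ, mul_inv_rev, mul_assoc], hψx, ih]
        congr 1
        omega
    | succ j ih =>
      rw [show x ^ i * y ^ (j + 1) * ψ k l * (x ^ i * y ^ (j + 1))⁻¹ =
        x ^ i * y ^ j * (y * ψ k l * y⁻¹) * (x ^ i * y ^ j)⁻¹ by
          simp only [_root_.pow_succ, mul_inv_rev, mul_assoc], hψy, ih]
      congr 1
      omega
  have hψa : ∀ i j, a * ψ i j * a = ψ (2 * i) (2 * j) := by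
    intro i j
    have d : ∀ g : G, g ^ 3 = 1 → a * g * a = g⁻¹ → ∀ n, a * g ^ n * a = g ^ (2 * n) := by
      intro g hg hga n
      have h1 : a * g ^ n * a = (a * g * a) ^ n := by
        have := (conj_pow (i := n) (a := a) (b := g))
        rw [hai] at this
        exact this.symm
      rw [h1, hga, pow_mul, show g ^ 2 = g⁻¹ from eq_inv_of_mul_eq_one_left (by rw [← _root_.pow_succ, hg])]
    have e : a * (x ^ i * y ^ j) = x ^ (2 * i) * y ^ (2 * j) * a := by
      rw [← d x hx3 haxa, ← d y hy3 haya]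
      simp only [mul_assoc, a2, haa, mul_one]
    calc a * ψ i j * a = (a * (x ^ i * y ^ j)) * a * (a * (x ^ i * y ^ j))⁻¹ := by
          simp only [ψ, mul_inv_rev, hai, mul_assoc]
      _ = ψ (2 * i) (2 * j) := by
          rw [e]; simp only [ψ, mul_inv_rev, hai, mul_assoc, a2, haa, mul_one]
  let φ : AffPt → D := fun v => ⟨ψ (v 0).val (v 1).val, hψD _ _⟩
  have hper : ∀ (n m : ℕ) (v : AffPt), (n : ZMod 3) = v 0 → (m : ZMod 3) = v 1 → (φ v : G) = ψ n m := by
    intro n m v hn hm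
    show ψ (v 0).val (v 1).val = ψ n m
    rw [← hn, ← hm, ZMod.val_natCast, ZMod.val_natCast]
    simp only [ψ, ← pow_eq_pow_mod _ hx3, ← pow_eq_pow_mod _ hy3]
  have htr : ∀ t v : AffPt, (φ (v + t) : G) =
      x ^ (t 0).val * y ^ (t 1).val * φ v * (x ^ (t 0).val * y ^ (t 1).val)⁻¹ := by
    intro t v
    rw [hper ((v 0).val + (t 0).val) ((v 1).val + (t 1).val) (v + t) (by simp) (by simp)]
    exact (hψxy _ _ _ _).symm
  have hrule : ∀ v w : AffPt, (φ v : G) * φ w * (φ v : G)⁻¹ = φ (-v - w) := by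
    intro v w
    have hg : (φ w : G) = x ^ (v 0).val * y ^ (v 1).val * ψ ((w 0).val + 2 * (v 0).val) ((w 1).val + 2 * (v 1).val) *
        (x ^ (v 0).val * y ^ (v 1).val)⁻¹ := by
      rw [hψxy]
      refine hper _ _ _ ?_ ?_ <;> push_cast <;> simp only [ZMod.natCast_zmod_val] <;>
        exact (by decide : ∀ p q : ZMod 3, q + 2 * p + p = q) _ _
    rw [hg]
    show x ^ (v 0).val * y ^ (v 1).val * a * (x ^ (v 0).val * y ^ (v 1).val)⁻¹ * _ *
      (x ^ (v 0).val * y ^ (v 1).val * a * (x ^ (v 0).val * y ^ (v 1).val)⁻¹)⁻¹ = _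
    generalize hP : x ^ (v 0).val * y ^ (v 1).val = P
    rw [show P * a * P⁻¹ * (P * ψ ((w 0).val + 2 * (v 0).val) ((w 1).val + 2 * (v 1).val) * P⁻¹) *
      (P * a * P⁻¹)⁻¹ = P * (a * ψ ((w 0).val + 2 * (v 0).val) ((w 1).val + 2 * (v 1).val) * a⁻¹) * P⁻¹ by group,
      hai, hψa, ← hP, hψxy]
    refine (hper _ _ _ ?_ ?_).symm <;> push_cast <;> simp only [ZMod.natCast_zmod_val, Pi.sub_apply, Pi.neg_apply] <;>
      exact (by decide : ∀ p q : ZMod 3, 2 * (q + 2 * p) + p = -p - q) _ _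
  have v00 : (φ ![0, 0] : G) = a := by rw [hper 0 0 _ rfl rfl]; simp [ψ]
  have v10 : (φ ![1, 0] : G) = b := by
    rw [hper 1 0 _ rfl rfl]
    simp only [ψ, hxdef, pow_one, pow_zero, mul_one, mul_inv_rev, inv_one, one_mul, hai, inv_eq hD hb]
    calc a * b * a * (b * a) = a * (b * a * b) * a := by simp only [mul_assoc]
      _ = a * (a * b * a) * a := by rw [braid hD ha hb hab]
      _ = b := by simp only [mul_assoc, a2, haa, mul_one]
  have v01 : (φ ![0, 1] : G) = c := by
    rw [hper 0 1 _ rfl rfl]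
    simp only [ψ, hydef, pow_one, pow_zero, one_mul, mul_inv_rev, inv_one, mul_one, hai, inv_eq hD hc]
    calc a * c * a * (c * a) = a * (c * a * c) * a := by simp only [mul_assoc]
      _ = a * (a * c * a) * a := by rw [braid hD ha hc hac]
      _ = c := by simp only [mul_assoc, a2, haa, mul_one]
  have v20 : (φ ![2, 0] : G) = a * b * a := by
    have := hrule ![0, 0] ![1, 0]
    rw [v00, v10, hai] at this
    rw [this]; congr 2; decide
  have v02 : (φ ![0, 2] : G) = a * c * a := by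
    have := hrule ![0, 0] ![0, 1]
    rw [v00, v01, hai] at this
    rw [this]; congr 2; decide
  have hinj : Function.Injective φ := by
    intro v w e
    by_contra hne
    have hu : ∀ t, (φ (v - w + t) : G) = φ t := by
      intro t
      rw [show v - w + t = v + (t - w) by abel, htr, e, ← htr, add_sub_cancel]
    have cases8 : ∀ u : AffPt, u ≠ 0 → (u = ![1, 0] ∨ u = ![2, 0] ∨ u = ![0, 1] ∨ u = ![0, 2] ∨
        u = ![1, 1] ∨ u = ![2, 2] ∨ u = ![1, 2] ∨ u = ![2, 1]) := by decide +kernel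
    have nab : a ≠ b := fun h => hab (h ▸ Commute.refl a)
    have nac : a ≠ c := fun h => hac (h ▸ Commute.refl a)
    have nbc : b ≠ c := fun h => hbc (h ▸ Commute.refl b)
    have nbc' : b ≠ a * c * a := fun h => hbc' (h ▸ Commute.refl b)
    rcases cases8 _ (sub_ne_zero.2 hne) with h | h | h | h | h | h | h | h
    all_goals rw [h] at hu
    · have := hu ![0, 0]; rw [show (![1, 0] + ![0, 0] : AffPt) = ![1, 0] by decide, v00, v10] at this
      exact nab this.symm
    · have := hu ![0, 0]; rw [show (![2, 0] + ![0, 0] : AffPt) = ![2, 0] by decide, v00, v20] at this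
      exact nab (by simpa [mul_assoc, a2, haa] using (congrArg (fun g => a * g * a) this).symm)
    · have := hu ![0, 0]; rw [show (![0, 1] + ![0, 0] : AffPt) = ![0, 1] by decide, v00, v01] at this
      exact nac this.symm
    · have := hu ![0, 0]; rw [show (![0, 2] + ![0, 0] : AffPt) = ![0, 2] by decide, v00, v02] at this
      exact nac (by simpa [mul_assoc, a2, haa] using (congrArg (fun g => a * g * a) this).symm)
    · have := hu ![0, 2]; rw [show (![1, 1] + ![0, 2] : AffPt) = ![1, 0] by decide, v10, v02] at this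
      exact nbc' this
    · have := hu ![1, 0]; rw [show (![2, 2] + ![1, 0] : AffPt) = ![0, 2] by decide, v10, v02] at this
      exact nbc' this.symm
    · have := hu ![0, 1]; rw [show (![1, 2] + ![0, 1] : AffPt) = ![1, 0] by decide, v10, v01] at this
      exact nbc this
    · have := hu ![1, 0]; rw [show (![2, 1] + ![1, 0] : AffPt) = ![0, 1] by decide, v10, v01] at this
      exact nbc this.symm
  refine ⟨φ, lineEmb_of_rule hD affine_lineRule hconj φ hinj ?_ (fun p q h _ => h) ?_, Subtype.ext v00,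
    Subtype.ext v10, Subtype.ext v01⟩
  · intro p q hpq hcm
    have := hrule p q
    rw [hcm.eq, mul_inv_cancel_right] at this
    exact hpq ((by decide +kernel : ∀ p q : AffPt, q = -p - q → p = q) p q (hinj (Subtype.ext this)))
  · intro p q _
    rw [hrule, show -q - p = -p - q by abel]

/-- The transposition of a point of the dual affine plane. -/
def pairSwap (s : DualAffinePoint) : Equiv.Perm (Fin 4) :=
  ((List.finRange 4).filter fun i => decide (i ∈ s.val)).formPerm

/-- Three members forming a string lie in a dual affine plane. -/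
theorem exists_dual (hconj : ∀ g : G, ∀ d ∈ D, g * d * g⁻¹ ∈ D) (a b c : D)
    (hab : ¬ Commute (a : G) b) (hac : ¬ Commute (a : G) c) (hbc : Commute (b : G) c) (hne : b ≠ c) :
    ∃ φ : DualAffinePoint → D, LineEmb (threeTranspositionLines D) dualAffinePlaneTwo φ ∧
      φ ⟨{0, 1}, rfl⟩ = b ∧ φ ⟨{1, 2}, rfl⟩ = a ∧ φ ⟨{2, 3}, rfl⟩ = c := by
  obtain ⟨a, ha⟩ := a
  obtain ⟨b, hb⟩ := b
  obtain ⟨c, hc⟩ := c
  simp only [ne_eq, Subtype.mk.injEq] at hab hac hbc hne
  obtain ⟨χ, hχa, hχb, hχc⟩ := exists_hom_perm_four (a := b) (b := a) (c := c) (mul_self hD hb) (mul_self hD ha)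
    (mul_self hD hc) hbc.eq (braid hD ha hb hab).symm (braid hD ha hc hac)
  have hχ : Function.Injective χ := injective_of_perm_four χ (by
    rw [map_mul, hχa, hχc]
    intro h
    have := eq_inv_of_mul_eq_one_left h
    rw [inv_eq hD hc] at this
    exact hne this)
  have d1 : ∀ s : DualAffinePoint, ∃ τ : Equiv.Perm (Fin 4), τ * Equiv.swap 0 1 * τ⁻¹ = pairSwap s := by
    decide +kernel
  have d2 : Function.Injective pairSwap := by decide +kernel
  have d3 : ∀ p q : DualAffinePoint, (p.val ∩ q.val).card = 1 →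
      ¬ (pairSwap p * pairSwap q = pairSwap q * pairSwap p) ∧
        pairSwap q * pairSwap p * (pairSwap q)⁻¹ = pairSwap (dualThird p q) := by decide +kernel
  have d4 : ∀ p q : DualAffinePoint, (p.val ∩ q.val).card ≠ 1 → pairSwap p * pairSwap q = pairSwap q * pairSwap p := by
    decide +kernel
  have hmem : ∀ s, χ (pairSwap s) ∈ D := by
    intro s
    obtain ⟨τ, hτ⟩ := d1 s
    rw [← hτ, map_mul, map_mul, map_inv, hχa]
    exact hconj _ b hb
  refine ⟨fun s => ⟨χ (pairSwap s), hmem s⟩, lineEmb_of_rule hD dual_lineRule hconj _ ?_ ?_ ?_ ?_, ?_, ?_, ?_⟩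
  · exact fun s t e => d2 (hχ (congrArg Subtype.val e))
  · intro p q h hcm
    exact (d3 p q h).1 (hχ (by rw [map_mul, map_mul]; exact hcm.eq))
  · intro p q _ hcm
    by_contra h
    refine hcm ?_
    show χ (pairSwap p) * χ (pairSwap q) = χ (pairSwap q) * χ (pairSwap p)
    rw [← map_mul, ← map_mul, d4 p q h]
  · intro p q h
    show χ (pairSwap q) * χ (pairSwap p) * (χ (pairSwap q))⁻¹ = χ (pairSwap (dualThird p q))
    rw [← (d3 p q h).2, map_mul, map_mul, map_inv]
  · exact Subtype.ext ((congrArg χ (by decide +kernel)).trans hχa)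
  · exact Subtype.ext ((congrArg χ (by decide +kernel)).trans hχb)
  · exact Subtype.ext ((congrArg χ (by decide +kernel)).trans hχc)

theorem isFischerSpace (hconj : ∀ g : G, ∀ d ∈ D, g * d * g⁻¹ ∈ D) :
    IsFischerSpace (threeTranspositionLines D) := by
  have R := lineRule hD hconj
  have h3 := R.threeLines
  refine ⟨h3.linear, h3.card, fun l hl m hm hne ⟨a, hal, ham⟩ => ?_⟩
  have wit : ∀ {k : Set D}, k ∈ threeTranspositionLines D → a ∈ k → ∃ b ∈ k, b ≠ a := by
    intro k hk _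
    obtain ⟨x, hx, y, hy, hxy⟩ := h3.two hk
    by_cases h : x = a
    · exact ⟨y, hy, fun e => hxy (h.trans e.symm)⟩
    · exact ⟨x, hx, h⟩
  obtain ⟨b, hbl, hba⟩ := wit hl hal
  obtain ⟨c, hcm, hca⟩ := wit hm ham
  have span_step : ∀ {Q : Type} {M : Set (Set Q)} (φ : Q → D), LineEmb (threeTranspositionLines D) M φ →
      ∀ p q r : Q, (∀ T : Set Q, ({p, q, r} : Set Q) ⊆ T → LineSystem.IsSubspace M T → T = Set.univ) →
      φ p ∈ l ∪ m → φ q ∈ l ∪ m → φ r ∈ l ∪ m →
      ∀ b ∈ l, ∀ c ∈ m, b ≠ a → c ≠ a → a ∈ Set.range φ → b ∈ Set.range φ → c ∈ Set.range φ →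
      LineSystem.Isomorphic (LineSystem.restrict (threeTranspositionLines D)
        (LineSystem.span (threeTranspositionLines D) (l ∪ m))) M := by
    intro Q M φ e p q r hgen hp hq hr b hb c hc hba hca har hbr hcr
    rw [e.span_eq hgen ?_ (Set.union_subset (e.subspace l hl a har b hbr hba.symm hal hb)
      (e.subspace m hm a har c hcr hca.symm ham hc))]
    · exact e.isomorphic h3
    · rintro _ ⟨s, (rfl | rfl | rfl), rfl⟩ <;> assumption
  by_cases hA : ∃ b ∈ l, ∃ c ∈ m, b ≠ a ∧ c ≠ a ∧ Commute (b : G) c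
  · obtain ⟨b, hb, c, hc, hba, hca, hbc⟩ := hA
    have hne' : b ≠ c := fun e => hne (h3.linear l hl m hm a b hba.symm hal hb ham (e ▸ hc))
    obtain ⟨φ, e, e1, e2, e3⟩ := exists_dual hD hconj a b c (R.pair hl hal hb hba.symm).1
      (R.pair hm ham hc hca.symm).1 hbc hne'
    exact Or.inl (span_step φ e _ _ _ dual_generated (e1 ▸ Or.inl hb) (e2 ▸ Or.inl hal) (e3 ▸ Or.inr hc)
      b hb c hc hba hca ⟨_, e2⟩ ⟨_, e1⟩ ⟨_, e3⟩)
  · simp only [not_exists, not_and] at hA
    obtain ⟨hab, hle⟩ := R.pair hl hal hbl hba.symm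
    obtain ⟨hac, hme⟩ := R.pair hm ham hcm hca.symm
    have hb' : thirdPoint hconj a b ∈ l := by rw [hle]; simp
    have hc' : thirdPoint hconj a c ∈ m := by rw [hme]; simp
    have eb : ((thirdPoint hconj a b : D) : G) = (a : G) * b * (a : G)⁻¹ := braid' hD a.2 b.2 hab
    have ec : ((thirdPoint hconj a c : D) : G) = (a : G) * c * (a : G)⁻¹ := braid' hD a.2 c.2 hac
    obtain ⟨φ, e, e1, e2, e3⟩ := exists_affine hD hconj a b c hab hac (hA b hbl c hcm hba hca)
      (eb ▸ hA _ hb' c hcm (R.ne _ _ hab).2.1 hca) (ec ▸ hA b hbl _ hc' hba (R.ne _ _ hac).2.1)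
    exact Or.inr (span_step φ e _ _ _ affine_generated (e1 ▸ Or.inl hal) (e2 ▸ Or.inl hbl) (e3 ▸ Or.inr hcm)
      b hbl c hcm hba hca ⟨_, e1⟩ ⟨_, e2⟩ ⟨_, e3⟩)

end CfsgLib.ThreeTrans
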