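import Cfsg.Agent.Lib.ThreeTrans.Perp

/-!
A bijection of two classes of 3-transpositions preserving commutation extends to an isomorphism of
centreless groups, when the line through two non-commuting members is determined by commutation
(owner: helper22).
-/

set_option autoImplicit false

namespace CfsgLib.ThreeTrans

open Cfsg

universe u v

variable {G : Type u} [Group G] {G' : Type v} [Group G']

/-- The third member of a line is determined by the commutation relation. -/
def LineUnique (D : Set G) : Prop :=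
  ∀ a ∈ D, ∀ b ∈ D, ∀ z ∈ D, ¬ Commute a b → ¬ Commute a z → ¬ Commute b z →
    (∀ e ∈ D, Commute e a → Commute e b → Commute e z) → z = a * b * a

/-- Conjugation on a class. -/
def classConj {D : Set G} (hconj : ∀ g : G, ∀ d ∈ D, g * d * g⁻¹ ∈ D) : G →* Equiv.Perm D where
  toFun g := ((MulAut.conj g).toEquiv).subtypeEquiv fun a => by
    refine ⟨fun h => hconj g a h, fun h => ?_⟩
    have := hconj g⁻¹ _ h
    simpa [mul_assoc] using this
  map_one' := Equiv.ext fun a => Subtype.ext (by simp)
  map_mul' g g' := Equiv.ext fun a => Subtype.ext (by simp)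

theorem classConj_apply {D : Set G} (hconj : ∀ g : G, ∀ d ∈ D, g * d * g⁻¹ ∈ D) (g : G) (a : D) :
    ((classConj hconj g a : D) : G) = g * a * g⁻¹ := rfl

theorem classConj_injective {D : Set G} (hD : IsThreeTranspositionClass D) (hZ : Subgroup.center G = ⊥) :
    Function.Injective (classConj (class_conj hD)) := by
  refine (injective_iff_map_eq_one _).2 fun g hg => ?_
  rw [← Subgroup.mem_bot, ← hZ]
  refine central_of_commute_all hD.2.2 fun a ha => ?_
  exact mul_inv_eq_iff_eq_mul.1 (congrArg Subtype.val (Equiv.ext_iff.1 hg ⟨a, ha⟩))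

/-- A commutation-preserving bijection of the classes extends to the groups. -/
theorem exists_iso_of_graph {D : Set G} {D' : Set G'} (hD : IsThreeTranspositionClass D)
    (hD' : IsThreeTranspositionClass D') (hZ : Subgroup.center G = ⊥) (hZ' : Subgroup.center G' = ⊥)
    (hline : LineUnique D) (τ : D ≃ D')
    (hτ : ∀ a b : D, Commute (a : G) b ↔ Commute (τ a : G') (τ b)) :
    ∃ e : G ≃* G', e '' D = D' := by
  have hc := class_conj hD
  have hc' := class_conj hD'
  let f : G →* Equiv.Perm D' := τ.permCongrHom.toMonoidHom.comp (classConj hc)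
  let ψ : G' →* Equiv.Perm D' := classConj hc'
  have hf : ∀ (g : G) (a : D), f g (τ a) = τ (classConj hc g a) := fun g a => by
    show τ (classConj hc g (τ.symm (τ a))) = _
    rw [Equiv.symm_apply_apply]
  have hψ : Function.Injective ψ := classConj_injective hD' hZ'
  have hfi : Function.Injective f := τ.permCongrHom.injective.comp (classConj_injective hD hZ)
  have hS := hD.1
  have hS' := hD'.1
  have hgen : ∀ a : D, f a = ψ (τ a) := by
    intro a
    refine Equiv.ext fun v => ?_
    obtain ⟨b, rfl⟩ := τ.surjective v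
    rw [hf]
    by_cases h : Commute (a : G) b
    · have e1 : classConj hc (a : G) b = b := Subtype.ext (by
        rw [classConj_apply, h.eq, mul_inv_cancel_right])
      rw [e1]
      exact Subtype.ext (by rw [classConj_apply, ((hτ a b).1 h).eq, mul_inv_cancel_right])
    · have hn := fun h' => h ((hτ a b).2 h')
      obtain ⟨z, hz⟩ := τ.surjective (ψ (τ a) (τ b))
      have hzv : (τ z : G') = τ a * τ b * τ a := by rw [hz, classConj_apply, inv_eq hS' (τ a).2]
      have key : ∀ {x y : G'}, x ∈ D' → ¬ Commute x y → ¬ Commute x (x * y * x) := fun {x y} hx hxy hcx => by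
        refine hxy ?_
        have := hcx.eq
        rw [← mul_assoc, ← mul_assoc, mul_self hS' hx, one_mul] at this
        rw [mul_assoc _ x x, mul_self hS' hx, mul_one] at this
        exact this.symm
      have h1 : ¬ Commute (a : G) z := fun h' => key (τ a).2 hn (hzv ▸ (hτ a z).1 h')
      have h2 : ¬ Commute (b : G) z := fun h' => by
        have h3 := (hτ b z).1 h'
        rw [hzv, braid hS' (τ a).2 (τ b).2 hn] at h3
        exact key (τ b).2 (fun h4 => hn h4.symm) h3
      have h3 := hline a a.2 b b.2 z z.2 h h1 h2 fun e he hea heb => by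
        have k1 := (hτ ⟨e, he⟩ a).1 hea
        have k2 := (hτ ⟨e, he⟩ b).1 heb
        exact (hτ ⟨e, he⟩ z).2 (hzv ▸ (k1.mul_right k2).mul_right k1)
      have e1 : classConj hc (a : G) b = z := Subtype.ext (by rw [classConj_apply, h3, inv_eq hS a.2])
      rw [e1, hz]
  have hrange : f.range = ψ.range := by
    rw [MonoidHom.range_eq_map, MonoidHom.range_eq_map, ← hD.2.2, ← hD'.2.2, MonoidHom.map_closure,
      MonoidHom.map_closure]
    congr 1
    refine Set.ext fun p => ⟨?_, ?_⟩
    · rintro ⟨a, ha, rfl⟩
      exact ⟨τ ⟨a, ha⟩, (τ ⟨a, ha⟩).2, (hgen ⟨a, ha⟩).symm⟩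
    · rintro ⟨b, hb, rfl⟩
      obtain ⟨a, ha⟩ := τ.surjective ⟨b, hb⟩
      exact ⟨a, a.2, by rw [hgen, ha]⟩
  let e : G ≃* G' :=
    (MonoidHom.ofInjective hfi).trans ((MulEquiv.subgroupCongr hrange).trans (MonoidHom.ofInjective hψ).symm)
  have he : ∀ g, ψ (e g) = f g := fun g => by
    show ψ ((MonoidHom.ofInjective hψ).symm _) = f g
    rw [MonoidHom.apply_ofInjective_symm hψ]
    rfl
  have hed : ∀ a : D, e a = τ a := fun a => hψ ((he a).trans (hgen a))
  refine ⟨e, Set.ext fun y => ⟨?_, fun hy => ?_⟩⟩
  · rintro ⟨a, ha, rfl⟩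
    rw [hed ⟨a, ha⟩]
    exact (τ ⟨a, ha⟩).2
  · obtain ⟨a, ha⟩ := τ.surjective ⟨y, hy⟩
    exact ⟨a, a.2, by rw [hed, ha]⟩

end CfsgLib.ThreeTrans
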