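import Cfsg.Agent.Lib.ThreeTrans.LargeTransvectionSL

/-!
The affine group over the field with two elements as a matrix group (owner: helper28).
-/

set_option autoImplicit false
set_option linter.unusedSimpArgs false

namespace CfsgLib.ThreeTrans.LargeAffine

open Cfsg Matrix CfsgLib.ThreeTrans.LargeTransvection

variable {G : Type*} [Group G] [Finite G] {n : ℕ}

local notation "K2" => ZMod 2

/-- The coordinates of the translation group inside the linear space of one dimension more. -/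
theorem exists_coord {U : Subgroup G} (hU : IsElementaryAbelian 2 U) (hcard : Nat.card U = 2 ^ (n + 1))
    (z0 : U) (hz0 : z0 ≠ 1) :
    ∃ (L : U → (Fin 2 ⊕ Fin n → K2)) (π : (Fin 2 ⊕ Fin n → K2) → U),
      (∀ u v, L (u * v) = L u + L v) ∧ (∀ v w, π (v + w) = π v * π w) ∧ (∀ u, π (L u) = u) ∧
      (∀ v, v = L (π v) + v (Sum.inl 1) • Pi.single (Sum.inl 1) 1) ∧
      (∀ u, L u (Sum.inl 1) = 0) ∧ L z0 = Pi.single (Sum.inl 0) 1 := by
  haveI : Fact (Nat.Prime 2) := ⟨Nat.prime_two⟩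
  letI : CommGroup U := { (inferInstance : Group U) with mul_comm := hU.1.is_comm.comm }
  letI : Module K2 (Additive U) := AddCommGroup.zmodModule (fun x => by
    apply Additive.toMul.injective
    rw [toMul_nsmul, toMul_zero]
    exact Subtype.ext (hU.2 _ (Additive.toMul x).2))
  haveI : Module.Finite K2 (Additive U) := Module.Finite.of_finite
  have hfr : Module.finrank K2 (Additive U) = Module.finrank K2 (Unit ⊕ Fin n → K2) := by
    rw [Module.finrank_pi, Fintype.card_sum, Fintype.card_unit, Fintype.card_fin, add_comm]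
    have h := Module.natCard_eq_pow_finrank (K := K2) (V := Additive U)
    rw [Nat.card_zmod, Nat.card_congr (Additive.toMul (α := U)), hcard] at h
    exact (Nat.pow_right_injective le_rfl h).symm
  let e0 := LinearEquiv.ofFinrankEq _ _ hfr
  have h1 : e0 (Additive.ofMul z0) ≠ 0 := fun h => hz0 (e0.map_eq_zero_iff.1 h)
  have h2 : (Pi.single (Sum.inl ()) 1 : Unit ⊕ Fin n → K2) ≠ 0 := by simp
  obtain ⟨t, ht, htz⟩ := exists_move_vec h1 h2
  let e : Additive U ≃ₗ[K2] (Unit ⊕ Fin n → K2) :=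
    e0.trans (Matrix.toLin'OfInv ht ht)
  refine ⟨fun u => Sum.elim ![e (Additive.ofMul u) (Sum.inl ()), 0] fun i => e (Additive.ofMul u) (Sum.inr i),
    fun v => Additive.toMul (e.symm (Sum.elim (fun _ => v (Sum.inl 0)) fun i => v (Sum.inr i))),
    fun u v => ?_, fun v w => ?_, fun u => ?_, fun v => ?_, fun u => rfl, ?_⟩
  · ext (i | i)
    · fin_cases i <;> simp
    · simp
  · have hs : (Sum.elim (fun _ => (v + w) (Sum.inl 0)) fun i => (v + w) (Sum.inr i) : Unit ⊕ Fin n → K2) =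
        Sum.elim (fun _ => v (Sum.inl 0)) (fun i => v (Sum.inr i)) +
          Sum.elim (fun _ => w (Sum.inl 0)) (fun i => w (Sum.inr i)) := by ext (i | i) <;> rfl
    show Additive.toMul (e.symm _) = _
    rw [hs, map_add]
    rfl
  · have : (Sum.elim (fun _ => e (Additive.ofMul u) (Sum.inl ())) fun i => e (Additive.ofMul u) (Sum.inr i)) =
        e (Additive.ofMul u) := by ext (i | i) <;> rfl
    simp [this]
  · ext (i | i)
    · fin_cases i <;> simp
    · simp
  · have hz : e (Additive.ofMul z0) = Pi.single (Sum.inl ()) 1 := htz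
    ext (i | i)
    · fin_cases i <;> simp [hz]
    · simp [hz]

variable {U M : Subgroup G} [U.Normal]

theorem main (hn : 1 ≤ n) (hU : IsElementaryAbelian 2 U) (hUcard : Nat.card U = 2 ^ (n + 1))
    (hUM : U ⊓ M = ⊥) (hUM' : U ⊔ M = ⊤)
    (hfaith : ∀ m ∈ M, (∀ u ∈ U, m * u * m⁻¹ = u) → m = 1)
    (hfull : ∀ φ : U ≃* U, ∃ m ∈ M, ∀ u : U, ((φ u : U) : G) = m * u * m⁻¹)
    (z0 : U) (hz0 : z0 ≠ 1) :
    ∃ ρ : G →* Matrix (Fin 2 ⊕ Fin n) (Fin 2 ⊕ Fin n) K2, Setting ρ (z0 : G) ⟨0, hn⟩ := by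
  obtain ⟨L, π, hL, hπ, hπL, hdec, hL1, hLz⟩ := exists_coord (n := n) hU hUcard z0 hz0
  have hcomm : ∀ a b : U, a * b = b * a := fun a b => hU.1.is_comm.comm a b
  have hsplit : ∀ g : G, ∃ u : U, (u : G)⁻¹ * g ∈ M := by
    intro g
    obtain ⟨u, hu, m, hm, rfl⟩ := Subgroup.mem_sup_of_normal_left.1 (show g ∈ U ⊔ M from hUM' ▸ trivial)
    exact ⟨⟨u, hu⟩, by rwa [inv_mul_cancel_left]⟩
  have huniq : ∀ (g : G) (u v : U), (u : G)⁻¹ * g ∈ M → (v : G)⁻¹ * g ∈ M → u = v := by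
    intro g u v hu hv
    have h : (u : G)⁻¹ * v ∈ U ⊓ M := Subgroup.mem_inf.2 ⟨mul_mem (inv_mem u.2) v.2, by
      rw [show (u : G)⁻¹ * v = ((u : G)⁻¹ * g) * ((v : G)⁻¹ * g)⁻¹ by group]
      exact mul_mem hu (inv_mem hv)⟩
    rw [hUM, Subgroup.mem_bot] at h
    exact Subtype.ext (inv_mul_eq_one.1 h)
  choose d hd using hsplit
  have hdmul : ∀ g h, d (g * h) = d g * MulAut.conjNormal g (d h) := fun g h => huniq _ _ _ (hd _) (by
    rw [Subgroup.coe_mul, MulAut.conjNormal_apply]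
    have hm := mul_mem (hd g) (hd h)
    rwa [show ((d g : G) * (g * d h * g⁻¹))⁻¹ * (g * h) =
        g * (d h : G)⁻¹ * g⁻¹ * (d g : G)⁻¹ * g * h by group,
      show g * (d h : G)⁻¹ * g⁻¹ * (d g : G)⁻¹ * g * h = (d g : G)⁻¹ * g * ((d h : G)⁻¹ * h) by
        have := congrArg Subtype.val (hcomm (MulAut.conjNormal g (d h)⁻¹) (d g)⁻¹)
        simp only [Subgroup.coe_mul, MulAut.conjNormal_apply, Subgroup.coe_inv] at this
        rw [this]; group])
  let C : G → (Fin 2 ⊕ Fin n → K2) →ₗ[K2] (Fin 2 ⊕ Fin n → K2) := fun g =>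
    AddMonoidHom.toZModLinearMap 2 (AddMonoidHom.mk' (fun v => L (MulAut.conjNormal g (π v))) fun v w => by
      rw [hπ, map_mul, hL])
  have hC : ∀ g v, C g v = L (MulAut.conjNormal g (π v)) := fun _ _ => rfl
  have hLone : L 1 = 0 := by
    have := hL 1 1
    rw [one_mul] at this
    exact left_eq_add.1 this
  set e1 : Fin 2 ⊕ Fin n → K2 := Pi.single (Sum.inl 1) 1 with he1
  have hπe : π e1 = 1 := by
    have := hdec e1
    rw [he1, Pi.single_eq_same, one_smul, ← he1, right_eq_add] at this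
    rw [← hπL (π e1), this, ← hLone, hπL]
  have hCe : ∀ g, C g e1 = 0 := fun g => by rw [hC, hπe, map_one, hLone]
  let T : G → (Fin 2 ⊕ Fin n → K2) →ₗ[K2] (Fin 2 ⊕ Fin n → K2) := fun g =>
    C g + (LinearMap.proj (Sum.inl 1)).smulRight (L (d g) + e1)
  have hT : ∀ g v, T g v = C g v + v (Sum.inl 1) • (L (d g) + e1) := fun _ _ => rfl
  have hT1 : ∀ g v, T g v (Sum.inl 1) = v (Sum.inl 1) := fun g v => by
    rw [hT, hC, Pi.add_apply, Pi.smul_apply, Pi.add_apply, hL1, hL1, he1, Pi.single_eq_same]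
    simp
  have hTmul : ∀ g h v, T g (T h v) = T (g * h) v := by
    intro g h v
    rw [hT g, hT1, hT h, hT (g * h), map_add, map_smul, map_add, hCe, add_zero, hC g (C h v), hC h, hπL,
      hC (g * h), map_mul MulAut.conjNormal, MulAut.mul_apply, hC g (L _), hπL, hdmul, hL, add_assoc, ← smul_add]
    congr 2
    abel
  have hdone : d 1 = 1 := huniq 1 _ _ (hd 1) (by simpa using M.one_mem)
  have hTone : ∀ v, T 1 v = v := fun v => by
    rw [hT, hC, map_one, MulAut.one_apply, hdone, hLone, zero_add, ← hdec]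
  let ρ : G →* Matrix (Fin 2 ⊕ Fin n) (Fin 2 ⊕ Fin n) K2 :=
    { toFun := fun g => LinearMap.toMatrix' (T g)
      map_one' := by rw [show T 1 = LinearMap.id from LinearMap.ext hTone, LinearMap.toMatrix'_id]
      map_mul' := fun g h => by
        rw [← LinearMap.toMatrix'_comp]
        exact congrArg _ (LinearMap.ext fun v => (hTmul g h v).symm) }
  have hρ : ∀ g v, ρ g *ᵥ v = T g v := fun g v => LinearMap.toMatrix'_mulVec (T g) v
  have full : ∀ D D' : Matrix (Fin 2 ⊕ Fin n) (Fin 2 ⊕ Fin n) K2, D * D' = 1 → D' * D = 1 →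
      (∀ v, (D *ᵥ v) (Sum.inl 1) = v (Sum.inl 1)) → ∃ x, ρ x = D := by
    intro D D' hDD hDD' hrow
    have hrow' : ∀ v, (D' *ᵥ v) (Sum.inl 1) = v (Sum.inl 1) := fun v => by
      rw [← hrow (D' *ᵥ v), mulVec_mulVec, hDD, one_mulVec]
    have hres : ∀ (E : Matrix (Fin 2 ⊕ Fin n) (Fin 2 ⊕ Fin n) K2),
        (∀ v, (E *ᵥ v) (Sum.inl 1) = v (Sum.inl 1)) → ∀ u, L (π (E *ᵥ L u)) = E *ᵥ L u := by
      intro E hE u
      conv_rhs => rw [hdec (E *ᵥ L u), hE, hL1, zero_smul, add_zero]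
    let φ : U ≃* U :=
      { toFun := fun u => π (D *ᵥ L u)
        invFun := fun u => π (D' *ᵥ L u)
        left_inv := fun u => by
          show π (D' *ᵥ L (π (D *ᵥ L u))) = u
          rw [hres D hrow, mulVec_mulVec, hDD', one_mulVec, hπL]
        right_inv := fun u => by
          show π (D *ᵥ L (π (D' *ᵥ L u))) = u
          rw [hres D' hrow', mulVec_mulVec, hDD, one_mulVec, hπL]
        map_mul' := fun u v => by rw [hL, mulVec_add, hπ] }
    obtain ⟨m, hm, hmu⟩ := hfull φ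
    set u0 := π (D *ᵥ e1)
    refine ⟨u0 * m, ?_⟩
    have hdx : d ((u0 : G) * m) = u0 := huniq _ _ _ (hd _) (by rwa [inv_mul_cancel_left])
    have hDe : D *ᵥ e1 = L u0 + e1 := by
      conv_lhs => rw [hdec (D *ᵥ e1), hrow, he1, Pi.single_eq_same, one_smul]
    have hcx : ∀ u, MulAut.conjNormal ((u0 : G) * m) u = φ u := by
      intro u
      refine Subtype.ext ?_
      rw [MulAut.conjNormal_apply]
      have h1 := congrArg Subtype.val (hcomm u0 (φ u))
      rw [Subgroup.coe_mul, Subgroup.coe_mul] at h1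
      calc (u0 : G) * m * u * ((u0 : G) * m)⁻¹ = u0 * (m * u * m⁻¹) * (u0 : G)⁻¹ := by group
        _ = (φ u : G) := by rw [← hmu u, h1, mul_inv_cancel_right]
    apply Matrix.toLin'.injective
    refine LinearMap.ext fun v => ?_
    rw [Matrix.toLin'_apply, Matrix.toLin'_apply, hρ, hT, hC, hcx, hdx]
    conv_rhs => rw [hdec v, mulVec_add, mulVec_smul, hDe]
    exact congrArg (· + _) (hres D hrow (π v))
  refine ⟨ρ, ⟨(injective_iff_map_eq_one ρ).2 fun g hg => ?_, ?_, fun a r c A A' hAA => ?_, ?_⟩⟩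
  · have hv : ∀ v, T g v = v := fun v => by rw [← hρ, hg, one_mulVec]
    have h1 := hv e1
    rw [hT, hCe, zero_add, he1, Pi.single_eq_same, one_smul, ← he1, add_eq_right, ← hLone] at h1
    have hd1 : d g = 1 := by rw [← hπL (d g), h1, hπL]
    have hgM : g ∈ M := by simpa [hd1] using hd g
    refine hfaith g hgM fun u hu => ?_
    have h2 := congrArg π (hv (L ⟨u, hu⟩))
    rw [hT, hC, hπL, hL1, zero_smul, add_zero, hπL] at h2
    simpa [MulAut.conjNormal_apply] using congrArg Subtype.val h2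
  · have hdz : d (z0 : G) = z0 := huniq _ _ _ (hd _) (by rw [inv_mul_cancel]; exact M.one_mem)
    apply Matrix.toLin'.injective
    refine LinearMap.ext fun v => ?_
    have hcz : MulAut.conjNormal (z0 : G) (π v) = π v := by
      apply Subtype.ext
      rw [MulAut.conjNormal_apply, ← Subgroup.coe_mul, hcomm, Subgroup.coe_mul, mul_inv_cancel_right]
    rw [Matrix.toLin'_apply, Matrix.toLin'_apply, hρ, hT, hC, hcz, hdz, hLz, dm_T_eq, add_mulVec, one_mulVec,
      smul_add, ← add_assoc, add_right_comm, ← hdec, single_mulVec]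
    ext i
    by_cases hi : i = Sum.inl 0 <;> simp [hi, one_mul]
  · have hA : A.det = 1 := det_eq_one hAA
    refine full _ _ (dm_inv a r c hAA) (mul_eq_one_comm.1 (dm_inv a r c hAA)) fun v => ?_
    simp [dm, mulVec, dotProduct, Fintype.sum_sum_type, Fin.sum_univ_two]
  · refine full _ ((Equiv.swap (Sum.inl 0) (Sum.inr ⟨0, hn⟩) : Equiv.Perm (Fin 2 ⊕ Fin n)).permMatrix K2) ?_ ?_ (fun v => ?_) <;> try rw [← permMatrix_mul, Equiv.swap_mul_self, permMatrix_one]
    rw [permMatrix_mulVec, Function.comp_apply, Equiv.swap_apply_of_ne_of_ne (by simp) (by simp)]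

theorem affine_main (n : ℕ) (hn : 1 ≤ n) (U M : Subgroup G) [U.Normal] (hU : IsElementaryAbelian 2 U)
    (hUcard : Nat.card U = 2 ^ (n + 1)) (hUM : U ⊓ M = ⊥) (hUM' : U ⊔ M = ⊤)
    (hfaith : ∀ m ∈ M, (∀ u ∈ U, m * u * m⁻¹ = u) → m = 1)
    (hfull : ∀ φ : U ≃* U, ∃ m ∈ M, ∀ u : U, ((φ u : U) : G) = m * u * m⁻¹)
    (Z : Subgroup G) (hZU : Z ≤ U) (hZ : Nat.card Z = 2) (Q : Subgroup G)
    (hQ : Q = (pCore 2 (Subgroup.centralizer (Z : Set G))).map (Subgroup.centralizer (Z : Set G)).subtype) :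
    IsExtraspecial 2 Q ∧ Nat.card Q = 2 ^ (2 * n + 1) ∧
      (∃ E : Subgroup G, E ≤ Q ∧ IsElementaryAbelian 2 E ∧ Nat.card E = 2 ^ (n + 1)) ∧
      IsLargeExtraspecial Q ∧
      ∃ K : Subgroup G, K ≤ Subgroup.centralizer (Z : Set G) ∧ Q ⊓ K = ⊥ ∧
        Q ⊔ K = Subgroup.centralizer (Z : Set G) ∧
        Nonempty (K ≃* Matrix.GeneralLinearGroup (Fin n) (ZMod 2)) := by
  haveI : Fact (Nat.Prime 2) := ⟨Nat.prime_two⟩
  obtain ⟨x, hx, hx1⟩ := (Subgroup.bot_or_exists_ne_one Z).resolve_left (fun h => by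
    rw [h, Subgroup.card_bot] at hZ; omega)
  have hZx : Z = Subgroup.zpowers x := by
    refine (Subgroup.eq_of_le_of_card_ge (Subgroup.zpowers_le.2 hx) ?_).symm
    rw [hZ, Nat.card_zpowers,
      orderOf_eq_prime (hU.2 x (hZU hx)) hx1]
  have hcent : Subgroup.centralizer (Z : Set G) = Subgroup.centralizer ({x} : Set G) := by
    rw [hZx, Subgroup.zpowers_eq_closure, Subgroup.centralizer_closure]
  obtain ⟨ρ, hS⟩ := main hn hU hUcard hUM hUM' hfaith hfull ⟨x, hZU hx⟩ (fun h => hx1 (congrArg Subtype.val h))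
  rw [hcent] at hQ ⊢
  exact LargeTransvection.main hS hn hQ

end CfsgLib.ThreeTrans.LargeAffine
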