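import Cfsg.Agent.Lib.ThreeTrans.LargeAffine
import Cfsg.Agent.Lib.Sporadic.MathieuTwoCentralizer

/-!
The centralizer of an involution of the Mathieu group of degree 24 fixing an octad (owner: helper28).
-/

set_option autoImplicit false

namespace CfsgLib.ThreeTrans.LargeM24

open Cfsg MulAction Matrix CfsgLib.Sporadic
open scoped Pointwise

theorem card_mulAut_le {G : Type*} [Group G] [Finite G] {U : Subgroup G} {n : ℕ}
    (hU : IsElementaryAbelian 2 U) (hcard : Nat.card U = 2 ^ n) :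
    Nat.card (MulAut U) ≤ Nat.card (GL (Fin n) (ZMod 2)) := by
  haveI : Fact (Nat.Prime 2) := ⟨Nat.prime_two⟩
  letI : CommGroup U := { (inferInstance : Group U) with mul_comm := hU.1.is_comm.comm }
  letI : Module (ZMod 2) (Additive U) := AddCommGroup.zmodModule (fun x => by
    apply Additive.toMul.injective
    rw [toMul_nsmul, toMul_zero]
    exact Subtype.ext (hU.2 _ (Additive.toMul x).2))
  haveI : Module.Finite (ZMod 2) (Additive U) := Module.Finite.of_finite
  have hfr : Module.finrank (ZMod 2) (Additive U) = Module.finrank (ZMod 2) (Fin n → ZMod 2) := by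
    rw [Module.finrank_pi, Fintype.card_fin]
    have h := Module.natCard_eq_pow_finrank (K := ZMod 2) (V := Additive U)
    rw [Nat.card_zmod, Nat.card_congr (Additive.toMul (α := U)), hcard] at h
    exact (Nat.pow_right_injective le_rfl h).symm
  let e := LinearEquiv.ofFinrankEq _ _ hfr
  let l : MulAut U → ((Fin n → ZMod 2) →ₗ[ZMod 2] (Fin n → ZMod 2)) := fun φ =>
    AddMonoidHom.toZModLinearMap 2 (AddMonoidHom.mk'
      (fun v => e (Additive.ofMul (φ (Additive.toMul (e.symm v))))) fun v w => by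
        rw [map_add e.symm, toMul_add, map_mul, ofMul_mul, map_add])
  have hl : ∀ φ v, l φ v = e (Additive.ofMul (φ (Additive.toMul (e.symm v)))) := fun _ _ => rfl
  have hmul : ∀ φ ψ, (l φ).comp (l ψ) = l (φ * ψ) := fun φ ψ => LinearMap.ext fun v => by
    rw [LinearMap.comp_apply, hl, hl, hl, LinearEquiv.symm_apply_apply, toMul_ofMul, MulAut.mul_apply]
  have hone : l 1 = LinearMap.id := LinearMap.ext fun v => by
    rw [hl, MulAut.one_apply, ofMul_toMul, LinearEquiv.apply_symm_apply, LinearMap.id_apply]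
  refine Nat.card_le_card_of_injective (fun φ => (⟨LinearMap.toMatrix' (l φ), LinearMap.toMatrix' (l φ⁻¹),
    by rw [← LinearMap.toMatrix'_comp, hmul, mul_inv_cancel, hone, LinearMap.toMatrix'_id],
    by rw [← LinearMap.toMatrix'_comp, hmul, inv_mul_cancel, hone, LinearMap.toMatrix'_id]⟩ : GL (Fin n) (ZMod 2)))
    fun φ ψ h => MulEquiv.ext fun u => ?_
  have := LinearMap.congr_fun (LinearMap.toMatrix'.injective (Units.ext_iff.1 h)) (e (Additive.ofMul u))
  rw [hl, hl, LinearEquiv.symm_apply_apply, toMul_ofMul] at this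
  exact Additive.ofMul.injective (e.injective this)

section Lift

open CfsgLib.ThreeTrans.LargeTransvection

variable {G : Type*} [Group G] [Finite G] {n : ℕ} {H : Subgroup G} {z : H}
  {ρ : H →* Matrix (Fin 2 ⊕ Fin n) (Fin 2 ⊕ Fin n) (ZMod 2)} {i0 : Fin n}

/-- The setting on a subgroup containing the centralizer gives the conclusion in the whole group. -/
theorem lift_main (hn : 1 ≤ n) (h : Setting ρ z i0) (hC : Subgroup.centralizer ({(z : G)} : Set G) ≤ H)
    {P : Subgroup G} (hP : P = (pCore 2 (Subgroup.centralizer ({(z : G)} : Set G))).map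
      (Subgroup.centralizer ({(z : G)} : Set G)).subtype) :
    IsExtraspecial 2 P ∧ Nat.card P = 2 ^ (2 * n + 1) ∧
      (∃ E : Subgroup G, E ≤ P ∧ IsElementaryAbelian 2 E ∧ Nat.card E = 2 ^ (n + 1)) ∧
      IsLargeExtraspecial P ∧
      ∃ K : Subgroup G, K ≤ Subgroup.centralizer ({(z : G)} : Set G) ∧ P ⊓ K = ⊥ ∧
        P ⊔ K = Subgroup.centralizer ({(z : G)} : Set G) ∧
        Nonempty (K ≃* Matrix.GeneralLinearGroup (Fin n) (ZMod 2)) := by
  haveI : Fact (Nat.Prime 2) := ⟨Nat.prime_two⟩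
  have hinj : Function.Injective H.subtype := H.subtype_injective
  have hCmap : (Subgroup.centralizer ({z} : Set H)).map H.subtype = Subgroup.centralizer ({(z : G)} : Set G) := by
    ext x
    constructor
    · rintro ⟨y, hy, rfl⟩
      exact mem_centralizer_singleton_iff'.2 (congrArg Subtype.val (mem_centralizer_singleton_iff'.1 hy))
    · intro hx
      exact ⟨⟨x, hC hx⟩, mem_centralizer_singleton_iff'.2 (Subtype.ext (mem_centralizer_singleton_iff'.1 hx)), rfl⟩
  let e : Subgroup.centralizer ({z} : Set H) ≃* Subgroup.centralizer ({(z : G)} : Set G) :=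
    (Subgroup.equivMapOfInjective _ H.subtype hinj).trans (MulEquiv.subgroupCongr hCmap)
  have he : ∀ x, (e x : G) = ((x : H) : G) := fun _ => rfl
  have hPeq : P = (Q h).map H.subtype := by
    rw [hP, ← pCore_eq h hn, ← CfsgLib.Core.map_equiv_pCore (p := 2) e]
    simp only [Subgroup.map_map]
    rfl
  obtain ⟨hE, hcard, ⟨E, hEle, hEab, hEcard⟩, -, K, hK1, hK2, hK3, ⟨eK⟩⟩ :=
    LargeTransvection.main h hn (pCore_eq h hn).symm
  subst hPeq
  have hEP : IsExtraspecial 2 ((Q h).map H.subtype) :=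
    isExtraspecial_congr hE (Subgroup.equivMapOfInjective _ H.subtype hinj)
  have hzP : (z : G) ∈ (Q h).map H.subtype := ⟨z, z_mem h, rfl⟩
  have hcentP : Subgroup.centralizer (((Q h).map H.subtype : Subgroup G) : Set G) = Subgroup.zpowers (z : G) := by
    have hz' : Subgroup.zpowers (z : G) = (Subgroup.zpowers z).map H.subtype := (MonoidHom.map_zpowers H.subtype z).symm
    refine le_antisymm (fun x hx => ?_) ?_
    · have hxH : x ∈ H := hC (mem_centralizer_singleton_iff'.2 (Subgroup.mem_centralizer_iff.1 hx _ hzP).symm)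
      rw [hz', ← centralizer_Q h]
      exact ⟨⟨x, hxH⟩, Subgroup.mem_centralizer_iff.2 fun y hy =>
        Subtype.ext (Subgroup.mem_centralizer_iff.1 hx _ ⟨y, hy, rfl⟩), rfl⟩
    · rw [Subgroup.zpowers_le, Subgroup.mem_centralizer_iff]
      rintro _ ⟨y, hy, rfl⟩
      have hzc : z ∈ Subgroup.centralizer (Q h : Set H) := (centralizer_Q h) ▸ Subgroup.mem_zpowers z
      exact congrArg Subtype.val (Subgroup.mem_centralizer_iff.1 hzc y hy)
  have hLD : LargeData (z : G) ((Q h).map H.subtype) := by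
    refine ⟨(orderOf_injective H.subtype hinj z).trans (z_order h), hEP, ?_, hcentP, ?_⟩
    · apply le_antisymm
      · rintro _ ⟨y, hy, rfl⟩
        rw [← hcentP]
        exact Subgroup.mem_centralizer_iff.2 fun w hw => congrArg Subtype.val (Subgroup.mem_center_iff.1 hy ⟨w, hw⟩)
      · refine Subgroup.zpowers_le.2 ⟨⟨(z : G), hzP⟩, Subgroup.mem_center_iff.2 fun w => Subtype.ext ?_, rfl⟩
        have hzc : (z : G) ∈ Subgroup.centralizer (((Q h).map H.subtype : Subgroup G) : Set G) :=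
          hcentP.symm ▸ Subgroup.mem_zpowers _
        exact Subgroup.mem_centralizer_iff.1 hzc _ w.2
    · refine CfsgLib.Core.CoreControl.le_normalizer_of fun x hx => ?_
      rintro _ ⟨y, hy, rfl⟩
      refine ⟨⟨x, hC hx⟩ * y * ⟨x, hC hx⟩⁻¹, (Subgroup.mem_normalizer_iff.1 (normalizes h
        (mem_centralizer_singleton_iff'.2 (Subtype.ext (mem_centralizer_singleton_iff'.1 hx)))) y).1 hy, rfl⟩
  obtain ⟨s, hss, hbQ, hne⟩ := exists_swap h
  refine ⟨hEP, ?_, ⟨E.map H.subtype, Subgroup.map_mono hEle, ⟨?_, ?_⟩, ?_⟩,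
    large_of_swap hLD hP (s := (s : G)) (congrArg Subtype.val hss) ⟨_, hbQ, rfl⟩ (fun e' => hne (Subtype.ext e')),
    K.map H.subtype, hCmap ▸ Subgroup.map_mono hK1, ?_, ?_,
    ⟨(Subgroup.equivMapOfInjective _ H.subtype hinj).symm.trans eK⟩⟩
  · rw [Subgroup.card_subtype, hcard]
  · refine ⟨⟨?_⟩⟩
    rintro ⟨_, a, ha, rfl⟩ ⟨_, b, hb, rfl⟩
    exact Subtype.ext (congrArg (fun t : E => ((t : H) : G)) (hEab.1.is_comm.comm ⟨a, ha⟩ ⟨b, hb⟩))
  · rintro _ ⟨a, ha, rfl⟩
    rw [← map_pow, hEab.2 a ha, map_one]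
  · rw [Subgroup.card_subtype, hEcard]
  · rw [← Subgroup.map_inf _ _ _ hinj, hK2, Subgroup.map_bot]
  · rw [← Subgroup.map_sup, hK3, hCmap]

end Lift

theorem m24_main (z : ↥M24) (hz : orderOf z = 2)
    (hfix : (Finset.univ.filter fun p : GolayPt => (z : Equiv.Perm GolayPt) p = p) ∈ octads)
    (Q : Subgroup ↥M24)
    (hQ : Q = (pCore 2 ↥(Subgroup.centralizer ({z} : Set ↥M24))).map
      (Subgroup.centralizer ({z} : Set ↥M24)).subtype) :
    IsExtraspecial 2 ↥Q ∧ Nat.card ↥Q = 2 ^ 7 ∧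
      (∃ E : Subgroup ↥M24, E ≤ Q ∧ IsElementaryAbelian 2 E ∧ Nat.card ↥E = 2 ^ 4) ∧
      IsLargeExtraspecial Q ∧
      ∃ K : Subgroup ↥M24, K ≤ Subgroup.centralizer ({z} : Set ↥M24) ∧ Q ⊓ K = ⊥ ∧
        Q ⊔ K = Subgroup.centralizer ({z} : Set ↥M24) ∧
        Nonempty (↥K ≃* Matrix.SpecialLinearGroup (Fin 3) (ZMod 2)) := by
  classical
  haveI : Fact (Nat.Prime 2) := ⟨Nat.prime_two⟩
  set o := Finset.univ.filter fun p : GolayPt => (z : Equiv.Perm GolayPt) p = p with hodef
  have hiff : ∀ x, z • x = x ↔ x ∈ o := fun x => by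
    rw [hodef, Finset.mem_filter]
    exact ⟨fun h => ⟨Finset.mem_univ x, h⟩, fun h => h.2⟩
  obtain ⟨p, hp⟩ : ∃ p, p ∉ o := by
    by_contra hall
    push Not at hall
    have h8 := hfix.2
    rw [Finset.eq_univ_iff_forall.2 hall, Finset.card_univ, Fintype.card_option, ZMod.card] at h8
    omega
  obtain ⟨free, trans⟩ := fix_regular hfix hp
  set H : Subgroup ↥M24 := stabilizer ↥M24 o with hH
  have hC : Subgroup.centralizer ({z} : Set ↥M24) ≤ H := fun g hg => by
    rw [hH, mem_stabilizer_iff]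
    refine Finset.eq_of_subset_of_card_le (fun y hy => ?_) (card_smul_set g o).ge
    obtain ⟨x, hx, rfl⟩ := Finset.mem_smul_finset.1 hy
    rw [← hiff, ← mul_smul, ← Subgroup.mem_centralizer_singleton_iff.1 hg, mul_smul, (hiff x).2 hx]
  set U : Subgroup H := (octFixer o).subgroupOf H with hUdef
  set M : Subgroup H := (stabilizer ↥M24 p).subgroupOf H with hMdef
  have hle : octFixer o ≤ H := fun g hg => mem_stab_of_fix hg
  haveI : U.Normal := ⟨fun u hu g x hx => by
    show ((g : ↥M24) * u * (g : ↥M24)⁻¹) • x = x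
    have hmem : (g : ↥M24)⁻¹ • x ∈ o := by
      rw [stab_mem_iff (inv_mem g.2)]; exact hx
    have hu' : (u : ↥M24) • ((g : ↥M24)⁻¹ • x) = (g : ↥M24)⁻¹ • x := hu _ hmem
    rw [mul_smul, mul_smul, hu', smul_inv_smul]⟩
  have hUel : IsElementaryAbelian 2 U := by
    refine ⟨⟨⟨fun a b => Subtype.ext (Subtype.ext ?_)⟩⟩, fun a ha => Subtype.ext ?_⟩
    · exact commute_of_sq (sq_eq_one_of_fix hfix a.2) (sq_eq_one_of_fix hfix b.2)
        (sq_eq_one_of_fix hfix ((octFixer o).mul_mem a.2 b.2))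
    · show ((a : ↥M24) ^ 2) = 1
      rw [pow_two]; exact sq_eq_one_of_fix hfix ha
  have hUcard : Nat.card U = 2 ^ (3 + 1) := by
    rw [Nat.card_congr (Subgroup.subgroupOfEquivOfLe hle).toEquiv]
    exact (card_fix_octad hfix).trans (by norm_num)
  have hUM : U ⊓ M = ⊥ := by
    rw [eq_bot_iff]
    rintro g ⟨h1, h2⟩
    exact Subgroup.mem_bot.2 (Subtype.ext (free _ h1 h2))
  have hdec : ∀ g : H, ∃ u : U, (u : H)⁻¹ * g ∈ M := fun g => by
    have hgp : (g : ↥M24) • p ∉ o := by rw [stab_mem_iff g.2]; exact hp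
    obtain ⟨f, hf, e⟩ := trans _ hgp
    refine ⟨⟨⟨f, hle hf⟩, hf⟩, ?_⟩
    show (f⁻¹ * (g : ↥M24)) • p = p
    rw [mul_smul, inv_smul_eq_iff]
    exact e.symm
  have hUM' : U ⊔ M = ⊤ := top_unique fun g _ => by
    obtain ⟨u, hu⟩ := hdec g
    have := mul_mem (Subgroup.mem_sup_left (T := M) u.2) (Subgroup.mem_sup_right hu)
    rwa [mul_inv_cancel_left] at this
  have hfaith : ∀ m ∈ M, (∀ u ∈ U, m * u * m⁻¹ = u) → m = 1 := by
    intro m hm hmu
    have hmU : m ∈ U := centralizer_octFixer hfix (Subgroup.mem_centralizer_iff.2 fun u hu => by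
      have := congrArg Subtype.val (hmu ⟨u, hle hu⟩ hu)
      exact (mul_inv_eq_iff_eq_mul.1 this).symm)
    have hmm : m ∈ U ⊓ M := Subgroup.mem_inf.2 ⟨hmU, hm⟩
    rwa [hUM, Subgroup.mem_bot] at hmm
  have hMcard : Nat.card M = 20160 := by
    have hb : Function.Bijective fun x : U × M => (x.1 : H) * x.2 := by
      constructor
      · rintro ⟨u, m⟩ ⟨u', m'⟩ e
        dsimp only at e
        have h : (u' : H)⁻¹ * u ∈ U ⊓ M := Subgroup.mem_inf.2 ⟨mul_mem (inv_mem u'.2) u.2, by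
          rw [show (u' : H)⁻¹ * u = (m' : H) * (m : H)⁻¹ by
            rw [eq_mul_inv_iff_mul_eq, mul_assoc, e, inv_mul_cancel_left]]
          exact mul_mem m'.2 (inv_mem m.2)⟩
        rw [hUM, Subgroup.mem_bot, inv_mul_eq_one] at h
        have hu : u = u' := Subtype.ext h.symm
        subst hu
        exact Prod.ext rfl (Subtype.ext (mul_left_cancel e))
      · intro g
        obtain ⟨u, hu⟩ := hdec g
        exact ⟨(u, ⟨_, hu⟩), mul_inv_cancel_left _ _⟩
    have h := Nat.card_eq_of_bijective _ hb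
    rw [Nat.card_prod, hUcard, card_stab_octad' hfix] at h
    omega
  have hGL : Nat.card (GL (Fin (3 + 1)) (ZMod 2)) = 20160 := by
    rw [Matrix.card_GL_field, Fin.prod_univ_four, ZMod.card]
    norm_num
  have hfull : ∀ φ : U ≃* U, ∃ m ∈ M, ∀ u : U, ((φ u : U) : H) = m * u * m⁻¹ := by
    let c : M →* MulAut U := (MulAut.conjNormal : H →* MulAut U).comp M.subtype
    have hc : Function.Injective c := (injective_iff_map_eq_one c).2 fun m hm =>
      Subtype.ext (hfaith m m.2 fun u hu => by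
        have := congrArg (fun f : MulAut U => ((f ⟨u, hu⟩ : U) : H)) hm
        simpa [c] using this)
    have hcard : Nat.card (MulAut U) ≤ Nat.card M := by
      rw [hMcard, ← hGL]; exact card_mulAut_le hUel hUcard
    intro φ
    obtain ⟨m, hm⟩ := (hc.bijective_of_nat_card_le hcard).2 φ
    exact ⟨m, m.2, fun u => by rw [← hm]; rfl⟩
  have hz2 : z ∈ octFixer o := fun x hx => (hiff x).2 hx
  have hz1 : (⟨⟨z, hle hz2⟩, hz2⟩ : U) ≠ 1 := fun e => by
    have e' : z = 1 := congrArg (fun u : U => ((u : H) : ↥M24)) e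
    rw [e', orderOf_one] at hz
    omega
  obtain ⟨ρ, hS⟩ := LargeAffine.main (n := 3) (by norm_num) hUel hUcard hUM hUM' hfaith hfull _ hz1
  obtain ⟨h1, h2, ⟨E, h3, h4, h5⟩, h6, K, h7, h8, h9, ⟨h10⟩⟩ := lift_main (by norm_num) hS hC hQ
  exact ⟨h1, h2, ⟨E, h3, h4, h5⟩, h6, K, h7, h8, h9,
    ⟨h10.trans (LargeTransvection.slEquiv 3).symm⟩⟩

end CfsgLib.ThreeTrans.LargeM24
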