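import Cfsg.Agent.Lib.ThreeTrans.LargeGeneration
import Cfsg.Agent.Lib.Transfer.LargeExtra

set_option autoImplicit false
set_option linter.unusedSectionVars false

/-!
The centralizer of a non-central involution of a large extraspecial 2-group lying in two of its conjugates
(owner: helper18).
-/

namespace CfsgLib.ThreeTrans.LargeSection

open Cfsg CfsgLib.ThreeTrans
open scoped commutatorElement

variable {G : Type*} [Group G] [Finite G]

/-- Two commuting involutions inverting `K`, the second fixed-point-freely and moved to their product by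
a normalizing element, force `K` to be trivial. -/
theorem eq_bot_of_two_inverting {K : Subgroup G} {a b q : G} (hab : Commute b a)
    (ha : ∀ k ∈ K, a * k * a = k⁻¹) (hb : ∀ k ∈ K, b * k * b = k⁻¹)
    (hfix : ∀ k ∈ K, b * k * b = k → k = 1) (hq : ∀ k ∈ K, q⁻¹ * k * q ∈ K)
    (hqb : q * b * q⁻¹ = a * b) : K = ⊥ := by
  refine (Subgroup.eq_bot_iff_forall K).2 fun k hk => ?_
  have h1 : a * b * k * (a * b) = k := by
    conv_lhs => arg 2; rw [← hab.eq]
    calc a * b * k * (b * a) = a * (b * k * b) * a := by group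
      _ = k := by rw [hb k hk, ha _ (K.inv_mem hk), inv_inv]
  have hbq : b = q⁻¹ * (a * b) * q := by rw [← hqb]; group
  have h2 : b * (q⁻¹ * k * q) * b = q⁻¹ * k * q := by
    calc b * (q⁻¹ * k * q) * b = q⁻¹ * (a * b) * q * (q⁻¹ * k * q) * (q⁻¹ * (a * b) * q) := by
          rw [← hbq]
      _ = q⁻¹ * (a * b * k * (a * b)) * q := by group
      _ = q⁻¹ * k * q := by rw [h1]
  have h3 := hfix _ (hq k hk) h2
  calc k = q * (q⁻¹ * k * q) * q⁻¹ := by group
    _ = 1 := by rw [h3, mul_one, mul_inv_cancel]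

variable {z : G} {Q : Subgroup G}

/-- The basic facts about the hyperplane centralized by a non-central involution of `Q`. -/
theorem centralizer_half (h : LargeData z Q) {t : G} (ht : t ∈ Q) (htz : t ∉ Subgroup.zpowers z) :
    2 * Nat.card ↥(Q ⊓ Subgroup.centralizer ({t} : Set G)) = Nat.card Q := by
  obtain ⟨q0, hq0, hq0t⟩ := h.exists_move ht htz
  have hr : (Q ⊓ Subgroup.centralizer ({t} : Set G)).relIndex Q = 2 := by
    rw [Subgroup.relIndex_eq_two_iff_exists_notMem_and]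
    refine ⟨q0, hq0, fun hc => ?_, fun b hb => ?_⟩
    · have hc' : q0 * t = t * q0 := mem_centralizer_singleton_iff'.1 hc.2
      rw [hc', mul_inv_cancel_right] at hq0t
      exact h.z_ne_one (mul_eq_right.1 hq0t.symm)
    · rcases h.conj_eq_or hb ht with e1 | e1
      · exact Or.inr ⟨hb, mem_centralizer_singleton_iff'.2 (mul_inv_eq_iff_eq_mul.1 e1)⟩
      · refine Or.inl ⟨Q.mul_mem hb hq0, mem_centralizer_singleton_iff'.2
          (mul_inv_eq_iff_eq_mul.1 ?_)⟩
        calc b * q0 * t * (b * q0)⁻¹ = b * (q0 * t * q0⁻¹) * b⁻¹ := by group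
          _ = (b * z * b⁻¹) * (b * t * b⁻¹) := by rw [hq0t]; group
          _ = t := by
            rw [e1, (h.commute_z hb).eq, mul_inv_cancel_right, ← mul_assoc, h.mul_self_z, one_mul]
  have := CfsgLib.PGroups.card_mul_relIndex (H := Q ⊓ Subgroup.centralizer ({t} : Set G))
    (K := Q) inf_le_left
  rw [hr] at this
  omega

theorem isConj_mul_z (h : LargeData z Q) {t : G} (ht : t ∈ Q) (htz : t ∉ Subgroup.zpowers z) :
    IsConj t (z * t) := by
  obtain ⟨q, _, hq⟩ := h.exists_move ht htz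
  exact isConj_iff.2 ⟨q, hq⟩

/-- An element normalizing `⟨t⟩z` centralizes `z` when `t` is not fused to `z`. -/
theorem fix_z (h : LargeData z Q) {t : G} (ht : t ∈ Q) (htz : t ∉ Subgroup.zpowers z)
    (hnc : ¬ IsConj z t) {d : G} (hd : d * z * d⁻¹ = z ∨ d * z * d⁻¹ = z * t) : d * z * d⁻¹ = z := by
  refine hd.resolve_right fun hzt => hnc ?_
  exact (isConj_iff.2 ⟨d, hzt⟩).trans (isConj_mul_z h ht htz).symm

/-- A conjugate of `z` in `Q` centralizing `t` is moved inside the centralizer of `t`. -/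
theorem exists_move_in_section (h : LargeData z Q) {t : G} (ht : t ∈ Q)
    (htz : t ∉ Subgroup.zpowers z) (hnc : ¬ IsConj z t) {y : G} (hy : y ∈ Q)
    (hyz : y ∉ Subgroup.zpowers z) (hzy : IsConj z y) :
    ∃ q ∈ Q, Commute q t ∧ q * y * q⁻¹ = z * y := by
  by_contra hcon
  simp only [not_exists, not_and] at hcon
  set P := Q ⊓ Subgroup.centralizer ({t} : Set G)
  have hyP : ∀ m ∈ P, Commute y m := fun m hm =>
    ((mul_inv_eq_iff_eq_mul.1 ((h.conj_eq_or hm.1 hy).resolve_right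
      (hcon m hm.1 (mem_centralizer_singleton_iff'.1 hm.2))) : m * y = y * m)).symm
  have htP : ∀ m ∈ P, Commute t m := fun m hm => (mem_centralizer_singleton_iff'.1 hm.2).symm
  rcases CfsgLib.Transfer.LargeExtra.centralizer_hyperplane h (inf_le_left : P ≤ Q)
    (centralizer_half h ht htz) ht hy htP htz hyP with e | e
  · exact hyz e
  · rcases h.eq_or e with e' | e'
    · apply hnc
      have hty : y = t⁻¹ := eq_inv_of_mul_eq_one_right e'
      have htt : t * t = 1 := by
        rcases h.eq_or (h.sq_mem ht) with e2 | e2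
        · exact e2
        · exfalso
          obtain ⟨c, hc⟩ := isConj_iff.1 hzy
          have h1 : y * y = 1 := by rw [← hc, conj_mul, h.mul_self_z, mul_one, mul_inv_cancel]
          rw [hty, ← mul_inv_rev, e2, h.inv_z] at h1
          exact h.z_ne_one h1
      rwa [hty, inv_eq_of_mul_eq_one_left htt] at hzy
    · apply hnc
      have hy' : y = t⁻¹ * z := by rw [← e', inv_mul_cancel_left]
      have htt : t * t = 1 := by
        rcases h.eq_or (h.sq_mem ht) with e2 | e2
        · exact e2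
        · exfalso
          obtain ⟨c, hc⟩ := isConj_iff.1 hzy
          have h1 : y * y = 1 := by rw [← hc, conj_mul, h.mul_self_z, mul_one, mul_inv_cancel]
          have hti : t⁻¹ = t * z := by
            apply inv_eq_of_mul_eq_one_right
            rw [← mul_assoc, e2, h.mul_self_z]
          rw [hy', hti, mul_assoc t z z, h.mul_self_z, mul_one, e2] at h1
          exact h.z_ne_one h1
      rw [hy', inv_eq_of_mul_eq_one_left htt, (h.commute_z ht).eq] at hzy
      exact hzy.trans (isConj_mul_z h ht htz).symm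

variable {g t : G}

/-- The hypotheses shared by the lemmas below. -/
structure SectionData (z : G) (Q : Subgroup G) (g t : G) : Prop where
  data : LargeData z Q
  big : 32 ≤ Nat.card Q
  memQ : g * z * g⁻¹ ∈ Q
  nz : g * z * g⁻¹ ∉ Subgroup.zpowers z
  tQ : t ∈ Q
  tQ' : t ∈ Q.map (MulAut.conj g).toMonoidHom
  tt : t * t = 1
  t1 : t ≠ 1
  nconj : ¬ IsConj z t

namespace SectionData

variable (s : SectionData z Q g t)
include s

theorem tz : t ∉ Subgroup.zpowers z := fun hc => by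
  rcases s.data.eq_or hc with e | e
  · exact s.t1 e
  · exact s.nconj (e ▸ IsConj.refl t)

theorem nconj' : ¬ IsConj (g * z * g⁻¹) t := fun hc =>
  s.nconj ((isConj_iff.2 ⟨g, rfl⟩ : IsConj z (g * z * g⁻¹)).trans hc)

theorem tx : t ∉ Subgroup.zpowers (g * z * g⁻¹) := fun hc => by
  rcases (s.data.conj g).eq_or hc with e | e
  · exact s.t1 e
  · exact s.nconj' (e ▸ IsConj.refl t)

theorem comm_xt : Commute t (g * z * g⁻¹) := (s.data.conj g).commute_z s.tQ'

theorem z_mem' : z ∈ Q.map (MulAut.conj g).toMonoidHom := s.data.mem_conj s.big s.memQ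

theorem z_nx : z ∉ Subgroup.zpowers (g * z * g⁻¹) := fun hc => by
  rcases (s.data.conj g).eq_or hc with e | e
  · exact s.data.z_ne_one e
  · exact s.nz (e ▸ Subgroup.mem_zpowers z)

/-- `x` and `z` are conjugate under the two centralizers of `t`. -/
theorem exists_conj : ∃ x ∈ (Q ⊓ Subgroup.centralizer ({t} : Set G)) ⊔
    ((Q).map (MulAut.conj g).toMonoidHom ⊓ Subgroup.centralizer ({t} : Set G)),
    x * (g * z * g⁻¹) * x⁻¹ = z := by
  obtain ⟨q, hq, hqt, hqx⟩ := exists_move_in_section s.data s.tQ s.tz s.nconj s.memQ s.nz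
    (isConj_iff.2 ⟨g, rfl⟩)
  obtain ⟨q', hq', hqt', hqz⟩ := exists_move_in_section (s.data.conj g) s.tQ' s.tx s.nconj'
    s.z_mem' s.z_nx (isConj_iff.2 ⟨g, rfl⟩ : IsConj z (g * z * g⁻¹)).symm
  refine ⟨q' * q, Subgroup.mul_mem _
    (Subgroup.mem_sup_right ⟨hq', mem_centralizer_singleton_iff'.2 hqt'.eq⟩)
    (Subgroup.mem_sup_left ⟨hq, mem_centralizer_singleton_iff'.2 hqt.eq⟩), ?_⟩
  · have hxx : q' * (g * z * g⁻¹) * q'⁻¹ = g * z * g⁻¹ := by
      rw [((s.data.conj g).commute_z hq').eq, mul_inv_cancel_right]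
    calc q' * q * (g * z * g⁻¹) * (q' * q)⁻¹
        = q' * (q * (g * z * g⁻¹) * q⁻¹) * q'⁻¹ := by group
      _ = (q' * z * q'⁻¹) * (q' * (g * z * g⁻¹) * q'⁻¹) := by rw [hqx]; group
      _ = g * z * g⁻¹ * z * (g * z * g⁻¹) := by rw [hqz, hxx]
      _ = z := by
        rw [mul_assoc, (s.data.commute_z s.memQ).symm.eq, ← mul_assoc, conj_mul,
          s.data.mul_self_z, mul_one, mul_inv_cancel, one_mul]

/-- The section `P / ⟨t⟩` is a large extraspecial subgroup of `C(t) / ⟨t⟩`. -/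
theorem isLarge
    (hCP : ∀ c ∈ Subgroup.centralizer ({z} : Set G), (∀ x ∈ Q ⊓ Subgroup.centralizer ({t} : Set G),
      ∃ y ∈ Subgroup.zpowers t, c * x * c⁻¹ = x * y) → c ∈ Q)
    [hn : ((Subgroup.zpowers t).subgroupOf (Subgroup.centralizer ({t} : Set G))).Normal] :
    IsLargeExtraspecial (((Q ⊓ Subgroup.centralizer ({t} : Set G)).subgroupOf
      (Subgroup.centralizer ({t} : Set G))).map (QuotientGroup.mk'
        ((Subgroup.zpowers t).subgroupOf (Subgroup.centralizer ({t} : Set G))))) := by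
  classical
  have h := s.data
  have : Fact (Nat.Prime 2) := ⟨Nat.prime_two⟩
  set D := Subgroup.centralizer ({t} : Set G) with hD
  set N := (Subgroup.zpowers t).subgroupOf D with hN
  set π := QuotientGroup.mk' N with hπ
  set P := Q ⊓ D with hP
  set Pb := (P.subgroupOf D).map π with hPb
  have hto : orderOf t = 2 := orderOf_eq_prime (by rw [pow_two]; exact s.tt) s.t1
  have hqt : ∀ {u : G}, u ∈ Subgroup.zpowers t → u = 1 ∨ u = t :=
    fun hu => mem_zpowers_of_order_two hto hu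
  have hπeq : ∀ a b : D, π a = π b ↔ (a : G)⁻¹ * b ∈ Subgroup.zpowers t := fun a b => by
    rw [hπ, QuotientGroup.mk'_apply, QuotientGroup.mk'_apply, QuotientGroup.eq]
    rfl
  have hπ1 : ∀ a : D, π a = 1 ↔ (a : G) ∈ Subgroup.zpowers t := fun a =>
    QuotientGroup.eq_one_iff a
  have hzD : z ∈ D := mem_centralizer_singleton_iff'.2 (h.commute_z s.tQ).eq.symm
  have hxD : g * z * g⁻¹ ∈ D := mem_centralizer_singleton_iff'.2 s.comm_xt.eq.symm
  have hmemPb : ∀ {u : D}, (u : G) ∈ Q → π u ∈ Pb := fun {u} hu => ⟨u, ⟨hu, u.2⟩, rfl⟩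
  set zb := π ⟨z, hzD⟩ with hzb
  have hzb1 : zb ≠ 1 := fun e => by
    rcases hqt ((hπ1 _).1 e) with e' | e'
    · exact h.z_ne_one e'
    · exact s.nconj (show IsConj z t from (show t = z from e'.symm) ▸ IsConj.refl z)
  have hzb2 : zb * zb = 1 := by
    rw [hzb, ← map_mul, hπ1]
    show z * z ∈ _
    rw [h.mul_self_z]
    exact one_mem _
  have hzbP : zb ∈ Pb := hmemPb h.z_mem
  have hzto : ∀ {u : G}, u ∈ Subgroup.zpowers z → u ∈ Subgroup.zpowers t → u = 1 := fun hu hu' => by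
    rcases h.eq_or hu with e | e
    · exact e
    · rcases hqt hu' with e' | e'
      · exact e'
      · exact absurd (e.symm.trans e' ▸ IsConj.refl z) s.nconj
  have hz2 : ∀ {u : D}, (u : G) ∈ Subgroup.zpowers z → π u = 1 ∨ π u = zb := fun {u} hu => by
    rcases h.eq_or hu with e | e
    · exact Or.inl ((hπ1 u).2 (e ▸ one_mem _))
    · exact Or.inr (congrArg π (Subtype.ext e))
  -- commutation modulo `t` in `P`
  have hcent : ∀ a : D, (a : G) ∈ Q → (∀ b : D, (b : G) ∈ Q → π (a * b) = π (b * a)) →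
      π a ∈ Subgroup.zpowers zb := by
    intro a ha hab
    have haP : ∀ m ∈ P, Commute (a : G) m := by
      intro m hm
      have h1 := (hπeq _ _).1 (hab ⟨m, hm.2⟩ hm.1).symm
      have h2 : (m * (a : G))⁻¹ * ((a : G) * m) ∈ Subgroup.zpowers z := by
        rw [show (m * (a : G))⁻¹ * ((a : G) * m) = (a : G)⁻¹ * m⁻¹ * (a : G)⁻¹⁻¹ * m⁻¹⁻¹ by group]
        exact h.comm_mem (Q.inv_mem ha) (Q.inv_mem hm.1)
      exact (inv_mul_eq_one.1 (hzto h2 h1)).symm
    rcases CfsgLib.Transfer.LargeExtra.centralizer_hyperplane h (inf_le_left : P ≤ Q)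
      (centralizer_half h s.tQ s.tz) s.tQ ha (fun m hm => (mem_centralizer_singleton_iff'.1 hm.2).symm)
      s.tz haP with e | e
    · rcases hz2 e with e' | e' <;> rw [e']
      exacts [one_mem _, Subgroup.mem_zpowers zb]
    · have htD : t ∈ D := mem_centralizer_singleton_iff'.2 rfl
      have hta : π (⟨t, htD⟩ * a) = π a := by
        rw [map_mul, (hπ1 ⟨t, htD⟩).2 (Subgroup.mem_zpowers t), one_mul]
      rw [← hta]
      rcases hz2 (u := ⟨t, htD⟩ * a) e with e' | e' <;> rw [e']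
      exacts [one_mem _, Subgroup.mem_zpowers zb]
  have hPp : IsPGroup 2 Pb :=
    (((CfsgLib.PGroups.IsExtraspecial.isPGroup h.hE).to_le inf_le_left).comap_subtype).map π
  have hcomm : ∀ a b : Pb, ((⁅a, b⁆ : Pb) : D ⧸ N) ∈ Subgroup.zpowers zb := by
    rintro ⟨_, a, ha, rfl⟩ ⟨_, b, hb, rfl⟩
    show ⁅π a, π b⁆ ∈ _
    rw [← map_commutatorElement]
    rcases hz2 (u := ⁅a, b⁆) (h.comm_mem ha.1 hb.1) with e | e <;> rw [e]
    exacts [one_mem _, Subgroup.mem_zpowers zb]
  have hzcen : ∀ u : D ⧸ N, u ∈ Pb → u * zb = zb * u := by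
    rintro _ ⟨u, hu, rfl⟩
    rw [hzb, ← map_mul, ← map_mul]
    exact congrArg π (Subtype.ext (h.commute_z hu.1).eq)
  have hzC : (⟨zb, hzbP⟩ : Pb) ∈ Subgroup.center Pb :=
    Subgroup.mem_center_iff.2 fun u => Subtype.ext (hzcen u u.2)
  have hcenter : (Subgroup.center Pb).map Pb.subtype = Subgroup.zpowers zb := by
    refine le_antisymm ?_ (Subgroup.zpowers_le.2 (Subgroup.mem_map.2 ⟨⟨zb, hzbP⟩, hzC, rfl⟩))
    rintro _ ⟨⟨_, a, ha, rfl⟩, hac, rfl⟩
    refine hcent a ha.1 fun b hb => ?_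
    rw [map_mul, map_mul]
    exact (congrArg Subtype.val (Subgroup.mem_center_iff.1 hac ⟨π b, hmemPb hb⟩)).symm
  obtain ⟨q, hq, hqt', hqx⟩ := exists_move_in_section h s.tQ s.tz s.nconj s.memQ s.nz
    (isConj_iff.2 ⟨g, rfl⟩)
  set xb := π ⟨g * z * g⁻¹, hxD⟩ with hxb
  have hqD : q ∈ D := mem_centralizer_singleton_iff'.2 hqt'.eq
  set qb := π ⟨q, hqD⟩ with hqb
  have hqxb : qb * xb * qb⁻¹ = zb * xb := by
    rw [hqb, hxb, hzb, ← map_inv, ← map_mul, ← map_mul, ← map_mul]
    exact congrArg π (Subtype.ext hqx)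
  have hext : IsExtraspecial 2 Pb := by
    refine CfsgLib.PGroups.isExtraspecial_of hPp ?_ ?_ ?_ ?_
    · intro hab
      apply hzb1
      have h1 := congrArg Subtype.val (hab.1.1 (⟨qb, hmemPb (u := ⟨q, hqD⟩) hq⟩ : Pb) ⟨xb, hmemPb (u := ⟨g * z * g⁻¹, hxD⟩) s.memQ⟩)
      change qb * xb = xb * qb at h1
      rw [h1, mul_inv_cancel_right] at hqxb
      exact mul_eq_right.1 hqxb.symm
    · rw [← Subgroup.card_map_of_injective Pb.subtype_injective, hcenter, Nat.card_zpowers]
      exact orderOf_eq_prime (by rw [pow_two]; exact hzb2) hzb1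
    · rw [commutator_def, Subgroup.commutator_le]
      intro a _ b _
      obtain ⟨c, hc, hce⟩ : ((⁅a, b⁆ : Pb) : D ⧸ N) ∈ (Subgroup.center Pb).map Pb.subtype :=
        hcenter ▸ hcomm a b
      exact (Subtype.ext hce : c = ⁅a, b⁆) ▸ hc
    · rintro ⟨_, a, ha, rfl⟩
      obtain ⟨c, hc, hce⟩ : π a ^ 2 ∈ (Subgroup.center Pb).map Pb.subtype := by
        rw [hcenter, pow_two, ← map_mul]
        rcases hz2 (u := a * a) (h.sq_mem ha.1) with e | e <;> rw [e]
        exacts [one_mem _, Subgroup.mem_zpowers zb]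
      have hc2 : c = (⟨π a, a, ha, rfl⟩ : Pb) ^ 2 := Subtype.ext hce
      exact hc2 ▸ hc
  have hfixz : ∀ d : D, π d * zb * (π d)⁻¹ = zb → (d : G) * z * (d : G)⁻¹ = z := by
    intro d hd
    rw [hzb, ← map_inv, ← map_mul, ← map_mul] at hd
    refine fix_z h s.tQ s.tz s.nconj ?_
    have h1 := (hπeq _ _).1 hd.symm
    change z⁻¹ * ((d : G) * z * (d : G)⁻¹) ∈ _ at h1
    rcases hqt h1 with e | e
    · exact Or.inl (inv_mul_eq_one.1 e).symm
    · exact Or.inr (inv_mul_eq_iff_eq_mul.1 e)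
  have hcentralizes : ∀ d : D, (∀ b : D, (b : G) ∈ Q → π (d * b) = π (b * d)) →
      (d : G) ∈ Q := by
    intro d hd
    have hdz : (d : G) * z * (d : G)⁻¹ = z := hfixz d (by
      rw [hzb, ← map_mul, hd _ h.z_mem, map_mul, mul_inv_cancel_right])
    refine hCP d (mem_centralizer_singleton_iff'.2 (mul_inv_eq_iff_eq_mul.1 hdz)) fun x hx => ?_
    refine ⟨x⁻¹ * ((d : G) * x * (d : G)⁻¹), ?_, (mul_inv_cancel_left _ _).symm⟩
    apply (hπeq ⟨x, hx.2⟩ (d * ⟨x, hx.2⟩ * d⁻¹)).1
    rw [map_mul, hd _ hx.1, map_mul, map_inv, mul_inv_cancel_right]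
  refine ⟨hext, ?_, ?_, ?_⟩
  · rw [hcenter]
    refine le_antisymm (fun u hu => ?_) (Subgroup.zpowers_le.2 ?_)
    · obtain ⟨d, rfl⟩ := QuotientGroup.mk'_surjective N u
      rw [Subgroup.mem_centralizer_iff] at hu
      have hd : ∀ b : D, (b : G) ∈ Q → π (d * b) = π (b * d) := fun b hb => by
        rw [map_mul, map_mul]
        exact (hu _ (hmemPb hb)).symm
      exact hcent d (hcentralizes d hd) hd
    · rw [Subgroup.mem_centralizer_iff]
      exact fun u hu => hzcen u hu
  · rw [hcenter]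
    intro u hu
    replace hu : u ∈ Subgroup.centralizer ({zb} : Set (D ⧸ N)) :=
      Subgroup.centralizer_le (Set.singleton_subset_iff.2 (Subgroup.mem_zpowers zb)) hu
    obtain ⟨d, rfl⟩ := QuotientGroup.mk'_surjective N u
    have hdz := hfixz d (by
      rw [mem_centralizer_singleton_iff'.1 hu, mul_inv_cancel_right])
    have hdQ : ∀ b : G, b ∈ Q → (d : G) * b * (d : G)⁻¹ ∈ Q :=
      fun b hb => h.conj_mem (mul_inv_eq_iff_eq_mul.1 hdz) hb
    have hdQ' : ∀ b : G, b ∈ Q → (d : G)⁻¹ * b * (d : G) ∈ Q := fun b hb => by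
      have := h.conj_mem (c := (d : G)⁻¹)
        ((show Commute (d : G) z from mul_inv_eq_iff_eq_mul.1 hdz).inv_left) hb
      rwa [inv_inv] at this
    rw [Subgroup.mem_normalizer_iff]
    intro v
    constructor
    · rintro ⟨b, hb, rfl⟩
      rw [← map_inv, ← map_mul, ← map_mul]
      exact hmemPb (hdQ _ hb.1)
    · rintro ⟨b, hb, hbe⟩
      have : v = π (d⁻¹ * b * d) := by
        rw [map_mul, map_mul, map_inv, show π b = π d * v * (π d)⁻¹ from hbe]
        group
      rw [this]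
      exact hmemPb (hdQ' _ hb.1)
  · intro K hK hPK
    have hconj : ∀ u ∈ Pb, ∀ k ∈ K, u * k * u⁻¹ ∈ K := fun u hu k hk =>
      (Subgroup.mem_normalizer_iff.1 (hPK hu) k).1 hk
    have hodd : ∀ (y : D), IsPGroup 2 (Subgroup.zpowers (y : G)) → π y ∈ K → π y = 1 := by
      intro y hy hyK
      refine LargeGeneration.eq_one_of_isPGroup_of_odd (O := Subgroup.zpowers (π y)) ?_ hK
        (Subgroup.mem_zpowers _) hyK
      obtain ⟨k, hk⟩ := hy ⟨(y : G), Subgroup.mem_zpowers _⟩
      have hk' : y ^ 2 ^ k = 1 := Subtype.ext (by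
        simpa using congrArg Subtype.val hk)
      rintro ⟨u, hu⟩
      obtain ⟨j, rfl⟩ := Subgroup.mem_zpowers_iff.1 hu
      refine ⟨k, Subtype.ext ?_⟩
      show (π y ^ j) ^ 2 ^ k = 1
      rw [← zpow_natCast, zpow_comm, zpow_natCast, ← map_pow, hk', map_one, one_zpow]
    have hQp := CfsgLib.PGroups.IsExtraspecial.isPGroup h.hE
    have hzfix : ∀ k ∈ K, zb * k * zb = k → k = 1 := by
      intro k hk hzk
      obtain ⟨d, rfl⟩ := QuotientGroup.mk'_surjective N k
      have hzi : zb⁻¹ = zb := inv_eq_of_mul_eq_one_left hzb2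
      have hdzb : π d * zb * (π d)⁻¹ = zb := by
        have h1 : zb * π d * zb⁻¹ = π d := by rw [hzi]; exact hzk
        rw [← mul_inv_eq_iff_eq_mul.1 h1, mul_inv_cancel_right]
      have hdz := hfixz d hdzb
      have hd : ∀ b : D, (b : G) ∈ Q → π (d * b) = π (b * d) := by
        intro b hb
        have h1 : π (d * b * d⁻¹ * b⁻¹) ∈ K := by
          rw [show π (d * b * d⁻¹ * b⁻¹) = π d * (π b * (π d)⁻¹ * (π b)⁻¹) by
            simp only [map_mul, map_inv]; group]
          exact K.mul_mem hk (hconj _ (hmemPb hb) _ (K.inv_mem hk))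
        have h2 := hodd _ (hQp.to_le (Subgroup.zpowers_le.2 (Q.mul_mem
          (h.conj_mem (mul_inv_eq_iff_eq_mul.1 hdz) hb) (Q.inv_mem hb)))) h1
        rw [map_mul, map_mul, map_mul, map_inv, map_inv, mul_inv_eq_one, mul_inv_eq_iff_eq_mul] at h2
        rw [map_mul, map_mul]
        exact h2
      refine hodd d ?_ hk
      exact hQp.to_le (Subgroup.zpowers_le.2 (hcentralizes d hd))
    have hxi : xb * xb = 1 := by
      rw [hxb, ← map_mul, hπ1]
      show g * z * g⁻¹ * (g * z * g⁻¹) ∈ _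
      rw [conj_mul, h.mul_self_z, mul_one, mul_inv_cancel]
      exact one_mem _
    have hzk : ∀ k ∈ K, zb * k * zb ∈ K := fun k hk => by
      have := hconj _ hzbP k hk
      rwa [inv_eq_of_mul_eq_one_left hzb2] at this
    have hxk : ∀ k ∈ K, xb * k * xb ∈ K := fun k hk => by
      have := hconj _ (hmemPb (u := ⟨g * z * g⁻¹, hxD⟩) s.memQ) k hk
      rwa [inv_eq_of_mul_eq_one_left hxi] at this
    have hxfix : ∀ k ∈ K, xb * k * xb = k → k = 1 := by
      intro k hk hxkk
      refine hzfix k hk ?_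
      obtain ⟨d, rfl⟩ := QuotientGroup.mk'_surjective N k
      have hdx : (d : G) * (g * z * g⁻¹) * (d : G)⁻¹ = g * z * g⁻¹ := by
        have h0 : π d * xb * (π d)⁻¹ = xb := by
          have h1 : xb * π d * xb⁻¹ = π d := by rw [inv_eq_of_mul_eq_one_left hxi]; exact hxkk
          rw [← mul_inv_eq_iff_eq_mul.1 h1, mul_inv_cancel_right]
        rw [hxb, ← map_inv, ← map_mul, ← map_mul] at h0
        have h1 := (hπeq _ _).1 h0.symm
        change (g * z * g⁻¹)⁻¹ * ((d : G) * (g * z * g⁻¹) * (d : G)⁻¹) ∈ _ at h1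
        refine fix_z (h.conj g) s.tQ' s.tx s.nconj' ?_
        rcases hqt h1 with e | e
        · exact Or.inl (inv_mul_eq_one.1 e).symm
        · exact Or.inr (inv_mul_eq_iff_eq_mul.1 e)
      have h1 : π (d * ⟨z, hzD⟩ * d⁻¹ * ⟨z, hzD⟩⁻¹) ∈ K := by
        rw [show π (d * ⟨z, hzD⟩ * d⁻¹ * ⟨z, hzD⟩⁻¹) = π d * (zb * (π d)⁻¹ * zb⁻¹) by
          simp only [map_mul, map_inv, hzb]; group]
        exact K.mul_mem hk (hconj _ hzbP _ (K.inv_mem hk))
      have hQ'p := CfsgLib.PGroups.IsExtraspecial.isPGroup (h.conj g).hE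
      have h2 := hodd _ (hQ'p.to_le (Subgroup.zpowers_le.2 (Subgroup.mul_mem _
        ((h.conj g).conj_mem (mul_inv_eq_iff_eq_mul.1 hdx) s.z_mem') (Subgroup.inv_mem _ s.z_mem')))) h1
      rw [map_mul, map_mul, map_mul, map_inv, map_inv, mul_inv_eq_one, mul_inv_eq_iff_eq_mul] at h2
      rw [← h2, mul_assoc, hzb2, mul_one]
    refine eq_bot_of_two_inverting (a := zb) (b := xb) (q := qb) ?_
      (LargeGeneration.inverts_of_fixedPointFree hzb2 hzk hzfix)
      (LargeGeneration.inverts_of_fixedPointFree hxi hxk hxfix) hxfix (fun k hk => ?_) hqxb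
    · rw [hxb, hzb]
      show _ * _ = _ * _
      rw [← map_mul, ← map_mul]
      exact congrArg π (Subtype.ext (h.commute_z s.memQ).eq)
    · have := hconj _ (Pb.inv_mem (hmemPb (u := ⟨q, hqD⟩) hq)) k hk
      rwa [inv_inv] at this

end SectionData

end CfsgLib.ThreeTrans.LargeSection
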