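import Cfsg.Agent.Lib.ThreeTrans.LargeExtra

set_option autoImplicit false

/-!
Singular subgroups in the presence of a large extraspecial 2-subgroup, and criteria for largeness
(owner: helper28).
-/

namespace CfsgLib.ThreeTrans

open Cfsg

variable {G : Type*} [Group G]

namespace LargeData

variable {z : G} {Q : Subgroup G} (h : LargeData z Q)
include h

/-- In width one an element of the centralizer of `z` fixing a noncentral involution coset squares into `Q`. -/
theorem sq_mem_of_width_one [Finite G] (hcard : Nat.card Q = 8) {x : G} (hx : x ∈ Q)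
    (hxz : x ∉ Subgroup.zpowers z) (hxx : x * x = 1) {c : G} (hc : Commute c z) : c * c ∈ Q := by
  haveI : Fact (Nat.Prime 2) := ⟨Nat.prime_two⟩
  let π : Q →* Q ⧸ Subgroup.center Q := QuotientGroup.mk' _
  have hπ : ∀ {u v : Q}, π u = π v ↔ ((u⁻¹ * v : Q) : G) ∈ Subgroup.zpowers z := fun {u v} =>
    QuotientGroup.eq.trans (h.center_mem_iff _)
  have hzc : ∀ {u : G}, u ∈ Q → Commute u z := fun hu => h.commute_z hu
  let cq : Q → Q := fun u => ⟨c * u * c⁻¹, h.conj_mem hc u.2⟩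
  have hcz : c * z * c⁻¹ = z := by rw [hc.eq, mul_inv_cancel_right]
  have hresp : ∀ {u v : Q}, π u = π v → π (cq u) = π (cq v) := by
    intro u v e
    rw [hπ] at e ⊢
    show (c * u * c⁻¹)⁻¹ * (c * v * c⁻¹) ∈ Subgroup.zpowers z
    rw [show (c * (u : G) * c⁻¹)⁻¹ * (c * v * c⁻¹) = c * ((u : G)⁻¹ * v) * c⁻¹ by group]
    rcases h.eq_or e with e1 | e1 <;> rw [show ((u : G)⁻¹ * v) = _ from e1]
    · simp
    · rw [hcz]; exact Subgroup.mem_zpowers z
  -- squares are constant on cosets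
  have hsq : ∀ {u v : Q}, π u = π v → ((u : G) * u = 1 ↔ (v : G) * v = 1) := by
    intro u v e
    rw [hπ] at e
    rcases h.eq_or e with e1 | e1
    · have : (u : G) = v := inv_mul_eq_one.1 e1
      rw [this]
    · have : (v : G) = u * z := by rw [← e1]; simp
      rw [this, (hzc u.2).symm.mul_mul_mul_comm, h.mul_self_z, mul_one]
  have hcqsq : ∀ u : Q, ((cq u : Q) : G) * (cq u : Q) = 1 ↔ (u : G) * u = 1 := by
    intro u
    show c * u * c⁻¹ * (c * u * c⁻¹) = 1 ↔ _
    rw [conj_mul, conj_eq_one_iff]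
  have hcard4 : Nat.card (Q ⧸ Subgroup.center Q) = 4 := by
    have := (Subgroup.center Q).card_mul_index
    rw [h.hE.2, hcard] at this
    rw [← Subgroup.index_eq_card]; omega
  -- there is a noncentral element which is not an involution coset
  obtain ⟨y, hy⟩ : ∃ y : Q, (y : G) * y ≠ 1 := by
    by_contra hcon
    simp only [not_exists, not_not] at hcon
    refine CfsgLib.PGroups.IsExtraspecial.not_comm h.hE ⟨⟨fun a b => ?_⟩⟩
    have hinv : ∀ a : Q, a⁻¹ = a := fun a => inv_eq_of_mul_eq_one_left (Subtype.ext (hcon a))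
    calc a * b = (a * b)⁻¹ := (hinv _).symm
      _ = b * a := by rw [mul_inv_rev, hinv, hinv]
  have h1 : π ⟨x, hx⟩ ≠ 1 := fun e => hxz ((h.center_mem_iff _).1 ((QuotientGroup.eq_one_iff _).1 e))
  have h2 : π y ≠ 1 := fun e => hy (by
    rcases h.eq_or ((h.center_mem_iff _).1 ((QuotientGroup.eq_one_iff _).1 e)) with e1 | e1 <;> rw [e1]
    exacts [one_mul 1, h.mul_self_z])
  have h3 : π ⟨x, hx⟩ ≠ π y := fun e => hy ((hsq e).1 hxx)
  have h4 : ∀ q : Q ⧸ Subgroup.center Q, q = 1 ∨ q = π ⟨x, hx⟩ ∨ q = π y ∨ q = π (⟨x, hx⟩ * y) := by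
    intro q
    by_contra hcon
    simp only [not_or] at hcon
    have hxy1 : π (⟨x, hx⟩ * y) ≠ 1 := by
      intro e
      rw [map_mul] at e
      refine h3 ?_
      rw [eq_inv_of_mul_eq_one_left e, ← map_inv, hπ]
      simp only [inv_inv, Subgroup.coe_mul]
      exact h.sq_mem y.2
    have hxyx : π (⟨x, hx⟩ * y) ≠ π ⟨x, hx⟩ := fun e => h2 (by rwa [map_mul, mul_eq_left] at e)
    have hxyy : π (⟨x, hx⟩ * y) ≠ π y := fun e => h1 (by rwa [map_mul, mul_eq_right] at e)
    have : ({1, π ⟨x, hx⟩, π y, π (⟨x, hx⟩ * y), q} : Set (Q ⧸ Subgroup.center Q)).ncard = 5 := by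
      rw [Set.ncard_insert_of_notMem, Set.ncard_insert_of_notMem, Set.ncard_insert_of_notMem,
        Set.ncard_pair (Ne.symm hcon.2.2.2)] <;>
        simp only [Set.mem_insert_iff, Set.mem_singleton_iff, not_or]
      · exact ⟨hxyy.symm, Ne.symm hcon.2.2.1⟩
      · exact ⟨h3, hxyx.symm, Ne.symm hcon.2.1⟩
      · exact ⟨Ne.symm h1, Ne.symm h2, hxy1.symm, Ne.symm hcon.1⟩
    have hle := Set.ncard_le_ncard (Set.subset_univ
      ({1, π ⟨x, hx⟩, π y, π (⟨x, hx⟩ * y), q} : Set (Q ⧸ Subgroup.center Q))) Set.finite_univ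
    rw [this, Set.ncard_univ, hcard4] at hle
    omega
  -- the action of `c` fixes or swaps cosets
  have hcinj : ∀ {u v : Q}, π (cq u) = π (cq v) → π u = π v := by
    intro u v e
    rw [hπ] at e ⊢
    change (c * u * c⁻¹)⁻¹ * (c * v * c⁻¹) ∈ Subgroup.zpowers z at e
    rw [show (c * (u : G) * c⁻¹)⁻¹ * (c * v * c⁻¹) = c * ((u : G)⁻¹ * v) * c⁻¹ by group] at e
    show (u : G)⁻¹ * v ∈ _
    rcases h.eq_or e with e1 | e1
    · rw [conj_eq_one_iff.1 e1]; exact one_mem _
    · rw [← hcz] at e1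
      rw [mul_left_cancel (mul_right_cancel e1)]
      exact Subgroup.mem_zpowers z
  have hone : π (cq 1) = 1 := by
    rw [← map_one π, hπ]
    simp [cq]
  have hfix : ∀ u : Q, π (cq (cq u)) = π u := by
    intro u
    have hmul : ∀ a b : Q, cq (a * b) = cq a * cq b := fun a b => Subtype.ext (by
      show c * ((a : G) * b) * c⁻¹ = c * a * c⁻¹ * (c * b * c⁻¹)
      group)
    rcases h4 (π u) with e | e | e | e
    · rw [e]
      rw [← map_one π] at e
      rw [hresp (hresp e), hresp (hone.trans (map_one π).symm), hone]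
    all_goals rw [e, hresp (hresp e)]
    all_goals
      have hxfix : π (cq (cq ⟨x, hx⟩)) = π ⟨x, hx⟩ ∧ π (cq (cq y)) = π y := by
        have hx1 : ∀ u : Q, π u ≠ 1 → π (cq u) ≠ 1 := fun u hu e => hu (by
          rw [← map_one π]; exact hcinj (e.trans hone.symm))
        rcases h4 (π (cq ⟨x, hx⟩)) with a | a | a | a
        · exact absurd a (hx1 _ h1)
        · refine ⟨(hresp a).trans a, ?_⟩
          rcases h4 (π (cq y)) with b | b | b | b
          · exact absurd b (hx1 _ h2)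
          · exact absurd (hcinj (b.trans a.symm)).symm h3
          · exact (hresp b).trans b
          · rw [hresp b, hmul, map_mul, a, b, map_mul, ← mul_assoc, ← map_mul, ← map_mul]
            rw [hπ]
            simp [hxx]
        · exact absurd ((hsq a).1 ((hcqsq _).2 hxx)) hy
        · -- `x * y` is then an involution coset
          have hxy : ((⟨x, hx⟩ * y : Q) : G) * (⟨x, hx⟩ * y : Q) = 1 := (hsq a).1 ((hcqsq _).2 hxx)
          have hyfix : π (cq y) = π y := by
            rcases h4 (π (cq y)) with b | b | b | b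
            · exact absurd b (hx1 _ h2)
            · exact absurd ((hcqsq y).1 ((hsq b).2 hxx)) hy
            · exact b
            · exact absurd ((hcqsq y).1 ((hsq b).2 hxy)) hy
          refine ⟨?_, (hresp hyfix).trans hyfix⟩
          rw [hresp a, hmul, map_mul, a, hyfix, map_mul, mul_assoc, ← map_mul π y y]
          rw [← map_mul, hπ]
          simp only [mul_inv_rev, Subgroup.coe_mul, InvMemClass.coe_inv, inv_mul_cancel_right]
          rw [← mul_inv_rev]
          exact inv_mem (h.sq_mem y.2)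
    · exact hxfix.1
    · exact hxfix.2
    · rw [hmul, hmul, map_mul, hxfix.1, hxfix.2, map_mul]
  refine h.mem_of_trivial (hc.mul_left hc) fun q hq => ?_
  have e := (hfix ⟨q, hq⟩)
  rw [hπ] at e
  change (c * (c * q * c⁻¹) * c⁻¹)⁻¹ * q ∈ Subgroup.zpowers z at e
  have e' := inv_mem e
  rw [mul_inv_rev, inv_inv] at e'
  have hq' : q * (q⁻¹ * (c * (c * q * c⁻¹) * c⁻¹)) * q⁻¹ = c * c * q * (c * c)⁻¹ * q⁻¹ := by group
  rw [← hq']
  rcases h.eq_or e' with e1 | e1 <;> rw [e1]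
  · simp
  · rw [(hzc hq).eq, mul_inv_cancel_right]; exact Subgroup.mem_zpowers z

theorem card_eq_or [Finite G] : Nat.card Q = 8 ∨ 32 ≤ Nat.card Q := by
  haveI : Fact (Nat.Prime 2) := ⟨Nat.prime_two⟩
  obtain ⟨n, hn1, hn, -⟩ := CfsgLib.PGroups.IsExtraspecial.exists_card h.hE
  rw [hn]
  rcases Nat.lt_or_ge n 2 with hlt | hge
  · left
    rw [show n = 1 by omega]; rfl
  · right
    calc 32 = 2 ^ 5 := rfl
      _ ≤ 2 ^ (2 * n + 1) := Nat.pow_le_pow_right (by norm_num) (by omega)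

/-- The two core of the centralizer of a noncentral involution of `Q` containing `z` gives largeness. -/
theorem odd_eq_bot [Finite G] {b : G} (hbQ : b ∈ Q) (hbz : b ∉ Subgroup.zpowers z) (hbb : b * b = 1)
    (hcore : ∀ k : G, Commute k b → k * z * k⁻¹ * z⁻¹ ∈
      (pCore 2 (Subgroup.centralizer ({b} : Set G))).map (Subgroup.centralizer ({b} : Set G)).subtype)
    {K : Subgroup G} (hK : Odd (Nat.card K)) (hQK : Q ≤ Subgroup.normalizer (K : Set G)) : K = ⊥ := by
  have hodd1 : ∀ (H : Subgroup G), IsPGroup 2 H → ∀ x ∈ H, x ∈ K → x = 1 := by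
    intro H hH x hxH hxK
    obtain ⟨i, hi⟩ := hH ⟨x, hxH⟩
    have hi' : x ^ 2 ^ i = 1 := congrArg Subtype.val hi
    have h2 : orderOf x ∣ Nat.card K := by
      have := orderOf_dvd_natCard (⟨x, hxK⟩ : K)
      rwa [← Subgroup.orderOf_coe] at this
    exact orderOf_eq_one_iff.1 (Nat.eq_one_of_dvd_one
      (((Nat.coprime_two_left.2 hK).pow_left i).gcd_eq_one ▸ Nat.dvd_gcd (orderOf_dvd_of_pow_eq_one hi') h2))
  have hconjK : ∀ q ∈ Q, ∀ k ∈ K, q * k * q⁻¹ ∈ K := fun q hq k hk =>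
    (Subgroup.mem_normalizer_iff.1 (hQK hq) k).1 hk
  -- no element of `K` centralizes `z`
  have hz0 : ∀ k ∈ K, Commute k z → k = 1 := by
    intro k hk hkz
    have hkQ : k ∈ Subgroup.centralizer (Q : Set G) := by
      rw [Subgroup.mem_centralizer_iff]
      intro q hq
      have h1 : k * q * k⁻¹ * q⁻¹ ∈ K := by
        rw [show k * q * k⁻¹ * q⁻¹ = k * (q * k⁻¹ * q⁻¹) by group]
        exact K.mul_mem hk (hconjK q hq _ (inv_mem hk))
      have := hodd1 Q h.hE.1.1 _ (Q.mul_mem (h.conj_mem hkz hq) (inv_mem hq)) h1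
      exact (mul_inv_eq_iff_eq_mul.1 (mul_inv_eq_one.1 this)).symm
    rw [h.hcent] at hkQ
    exact hodd1 Q h.hE.1.1 k (Subgroup.zpowers_le.2 h.z_mem hkQ) hk
  -- nor `b`
  have hb0 : ∀ k ∈ K, Commute k b → k = 1 := by
    intro k hk hkb
    refine hz0 k hk (mul_inv_eq_iff_eq_mul.1 (mul_inv_eq_one.1 ?_))
    refine hodd1 _ ((CfsgLib.Core.isPGroup_pCore 2 _).map _) _ (hcore k hkb) ?_
    rw [show k * z * k⁻¹ * z⁻¹ = k * (z * k⁻¹ * z⁻¹) by group]
    exact K.mul_mem hk (hconjK z h.z_mem _ (inv_mem hk))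
  obtain ⟨q, hq, hqb⟩ := h.exists_move hbQ hbz
  have hbz0 : ∀ k ∈ K, Commute k (z * b) → k = 1 := by
    intro k hk hkb
    have hk' : q⁻¹ * k * q ∈ K := by simpa using hconjK q⁻¹ (inv_mem hq) k hk
    have := hb0 _ hk' ?_
    · calc k = q * (q⁻¹ * k * q) * q⁻¹ := by group
        _ = 1 := by rw [this]; simp
    · rw [← commute_conj_iff' (g := q), hqb, show q * (q⁻¹ * k * q) * q⁻¹ = k by group]
      exact hkb
  -- fixed-point-free involutions invert
  have hinv : ∀ t ∈ Q, t * t = 1 → (∀ k ∈ K, Commute k t → k = 1) → ∀ k ∈ K, t * k * t⁻¹ = k⁻¹ := by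
    intro t ht htt h0 k hk
    let φ : K →* K :=
      MonoidHom.mk' (fun k => ⟨t * k * t⁻¹, hconjK t ht k k.2⟩) fun a b => Subtype.ext (by
        show t * ((a : G) * b) * t⁻¹ = t * a * t⁻¹ * (t * b * t⁻¹)
        group)
    have hff : MonoidHom.FixedPointFree φ := fun a ha => Subtype.ext (h0 a a.2
      (mul_inv_eq_iff_eq_mul.1 (congrArg Subtype.val ha)).symm)
    have hinvol : Function.Involutive φ := fun a => Subtype.ext (by
      show t * (t * a * t⁻¹) * t⁻¹ = a
      rw [inv_eq_of_mul_eq_one_left htt, show t * (t * (a : G) * t) * t = t * t * a * (t * t) by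
        simp only [mul_assoc], htt, one_mul, mul_one])
    exact congrArg Subtype.val (congrFun (hff.coe_eq_inv_of_involutive hinvol) ⟨k, hk⟩)
  rw [eq_bot_iff]
  intro k hk
  refine Subgroup.mem_bot.2 (hbz0 k hk (mul_inv_eq_iff_eq_mul.1 ?_).symm)
  calc z * b * k * (z * b)⁻¹ = z * (b * k * b⁻¹) * z⁻¹ := by group
    _ = k := by rw [hinv b hbQ hbb hb0 k hk, hinv z h.z_mem h.mul_self_z hz0 _ (inv_mem hk), inv_inv]

end LargeData

/-- The singular setting: `Q x` is the two core of the centralizer of `x`, and `Q z` is extraspecial and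
self-centralizing. -/
structure SingularData (Qf : G → Subgroup G) (z : G) : Prop where
  hQ : ∀ x : G, Qf x = (pCore 2 (Subgroup.centralizer ({x} : Set G))).map (Subgroup.centralizer ({x} : Set G)).subtype
  hz : orderOf z = 2
  hE : IsExtraspecial 2 (Qf z)
  hC : Subgroup.centralizer ((Qf z : Subgroup G) : Set G) ≤ Qf z

namespace SingularData

variable {Qf : G → Subgroup G} {z : G} (h : SingularData Qf z)
include h

theorem le_centralizer (x : G) : Qf x ≤ Subgroup.centralizer ({x} : Set G) := by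
  rw [h.hQ]; exact Subgroup.map_subtype_le _

theorem conj_mem {x c q : G} (hc : Commute c x) (hq : q ∈ Qf x) : c * q * c⁻¹ ∈ Qf x := by
  rw [h.hQ] at hq ⊢
  obtain ⟨⟨q, hqC⟩, hqO, rfl⟩ := hq
  exact ⟨_, (CfsgLib.Core.normal_pCore 2 _).conj_mem _ hqO ⟨c, mem_centralizer_singleton_iff'.2 hc.eq⟩, rfl⟩

theorem isPGroup (x : G) : IsPGroup 2 (Qf x) := by
  rw [h.hQ]; exact (CfsgLib.Core.isPGroup_pCore 2 _).map _

theorem le_of_normalized {x : G} {H : Subgroup G} (hH : H ≤ Subgroup.centralizer ({x} : Set G))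
    (hp : IsPGroup 2 H) (hn : Subgroup.centralizer ({x} : Set G) ≤ Subgroup.normalizer (H : Set G)) : H ≤ Qf x := by
  rw [h.hQ]
  intro a ha
  haveI : (H.subgroupOf (Subgroup.centralizer ({x} : Set G))).Normal :=
    Subgroup.normal_subgroupOf_of_le_normalizer hn
  exact ⟨⟨a, hH ha⟩, CfsgLib.Core.le_pCore (N := H.subgroupOf _)
    (hp.comap_of_injective _ (Subgroup.subtype_injective _)) ha, rfl⟩

theorem data [Finite G] : LargeData z (Qf z) := by
  haveI : Fact (Nat.Prime 2) := ⟨Nat.prime_two⟩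
  have hzQ : z ∈ Qf z := by
    refine h.le_of_normalized ?_ (IsPGroup.of_card (n := 1) ?_) ?_ (Subgroup.mem_zpowers z)
    · exact Subgroup.zpowers_le.2 (mem_centralizer_singleton_iff'.2 rfl)
    · rw [Nat.card_zpowers, h.hz, pow_one]
    · intro c hc
      rw [CfsgLib.Core.mem_normalizer_iff_conj_smul_eq, CfsgLib.Core.conj_smul_eq_map, MonoidHom.map_zpowers]
      show Subgroup.zpowers (c * z * c⁻¹) = _
      rw [mem_centralizer_singleton_iff'.1 hc, mul_inv_cancel_right]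
  have hzc : z ∈ (Subgroup.center (Qf z)).map (Qf z).subtype :=
    ⟨⟨z, hzQ⟩, Subgroup.mem_center_iff.2 fun q => Subtype.ext
      (mem_centralizer_singleton_iff'.1 (h.le_centralizer z q.2)), rfl⟩
  have hcenter : (Subgroup.center (Qf z)).map (Qf z).subtype = Subgroup.zpowers z := by
    refine (Subgroup.eq_of_le_of_card_ge (Subgroup.zpowers_le.2 hzc) ?_).symm
    rw [Subgroup.card_subtype, h.hE.2, Nat.card_zpowers, h.hz]
  refine ⟨h.hz, h.hE, hcenter, le_antisymm ?_ ?_, ?_⟩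
  · intro x hx
    rw [← hcenter]
    exact ⟨⟨x, h.hC hx⟩, Subgroup.mem_center_iff.2 fun q => Subtype.ext
      (Subgroup.mem_centralizer_iff.1 hx q q.2), rfl⟩
  · refine Subgroup.zpowers_le.2 (Subgroup.mem_centralizer_iff.2 fun q hq => ?_)
    exact mem_centralizer_singleton_iff'.1 (h.le_centralizer z hq)
  · intro c hc
    rw [Subgroup.mem_normalizer_iff]
    have hcz : Commute c z := mem_centralizer_singleton_iff'.1 hc
    intro q
    refine ⟨fun hq => h.conj_mem hcz hq, fun hq => ?_⟩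
    have := h.conj_mem hcz.inv_left hq
    rwa [show c⁻¹ * (c * q * c⁻¹) * c⁻¹⁻¹ = q by group] at this

theorem conj_le (g x : G) : (Qf x).map (MulAut.conj g).toMonoidHom ≤ Qf (g * x * g⁻¹) := by
  refine h.le_of_normalized ?_ ((h.isPGroup x).map _) ?_
  · rintro _ ⟨q, hq, rfl⟩
    exact mem_centralizer_singleton_iff'.2
      ((LargeData.commute_conj_iff' (g := g)).2 (mem_centralizer_singleton_iff'.1 (h.le_centralizer x hq))).eq
  · intro c hc
    have key : ∀ c : G, Commute c (g * x * g⁻¹) → ∀ t ∈ (Qf x).map (MulAut.conj g).toMonoidHom,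
        c * t * c⁻¹ ∈ (Qf x).map (MulAut.conj g).toMonoidHom := by
      rintro c hc _ ⟨q, hq, rfl⟩
      refine ⟨g⁻¹ * c * g * q * (g⁻¹ * c * g)⁻¹, h.conj_mem ?_ hq, ?_⟩
      · rw [← LargeData.commute_conj_iff' (g := g), show g * (g⁻¹ * c * g) * g⁻¹ = c by group]
        exact hc
      · show g * (g⁻¹ * c * g * q * (g⁻¹ * c * g)⁻¹) * g⁻¹ = c * (g * q * g⁻¹) * c⁻¹
        group
    have hc' : Commute c (g * x * g⁻¹) := mem_centralizer_singleton_iff'.1 hc
    rw [Subgroup.mem_normalizer_iff]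
    refine fun t => ⟨fun ht => key c hc' t ht, fun ht => ?_⟩
    have := key c⁻¹ hc'.inv_left _ ht
    rwa [show c⁻¹ * (c * t * c⁻¹) * c⁻¹⁻¹ = t by group] at this

theorem conj_eq (g x : G) : (Qf x).map (MulAut.conj g).toMonoidHom = Qf (g * x * g⁻¹) := by
  refine le_antisymm (h.conj_le g x) fun t ht => ?_
  have h1 : g⁻¹ * t * g⁻¹⁻¹ ∈ Qf (g⁻¹ * (g * x * g⁻¹) * g⁻¹⁻¹) := h.conj_le g⁻¹ _ ⟨t, ht, rfl⟩
  rw [show g⁻¹ * (g * x * g⁻¹) * g⁻¹⁻¹ = x by group] at h1
  exact ⟨_, h1, by show g * (g⁻¹ * t * g⁻¹⁻¹) * g⁻¹ = t; group⟩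

theorem data_conj [Finite G] (g : G) : LargeData (g * z * g⁻¹) (Qf (g * z * g⁻¹)) := by
  rw [← h.conj_eq]; exact h.data.conj g

/-- Orthogonality is symmetric. -/
theorem orth_symm [Finite G] {g : G} (hx : g * z * g⁻¹ ∈ Qf z) : z ∈ Qf (g * z * g⁻¹) := by
  haveI : Fact (Nat.Prime 2) := ⟨Nat.prime_two⟩
  have hd := h.data
  rcases hd.card_eq_or with h8 | h32
  · by_cases hxz : g * z * g⁻¹ ∈ Subgroup.zpowers z
    · rcases hd.eq_or hxz with e | e
      · exact absurd (conj_eq_one_iff.1 e) hd.z_ne_one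
      · rw [e]; exact hd.z_mem
    have hxx : g * z * g⁻¹ * (g * z * g⁻¹) = 1 := by rw [conj_mul, hd.mul_self_z, mul_one, mul_inv_cancel]
    have htop : Subgroup.centralizer ({z} : Set G) ≤ Qf z := by
      refine h.le_of_normalized le_rfl ?_ Subgroup.le_normalizer
      intro c
      obtain ⟨i, hi⟩ := hd.hE.1.1
        ⟨_, hd.sq_mem_of_width_one h8 hx hxz hxx (mem_centralizer_singleton_iff'.1 c.2)⟩
      refine ⟨i + 1, Subtype.ext ?_⟩
      have hi' : ((c : G) * c) ^ 2 ^ i = 1 := congrArg Subtype.val hi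
      rw [Subgroup.coe_pow, Subgroup.coe_one, pow_succ', pow_mul, pow_two]
      exact hi'
    have hmem : g⁻¹ * z * g ∈ Qf z := by
      refine htop (mem_centralizer_singleton_iff'.2 ?_)
      have hc : Commute (g * z * g⁻¹) z := hd.commute_z hx
      refine ((LargeData.commute_conj_iff' (g := g)).1 ?_).eq
      rw [show g * (g⁻¹ * z * g) * g⁻¹ = z by group]
      exact hc.symm
    rw [← h.conj_eq]
    exact ⟨_, hmem, by show g * (g⁻¹ * z * g) * g⁻¹ = z; group⟩
  · rw [← h.conj_eq]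
    exact hd.mem_conj h32 hx

section Subgroup

variable {U : Subgroup G} (hS : ∀ u ∈ U, u ≠ 1 → ∃ g : G, g * z * g⁻¹ = u)
  (hO : ∀ u ∈ U, ∀ v ∈ U, u ≠ 1 → v ≠ 1 → v ∈ Qf u)
include hS hO

theorem data_of_mem [Finite G] {u : G} (hu : u ∈ U) (hu1 : u ≠ 1) : LargeData u (Qf u) := by
  obtain ⟨g, rfl⟩ := hS u hu hu1
  exact h.data_conj g

theorem le_Qf [Finite G] {u : G} (hu : u ∈ U) (hu1 : u ≠ 1) : U ≤ Qf u := by
  intro v hv
  by_cases hv1 : v = 1
  · rw [hv1]; exact one_mem _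
  · exact hO u hu v hv hu1 hv1

theorem le_iInf [Finite G] : U ≤ ⨅ u ∈ ((U : Set G) \ {1}), Qf u :=
  le_iInf₂ fun _ hu => h.le_Qf hS hO hu.1 hu.2

theorem iSup_le_normalizer [Finite G] :
    (⨆ u ∈ ((U : Set G) \ {1}), Qf u) ≤ Subgroup.normalizer (U : Set G) := by
  refine iSup₂_le fun u hu => ?_
  have hd := h.data_of_mem hS hO hu.1 hu.2
  have key : ∀ q ∈ Qf u, ∀ v ∈ U, q * v * q⁻¹ ∈ U := by
    intro q hq v hv
    rcases hd.conj_eq_or hq (h.le_Qf hS hO hu.1 hu.2 hv) with e | e <;> rw [e]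
    · exact hv
    · exact mul_mem hu.1 hv
  intro q hq
  rw [Subgroup.mem_normalizer_iff]
  refine fun v => ⟨key q hq v, fun hv => ?_⟩
  have := key q⁻¹ (inv_mem hq) _ hv
  rwa [show q⁻¹ * (q * v * q⁻¹) * q⁻¹⁻¹ = v by group] at this

/-- A transvection of `U` induced by the join of the two cores. -/
theorem exists_transvection [Finite G] {u : G} (hu : u ∈ U) (hu1 : u ≠ 1) {M : Subgroup G} (hMU : M ≤ Qf u)
    (huM : u ∈ M) {w : G} (hw : w ∈ Qf u) (hwM : w ∉ M) :
    ∃ q ∈ ⨆ u ∈ ((U : Set G) \ {1}), Qf u, (∀ m ∈ M, Commute q m) ∧ q * w * q⁻¹ = u * w := by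
  obtain ⟨q, hq, h1, h2⟩ := (h.data_of_mem hS hO hu hu1).exists_transvection hMU huM hw hwM
  exact ⟨q, Subgroup.mem_iSup_of_mem u (Subgroup.mem_iSup_of_mem ⟨hu, hu1⟩ hq), h1, h2⟩

/-- The join of the two cores induces every automorphism of `U`. -/
theorem exists_realize [Finite G] (φ : U ≃* U) :
    ∃ g ∈ ⨆ u ∈ ((U : Set G) \ {1}), Qf u, ∀ v : U, g * (v : G) * g⁻¹ = ((φ v : U) : G) := by
  set L := ⨆ u ∈ ((U : Set G) \ {1}), Qf u with hL
  have hLn := h.iSup_le_normalizer hS hO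
  suffices key : ∀ (k : ℕ) (F : Subgroup G), F ≤ U → Nat.card U - Nat.card F = k → ∀ g ∈ L,
      (∀ v : U, (v : G) ∈ F → g * (v : G) * g⁻¹ = ((φ v : U) : G)) →
      ∃ g ∈ L, ∀ v : U, g * (v : G) * g⁻¹ = ((φ v : U) : G) from
    key _ ⊥ bot_le rfl 1 (one_mem L) fun v hv => by
      obtain rfl : v = 1 := Subtype.ext (Subgroup.mem_bot.1 hv)
      simp
  intro k
  induction k using Nat.strong_induction_on with
  | _ k IH =>
  intro F hFU hk g hg hF
  by_cases hall : U ≤ F
  · exact ⟨g, hg, fun v => hF v (hall v.2)⟩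
  obtain ⟨v, hvU, hvF⟩ := SetLike.not_le_iff_exists.1 hall
  obtain ⟨g', hg', hfix, hgv⟩ : ∃ g' ∈ L, (∀ a : U, (a : G) ∈ F → g' * (a : G) * g'⁻¹ = ((φ a : U) : G)) ∧
      g' * v * g'⁻¹ = ((φ ⟨v, hvU⟩ : U) : G) := by
    set w : G := g⁻¹ * (φ ⟨v, hvU⟩ : U) * g with hwdef
    have hwU : w ∈ U := by
      have := (Subgroup.mem_normalizer_iff.1 (inv_mem (hLn hg)) _).1 (φ ⟨v, hvU⟩).2
      rwa [inv_inv] at this
    by_cases hwv : w = v
    · refine ⟨g, hg, hF, ?_⟩
      have e : g * w * g⁻¹ = ((φ ⟨v, hvU⟩ : U) : G) := by rw [hwdef]; group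
      rwa [hwv] at e
    have hwF : w ∉ F := by
      intro hwF
      have e1 := hF ⟨w, hwU⟩ hwF
      have e2 : g * w * g⁻¹ = ((φ ⟨v, hvU⟩ : U) : G) := by rw [hwdef]; group
      rw [show g * ((⟨w, hwU⟩ : U) : G) * g⁻¹ = g * w * g⁻¹ from rfl, e2] at e1
      exact hwv (congrArg Subtype.val (φ.injective (Subtype.ext e1))).symm
    set u := w * v⁻¹ with hudef
    have huU : u ∈ U := mul_mem hwU (inv_mem hvU)
    have hu1 : u ≠ 1 := fun e => hwv (mul_inv_eq_one.1 e)
    have hUQ := h.le_Qf hS hO huU hu1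
    have hcommU : ∀ a ∈ U, ∀ b ∈ U, Commute a b := by
      intro a ha b hb
      by_cases ha1 : a = 1
      · rw [ha1]; exact Commute.one_left b
      · exact ((h.data_of_mem hS hO ha ha1).commute_z (h.le_Qf hS hO ha ha1 hb)).symm
    obtain ⟨q, hq, hqM, hqv⟩ := h.exists_transvection hS hO huU hu1
      (M := F ⊔ Subgroup.zpowers u) (sup_le (hFU.trans hUQ) (Subgroup.zpowers_le.2 (hUQ huU)))
      (Subgroup.mem_sup_right (Subgroup.mem_zpowers u)) (w := v) (hUQ hvU) (by
        intro hv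
        have hn : F ≤ Subgroup.normalizer (Subgroup.zpowers u : Set G) := by
          refine le_trans ?_ (Subgroup.centralizer_le_normalizer _)
          intro a ha
          rw [Subgroup.mem_centralizer_iff]
          intro b hb
          obtain ⟨i, rfl⟩ := Subgroup.mem_zpowers_iff.1 hb
          exact ((hcommU u huU a (hFU ha)).zpow_left i).eq
        obtain ⟨a, ha, b, hb, e⟩ := (CfsgLib.Core.mem_sup_iff_mul hn).1 hv
        rcases (h.data_of_mem hS hO huU hu1).eq_or hb with rfl | rfl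
        · rw [mul_one] at e; exact hvF (e ▸ ha)
        · apply hwF
          have hw2 : w = a := by
            have huu := (h.data_of_mem hS hO huU hu1).mul_self_z
            calc w = u * v := (inv_mul_cancel_right w v).symm
              _ = u * (a * u) := by rw [← e]
              _ = u * u * a := by rw [(hcommU a (hFU ha) u huU).eq]; exact (mul_assoc u u a).symm
              _ = a := by rw [huu, one_mul]
          exact hw2 ▸ ha)
    refine ⟨g * q, mul_mem hg hq, fun a ha => ?_, ?_⟩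
    · rw [← hF a ha, show g * q * (a : G) * (g * q)⁻¹ = g * (q * a * q⁻¹) * g⁻¹ by group,
        (hqM a (Subgroup.mem_sup_left ha)).eq, mul_inv_cancel_right]
    · rw [show g * q * v * (g * q)⁻¹ = g * (q * v * q⁻¹) * g⁻¹ by group, hqv, hudef, hwdef]
      group
  refine IH _ ?_ (F ⊔ Subgroup.zpowers v) (sup_le hFU (Subgroup.zpowers_le.2 hvU)) rfl g' hg' ?_
  · rw [← hk]
    have hlt : Nat.card F < Nat.card (F ⊔ Subgroup.zpowers v : Subgroup G) := by
      refine lt_of_le_of_ne (Subgroup.card_le_of_le le_sup_left) fun e => hvF ?_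
      rw [Subgroup.eq_of_le_of_card_ge le_sup_left e.ge]
      exact Subgroup.mem_sup_right (Subgroup.mem_zpowers v)
    have hle : Nat.card (F ⊔ Subgroup.zpowers v : Subgroup G) ≤ Nat.card U :=
      Subgroup.card_le_of_le (sup_le hFU (Subgroup.zpowers_le.2 hvU))
    omega
  · intro a ha
    let f₁ : U →* G := (MulAut.conj g').toMonoidHom.comp U.subtype
    let f₂ : U →* G := U.subtype.comp φ.toMonoidHom
    have hle : (F ⊔ Subgroup.zpowers v).subgroupOf U ≤ f₁.eqLocus f₂ := by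
      rw [Subgroup.subgroupOf_sup hFU (Subgroup.zpowers_le.2 hvU)]
      refine sup_le (fun b hb => hfix b hb) ?_
      rintro b ⟨i, hi⟩
      have hb : b = (⟨v, hvU⟩ : U) ^ i := Subtype.ext (by rw [Subgroup.coe_zpow]; exact hi.symm)
      rw [hb]
      exact zpow_mem (show (⟨v, hvU⟩ : U) ∈ f₁.eqLocus f₂ from hgv) i
    exact hle ha

theorem commutator_mem [Finite G] {g x : G} (hg : g ∈ ⨆ u ∈ ((U : Set G) \ {1}), Qf u)
    (hx : x ∈ ⨅ u ∈ ((U : Set G) \ {1}), Qf u) : g * x * g⁻¹ * x⁻¹ ∈ U := by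
  have hLn := h.iSup_le_normalizer hS hO
  have hgen : ∀ g ∈ ⨆ u ∈ ((U : Set G) \ {1}), Qf u, ∀ y ∈ ⨅ u ∈ ((U : Set G) \ {1}), Qf u,
      g * y * g⁻¹ * y⁻¹ ∈ U := by
    intro g hg
    rw [iSup_subtype'] at hg
    induction hg using Subgroup.iSup_induction' with
    | hp u q hq =>
      intro y hy
      have hy' : y ∈ Qf (u : G) := (Subgroup.mem_iInf.1 (Subgroup.mem_iInf.1 hy (u : G))) u.2
      exact Subgroup.zpowers_le.2 u.2.1 ((h.data_of_mem hS hO u.2.1 u.2.2).comm_mem hq hy')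
    | h1 => intro y _; simp
    | hmul a b haL _ iha ihb =>
      intro y hy
      have hb := ihb y hy
      rw [show a * b * y * (a * b)⁻¹ * y⁻¹ = a * (b * y * b⁻¹ * y⁻¹) * a⁻¹ * (a * y * a⁻¹ * y⁻¹) by group]
      have haL' : a ∈ ⨆ u ∈ ((U : Set G) \ {1}), Qf u := by rw [iSup_subtype']; exact haL
      exact mul_mem ((Subgroup.mem_normalizer_iff.1 (hLn haL') _).1 hb) (iha y hy)
  exact hgen g hg x hx

/-- An element of the intersection outside `U` is moved to each coset representative. -/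
theorem exists_move_coset [Finite G] {x u : G} (hx : x ∈ ⨅ u ∈ ((U : Set G) \ {1}), Qf u) (hxU : x ∉ U)
    (hu : u ∈ U) : ∃ g ∈ (⨆ u ∈ ((U : Set G) \ {1}), Qf u) ⊓ Subgroup.centralizer (U : Set G),
      g * x * g⁻¹ = x * u := by
  by_cases hu1 : u = 1
  · exact ⟨1, one_mem _, by simp [hu1]⟩
  have hxu : x ∈ Qf u := (Subgroup.mem_iInf.1 (Subgroup.mem_iInf.1 hx u)) ⟨hu, hu1⟩
  obtain ⟨q, hq, hc, he⟩ := h.exists_transvection hS hO hu hu1 (h.le_Qf hS hO hu hu1) hu hxu hxU
  refine ⟨q, ⟨hq, Subgroup.mem_centralizer_iff.2 fun m hm => (hc m hm).symm.eq⟩, ?_⟩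
  rw [he, ((h.data_of_mem hS hO hu hu1).commute_z hxu).eq]

/-- The intersection is determined by generators of `U`. -/
theorem mem_of_generators [Finite G] {T : Set G} (hT : Subgroup.closure T = U) (hT1 : (1 : G) ∉ T) {x : G}
    (hx : ∀ t ∈ T, x ∈ Qf t) : ∀ u ∈ U, u ≠ 1 → x ∈ Qf u := by
  have hsq : ∀ a ∈ U, a * a = 1 := fun a ha => by
    by_cases ha1 : a = 1
    · rw [ha1, one_mul]
    · exact (h.data_of_mem hS hO ha ha1).mul_self_z
  intro u hu
  rw [← hT] at hu
  induction hu using Subgroup.closure_induction with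
  | mem t ht => exact fun _ => hx t ht
  | one => exact fun e => absurd rfl e
  | mul a b ha hb iha ihb =>
    rw [hT] at ha hb
    intro hab
    by_cases ha1 : a = 1
    · subst ha1; rw [one_mul] at hab ⊢; exact ihb hab
    by_cases hb1 : b = 1
    · subst hb1; rw [mul_one] at hab ⊢; exact iha hab
    have hda := h.data_of_mem hS hO ha ha1
    have hbM : b ∉ Subgroup.zpowers a := by
      intro hbm
      rcases hda.eq_or hbm with e | e
      · exact hb1 e
      · exact hab (by rw [e]; exact hsq a ha)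
    obtain ⟨q, hq, -, hqb⟩ := hda.exists_transvection (Subgroup.zpowers_le.2 hda.z_mem) (Subgroup.mem_zpowers a)
      (h.le_Qf hS hO ha ha1 hb) hbM
    have hqx : q * x * q⁻¹ ∈ Qf (a * b) := by
      rw [← hqb, ← h.conj_eq]
      exact ⟨x, ihb hb1, rfl⟩
    rcases hda.conj_eq_or hq (iha ha1) with e | e <;> rw [e] at hqx
    · exact hqx
    · have haab : a ∈ Qf (a * b) := h.le_Qf hS hO (mul_mem ha hb) hab ha
      have := mul_mem (inv_mem haab) hqx
      rwa [inv_mul_cancel_left] at this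
  | inv a ha iha =>
    rw [hT] at ha
    intro ha1
    rw [inv_eq_of_mul_eq_one_left (hsq a ha)] at ha1 ⊢
    exact iha ha1

end Subgroup

end SingularData

end CfsgLib.ThreeTrans
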