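import Cfsg.Agent.Lib.ThreeTrans.LargeGeneration
import Cfsg.Agent.Lib.Components.FStar
import Cfsg.Agent.Lib.Components.PLayer
import Cfsg.Agent.Lib.Core.Coprime
import Cfsg.Agent.Lib.PGroups.Basic
import Cfsg.Agent.Lib.TwoGroups.SmallOrders.Tools

set_option autoImplicit false
set_option linter.unusedSectionVars false
set_option linter.style.haveILetI false

/-!
The shape of a finite group with a large extraspecial 2-subgroup (owner: helper18).
-/

namespace CfsgLib.ThreeTrans.LargeStructure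

open Cfsg CfsgLib.ThreeTrans CfsgLib.Components
open scoped commutatorElement Pointwise

variable {G : Type*} [Group G] [Finite G]

/-- The basic setting from the definition of a large extraspecial subgroup. -/
theorem largeData_of_isLarge {Q : Subgroup G} (hQ : IsLargeExtraspecial Q) {z : G}
    (hz : (Subgroup.center Q).map Q.subtype = Subgroup.zpowers z) : LargeData z Q := by
  refine ⟨?_, hQ.1, hz, by rw [hQ.2.1, hz], ?_⟩
  · rw [← Nat.card_zpowers, ← hz, Subgroup.card_map_of_injective Q.subtype_injective, hQ.1.2]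
  · refine le_trans (le_of_eq ?_) hQ.2.2.1
    rw [hz, Subgroup.zpowers_eq_closure, Subgroup.centralizer_closure]

/-- In a subgroup with odd relative index, intersecting with a normalized subgroup keeps odd index. -/
theorem odd_relIndex_inf {A K L : Subgroup G} (hA : A ≤ K) (hL : L ≤ K)
    (hn : A ≤ Subgroup.normalizer (L : Set G)) (h : Odd (A.relIndex K)) :
    Odd ((A ⊓ L).relIndex L) := by
  have h1 := CfsgLib.PGroups.card_mul_relIndex (le_sup_left : A ≤ A ⊔ L)
  have h2 := CfsgLib.PGroups.card_mul_relIndex (inf_le_right : A ⊓ L ≤ L)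
  have h3 := CfsgLib.Core.card_sup_mul_card_inf A L hn
  have h4 : (A ⊓ L).relIndex L = A.relIndex (A ⊔ L) := by
    apply Nat.eq_of_mul_eq_mul_left
      (Nat.mul_pos (Nat.card_pos (α := A)) (Nat.card_pos (α := (A ⊓ L : Subgroup G))))
    calc Nat.card A * Nat.card ↥(A ⊓ L) * (A ⊓ L).relIndex L
        = Nat.card A * (Nat.card ↥(A ⊓ L) * (A ⊓ L).relIndex L) := by ring
      _ = Nat.card ↥(A ⊔ L) * Nat.card ↥(A ⊓ L) := by rw [h2, h3]
      _ = _ := by rw [← h1]; ring
  rw [h4]
  exact h.of_dvd_nat ⟨_, (Subgroup.relIndex_mul_relIndex _ _ _ le_sup_left (sup_le hA hL)).symm⟩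

variable {z : G} {Q : Subgroup G}

/-- A nontrivial normal subgroup contains `z`. -/
theorem z_mem_of_normal (h : LargeData z Q)
    (hodd : ∀ K : Subgroup G, Odd (Nat.card K) → Q ≤ Subgroup.normalizer (K : Set G) → K = ⊥)
    (N : Subgroup G) [hN : N.Normal] (hne : N ≠ ⊥) : z ∈ N := by
  have : Fact (Nat.Prime 2) := ⟨Nat.prime_two⟩
  have h2 : 2 ∣ Nat.card N := by
    by_contra h2
    refine hne (hodd N (Nat.odd_iff.2 (Nat.two_dvd_ne_zero.1 h2)) fun q _ => ?_)
    rw [Subgroup.normalizer_eq_top_iff.2 hN]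
    trivial
  letI : MulAction Q N :=
    MulAction.compHom N ((MulAut.conjNormal (H := N)).comp Q.subtype)
  have h1 : (1 : N) ∈ MulAction.fixedPoints Q N := fun q => map_one (MulAut.conjNormal (H := N) (q : G))
  obtain ⟨x, hx, hne'⟩ := (CfsgLib.PGroups.IsExtraspecial.isPGroup h.hE).exists_fixed_point_of_prime_dvd_card_of_fixed_point
    N h2 h1
  have hxQ : (x : G) ∈ Subgroup.centralizer (Q : Set G) := by
    rw [Subgroup.mem_centralizer_iff]
    intro q hq
    exact mul_inv_eq_iff_eq_mul.1 (congrArg Subtype.val (hx ⟨q, hq⟩))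
  rw [h.hcent] at hxQ
  rcases h.eq_or hxQ with e | e
  · exact absurd (Subtype.ext e).symm hne'
  · exact e ▸ x.2

/-- A component is not centralized by `z`. -/
theorem component_not_le_centralizer (h : LargeData z Q) {L : Subgroup G} (hL : IsComponent L) :
    ¬ L ≤ Subgroup.centralizer ({z} : Set G) := by
  intro hLC
  have : Fact (Nat.Prime 2) := ⟨Nat.prime_two⟩
  set W := Q ⊓ Cfsg.layer G with hW
  haveI := layer_normal (G := G)
  have hWs : Group.IsSolvable W := by
    have := ((CfsgLib.PGroups.IsExtraspecial.isPGroup h.hE).to_le (inf_le_left : W ≤ Q)).isNilpotent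
    infer_instance
  have key : ∀ x ∈ L, ∀ w ∈ W, x * w * x⁻¹ ∈ W := fun x hx w hw =>
    ⟨h.conj_mem (mem_centralizer_singleton_iff'.1 (hLC hx)) hw.1,
      Subgroup.Normal.conj_mem inferInstance w hw.2 x⟩
  have hWn : L ≤ Subgroup.normalizer (W : Set G) := by
    intro x hx
    rw [Subgroup.mem_normalizer_iff]
    refine fun w => ⟨key x hx w, fun hw => ?_⟩
    have := key x⁻¹ (inv_mem hx) _ hw
    simpa [mul_assoc] using this
  have hLW : ⁅L, W⁆ = ⊥ := component_commutes_of_solvable_invariant hL hWs hWn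
  have hLQ : ⁅L, Q⁆ ≤ W := by
    rw [Subgroup.commutator_le]
    intro x hx q hq
    refine ⟨?_, ?_⟩
    · rw [commutatorElement_def]
      exact Q.mul_mem (h.conj_mem (mem_centralizer_singleton_iff'.1 (hLC hx)) hq) (Q.inv_mem hq)
    · rw [commutatorElement_def, mul_assoc, mul_assoc]
      refine Subgroup.mul_mem _ (le_layer hL hx) ?_
      rw [← mul_assoc]
      exact Subgroup.Normal.conj_mem inferInstance _ (inv_mem (le_layer hL hx)) q
  have h1 : ⁅⁅L, Q⁆, L⁆ = ⊥ := by
    rw [← le_bot_iff, ← hLW, Subgroup.commutator_comm L W]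
    exact Subgroup.commutator_mono hLQ le_rfl
  have h2 : ⁅⁅Q, L⁆, L⁆ = ⊥ := by rw [Subgroup.commutator_comm Q L, h1]
  have h3 : ⁅⁅L, L⁆, Q⁆ = ⊥ := Subgroup.commutator_commutator_eq_bot_of_rotate h1 h2
  rw [IsComponent.commutator_eq_self hL, Subgroup.commutator_eq_bot_iff_le_centralizer, h.hcent] at h3
  apply IsQuasisimple.not_isMulCommutative hL.2
  exact ⟨⟨fun a b => Subtype.ext (by
    rcases h.eq_or (h3 a.2) with e | e <;> rcases h.eq_or (h3 b.2) with e' | e' <;>
      simp [e, e'])⟩⟩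

/-- The case of a nontrivial normal 2-subgroup. -/
theorem two_case (h : LargeData z Q)
    (hodd : ∀ K : Subgroup G, Odd (Nat.card K) → Q ≤ Subgroup.normalizer (K : Set G) → K = ⊥)
    (hT : pCore 2 G ≠ ⊥) : IsMulCommutative ↥(Subgroup.normalClosure ({z} : Set G)) ∧
      generalizedFittingSubgroup G = pCore 2 G := by
  have : Fact (Nat.Prime 2) := ⟨Nat.prime_two⟩
  set T := pCore 2 G with hTdef
  haveI hTn : T.Normal := Cfsg.pCore_normal 2 G
  have hTp : IsPGroup 2 T := CfsgLib.Core.isPGroup_pCore 2 G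
  haveI hCn : (Subgroup.centralizer (T : Set G)).Normal := inferInstance
  set N := T ⊓ Subgroup.centralizer (T : Set G) with hN
  have hNne : N ≠ ⊥ := by
    have : Nontrivial T := T.nontrivial_iff_ne_bot.2 hT
    have := hTp.center_nontrivial
    obtain ⟨⟨c, hc⟩, hne⟩ := exists_ne (α := Subgroup.center T) 1
    intro hb
    have : (c : G) ∈ N := ⟨c.2, Subgroup.mem_centralizer_iff.2 fun t ht =>
      congrArg Subtype.val (Subgroup.mem_center_iff.1 hc ⟨t, ht⟩)⟩
    rw [hb, Subgroup.mem_bot] at this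
    exact hne (Subtype.ext (Subtype.ext this))
  have hzN : z ∈ N := z_mem_of_normal h hodd N hNne
  have hle : Subgroup.normalClosure ({z} : Set G) ≤ N :=
    Subgroup.normalClosure_le_normal (Set.singleton_subset_iff.2 hzN)
  refine ⟨⟨⟨fun a b => Subtype.ext ?_⟩⟩, ?_⟩
  · exact Subgroup.mem_centralizer_iff.1 (hle b.2).2 a (hle a.2).1
  have hfit : fittingSubgroup G = T := by
    refine fitting_eq_pCore_of_core_bot (hodd _ ?_ fun q _ => ?_)
    · exact Nat.coprime_two_right.1 (CfsgLib.Core.coprime_card_pPrimeCore 2 G)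
    · haveI : (pPrimeCore 2 G).Normal := inferInstance
      rw [Subgroup.normalizer_eq_top_iff.2 inferInstance]
      trivial
  have hlay : layer G = ⊥ := by
    rw [layer_eq_bot_iff]
    intro L hL
    refine component_not_le_centralizer h hL fun x hx => mem_centralizer_singleton_iff'.2 ?_
    have h1 := component_commutes_fitting hL
    rw [hfit, Subgroup.commutator_eq_bot_iff_le_centralizer] at h1
    exact (Subgroup.mem_centralizer_iff.1 (h1 hx) z hzN.1).symm
  rw [gFitting_eq_fitting_iff.2 hlay, hfit]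

/-- The setting without normal 2-subgroups. -/
structure Semi (z : G) (Q M : Subgroup G) : Prop where
  data : LargeData z Q
  hM : M = Subgroup.normalClosure ({z} : Set G)
  hcM : Subgroup.centralizer (M : Set G) = ⊥
  hlay : layer G = M
  hfs : generalizedFittingSubgroup G = M
  hsimp : ∀ L : Subgroup G, IsComponent L → IsSimpleGroup L ∧ ¬ IsMulCommutative L

theorem semi_of (h : LargeData z Q)
    (hodd : ∀ K : Subgroup G, Odd (Nat.card K) → Q ≤ Subgroup.normalizer (K : Set G) → K = ⊥)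
    (hT : pCore 2 G = ⊥) : Semi z Q (Subgroup.normalClosure ({z} : Set G)) := by
  have : Fact (Nat.Prime 2) := ⟨Nat.prime_two⟩
  set M := Subgroup.normalClosure ({z} : Set G) with hM
  haveI hMn : M.Normal := Subgroup.normalClosure_normal
  have hzM : z ∈ M := Subgroup.subset_normalClosure rfl
  have hMne : M ≠ ⊥ := fun e => h.z_ne_one (Subgroup.mem_bot.1 (e ▸ hzM))
  have hmin : ∀ K : Subgroup G, K.Normal → K ≤ M → K = ⊥ ∨ K = M := fun K hK hKM =>
    or_iff_not_imp_left.2 fun hne => le_antisymm hKM (Subgroup.normalClosure_le_normal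
      (Set.singleton_subset_iff.2 (z_mem_of_normal h hodd K (hN := hK) hne)))
  have hZ : M ⊓ Subgroup.centralizer (M : Set G) = ⊥ := by
    by_contra hne
    haveI : (M ⊓ Subgroup.centralizer (M : Set G)).Normal := inferInstance
    have hz' := z_mem_of_normal h hodd _ hne
    let A2 : Subgroup G :=
      { carrier := {x | x ∈ M ⊓ Subgroup.centralizer (M : Set G) ∧ x * x = 1}
        mul_mem' := by
          rintro a b ⟨ha, ha'⟩ ⟨hb, hb'⟩
          refine ⟨mul_mem ha hb, ?_⟩
          rw [(Subgroup.mem_centralizer_iff.1 hb.2 a ha.1), mul_assoc, ← mul_assoc a b, 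
            (Subgroup.mem_centralizer_iff.1 hb.2 a ha.1), ← mul_assoc, ← mul_assoc, hb',
            one_mul, ha']
        one_mem' := ⟨one_mem _, one_mul 1⟩
        inv_mem' := by
          rintro a ⟨ha, ha'⟩
          exact ⟨inv_mem ha, by rw [← mul_inv_rev, ha', inv_one]⟩ }
    haveI : A2.Normal := ⟨fun a ha g =>
      ⟨Subgroup.Normal.conj_mem inferInstance a ha.1 g,
        by rw [conj_mul, ha.2, mul_one, mul_inv_cancel]⟩⟩
    have hp : IsPGroup 2 A2 := fun a => ⟨1, Subtype.ext (by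
      show (a : G) ^ 2 ^ 1 = 1
      rw [pow_one, pow_two]; exact a.2.2)⟩
    have hz2 : z ∈ pCore 2 G := CfsgLib.Core.le_pCore hp (show z ∈ A2 from ⟨hz', h.mul_self_z⟩)
    rw [hT, Subgroup.mem_bot] at hz2
    exact h.z_ne_one hz2
  have hcM : Subgroup.centralizer (M : Set G) = ⊥ := by
    by_contra hne
    refine h.z_ne_one (Subgroup.mem_bot.1 (hZ ▸ ?_))
    exact ⟨hzM, z_mem_of_normal h hodd _ hne⟩
  have hna : ⁅M, M⁆ ≠ ⊥ := fun e => by
    rw [Subgroup.commutator_eq_bot_iff_le_centralizer, hcM, le_bot_iff] at e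
    exact hMne e
  have hsimp := (minimal_normal_eq_sSup_components hMn hmin hna).2
  have hcomp : ∀ L : Subgroup G, IsComponent L → L ≤ M := fun L hL =>
    (component_le_or_commutes hL hMn.isSubnormal).resolve_right fun e => by
      rw [Subgroup.commutator_eq_bot_iff_le_centralizer, hcM, le_bot_iff] at e
      exact IsComponent.ne_bot hL e
  have hlay : layer G = M :=
    le_antisymm (layer_le_iff.2 hcomp) (minimal_normal_le_layer hMn hmin hna)
  have hfit : fittingSubgroup G = ⊥ := by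
    rw [fitting_eq_pCore_of_core_bot (p := 2), hT]
    refine hodd _ (Nat.coprime_two_right.1 (CfsgLib.Core.coprime_card_pPrimeCore 2 G)) fun q _ => ?_
    haveI : (pPrimeCore 2 G).Normal := inferInstance
    rw [Subgroup.normalizer_eq_top_iff.2 inferInstance]
    trivial
  refine ⟨h, rfl, hcM, hlay, ?_, fun L hL => hsimp L hL (hcomp L hL)⟩
  rw [generalizedFittingSubgroup, hfit, hlay, sup_bot_eq]

namespace Semi

variable {M : Subgroup G} (s : Semi z Q M)
include s

theorem le_M {L : Subgroup G} (hL : IsComponent L) : L ≤ M := s.hlay ▸ le_layer hL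

theorem M_le_normalizer {L : Subgroup G} (hL : IsComponent L) :
    M ≤ Subgroup.normalizer (L : Set G) := s.hlay ▸ component_le_normalizer_layer_member hL

theorem z_mem : z ∈ M := s.hM ▸ Subgroup.subset_normalClosure rfl

theorem inf_centralizer_eq_bot {L : Subgroup G} (hL : IsComponent L) {x : G} (hx : x ∈ L)
    (hxc : x ∈ Subgroup.centralizer (L : Set G)) : x = 1 := by
  obtain ⟨hs, hna⟩ := s.hsimp L hL
  rcases hs.eq_bot_or_eq_top_of_normal (Subgroup.center L) inferInstance with e | e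
  · have : (⟨x, hx⟩ : L) ∈ Subgroup.center L :=
      Subgroup.mem_center_iff.2 fun y => Subtype.ext (Subgroup.mem_centralizer_iff.1 hxc y y.2)
    rw [e, Subgroup.mem_bot] at this
    exact congrArg Subtype.val this
  · exact absurd (⟨⟨fun a b => (Subgroup.mem_center_iff.1 (show b ∈ Subgroup.center L by
      rw [e]; trivial) a)⟩⟩ : IsMulCommutative L) hna

theorem part_eq {L : Subgroup G} (hL : IsComponent L) {a a' b b' : G} (ha : a ∈ L) (ha' : a' ∈ L)
    (hb : b ∈ Subgroup.centralizer (L : Set G)) (hb' : b' ∈ Subgroup.centralizer (L : Set G))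
    (he : a * b = a' * b') : a = a' := by
  have h1 : a'⁻¹ * a = b' * b⁻¹ := by
    calc a'⁻¹ * a = a'⁻¹ * (a * b) * b⁻¹ := by group
      _ = b' * b⁻¹ := by rw [he]; group
  exact (inv_mul_eq_one.1 (s.inf_centralizer_eq_bot hL (L.mul_mem (L.inv_mem ha') ha)
    (h1 ▸ Subgroup.mul_mem _ hb' (inv_mem hb)))).symm

omit s in
theorem mem_cj {g x : G} {L : Subgroup G} :
    x ∈ L.map (MulAut.conj g).toMonoidHom ↔ g⁻¹ * x * g ∈ L := by
  constructor
  · rintro ⟨y, hy, rfl⟩
    show g⁻¹ * (g * y * g⁻¹) * g ∈ L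
    simpa [mul_assoc] using hy
  · exact fun hx => ⟨_, hx, by show g * (g⁻¹ * x * g) * g⁻¹ = x; group⟩

theorem commutes {K L : Subgroup G} (hK : IsComponent K) (hL : IsComponent L) (hne : K ≠ L)
    {x : G} (hx : x ∈ K) : x ∈ Subgroup.centralizer (L : Set G) :=
  Subgroup.commutator_eq_bot_iff_le_centralizer.1 (components_commute hK hL hne) hx

/-- `Q` permutes the components transitively. -/
theorem transitive {L K : Subgroup G} (hL : IsComponent L) (hK : IsComponent K) :
    ∃ q ∈ Q, K = L.map (MulAut.conj q).toMonoidHom := by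
  have h := s.data
  by_contra hK'
  set O : Set (Subgroup G) := {J | ∃ q ∈ Q, J = L.map (MulAut.conj q).toMonoidHom} with hO
  set O' : Set (Subgroup G) := {J | IsComponent J ∧ J ∉ O} with hO'
  have hOc : ∀ J ∈ O, IsComponent J := by
    rintro J ⟨q, -, rfl⟩
    exact isComponent_conj hL q
  have h12 : ⁅sSup O', sSup O⁆ = ⊥ := commutator_sSup_left_eq_bot.2 fun J hJ => by
    rw [Subgroup.commutator_comm]
    exact commutator_sSup_left_eq_bot.2 fun I hI =>
      components_commute (hOc I hI) hJ.1 fun e => hJ.2 (e ▸ hI)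
  have hle : M ≤ sSup O' ⊔ sSup O := s.hlay ▸ layer_le_iff.2 fun J hJ => by
    by_cases hJO : J ∈ O
    · exact le_sup_of_le_right (le_sSup hJO)
    · exact le_sup_of_le_left (le_sSup ⟨hJ, hJO⟩)
  have hcen := Subgroup.commutator_eq_bot_iff_le_centralizer.1 h12
  obtain ⟨b, hb, a, ha, hba⟩ := (CfsgLib.Core.mem_sup_iff_mul
    (hcen.trans (Subgroup.centralizer_le_normalizer _))).1 (hle s.z_mem)
  have hLO : L ∈ O := ⟨1, Q.one_mem, by ext x; rw [mem_cj]; simp⟩
  have hKO : K ∈ O' := ⟨hK, hK'⟩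
  have hO'q : ∀ q ∈ Q, ∀ x ∈ sSup O', q * x * q⁻¹ ∈ sSup O' := by
    intro q hq
    have : sSup O' ≤ (sSup O').comap (MulAut.conj q).toMonoidHom := sSup_le fun J hJ => by
      rw [← Subgroup.map_le_iff_le_comap]
      refine le_sSup ⟨isComponent_conj hJ.1 q, ?_⟩
      rintro ⟨r, hr, e⟩
      refine hJ.2 ⟨q⁻¹ * r, Q.mul_mem (Q.inv_mem hq) hr, ?_⟩
      ext x
      have := SetLike.ext_iff.1 e (q * x * q⁻¹)
      rw [mem_cj, mem_cj] at this
      rw [mem_cj]
      simpa [mul_assoc] using this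
    exact fun x hx => this hx
  have hOq : ∀ q ∈ Q, ∀ x ∈ sSup O, q * x * q⁻¹ ∈ sSup O := by
    intro q hq
    have : sSup O ≤ (sSup O).comap (MulAut.conj q).toMonoidHom := sSup_le fun J hJ => by
      obtain ⟨r, hr, rfl⟩ := hJ
      rw [← Subgroup.map_le_iff_le_comap]
      refine le_sSup ⟨q * r, Q.mul_mem hq hr, ?_⟩
      ext x
      rw [mem_cj, mem_cj, mem_cj]
      simp [mul_assoc]
    exact fun x hx => this hx
  have haQ : a ∈ Subgroup.centralizer (Q : Set G) := by
    rw [Subgroup.mem_centralizer_iff]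
    intro q hq
    have e : b * a = (q * b * q⁻¹) * (q * a * q⁻¹) := by
      rw [← hba, conj_mul, ← hba, (h.commute_z hq).eq, mul_inv_cancel_right]
    have e1 : (q * b * q⁻¹)⁻¹ * b = q * a * q⁻¹ * a⁻¹ := by
      calc (q * b * q⁻¹)⁻¹ * b = (q * b * q⁻¹)⁻¹ * (b * a) * a⁻¹ := by group
        _ = q * a * q⁻¹ * a⁻¹ := by rw [e]; group
    have hm1 : q * a * q⁻¹ * a⁻¹ ∈ sSup O := Subgroup.mul_mem _ (hOq q hq a ha) (inv_mem ha)
    have hm2 : q * a * q⁻¹ * a⁻¹ ∈ sSup O' := e1 ▸ Subgroup.mul_mem _ (inv_mem (hO'q q hq b hb)) hb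
    have hm3 : q * a * q⁻¹ * a⁻¹ ∈ Subgroup.centralizer (M : Set G) := by
      have hsub : sSup O' ⊔ sSup O ≤ Subgroup.centralizer ({q * a * q⁻¹ * a⁻¹} : Set G) := sup_le
        (fun x hx => mem_centralizer_singleton_iff'.2
          (Subgroup.mem_centralizer_iff.1 (hcen hx) _ hm1).symm)
        (fun x hx => mem_centralizer_singleton_iff'.2
          (Subgroup.mem_centralizer_iff.1 (hcen hm2) x hx))
      exact Subgroup.mem_centralizer_iff.2 fun x hx => mem_centralizer_singleton_iff'.1 (hsub (hle hx))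
    rw [s.hcM, Subgroup.mem_bot, mul_inv_eq_one, mul_inv_eq_iff_eq_mul] at hm3
    exact hm3
  rw [h.hcent] at haQ
  rcases h.eq_or haQ with e | e
  · refine component_not_le_centralizer h hL fun x hx => mem_centralizer_singleton_iff'.2 ?_
    have hzO' : z ∈ sSup O' := by rw [hba, e, mul_one]; exact hb
    exact Subgroup.mem_centralizer_iff.1 (hcen hzO') x (le_sSup (α := Subgroup G) hLO hx)
  · refine component_not_le_centralizer h hK fun x hx => mem_centralizer_singleton_iff'.2 ?_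
    exact (Subgroup.mem_centralizer_iff.1 (hcen (le_sSup (α := Subgroup G) hKO hx)) z (e ▸ ha)).symm

/-- The case of two or more components. -/
theorem two_components {L : Subgroup G} (hL : IsComponent L) {u : G} (hu : u ∈ Q)
    (hne : L.map (MulAut.conj u).toMonoidHom ≠ L) :
    L ⊓ L.map (MulAut.conj u).toMonoidHom = ⊥ ∧
    (∀ x ∈ L, ∀ y ∈ L.map (MulAut.conj u).toMonoidHom, x * y = y * x) ∧
    L ⊔ L.map (MulAut.conj u).toMonoidHom = M ∧
    ∃ z₁ ∈ L, z = z₁ * (u * z₁ * u⁻¹) ∧
      (∃ R : Sylow 2 L, (R : Subgroup L) = (Subgroup.centralizer ({z₁} : Set G)).subgroupOf L ∧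
        (frattini ↥(R : Subgroup L)).map ((L.subtype).comp (R : Subgroup L).subtype) ≤
          Subgroup.zpowers z₁) ∧
      Q ≠ (pCore 2 ↥(Subgroup.centralizer ({z} : Set G))).map
        (Subgroup.centralizer ({z} : Set G)).subtype := by
  classical
  have h := s.data
  have : Fact (Nat.Prime 2) := ⟨Nat.prime_two⟩
  haveI hMn : M.Normal := s.hM ▸ Subgroup.normalClosure_normal
  set L2 := L.map (MulAut.conj u).toMonoidHom with hL2d
  have hL2 : IsComponent L2 := isComponent_conj hL u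
  have hcomm2 : ∀ {x}, x ∈ L2 → x ∈ Subgroup.centralizer (L : Set G) := fun hx =>
    s.commutes hL2 hL hne hx
  have hdis : L ⊓ L2 = ⊥ := (Subgroup.eq_bot_iff_forall _).2 fun x hx =>
    s.inf_centralizer_eq_bot hL hx.1 (hcomm2 hx.2)
  have hcommute : ∀ x ∈ L, ∀ y ∈ L2, x * y = y * x := fun x hx y hy =>
    Subgroup.mem_centralizer_iff.1 (hcomm2 hy) x hx
  obtain ⟨a, ha, b, hb, hab⟩ : ∃ a ∈ L, ∃ b ∈ Subgroup.centralizer (L : Set G), z = a * b := by
    have hle : M ≤ L ⊔ Subgroup.centralizer (L : Set G) := s.hlay ▸ layer_le_iff.2 fun J hJ => by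
      by_cases e : J = L
      · exact e ▸ le_sup_left
      · exact le_sup_of_le_right fun x hx => s.commutes hJ hL e hx
    exact (CfsgLib.Core.mem_sup_iff_mul'
      (Subgroup.centralizer_le_normalizer _)).1 (sup_comm L (Subgroup.centralizer (L : Set G)) ▸ hle s.z_mem)
  have ha2 : a * a = 1 := by
    refine s.part_eq hL (L.mul_mem ha ha) L.one_mem (Subgroup.mul_mem _ hb hb) (one_mem _) ?_
    calc a * a * (b * b) = a * (a * b) * b := by group
      _ = a * (b * a) * b := by rw [Subgroup.mem_centralizer_iff.1 hb a ha]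
      _ = (a * b) * (a * b) := by group
      _ = 1 * 1 := by rw [← hab, h.mul_self_z, one_mul]
  have hcz : ∀ c ∈ L, (Commute c z ↔ Commute c a) := by
    intro c hc
    have hcb : Commute c b := Subgroup.mem_centralizer_iff.1 hb c hc
    rw [hab]
    refine ⟨fun e => ?_, fun e => e.mul_right hcb⟩
    have := e.mul_right hcb.inv_right
    rwa [mul_inv_cancel_right] at this
  have ha1 : a ≠ 1 := fun e => component_not_le_centralizer h hL fun c hc =>
    mem_centralizer_singleton_iff'.2 ((hcz c hc).2 (e ▸ Commute.one_right c)).eq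
  have haz : Commute a z := (hcz a ha).2 (Commute.refl a)
  -- the element attached to `c`
  have hw : ∀ c ∈ L, Commute c z → c * (u * c⁻¹ * u⁻¹) ∈ Q := fun c _ hc => by
    rw [show c * (u * c⁻¹ * u⁻¹) = c * u * c⁻¹ * u⁻¹ by group]
    exact Q.mul_mem (h.conj_mem hc hu) (Q.inv_mem hu)
  have hconj2 : ∀ c ∈ L, u * c⁻¹ * u⁻¹ ∈ L2 := fun c hc => ⟨c⁻¹, L.inv_mem hc, rfl⟩
  have hQp := CfsgLib.PGroups.IsExtraspecial.isPGroup h.hE
  have htwo : ∀ c ∈ L, Commute c z → ∃ k : ℕ, c ^ 2 ^ k = 1 := by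
    intro c hc hcz'
    obtain ⟨k, hk⟩ := hQp ⟨_, hw c hc hcz'⟩
    refine ⟨k, ?_⟩
    have hk' : (c * (u * c⁻¹ * u⁻¹)) ^ 2 ^ k = 1 := congrArg Subtype.val hk
    rw [(show Commute c (u * c⁻¹ * u⁻¹) from hcommute c hc _ (hconj2 c hc)).mul_pow] at hk'
    exact s.part_eq hL (L.pow_mem hc _) L.one_mem
      (Subgroup.pow_mem _ (hcomm2 (hconj2 c hc)) _) (one_mem _) (by rw [hk', one_mul])
  have hsq : ∀ c ∈ L, Commute c z → c * c = 1 ∨ c * c = a := by
    intro c hc hcz'
    have h1 := h.sq_mem (hw c hc hcz')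
    have h2 : c * (u * c⁻¹ * u⁻¹) * (c * (u * c⁻¹ * u⁻¹)) =
        c * c * ((u * c⁻¹ * u⁻¹) * (u * c⁻¹ * u⁻¹)) := by
      have := hcommute c hc _ (hconj2 c hc)
      calc _ = c * ((u * c⁻¹ * u⁻¹) * c) * (u * c⁻¹ * u⁻¹) := by group
        _ = _ := by rw [← this]; group
    rw [h2] at h1
    rcases h.eq_or h1 with e | e
    · exact Or.inl (s.part_eq hL (L.mul_mem hc hc) L.one_mem
        (Subgroup.mul_mem _ (hcomm2 (hconj2 c hc)) (hcomm2 (hconj2 c hc))) (one_mem _)
        (by rw [e, one_mul]))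
    · exact Or.inr (s.part_eq hL (L.mul_mem hc hc) ha
        (Subgroup.mul_mem _ (hcomm2 (hconj2 c hc)) (hcomm2 (hconj2 c hc))) hb (e.trans hab))
  -- the centralizer of `a` in `L` is a Sylow 2-subgroup
  set C1 := (Subgroup.centralizer ({a} : Set G)).subgroupOf L with hC1
  have hC1mem : ∀ c : L, c ∈ C1 ↔ Commute (c : G) z := fun c => by
    rw [hcz c c.2]
    exact Subgroup.mem_subgroupOf.trans mem_centralizer_singleton_iff'
  have hC1p : IsPGroup 2 C1 := fun c => by
    obtain ⟨k, hk⟩ := htwo _ (c : L).2 ((hC1mem c).1 c.2)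
    exact ⟨k, Subtype.ext (Subtype.ext (by simpa using hk))⟩
  obtain ⟨P, hQP⟩ := hQp.exists_le_sylow
  have hPz : ∀ p ∈ (P : Subgroup G), Commute p z := by
    have : Nontrivial (P : Subgroup G) :=
      ⟨⟨⟨z, hQP h.z_mem⟩, 1, fun e => h.z_ne_one (congrArg Subtype.val e)⟩⟩
    have := P.2.center_nontrivial
    obtain ⟨⟨w, hw'⟩, hne'⟩ := exists_ne (α := Subgroup.center (P : Subgroup G)) 1
    have hwQ : (w : G) ∈ Subgroup.centralizer (Q : Set G) := Subgroup.mem_centralizer_iff.2
      fun q hq => congrArg Subtype.val (Subgroup.mem_center_iff.1 hw' ⟨q, hQP hq⟩)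
    rw [h.hcent] at hwQ
    rcases h.eq_or hwQ with e | e
    · exact absurd (Subtype.ext (Subtype.ext e)) hne'
    · exact fun p hp => e ▸ congrArg Subtype.val (Subgroup.mem_center_iff.1 hw' ⟨p, hp⟩)
  have hindex : Odd C1.index := by
    have h1 : Odd (((P : Subgroup G) ⊓ M).relIndex M) := by
      refine odd_relIndex_inf (K := ⊤) le_top le_top (fun p _ => ?_) ?_
      · rw [Subgroup.normalizer_eq_top_iff.2 hMn]; trivial
      · rw [Subgroup.relIndex_top_right, ← Nat.not_even_iff_odd, even_iff_two_dvd]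
        exact P.not_dvd_index
    have h2 := odd_relIndex_inf inf_le_right (s.le_M hL)
      (inf_le_right.trans (s.M_le_normalizer hL)) h1
    refine h2.of_dvd_nat ?_
    refine Subgroup.index_dvd_of_le (H := (((P : Subgroup G) ⊓ M) ⊓ L).subgroupOf L) fun c hc => ?_
    exact (hC1mem c).2 (hPz _ hc.1.1)
  set R : Sylow 2 L := hC1p.toSylow (by
    rw [← even_iff_two_dvd, Nat.not_even_iff_odd]; exact hindex) with hRd
  have hR : (R : Subgroup L) = C1 := rfl
  have hbig : ∃ c ∈ L, Commute c z ∧ c ≠ 1 ∧ c ≠ a := by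
    by_contra hcon
    simp only [not_exists, not_and, not_not] at hcon
    obtain ⟨hs, hna⟩ := s.hsimp L hL
    have h4 : 4 ∣ Nat.card L := by
      have := (CfsgLib.TwoGroups.SmallOrders.four_dvd_moved hna (α := L) (z := ⟨a, ha⟩)
        (Subtype.ext ha2)).1
      have hf : Nat.card {v : L // (⟨a, ha⟩ : L) • v = v} = 0 := by
        rw [Nat.card_eq_zero]
        exact Or.inl ⟨fun v => ha1 (congrArg Subtype.val (mul_eq_right.1 v.2))⟩
      rwa [hf, Nat.sub_zero] at this
    have hsub : C1 ≤ Subgroup.zpowers (⟨a, ha⟩ : L) := fun c hc => by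
      by_cases e : (c : G) = 1
      · rw [Subtype.ext e (a2 := (1 : L))]; exact one_mem _
      · rw [Subtype.ext (hcon c c.2 ((hC1mem c).1 hc) e) (a2 := ⟨a, ha⟩)]
        exact Subgroup.mem_zpowers _
    have h5 : Nat.card C1 ∣ 2 := by
      refine (Subgroup.card_dvd_of_le hsub).trans ?_
      rw [Nat.card_zpowers]
      exact orderOf_dvd_of_pow_eq_one (by rw [pow_two]; exact Subtype.ext ha2)
    rw [← Subgroup.card_mul_index C1] at h4
    have h6 : 4 ∣ 2 * C1.index := h4.trans (mul_dvd_mul_right h5 _)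
    obtain ⟨k, hk⟩ := hindex
    omega
  -- the components
  have hfix : ∀ x ∈ Subgroup.zpowers z, x ∈ Subgroup.normalizer (L : Set G) := fun x hx =>
    s.M_le_normalizer hL (Subgroup.zpowers_le.2 s.z_mem hx)
  have hcomps : ∀ J : Subgroup G, IsComponent J → J = L ∨ J = L2 := by
    intro J hJ
    obtain ⟨v, hv, rfl⟩ := s.transitive hL hJ
    by_contra hcon
    rw [not_or] at hcon
    obtain ⟨hv1, hv2⟩ := hcon
    obtain ⟨c, hc, hccz, hc1, hca⟩ := hbig
    have hvu : L.map (MulAut.conj (v * u)).toMonoidHom ≠ L := by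
      intro e
      apply hv2
      ext x
      rw [mem_cj, mem_cj]
      have h1 : v * u ∈ Subgroup.normalizer (L : Set G) := by
        rw [Subgroup.mem_normalizer_iff]
        intro y
        conv_rhs => rw [← e, mem_cj]
        simp [mul_assoc]
      have h2 : u⁻¹ * v ∈ Subgroup.normalizer (L : Set G) := by
        have h3 : u⁻¹ * v = (u⁻¹ * v * v * u) * (u⁻¹ * v⁻¹) := by group
        rw [h3]
        refine Subgroup.mul_mem _ (hfix _ ?_) (by rw [← mul_inv_rev]; exact inv_mem h1)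
        rcases h.eq_or (h.sq_mem hv) with e2 | e2
        · rw [show u⁻¹ * v * v * u = u⁻¹ * (v * v) * u by group, e2, mul_one, inv_mul_cancel]
          exact one_mem _
        · rw [show u⁻¹ * v * v * u = u⁻¹ * (v * v) * u by group, e2, mul_assoc, ← (h.commute_z hu).eq,
            inv_mul_cancel_left]
          exact Subgroup.mem_zpowers z
      rw [Subgroup.mem_normalizer_iff.1 h2 (v⁻¹ * x * v)]
      simp [mul_assoc]
    set w := c * (u * c⁻¹ * u⁻¹) with hwd
    have hwL : v * w * v⁻¹ ∈ Subgroup.centralizer (L : Set G) := by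
      rw [hwd, ← conj_mul]
      refine Subgroup.mul_mem _ (s.commutes hJ hL hv1 ⟨c, hc, rfl⟩)
        (s.commutes (isComponent_conj hL (v * u)) hL hvu ⟨c⁻¹, L.inv_mem hc, ?_⟩)
      show v * u * c⁻¹ * (v * u)⁻¹ = v * (u * c⁻¹ * u⁻¹) * v⁻¹
      group
    rcases h.conj_eq_or hv (hw c hc hccz) with e | e
    · apply hc1
      exact (s.part_eq hL L.one_mem hc hwL (hcomm2 (hconj2 c hc)) (by rw [one_mul, e])).symm
    · apply hca
      have h1 := s.part_eq hL L.one_mem (L.mul_mem ha hc) hwL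
        (Subgroup.mul_mem _ hb (hcomm2 (hconj2 c hc))) (by
          rw [one_mul, e]
          show z * (c * (u * c⁻¹ * u⁻¹)) = a * c * (b * (u * c⁻¹ * u⁻¹))
          rw [hab]
          calc a * b * (c * (u * c⁻¹ * u⁻¹)) = a * (b * c) * (u * c⁻¹ * u⁻¹) := by group
            _ = a * (c * b) * (u * c⁻¹ * u⁻¹) := by rw [Subgroup.mem_centralizer_iff.1 hb c hc]
            _ = _ := by group)
      exact (eq_inv_of_mul_eq_one_right h1.symm).trans (inv_eq_of_mul_eq_one_left ha2)
  have hsup : L ⊔ L2 = M := by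
    refine le_antisymm (sup_le (s.le_M hL) (s.le_M hL2)) (s.hlay ▸ layer_le_iff.2 fun J hJ => ?_)
    rcases hcomps J hJ with rfl | rfl
    · exact le_sup_left
    · exact le_sup_right
  have hdec : ∀ x ∈ M, ∃ l ∈ L, ∃ l2 ∈ L2, x = l * l2 := fun x hx => by
    rw [← hsup, sup_comm] at hx
    exact (CfsgLib.Core.mem_sup_iff_mul'
      (fun y hy => Subgroup.centralizer_le_normalizer _ (hcomm2 hy))).1 hx
  have hback : ∀ y ∈ L2, u * y * u⁻¹ ∈ L := by
    rintro _ ⟨l, hl, rfl⟩
    show u * (u * l * u⁻¹) * u⁻¹ ∈ L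
    rw [show u * (u * l * u⁻¹) * u⁻¹ = (u * u) * l * (u * u)⁻¹ by group]
    exact (Subgroup.mem_normalizer_iff.1 (hfix _ (h.sq_mem hu)) l).1 hl
  have hzdec : z = a * (u * a * u⁻¹) := by
    obtain ⟨l, hl, l2, hl2, e⟩ := hdec z s.z_mem
    have hla : a = l := s.part_eq hL ha hl hb (hcomm2 hl2) (hab.symm.trans e)
    subst hla
    have h1 : u * z * u⁻¹ = z := by rw [(h.commute_z hu).eq, mul_inv_cancel_right]
    have h2 : a = u * l2 * u⁻¹ := by
      refine s.part_eq hL hl (hback l2 hl2) (hcomm2 hl2)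
        (hcomm2 (⟨a, hl, rfl⟩ : u * a * u⁻¹ ∈ L2)) ?_
      rw [← e, hcommute _ (hback l2 hl2) _ (⟨a, hl, rfl⟩ : u * a * u⁻¹ ∈ L2), conj_mul, ← e, h1]
    rw [← h1, e, ← conj_mul, ← h2]
    exact (hcommute a hl _ ⟨a, hl, rfl⟩).symm
  refine ⟨hdis, hcommute, hsup, a, ha, hzdec, ⟨R, hR, ?_⟩, ?_⟩
  · rw [Subgroup.map_le_iff_le_comap]
    set f := (L.subtype).comp (R : Subgroup L).subtype with hf
    have hval : ∀ x : (R : Subgroup L), Commute (f x) z ∧ f x ∈ L := fun x =>
      ⟨(hC1mem x.1).1 (hR ▸ x.2), x.1.2⟩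
    have hsqm : ∀ x : (R : Subgroup L), x * x ∈ (Subgroup.zpowers a).comap f := fun x => by
      rw [Subgroup.mem_comap]
      rw [map_mul]
      rcases hsq _ (hval x).2 (hval x).1 with e | e <;> rw [e]
      exacts [one_mem _, Subgroup.mem_zpowers a]
    haveI : ((Subgroup.zpowers a).comap f).Normal := ⟨fun x hx y => by
      rw [Subgroup.mem_comap]
      rw [map_mul, map_mul, map_inv]
      obtain ⟨j, hj⟩ := Subgroup.mem_zpowers_iff.1 hx
      rw [show f x = a ^ j from hj.symm,
        (((hcz _ (hval y).2).1 (hval y).1).zpow_right j).eq, mul_inv_cancel_right]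
      exact ⟨j, rfl⟩⟩
    refine CfsgLib.PGroups.frattini_le_of_elementary (p := 2) ?_ fun x => ?_
    · rw [commutator_def, Subgroup.commutator_le]
      intro x _ y _
      rw [show ⁅x, y⁆ = x * x * (x⁻¹ * y * (x⁻¹ * y)) * (y * y)⁻¹ by
        rw [commutatorElement_def]; group]
      exact Subgroup.mul_mem _ (Subgroup.mul_mem _ (hsqm x) (hsqm _)) (inv_mem (hsqm y))
    · rw [pow_two]; exact hsqm x
  · intro hQeq
    set C := Subgroup.centralizer ({z} : Set G) with hC
    have hp : IsPGroup 2 (M.subgroupOf C) := by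
      rintro ⟨⟨x, hxC⟩, hxM⟩
      obtain ⟨l, hl, l2, hl2, rfl⟩ := hdec x hxM
      have hxz : Commute (l * l2) z := mem_centralizer_singleton_iff'.1 hxC
      have hlz : Commute l z := by
        refine mul_inv_eq_iff_eq_mul.1 ?_ |> Commute.symm
        have h1 : (z * l * z⁻¹) * (z * l2 * z⁻¹) = l * l2 := by
          rw [conj_mul, ← hxz.eq, mul_inv_cancel_right]
        exact s.part_eq hL ((Subgroup.mem_normalizer_iff.1 (hfix z (Subgroup.mem_zpowers z)) l).1 hl)
          hl (hcomm2 ((Subgroup.mem_normalizer_iff.1 (s.M_le_normalizer hL2 s.z_mem) l2).1 hl2))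
          (hcomm2 hl2) h1
      have hl2z : Commute l2 z := by
        have := hlz.inv_left.mul_left hxz
        rwa [inv_mul_cancel_left] at this
      have hul : Commute (u * l2 * u⁻¹) z :=
        ((h.commute_z hu).mul_left hl2z).mul_left (h.commute_z hu).inv_left
      obtain ⟨i, hi⟩ := htwo l hl hlz
      obtain ⟨j, hj⟩ := htwo _ (hback l2 hl2) hul
      have hj' : l2 ^ 2 ^ j = 1 := by rwa [conj_pow, conj_eq_one_iff] at hj
      refine ⟨i + j, Subtype.ext (Subtype.ext ?_)⟩
      show (l * l2) ^ 2 ^ (i + j) = 1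
      rw [(show Commute l l2 from hcommute l hl l2 hl2).mul_pow, pow_add, pow_mul, hi, one_pow,
        one_mul, mul_comm, pow_mul, hj', one_pow]
    have hle := CfsgLib.Core.le_pCore hp
    obtain ⟨c, hc, hccz, hc1, hca⟩ := hbig
    have hcQ : c ∈ Q := hQeq ▸ ⟨⟨c, mem_centralizer_singleton_iff'.2 hccz.eq⟩, hle (s.le_M hL hc), rfl⟩
    have h1 : c * (u * c⁻¹ * u⁻¹) ∈ Subgroup.zpowers z := by
      rw [show c * (u * c⁻¹ * u⁻¹) = c * u * c⁻¹ * u⁻¹ by group]
      exact h.comm_mem hcQ hu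
    rcases h.eq_or h1 with e | e
    · exact hc1 (s.part_eq hL hc L.one_mem (hcomm2 (hconj2 c hc)) (one_mem _) (by rw [e, one_mul]))
    · exact hca (s.part_eq hL hc ha (hcomm2 (hconj2 c hc)) hb (e.trans hab))

end Semi

end CfsgLib.ThreeTrans.LargeStructure
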