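import Cfsg.Agent.Lib.ThreeTrans.LargeSingular
import Cfsg.Agent.Lib.Core.CoreControl

/-!
The centralizer of a transvection over the field with two elements as the centralizer of a large
extraspecial subgroup (owner: helper28).
-/

set_option autoImplicit false
set_option linter.unusedSimpArgs false
set_option linter.unusedSectionVars false

namespace CfsgLib.ThreeTrans.LargeTransvection

open Cfsg Matrix

variable {n : ℕ}

local notation "K2" => ZMod 2

theorem two_cases (x : K2) : x = 0 ∨ x = 1 := by revert x; decide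

theorem add_self' (x : K2) : x + x = 0 := CharTwo.add_self_eq_zero x

theorem add_self_vec {m : Type*} (v : m → K2) : v + v = 0 := funext fun i => add_self' (v i)

/-- The matrices commuting with the transvection, in block form. -/
def dm (a : K2) (r c : (Fin n → K2)) (A : Matrix (Fin n) (Fin n) K2) : (Matrix (Fin 2 ⊕ Fin n) (Fin 2 ⊕ Fin n) K2) :=
  fromBlocks !![1, a; 0, 1] (of ![r, 0]) (of fun i => ![0, c i]) A

theorem dm_mul (a a' : K2) (r c r' c' : (Fin n → K2)) (A A' : Matrix (Fin n) (Fin n) K2) :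
    dm a r c A * dm a' r' c' A' = dm (a + a' + r ⬝ᵥ c') (r' + r ᵥ* A') (c + A *ᵥ c') (A * A') := by
  ext i j
  rcases i with i | i <;> rcases j with j | j
  · fin_cases i <;> fin_cases j <;>
      simp [dm, fromBlocks, mul_apply, Fintype.sum_sum_type, Fin.sum_univ_two, dotProduct,
        Finset.sum_const_zero, add_comm, add_left_comm]
  · fin_cases i <;>
      simp [dm, fromBlocks, mul_apply, Fintype.sum_sum_type, Fin.sum_univ_two, vecMul, dotProduct,
        Finset.sum_const_zero]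
  · fin_cases j <;>
      simp [dm, fromBlocks, mul_apply, Fintype.sum_sum_type, Fin.sum_univ_two, mulVec, dotProduct,
        Finset.sum_const_zero]
  · simp [dm, fromBlocks, mul_apply, Fintype.sum_sum_type, Fin.sum_univ_two]

theorem dm_one : dm (0 : K2) (0 : (Fin n → K2)) 0 1 = 1 := by
  ext i j
  rcases i with i | i <;> rcases j with j | j
  · fin_cases i <;> fin_cases j <;> simp [dm]
  · fin_cases i <;> simp [dm]
  · fin_cases j <;> simp [dm]
  · simp [dm, one_apply]

theorem dm_inj {a a' : K2} {r c r' c' : (Fin n → K2)} {A A' : Matrix (Fin n) (Fin n) K2}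
    (h : dm a r c A = dm a' r' c' A') : a = a' ∧ r = r' ∧ c = c' ∧ A = A' := by
  refine ⟨?_, funext fun i => ?_, funext fun i => ?_, ?_⟩
  · simpa [dm] using congrFun (congrFun h (Sum.inl 0)) (Sum.inl 1)
  · simpa [dm] using congrFun (congrFun h (Sum.inl 0)) (Sum.inr i)
  · simpa [dm] using congrFun (congrFun h (Sum.inr i)) (Sum.inl 1)
  · ext i j
    simpa [dm] using congrFun (congrFun h (Sum.inr i)) (Sum.inr j)

theorem dm_T_comm (a : K2) (r c : (Fin n → K2)) (A : Matrix (Fin n) (Fin n) K2) :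
    dm a r c A * dm 1 0 0 1 = dm 1 0 0 1 * dm a r c A := by
  rw [dm_mul, dm_mul]
  simp [add_comm]

theorem dm_inv (a : K2) (r c : (Fin n → K2)) {A A' : Matrix (Fin n) (Fin n) K2} (hA : A * A' = 1) :
    dm a r c A * dm (a + (r ᵥ* A') ⬝ᵥ c) (r ᵥ* A') (A' *ᵥ c) A' = 1 := by
  rw [dm_mul, mulVec_mulVec, hA, one_mulVec, add_self_vec, add_self_vec, ← dm_one, dotProduct_mulVec]
  rw [← add_assoc a a, add_self', zero_add, add_self']

theorem dm_T_eq : dm (1 : K2) (0 : Fin n → K2) 0 1 = 1 + single (Sum.inl 0) (Sum.inl 1) 1 := by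
  ext i j
  rcases i with i | i <;> rcases j with j | j
  · fin_cases i <;> fin_cases j <;> simp [dm, one_apply, single_apply]
  · fin_cases i <;> simp [dm, one_apply, single_apply]
  · fin_cases j <;> simp [dm, one_apply, single_apply]
  · simp [dm, one_apply, single_apply]

theorem dm_b_eq (i0 : Fin n) :
    dm (0 : K2) 0 (Pi.single i0 1) 1 = 1 + single (Sum.inr i0) (Sum.inl 1) 1 := by
  ext i j
  rcases i with i | i <;> rcases j with j | j
  · fin_cases i <;> fin_cases j <;> simp [dm, one_apply, single_apply]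
  · fin_cases i <;> simp [dm, one_apply, single_apply]
  · fin_cases j <;> simp [dm, one_apply, single_apply, Pi.single_apply, eq_comm]
  · simp [dm, one_apply, single_apply]

/-- An invertible matrix commuting with the transvection has block form. -/
theorem exists_form {g g' : (Matrix (Fin 2 ⊕ Fin n) (Fin 2 ⊕ Fin n) K2)} (hg : g' * g = 1) (hc : g * dm 1 0 0 1 = dm 1 0 0 1 * g) :
    ∃ a r c A, g = dm a r c A := by
  have e1 : ∀ i : Fin n, g (Sum.inr i) (Sum.inl 0) = 0 := fun i => by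
    simpa [dm, mul_apply, Fintype.sum_sum_type, Fin.sum_univ_two, one_apply] using
      congrFun (congrFun hc (Sum.inr i)) (Sum.inl 1)
  have e2 : g (Sum.inl 1) (Sum.inl 0) = 0 := by
    simpa [dm, mul_apply, Fintype.sum_sum_type, Fin.sum_univ_two, one_apply] using
      congrFun (congrFun hc (Sum.inl 1)) (Sum.inl 1)
  have e3 : ∀ i : Fin n, g (Sum.inl 1) (Sum.inr i) = 0 := fun i => by
    simpa [dm, mul_apply, Fintype.sum_sum_type, Fin.sum_univ_two, one_apply] using
      (congrFun (congrFun hc (Sum.inl 0)) (Sum.inr i)).symm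
  have e4 : g (Sum.inl 0) (Sum.inl 0) = g (Sum.inl 1) (Sum.inl 1) := by
    have := congrFun (congrFun hc (Sum.inl 0)) (Sum.inl 1)
    simp [dm, mul_apply, Fintype.sum_sum_type, Fin.sum_univ_two, one_apply] at this
    exact add_left_cancel ((add_comm _ _).trans this)
  have e5 : g (Sum.inl 0) (Sum.inl 0) = 1 := by
    rcases two_cases (g (Sum.inl 0) (Sum.inl 0)) with h | h
    · have := congrFun (congrFun hg (Sum.inl 0)) (Sum.inl 0)
      simp [mul_apply, Fintype.sum_sum_type, Fin.sum_univ_two, one_apply, h, e1, e2] at this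
    · exact h
  refine ⟨g (Sum.inl 0) (Sum.inl 1), fun i => g (Sum.inl 0) (Sum.inr i),
    fun i => g (Sum.inr i) (Sum.inl 1), of fun i j => g (Sum.inr i) (Sum.inr j), ?_⟩
  ext i j
  rcases i with i | i <;> rcases j with j | j
  · fin_cases i <;> fin_cases j
    · simpa [dm] using e5
    · simp [dm]
    · simpa [dm] using e2
    · simpa [dm] using e4.symm.trans e5
  · fin_cases i
    · simp [dm]
    · simpa [dm] using e3 j
  · fin_cases j
    · simpa [dm] using e1 i
    · simp [dm]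
  · simp [dm]

/-- Nonzero vectors are moved to one another by an involution. -/
theorem exists_move_vec {m : Type*} [Fintype m] [DecidableEq m] {u w : m → K2} (hu : u ≠ 0) (hw : w ≠ 0) :
    ∃ t : Matrix m m K2, t * t = 1 ∧ t *ᵥ u = w := by
  have key : ∃ φ : m → K2, φ ⬝ᵥ u = 1 ∧ φ ⬝ᵥ w = 1 := by
    obtain ⟨i, hi⟩ := Function.ne_iff.1 hu
    obtain ⟨j, hj⟩ := Function.ne_iff.1 hw
    have hi' : u i = 1 := (two_cases _).resolve_left hi
    have hj' : w j = 1 := (two_cases _).resolve_left hj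
    rcases two_cases (w i) with h | h
    · rcases two_cases (u j) with h' | h'
      · exact ⟨Pi.single i 1 + Pi.single j 1, by simp [add_dotProduct, hi', h'],
          by simp [add_dotProduct, hj', h]⟩
      · exact ⟨Pi.single j 1, by simp [h'], by simp [hj']⟩
    · exact ⟨Pi.single i 1, by simp [hi'], by simp [h]⟩
  obtain ⟨φ, h1, h2⟩ := key
  refine ⟨1 + vecMulVec (u + w) φ, ?_, ?_⟩
  · have h0 : φ ⬝ᵥ (u + w) = 0 := by rw [dotProduct_add, h1, h2]; decide
    have hz : vecMulVec (u + w) φ * vecMulVec (u + w) φ = 0 := by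
      rw [vecMulVec_mul_vecMulVec, h0, zero_smul]
      ext i j
      simp [vecMulVec_apply]
    simp only [mul_add, add_mul, mul_one, one_mul, hz, add_zero, add_assoc]
    ext i j
    simp only [Matrix.add_apply, add_self', add_zero]
  · rw [add_mulVec, one_mulVec, vecMulVec_mulVec, h1]
    ext i
    simp only [Pi.add_apply, Pi.smul_apply, MulOpposite.smul_eq_mul_unop, MulOpposite.unop_op, mul_one]
    rw [← add_assoc, add_self', zero_add]

theorem pCore_units_eq_bot (hn : 1 ≤ n) : pCore 2 (Matrix (Fin n) (Fin n) K2)ˣ = ⊥ := by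
  haveI : Fact (Nat.Prime 2) := ⟨Nat.prime_two⟩
  set P := pCore 2 (Matrix (Fin n) (Fin n) K2)ˣ
  have hP : IsPGroup 2 P := CfsgLib.Core.isPGroup_pCore 2 _
  haveI : P.Normal := CfsgLib.Core.normal_pCore 2 _
  letI : MulAction P (Fin n → K2) :=
    { smul := fun x v => (x.1 : Matrix (Fin n) (Fin n) K2) *ᵥ v
      one_smul := fun v => one_mulVec v
      mul_smul := fun x y v => (mulVec_mulVec v _ _).symm }
  have hdvd : 2 ∣ Nat.card (Fin n → K2) := by
    rw [Nat.card_fun, Nat.card_zmod, Nat.card_fin]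
    exact dvd_pow_self 2 (by omega)
  obtain ⟨w, hw, hw0⟩ := hP.exists_fixed_point_of_prime_dvd_card_of_fixed_point (Fin n → K2) hdvd
    (a := 0) (fun x => mulVec_zero _)
  rw [eq_bot_iff]
  intro x hx
  have hfix : ∀ v : (Fin n → K2), (x : Matrix (Fin n) (Fin n) K2) *ᵥ v = v := by
    intro v
    by_cases hv : v = 0
    · rw [hv, mulVec_zero]
    obtain ⟨t, ht, htv⟩ := exists_move_vec (Ne.symm hw0) hv
    let u : (Matrix (Fin n) (Fin n) K2)ˣ := ⟨t, t, ht, ht⟩
    have hmem := (inferInstance : P.Normal).conj_mem x hx u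
    have h1 : (t * (x : Matrix (Fin n) (Fin n) K2) * t) *ᵥ w = w := hw ⟨_, hmem⟩
    calc (x : Matrix (Fin n) (Fin n) K2) *ᵥ v
        = (x : Matrix (Fin n) (Fin n) K2) *ᵥ (t *ᵥ w) := by rw [htv]
      _ = t *ᵥ ((t * (x : Matrix (Fin n) (Fin n) K2) * t) *ᵥ w) := by
            simp only [mulVec_mulVec, ← mul_assoc, ht, one_mul]
      _ = v := by rw [h1, htv]
  refine Subgroup.mem_bot.2 (Units.ext ?_)
  show (x : Matrix (Fin n) (Fin n) K2) = 1
  ext i j
  have := congrFun (hfix (Pi.single j 1)) i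
  simpa [one_apply, Pi.single_apply, eq_comm] using this

section Large

variable {G : Type*} [Group G] [Finite G] {z : G} {Q : Subgroup G}

/-- A conjugate of the centre inside `Q`, moved by an involution, gives largeness. -/
theorem large_of_swap (h : LargeData z Q)
    (hcore : Q = (pCore 2 (Subgroup.centralizer ({z} : Set G))).map (Subgroup.centralizer ({z} : Set G)).subtype)
    {s : G} (hss : s * s = 1) (hbQ : s * z * s⁻¹ ∈ Q) (hne : s * z * s⁻¹ ≠ z) : IsLargeExtraspecial Q := by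
  refine ⟨h.hE, by rw [h.hcent, h.hcenter], ?_, fun K hK hQK => ?_⟩
  · rw [h.hcenter]
    exact le_trans (Subgroup.centralizer_le (Set.singleton_subset_iff.2 (Subgroup.mem_zpowers z))) h.hnorm
  generalize hbs : s * z * s⁻¹ = b at hbQ hne
  have hsinv : s⁻¹ = s := inv_eq_of_mul_eq_one_left hss
  have hsb : s * b * s = z := by
    rw [← hbs, hsinv]
    calc s * (s * z * s) * s = (s * s) * z * (s * s) := by group
      _ = z := by rw [hss, one_mul, mul_one]
  have hbb : b * b = 1 := by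
    rw [← hbs]
    calc s * z * s⁻¹ * (s * z * s⁻¹) = s * (z * z) * s⁻¹ := by group
      _ = 1 := by rw [h.mul_self_z, mul_one, mul_inv_cancel]
  refine h.odd_eq_bot hbQ ?_ hbb ?_ hK hQK
  · intro hmem
    rcases h.eq_or hmem with e | e
    · apply h.z_ne_one
      rw [← hsb, e, mul_one, hss]
    · exact hne e
  intro k hk
  have hk' : s * k * s⁻¹ ∈ Subgroup.centralizer ({z} : Set G) := by
    rw [mem_centralizer_singleton_iff', ← hsb]
    rw [hsinv]
    calc s * k * s * (s * b * s) = s * k * (s * s) * b * s := by group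
      _ = s * (k * b) * s := by rw [hss]; group
      _ = s * (b * k) * s := by rw [hk.eq]
      _ = s * b * (s * s) * k * s := by rw [hss]; group
      _ = s * b * s * (s * k * s) := by group
  have hmem : (s * k * s⁻¹) * b * (s * k * s⁻¹)⁻¹ * b⁻¹ ∈ Q :=
    mul_mem ((Subgroup.mem_normalizer_iff.1 (h.hnorm hk') b).1 hbQ) (inv_mem hbQ)
  rw [hcore] at hmem
  let e : Subgroup.centralizer ({z} : Set G) ≃* Subgroup.centralizer ({b} : Set G) :=
    { toFun := fun x => ⟨s * x * s⁻¹, by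
        rw [mem_centralizer_singleton_iff', ← hbs]
        calc s * x * s⁻¹ * (s * z * s⁻¹) = s * (x.1 * z) * s⁻¹ := by group
          _ = s * (z * x.1) * s⁻¹ := by rw [(mem_centralizer_singleton_iff'.1 x.2)]
          _ = _ := by group⟩
      invFun := fun x => ⟨s⁻¹ * x * s, by
        rw [mem_centralizer_singleton_iff']
        have hx : x.1 * b = b * x.1 := mem_centralizer_singleton_iff'.1 x.2
        calc s⁻¹ * x * s * z = s⁻¹ * (x.1 * (s * z * s⁻¹)) * s := by group
          _ = s⁻¹ * (b * x.1) * s := by rw [hbs, hx]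
          _ = s⁻¹ * (s * z * s⁻¹ * x.1) * s := by rw [hbs]
          _ = _ := by group⟩
      left_inv := fun x => Subtype.ext (by show s⁻¹ * (s * x.1 * s⁻¹) * s = x.1; group)
      right_inv := fun x => Subtype.ext (by show s * (s⁻¹ * x.1 * s) * s⁻¹ = x.1; group)
      map_mul' := fun x y => Subtype.ext (by
        show s * (x.1 * y.1) * s⁻¹ = s * x.1 * s⁻¹ * (s * y.1 * s⁻¹)
        group) }
  obtain ⟨w, hw, hwe⟩ := hmem
  refine ⟨e w, (CfsgLib.Core.map_equiv_pCore (p := 2) e).le (Subgroup.mem_map_of_mem _ hw), ?_⟩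
  show s * w.1 * s⁻¹ = _
  rw [show w.1 = _ from hwe]
  have hsb' : s * b⁻¹ * s = z⁻¹ := by simp [← hsb, hsinv, mul_assoc]
  calc s * ((s * k * s⁻¹) * b * (s * k * s⁻¹)⁻¹ * b⁻¹) * s⁻¹
      = (s * s) * k * (s⁻¹ * b * s) * k⁻¹ * (s⁻¹ * b⁻¹ * s⁻¹) := by group
    _ = k * z * k⁻¹ * z⁻¹ := by rw [hss, one_mul, hsinv, hsb, hsb']

end Large

section Main

variable {G : Type*} [Group G] [Finite G]

/-- The setting: a faithful matrix representation whose image contains the full centralizer of the transvection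
and a transposition moving its centre. -/
structure Setting (ρ : G →* (Matrix (Fin 2 ⊕ Fin n) (Fin 2 ⊕ Fin n) K2)) (z : G) (i0 : Fin n) : Prop where
  inj : Function.Injective ρ
  hz : ρ z = dm 1 0 0 1
  full : ∀ a r c A A', A * A' = 1 → ∃ x, ρ x = dm a r c A
  swap : ∃ s, ρ s = (Equiv.swap (Sum.inl 0) (Sum.inr i0) : Equiv.Perm (Fin 2 ⊕ Fin n)).permMatrix K2

variable {ρ : G →* (Matrix (Fin 2 ⊕ Fin n) (Fin 2 ⊕ Fin n) K2)} {z : G} {i0 : Fin n} (h : Setting ρ z i0)
include h

theorem form {x : G} (hx : x ∈ Subgroup.centralizer ({z} : Set G)) :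
    ∃ a r c A A', A * A' = 1 ∧ A' * A = 1 ∧ ρ x = dm a r c A := by
  have hc := (mem_centralizer_singleton_iff'.1 hx)
  obtain ⟨a, r, c, A, e⟩ := exists_form (g := ρ x) (g' := ρ x⁻¹) (by rw [← map_mul, inv_mul_cancel, map_one])
    (by rw [← h.hz, ← map_mul, ← map_mul, hc])
  obtain ⟨a', r', c', A', e'⟩ := exists_form (g := ρ x⁻¹) (g' := ρ x) (by rw [← map_mul, mul_inv_cancel, map_one])
    (by rw [← h.hz, ← map_mul, ← map_mul, (Commute.inv_left hc).eq])
  have h1 : ρ x * ρ x⁻¹ = 1 := by rw [← map_mul, mul_inv_cancel, map_one]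
  have h2 : ρ x⁻¹ * ρ x = 1 := by rw [← map_mul, inv_mul_cancel, map_one]
  rw [e, e', dm_mul, ← dm_one] at h1
  rw [e, e', dm_mul, ← dm_one] at h2
  exact ⟨a, r, c, A, A', (dm_inj h1).2.2.2, (dm_inj h2).2.2.2, e⟩

theorem mem_centralizer_of {x : G} {a r c A} (e : ρ x = dm a r c A) : x ∈ Subgroup.centralizer ({z} : Set G) :=
  mem_centralizer_singleton_iff'.2 (h.inj (by rw [map_mul, map_mul, e, h.hz, dm_T_comm]))

/-- The linear part on the centralizer. -/
noncomputable def linPart : Subgroup.centralizer ({z} : Set G) →* (Matrix (Fin n) (Fin n) K2)ˣ :=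
  MonoidHom.toHomUnits
    { toFun := fun x => (ρ x.1).toBlocks₂₂
      map_one' := by
        show (ρ 1).toBlocks₂₂ = 1
        rw [map_one, ← dm_one]
        exact toBlocks_fromBlocks₂₂ _ _ _ _
      map_mul' := fun x y => by
        show (ρ (x.1 * y.1)).toBlocks₂₂ = (ρ x.1).toBlocks₂₂ * (ρ y.1).toBlocks₂₂
        obtain ⟨a, r, c, A, _, _, _, e⟩ := form h x.2
        obtain ⟨a', r', c', A', _, _, _, e'⟩ := form h y.2
        rw [map_mul, e, e', dm_mul]
        rfl }

theorem linPart_eq {x : Subgroup.centralizer ({z} : Set G)} {a r c A} (e : ρ x.1 = dm a r c A) :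
    (linPart h x : Matrix (Fin n) (Fin n) K2) = A := by
  show (ρ x.1).toBlocks₂₂ = A
  rw [e]
  rfl

theorem linPart_surjective : Function.Surjective (linPart h) := by
  intro u
  obtain ⟨x, hx⟩ := h.full 0 0 0 (u : Matrix (Fin n) (Fin n) K2) (↑u⁻¹) u.mul_inv
  exact ⟨⟨x, mem_centralizer_of h hx⟩, Units.ext (linPart_eq h (x := ⟨x, _⟩) hx)⟩

theorem mem_ker_iff {x : Subgroup.centralizer ({z} : Set G)} :
    x ∈ (linPart h).ker ↔ ∃ a r c, ρ x.1 = dm a r c 1 := by
  rw [MonoidHom.mem_ker]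
  constructor
  · intro e
    obtain ⟨a, r, c, A, _, _, _, eA⟩ := form h x.2
    have hA : A = 1 := (linPart_eq h eA).symm.trans (by rw [e]; rfl)
    exact ⟨a, r, c, hA ▸ eA⟩
  · rintro ⟨a, r, c, e⟩
    exact Units.ext (linPart_eq h e)

/-- The extraspecial subgroup. -/
noncomputable def Q : Subgroup G := (linPart h).ker.map (Subgroup.centralizer ({z} : Set G)).subtype

theorem mem_Q {x : G} : x ∈ Q h ↔ ∃ a r c, ρ x = dm a r c 1 := by
  constructor
  · rintro ⟨y, hy, rfl⟩
    exact (mem_ker_iff h).1 hy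
  · rintro ⟨a, r, c, e⟩
    exact ⟨⟨x, mem_centralizer_of h e⟩, (mem_ker_iff h).2 ⟨a, r, c, e⟩, rfl⟩

theorem exists_mem_Q (a : K2) (r c : (Fin n → K2)) : ∃ x ∈ Q h, ρ x = dm a r c 1 := by
  obtain ⟨x, hx⟩ := h.full a r c 1 1 (one_mul 1)
  exact ⟨x, (mem_Q h).2 ⟨a, r, c, hx⟩, hx⟩

theorem dm_sq (a : K2) (r c : (Fin n → K2)) : dm a r c 1 * dm a r c 1 = dm (r ⬝ᵥ c) (0 : (Fin n → K2)) 0 1 := by
  rw [dm_mul, vecMul_one, one_mulVec, add_self', zero_add, add_self_vec, add_self_vec, mul_one]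

theorem isPGroup_Q : IsPGroup 2 (Q h) := by
  intro x
  refine ⟨2, Subtype.ext (h.inj ?_)⟩
  obtain ⟨a, r, c, e⟩ := (mem_Q h).1 x.2
  show ρ ((x : G) ^ 2 ^ 2) = ρ 1
  rw [show (2 : ℕ) ^ 2 = 2 * 2 from rfl, pow_mul, pow_two, pow_two, map_mul, map_mul, map_one, e,
    dm_sq h, dm_sq h, zero_dotProduct, dm_one]

theorem pCore_eq (hn : 1 ≤ n) :
    (pCore 2 (Subgroup.centralizer ({z} : Set G))).map (Subgroup.centralizer ({z} : Set G)).subtype = Q h := by
  refine congrArg _ (le_antisymm ?_ (CfsgLib.Core.le_pCore ?_))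
  · intro x hx
    have := CfsgLib.Core.map_pCore_le (p := 2) (linPart h) (linPart_surjective h) ⟨x, hx, rfl⟩
    rwa [pCore_units_eq_bot hn] at this
  · exact IsPGroup.of_injective (isPGroup_Q h)
      ((Subgroup.centralizer ({z} : Set G)).subtype.subgroupMap (linPart h).ker) fun x y e =>
        Subtype.ext (Subtype.ext (congrArg Subtype.val e : _))

theorem z_mem : z ∈ Q h := (mem_Q h).2 ⟨1, 0, 0, h.hz⟩

theorem z_order : orderOf z = 2 := by
  haveI : Fact (Nat.Prime 2) := ⟨Nat.prime_two⟩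
  refine orderOf_eq_prime (h.inj ?_) fun e => ?_
  · rw [map_pow, map_one, pow_two, h.hz, dm_sq h, zero_dotProduct, dm_one]
  · have := h.hz
    rw [e, map_one, ← dm_one] at this
    exact zero_ne_one (dm_inj this).1

theorem eq_one_or {x : G} {a : K2} (e : ρ x = dm a 0 0 1) : x ∈ Subgroup.zpowers z := by
  rcases two_cases a with rfl | rfl
  · rw [h.inj (e.trans (dm_one.trans (map_one ρ).symm))]
    exact one_mem _
  · rw [h.inj (e.trans h.hz.symm)]
    exact Subgroup.mem_zpowers z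

theorem centralizer_Q : Subgroup.centralizer (Q h : Set G) = Subgroup.zpowers z := by
  refine le_antisymm (fun x hx => ?_) (Subgroup.zpowers_le.2 (Subgroup.mem_centralizer_iff.2 fun y hy => ?_))
  · obtain ⟨a, r, c, A, A', -, -, e⟩ := form h (mem_centralizer_singleton_iff'.2
      (Subgroup.mem_centralizer_iff.1 hx z (z_mem h)).symm)
    have hr : ∀ r' : (Fin n → K2), r' ⬝ᵥ c = 0 ∧ r' ᵥ* A = r' := by
      intro r'
      obtain ⟨y, hy, ey⟩ := exists_mem_Q h 0 r' 0
      have := congrArg ρ (Subgroup.mem_centralizer_iff.1 hx y hy)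
      rw [map_mul, map_mul, e, ey, dm_mul, dm_mul] at this
      simp only [dotProduct_zero, add_zero, zero_add, vecMul_one, mul_one, one_mul, mulVec_zero,
        one_mulVec] at this
      obtain ⟨h1, h2, -, -⟩ := dm_inj this
      refine ⟨add_left_cancel (a := a) (by rw [h1, add_zero]), add_left_cancel (a := r) ?_⟩
      rw [h2, add_comm]
    have hA : A = 1 := by
      ext i j
      have := congrFun (hr (Pi.single i 1)).2 j
      simpa [one_apply, Pi.single_apply, eq_comm] using this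
    have hc : c = 0 := funext fun i => by simpa using (hr (Pi.single i 1)).1
    subst hA hc
    have hr0 : r = 0 := funext fun i => by
      obtain ⟨y, hy, ey⟩ := exists_mem_Q h 0 0 (Pi.single i 1)
      have := congrArg ρ (Subgroup.mem_centralizer_iff.1 hx y hy)
      rw [map_mul, map_mul, e, ey, dm_mul, dm_mul] at this
      simpa using (dm_inj this).1.symm
    exact eq_one_or h (a := a) (hr0 ▸ e)
  · obtain ⟨a, r, c, e⟩ := (mem_Q h).1 hy
    apply h.inj
    rw [map_mul, map_mul, e, h.hz, dm_T_comm]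

theorem center_map : (Subgroup.center (Q h)).map (Q h).subtype = Subgroup.zpowers z := by
  apply le_antisymm
  · rintro _ ⟨x, hx, rfl⟩
    rw [← centralizer_Q h, Subgroup.mem_centralizer_iff]
    exact fun y hy => congrArg Subtype.val (Subgroup.mem_center_iff.1 hx ⟨y, hy⟩)
  · refine Subgroup.zpowers_le.2 ⟨⟨z, z_mem h⟩, Subgroup.mem_center_iff.2 fun y => Subtype.ext ?_, rfl⟩
    have hz' : z ∈ Subgroup.centralizer (Q h : Set G) := (centralizer_Q h) ▸ Subgroup.mem_zpowers z
    exact Subgroup.mem_centralizer_iff.1 hz' _ y.2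

theorem center_iff (x : Q h) : x ∈ Subgroup.center (Q h) ↔ ∃ a, ρ (x : G) = dm a 0 0 1 := by
  constructor
  · intro hx
    have hm : (x : G) ∈ Subgroup.zpowers z := center_map h ▸ Subgroup.mem_map_of_mem _ hx
    rcases CfsgLib.ThreeTrans.mem_zpowers_of_order_two (z_order h) hm with e | e
    · exact ⟨0, by rw [e, map_one, dm_one]⟩
    · exact ⟨1, by rw [e, h.hz]⟩
  · rintro ⟨a, e⟩
    have : (x : G) ∈ (Subgroup.center (Q h)).map (Q h).subtype := (center_map h).symm ▸ eq_one_or h e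
    obtain ⟨y, hy, e'⟩ := this
    exact (Subtype.ext e' : y = x) ▸ hy

theorem isExtraspecial (hn : 1 ≤ n) : IsExtraspecial 2 (Q h) := by
  haveI : Fact (Nat.Prime 2) := ⟨Nat.prime_two⟩
  refine CfsgLib.PGroups.isExtraspecial_of (isPGroup_Q h) ?_ ?_ ?_ ?_
  · intro hcomm
    obtain ⟨x, hx, ex⟩ := exists_mem_Q h 0 (Pi.single ⟨0, hn⟩ 1) 0
    obtain ⟨y, hy, ey⟩ := exists_mem_Q h 0 0 (Pi.single ⟨0, hn⟩ 1)
    have := congrArg (fun t : Q h => ρ (t : G)) (hcomm.is_comm.comm ⟨x, hx⟩ ⟨y, hy⟩)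
    simp only [Subgroup.coe_mul, map_mul, ex, ey, dm_mul] at this
    exact absurd (dm_inj this).1 (by simp)
  · rw [← Subgroup.card_subtype, center_map h, Nat.card_zpowers, z_order h]
  · rw [commutator_def, Subgroup.commutator_le]
    intro u _ v _
    rw [center_iff]
    obtain ⟨a, r, c, eu⟩ := (mem_Q h).1 u.2
    obtain ⟨a', r', c', ev⟩ := (mem_Q h).1 v.2
    obtain ⟨a₁, r₁, c₁, eu'⟩ := (mem_Q h).1 (u⁻¹).2
    obtain ⟨a₂, r₂, c₂, ev'⟩ := (mem_Q h).1 (v⁻¹).2
    have hu : ρ (u : G) * ρ ((u⁻¹ : Q h) : G) = 1 := by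
      rw [← map_mul, ← Subgroup.coe_mul, mul_inv_cancel, Subgroup.coe_one, map_one]
    have hv : ρ (v : G) * ρ ((v⁻¹ : Q h) : G) = 1 := by
      rw [← map_mul, ← Subgroup.coe_mul, mul_inv_cancel, Subgroup.coe_one, map_one]
    rw [eu, eu', dm_mul, ← dm_one] at hu
    rw [ev, ev', dm_mul, ← dm_one] at hv
    obtain ⟨-, hu1, hu2, -⟩ := dm_inj hu
    obtain ⟨-, hv1, hv2, -⟩ := dm_inj hv
    rw [vecMul_one] at hu1 hv1
    rw [one_mulVec] at hu2 hv2
    rw [commutatorElement_def, Subgroup.coe_mul, Subgroup.coe_mul, Subgroup.coe_mul, map_mul, map_mul,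
      map_mul, eu, ev, eu', ev', dm_mul, dm_mul, dm_mul]
    simp only [vecMul_one, one_mulVec, mul_one]
    refine ⟨_, congrArg₂ (fun r c => dm _ r c 1) ?_ ?_⟩
    · calc r₂ + (r₁ + (r' + r)) = (r₁ + r) + (r₂ + r') := by abel
        _ = 0 := by rw [hu1, hv1, add_zero]
    · calc c + c' + c₁ + c₂ = (c + c₁) + (c' + c₂) := by abel
        _ = 0 := by rw [hu2, hv2, add_zero]
  · intro x
    rw [center_iff, pow_two, Subgroup.coe_mul, map_mul]
    obtain ⟨a, r, c, e⟩ := (mem_Q h).1 x.2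
    exact ⟨_, by rw [e, dm_sq h]⟩

theorem card_Q : Nat.card (Q h) = 2 ^ (2 * n + 1) := by
  have key : Function.Bijective fun x : Q h =>
      ((ρ x.1 (Sum.inl 0) (Sum.inl 1), fun i => ρ x.1 (Sum.inl 0) (Sum.inr i),
        fun i => ρ x.1 (Sum.inr i) (Sum.inl 1)) : K2 × (Fin n → K2) × (Fin n → K2)) := by
    constructor
    · intro x y e
      obtain ⟨a, r, c, ex⟩ := (mem_Q h).1 x.2
      obtain ⟨a', r', c', ey⟩ := (mem_Q h).1 y.2
      simp only [Prod.mk.injEq, ex, ey] at e
      obtain ⟨h1, h2, h3⟩ := e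
      have h1' : a = a' := by simpa [dm] using h1
      have h2' : r = r' := funext fun i => by simpa [dm] using congrFun h2 i
      have h3' : c = c' := funext fun i => by simpa [dm] using congrFun h3 i
      exact Subtype.ext (h.inj (by rw [ex, ey, h1', h2', h3']))
    · rintro ⟨a, r, c⟩
      obtain ⟨x, hx, e⟩ := exists_mem_Q h a r c
      exact ⟨⟨x, hx⟩, by simp [e, dm]⟩
  rw [Nat.card_eq_of_bijective _ key, Nat.card_prod, Nat.card_prod, Nat.card_fun, Nat.card_zmod, Nat.card_fin]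
  ring

theorem exists_E : ∃ E : Subgroup G, E ≤ Q h ∧ IsElementaryAbelian 2 E ∧ Nat.card E = 2 ^ (n + 1) := by
  let E : Subgroup G :=
    { carrier := {x | ∃ a r, ρ x = dm a r 0 1}
      one_mem' := ⟨0, 0, by rw [map_one, dm_one]⟩
      mul_mem' := fun {x y} hx hy => by
        obtain ⟨a, r, ex⟩ := hx
        obtain ⟨a', r', ey⟩ := hy
        exact ⟨a + a', r' + r, by
          rw [map_mul, ex, ey, dm_mul, dotProduct_zero, add_zero, vecMul_one, mulVec_zero, add_zero, mul_one]⟩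
      inv_mem' := fun {x} hx => by
        obtain ⟨a, r, ex⟩ := hx
        refine ⟨a, r, ?_⟩
        have : x⁻¹ = x := inv_eq_of_mul_eq_one_left (h.inj (by
          rw [map_mul, map_one, ex, dm_sq h, dotProduct_zero, dm_one]))
        rw [this, ex] }
  refine ⟨E, fun x ⟨a, r, e⟩ => (mem_Q h).2 ⟨a, r, 0, e⟩, ⟨⟨⟨fun x y => Subtype.ext (h.inj ?_)⟩⟩, fun x hx => h.inj ?_⟩, ?_⟩
  · obtain ⟨a, r, ex⟩ := x.2
    obtain ⟨a', r', ey⟩ := y.2
    rw [Subgroup.coe_mul, Subgroup.coe_mul, map_mul, map_mul, ex, ey, dm_mul, dm_mul]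
    simp [add_comm]
  · obtain ⟨a, r, ex⟩ := hx
    rw [pow_two, map_mul, ex, dm_sq h, dotProduct_zero, dm_one, map_one]
  · have key : Function.Bijective fun x : E =>
        ((ρ x.1 (Sum.inl 0) (Sum.inl 1), fun i => ρ x.1 (Sum.inl 0) (Sum.inr i)) : K2 × (Fin n → K2)) := by
      constructor
      · intro x y e
        obtain ⟨a, r, ex⟩ := x.2
        obtain ⟨a', r', ey⟩ := y.2
        simp only [Prod.mk.injEq, ex, ey] at e
        obtain ⟨h1, h2⟩ := e
        have h1' : a = a' := by simpa [dm] using h1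
        have h2' : r = r' := funext fun i => by simpa [dm] using congrFun h2 i
        exact Subtype.ext (h.inj (by rw [ex, ey, h1', h2']))
      · rintro ⟨a, r⟩
        obtain ⟨x, hx⟩ := h.full a r 0 1 1 (one_mul 1)
        exact ⟨⟨x, a, r, hx⟩, by simp [hx, dm]⟩
    rw [Nat.card_eq_of_bijective _ key, Nat.card_prod, Nat.card_fun, Nat.card_zmod, Nat.card_fin]
    ring

theorem normalizes : Subgroup.centralizer ({z} : Set G) ≤ Subgroup.normalizer (Q h : Set G) :=
  CfsgLib.Core.CoreControl.le_normalizer_of fun x hx u hu => by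
    obtain ⟨v, hv, rfl⟩ := hu
    exact ⟨_, ((linPart h).normal_ker).conj_mem v hv ⟨x, hx⟩, rfl⟩

theorem largeData (hn : 1 ≤ n) : LargeData z (Q h) :=
  ⟨z_order h, isExtraspecial h hn, center_map h, centralizer_Q h, normalizes h⟩

theorem exists_swap : ∃ s : G, s * s = 1 ∧ s * z * s⁻¹ ∈ Q h ∧ s * z * s⁻¹ ≠ z := by
  obtain ⟨s, hs⟩ := h.swap
  obtain ⟨b, hbQ, hb⟩ := exists_mem_Q h 0 0 (Pi.single i0 1)
  have hss : s * s = 1 := h.inj (by
    rw [map_mul, map_one, hs, ← Matrix.permMatrix_mul, Equiv.swap_mul_self, Matrix.permMatrix_one])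
  have hsinv : s⁻¹ = s := inv_eq_of_mul_eq_one_left hss
  have hbs : s * z * s⁻¹ = b := by
    rw [mul_inv_eq_iff_eq_mul]
    apply h.inj
    rw [map_mul, map_mul, hb, hs, h.hz, Equiv.Perm.permMatrix, PEquiv.toMatrix_toPEquiv_mul,
      PEquiv.mul_toMatrix_toPEquiv, Equiv.symm_swap]
    rw [dm_T_eq, dm_b_eq]
    ext i j
    have e1 : Equiv.swap (Sum.inl 0) (Sum.inr i0) i = (Sum.inl 0 : Fin 2 ⊕ Fin n) ↔ i = Sum.inr i0 := by
      rw [Equiv.swap_apply_eq_iff, Equiv.swap_apply_left]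
    have e2 : Equiv.swap (Sum.inl 0) (Sum.inr i0) j = (Sum.inl 1 : Fin 2 ⊕ Fin n) ↔ j = Sum.inl 1 := by
      rw [Equiv.swap_apply_eq_iff, Equiv.swap_apply_of_ne_of_ne (by simp) (by simp)]
    have e3 : Equiv.swap (Sum.inl 0) (Sum.inr i0) i = j ↔ i = Equiv.swap (Sum.inl 0) (Sum.inr i0) j :=
      Equiv.swap_apply_eq_iff
    have e4 : (if Equiv.swap (Sum.inl 0) (Sum.inr i0) i = j then (1 : K2) else 0) =
        if i = Equiv.swap (Sum.inl 0) (Sum.inr i0) j then 1 else 0 := if_congr e3 rfl rfl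
    have e5 : (if (Sum.inl 0 : Fin 2 ⊕ Fin n) = Equiv.swap (Sum.inl 0) (Sum.inr i0) i ∧ Sum.inl 1 = j then (1 : K2) else 0) =
        if Sum.inr i0 = i ∧ Sum.inl 1 = Equiv.swap (Sum.inl 0) (Sum.inr i0) j then 1 else 0 :=
      if_congr (and_congr (eq_comm.trans (e1.trans eq_comm)) (eq_comm.trans (e2.symm.trans eq_comm))) rfl rfl
    simp only [submatrix_apply, Matrix.add_apply, one_apply, single_apply, id, e4, e5]
  refine ⟨s, hss, hbs ▸ hbQ, fun e => ?_⟩
  rw [hbs] at e
  rw [e, h.hz] at hb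
  exact one_ne_zero (dm_inj hb).1

theorem isLarge (hn : 1 ≤ n) : IsLargeExtraspecial (Q h) := by
  obtain ⟨s, hss, hbQ, hne⟩ := exists_swap h
  exact large_of_swap (largeData h hn) (pCore_eq h hn).symm hss hbQ hne

theorem exists_complement (hn : 1 ≤ n) :
    ∃ K : Subgroup G, K ≤ Subgroup.centralizer ({z} : Set G) ∧ Q h ⊓ K = ⊥ ∧
      Q h ⊔ K = Subgroup.centralizer ({z} : Set G) ∧
      Nonempty (K ≃* Matrix.GeneralLinearGroup (Fin n) K2) := by
  choose s hs using fun u : (Matrix (Fin n) (Fin n) K2)ˣ =>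
    h.full 0 0 0 (u : Matrix (Fin n) (Fin n) K2) (↑u⁻¹) u.mul_inv
  let σ : (Matrix (Fin n) (Fin n) K2)ˣ →* G :=
    MonoidHom.mk' s fun u v => h.inj (by
      rw [map_mul, hs, hs, hs, dm_mul, Units.val_mul, dotProduct_zero, zero_vecMul, mulVec_zero]
      simp only [add_zero])
  have hσ : Function.Injective σ := fun u v e =>
    Units.ext (dm_inj ((hs u).symm.trans ((congrArg ρ e).trans (hs v)))).2.2.2
  have hle : σ.range ≤ Subgroup.centralizer ({z} : Set G) := by
    rintro _ ⟨u, rfl⟩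
    exact mem_centralizer_of h (hs u)
  have hQle : Q h ≤ Subgroup.centralizer ({z} : Set G) := Subgroup.map_subtype_le _
  refine ⟨σ.range, hle, ?_, le_antisymm (sup_le hQle hle) fun x hx => ?_, ⟨(MonoidHom.ofInjective hσ).symm⟩⟩
  · rw [eq_bot_iff]
    rintro _ ⟨hQ, u, rfl⟩
    obtain ⟨a, r, c, e⟩ := (mem_Q h).1 hQ
    have : u = 1 := Units.ext (dm_inj ((hs u).symm.trans e)).2.2.2
    rw [Subgroup.mem_bot, this, map_one]
  · set u := linPart h ⟨x, hx⟩
    have hk : linPart h ⟨σ u, hle ⟨u, rfl⟩⟩ = u := Units.ext (linPart_eq h (x := ⟨σ u, _⟩) (hs u))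
    have hq : x * (σ u)⁻¹ ∈ Q h := by
      refine ⟨⟨x, hx⟩ * ⟨σ u, hle ⟨u, rfl⟩⟩⁻¹, ?_, rfl⟩
      show linPart h _ = 1
      rw [map_mul, map_inv, hk, mul_inv_cancel]
    rw [show x = x * (σ u)⁻¹ * σ u by group]
    exact mul_mem (Subgroup.mem_sup_left hq) (Subgroup.mem_sup_right ⟨u, rfl⟩)

theorem main (hn : 1 ≤ n) {P : Subgroup G}
    (hP : P = (pCore 2 (Subgroup.centralizer ({z} : Set G))).map (Subgroup.centralizer ({z} : Set G)).subtype) :
    IsExtraspecial 2 P ∧ Nat.card P = 2 ^ (2 * n + 1) ∧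
      (∃ E : Subgroup G, E ≤ P ∧ IsElementaryAbelian 2 E ∧ Nat.card E = 2 ^ (n + 1)) ∧
      IsLargeExtraspecial P ∧
      ∃ K : Subgroup G, K ≤ Subgroup.centralizer ({z} : Set G) ∧ P ⊓ K = ⊥ ∧
        P ⊔ K = Subgroup.centralizer ({z} : Set G) ∧
        Nonempty (K ≃* Matrix.GeneralLinearGroup (Fin n) K2) := by
  obtain rfl : P = Q h := hP.trans (pCore_eq h hn)
  exact ⟨isExtraspecial h hn, card_Q h, exists_E h, isLarge h hn, exists_complement h hn⟩

end Main

end CfsgLib.ThreeTrans.LargeTransvection
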