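import Cfsg.Agent.Lib.ThreeTrans.LargeTransvection

/-!
The special linear group over the field with two elements (owner: helper28).
-/

set_option autoImplicit false

namespace CfsgLib.ThreeTrans.LargeTransvection

open Cfsg Matrix

theorem det_eq_one {m : Type*} [Fintype m] [DecidableEq m] {A B : Matrix m m (ZMod 2)} (h : A * B = 1) :
    A.det = 1 := by
  rcases two_cases A.det with e | e
  · have := congrArg Matrix.det h
    rw [Matrix.det_mul, Matrix.det_one, e, zero_mul] at this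
    exact absurd this zero_ne_one
  · exact e

/-- The general and special linear groups over the field with two elements coincide. -/
noncomputable def slEquiv (m : ℕ) :
    Matrix.SpecialLinearGroup (Fin m) (ZMod 2) ≃* Matrix.GeneralLinearGroup (Fin m) (ZMod 2) :=
  MulEquiv.ofBijective Matrix.SpecialLinearGroup.toGL
    ⟨Matrix.SpecialLinearGroup.toGL_injective, fun g => ⟨⟨g.1, det_eq_one g.mul_inv⟩, Units.ext rfl⟩⟩

theorem sl_main (n : ℕ) (hn : 2 ≤ n) (z : Matrix.SpecialLinearGroup (Fin (n + 2)) (ZMod 2))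
    (hz : (z : Matrix (Fin (n + 2)) (Fin (n + 2)) (ZMod 2)) = Matrix.transvection 0 1 1)
    (Q : Subgroup (Matrix.SpecialLinearGroup (Fin (n + 2)) (ZMod 2)))
    (hQ : Q = (Cfsg.pCore 2 ↥(Subgroup.centralizer ({z} : Set (Matrix.SpecialLinearGroup (Fin (n + 2)) (ZMod 2))))).map
      (Subgroup.centralizer ({z} : Set (Matrix.SpecialLinearGroup (Fin (n + 2)) (ZMod 2)))).subtype) :
    Cfsg.IsExtraspecial 2 ↥Q ∧ Nat.card ↥Q = 2 ^ (2 * n + 1) ∧
      (∃ E : Subgroup (Matrix.SpecialLinearGroup (Fin (n + 2)) (ZMod 2)),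
        E ≤ Q ∧ Cfsg.IsElementaryAbelian 2 E ∧ Nat.card ↥E = 2 ^ (n + 1)) ∧
      Cfsg.IsLargeExtraspecial Q ∧
      ∃ K : Subgroup (Matrix.SpecialLinearGroup (Fin (n + 2)) (ZMod 2)),
        K ≤ Subgroup.centralizer ({z} : Set (Matrix.SpecialLinearGroup (Fin (n + 2)) (ZMod 2))) ∧ Q ⊓ K = ⊥ ∧
        Q ⊔ K = Subgroup.centralizer ({z} : Set (Matrix.SpecialLinearGroup (Fin (n + 2)) (ZMod 2))) ∧
        Nonempty (↥K ≃* Matrix.SpecialLinearGroup (Fin n) (ZMod 2)) := by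
  obtain ⟨e, he0, he1⟩ : ∃ e : Fin 2 ⊕ Fin n ≃ Fin (n + 2), e (Sum.inl 0) = 0 ∧ e (Sum.inl 1) = 1 := by
    refine ⟨finSumFinEquiv.trans (finCongr (Nat.add_comm 2 n)), Fin.ext ?_, Fin.ext ?_⟩
    · simp
    · simp
  let φ : Matrix (Fin (n + 2)) (Fin (n + 2)) (ZMod 2) →* Matrix (Fin 2 ⊕ Fin n) (Fin 2 ⊕ Fin n) (ZMod 2) :=
    { toFun := fun M => M.submatrix e e
      map_one' := submatrix_one_equiv e
      map_mul' := fun M N => (submatrix_mul_equiv M N e e e).symm }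
  let ψ : Matrix (Fin 2 ⊕ Fin n) (Fin 2 ⊕ Fin n) (ZMod 2) →* Matrix (Fin (n + 2)) (Fin (n + 2)) (ZMod 2) :=
    { toFun := fun M => M.submatrix e.symm e.symm
      map_one' := submatrix_one_equiv e.symm
      map_mul' := fun M N => (submatrix_mul_equiv M N e.symm e.symm e.symm).symm }
  have hφψ : ∀ M, φ (ψ M) = M := fun M => by
    ext i j
    show M (e.symm (e i)) (e.symm (e j)) = M i j
    simp
  let ρ : Matrix.SpecialLinearGroup (Fin (n + 2)) (ZMod 2) →* Matrix (Fin 2 ⊕ Fin n) (Fin 2 ⊕ Fin n) (ZMod 2) :=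
    { toFun := fun g => φ g.1
      map_one' := by
        show φ (1 : Matrix.SpecialLinearGroup (Fin (n + 2)) (ZMod 2)).1 = 1
        rw [Matrix.SpecialLinearGroup.coe_one, map_one]
      map_mul' := fun g g' => by
        show φ (g * g').1 = φ g.1 * φ g'.1
        rw [Matrix.SpecialLinearGroup.coe_mul, map_mul] }
  have lift : ∀ M M' : Matrix (Fin 2 ⊕ Fin n) (Fin 2 ⊕ Fin n) (ZMod 2), M * M' = 1 → ∃ g, ρ g = M :=
    fun M M' h => ⟨⟨ψ M, det_eq_one (B := ψ M') (by rw [← map_mul, h, map_one])⟩, hφψ M⟩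
  have hS : Setting ρ z ⟨0, by omega⟩ := by
    refine ⟨fun g g' h => Subtype.ext ?_, ?_, fun a r c A A' h => lift _ _ (dm_inv a r c h),
      lift _ ((Equiv.swap (Sum.inl 0) (Sum.inr ⟨0, by omega⟩) : Equiv.Perm (Fin 2 ⊕ Fin n)).permMatrix (ZMod 2)) ?_⟩
    · ext i j
      have := congrFun (congrFun h (e.symm i)) (e.symm j)
      simpa [ρ, φ] using this
    · show φ z.1 = _
      rw [hz, dm_T_eq]
      ext i j
      show (1 + Matrix.single 0 1 1 : Matrix (Fin (n + 2)) (Fin (n + 2)) (ZMod 2)) (e i) (e j) = _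
      rw [← he0, ← he1]
      simp only [Matrix.add_apply, one_apply, single_apply, e.injective.eq_iff]
    · rw [← permMatrix_mul, Equiv.swap_mul_self, permMatrix_one]
  obtain ⟨h1, h2, h3, h4, K, h5, h6, h7, ⟨h8⟩⟩ := LargeTransvection.main hS (by omega) hQ
  exact ⟨h1, h2, h3, h4, K, h5, h6, h7, ⟨h8.trans (slEquiv n).symm⟩⟩

end CfsgLib.ThreeTrans.LargeTransvection
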