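import Cfsg.Prelude.Def_Sporadic_a
import Cfsg.Agent.Lib.Sporadic.Code

/-!
The rank 24 lattice: membership as a linear condition, minimum norm, divisibility of norms,
and the sublattice `A` of index `2^12` with all norms divisible by 32.
-/

set_option autoImplicit false

namespace CfsgLib.ThreeTrans.Leech

open Cfsg Finset

/-- Reduction mod 2 of an integer vector. -/
def red (d : GolayPt → ℤ) : GolayPt → ZMod 2 := fun i => (d i : ZMod 2)

theorem red_add (d e : GolayPt → ℤ) : red (d + e) = red d + red e := by funext i; simp [red]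

theorem red_neg (d : GolayPt → ℤ) : red (-d) = red d := by
  funext i; simp [red, CharTwo.neg_eq]

theorem red_zero : red 0 = 0 := by funext i; simp [red]

theorem red_one : red (fun _ => 1) = 1 := by funext i; simp [red]

theorem one_mem_code : (1 : GolayPt → ZMod 2) ∈ golayCode :=
  Submodule.subset_span (Or.inr rfl)

/-- Membership in the lattice, in linear form. -/
def IsL (x : GolayPt → ℤ) : Prop :=
  ∃ (m : ℤ) (d : GolayPt → ℤ), (∀ i, x i = m + 2 * d i) ∧ red d ∈ golayCode ∧
    (∑ i, x i) ≡ 4 * m [ZMOD 8]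

theorem isL_zero : IsL 0 :=
  ⟨0, 0, by simp, by rw [red_zero]; exact zero_mem _, by simp⟩

theorem isL_add {x y : GolayPt → ℤ} (hx : IsL x) (hy : IsL y) : IsL (x + y) := by
  obtain ⟨m, d, h1, h2, h3⟩ := hx
  obtain ⟨n, e, k1, k2, k3⟩ := hy
  refine ⟨m + n, d + e, fun i => ?_, by rw [red_add]; exact add_mem h2 k2, ?_⟩
  · simp only [Pi.add_apply, h1, k1]; ring
  · simp only [Pi.add_apply, Finset.sum_add_distrib, mul_add]
    exact h3.add k3

theorem isL_neg {x : GolayPt → ℤ} (hx : IsL x) : IsL (-x) := by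
  obtain ⟨m, d, h1, h2, h3⟩ := hx
  refine ⟨-m, -d, fun i => ?_, by rw [red_neg]; exact h2, ?_⟩
  · simp only [Pi.neg_apply, h1]; ring
  · simp only [Pi.neg_apply, Finset.sum_neg_distrib, mul_neg]
    exact h3.neg

theorem code_ext {v w : GolayPt → ZMod 2} (h : ∀ i, v i ≠ 0 ↔ w i ≠ 0) : v = w := by
  funext i
  by_cases h0 : v i = 0
  · rw [h0]
    by_contra h1
    exact (h i).2 (Ne.symm h1) h0
  · rw [Sporadic.eq_one_of_ne_zero h0, Sporadic.eq_one_of_ne_zero ((h i).1 h0)]

theorem cast_ne_zero_iff (a : ℤ) : (a : ZMod 2) ≠ 0 ↔ a % 2 = 1 := by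
  rw [Ne, ZMod.intCast_zmod_eq_zero_iff_dvd]
  omega

theorem isL_of_mem_set {x : GolayPt → ℤ} (hx : x ∈ leechSet) : IsL x := by
  obtain ⟨m, h1, h2, h3⟩ := hx
  refine ⟨m, fun i => (x i - m) / 2, fun i => ?_, ?_, h2⟩
  · show x i = m + 2 * ((x i - m) / 2)
    have := h1 i
    simp only [Int.ModEq] at this
    omega
  · obtain ⟨w, hw, hs⟩ := h3 (m + 2)
    have hw' : w = red (fun i => (x i - m) / 2) := by
      refine code_ext fun i => ?_
      have hi : i ∈ support₂ w ↔ x i ≡ m + 2 [ZMOD 4] := by rw [hs]; simp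
      simp only [support₂, Finset.mem_filter, Finset.mem_univ, true_and] at hi
      rw [hi, red, cast_ne_zero_iff]
      have := h1 i
      simp only [Int.ModEq] at this ⊢
      omega
    rw [← hw']
    exact hw

theorem mem_set_of_isL {x : GolayPt → ℤ} (hx : IsL x) : x ∈ leechSet := by
  obtain ⟨m, d, h1, h2, h3⟩ := hx
  refine ⟨m, fun i => ?_, h3, fun k => ?_⟩
  · rw [h1]; simp only [Int.ModEq]; omega
  · by_cases hk : (k - m) % 2 = 0
    · by_cases hk4 : (k - m) % 4 = 0
      · refine ⟨red d + 1, add_mem h2 one_mem_code, ?_⟩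
        ext i
        simp only [support₂, Finset.mem_filter, Finset.mem_univ, true_and, Int.ModEq,
          Pi.add_apply, Pi.one_apply, red, ← Int.cast_one (R := ZMod 2), ← Int.cast_add,
          cast_ne_zero_iff]
        erw [Finset.mem_filter]
        simp only [Finset.mem_univ, true_and, h1 i]
        omega
      · refine ⟨red d, h2, ?_⟩
        ext i
        simp only [support₂, Finset.mem_filter, Finset.mem_univ, true_and, Int.ModEq, red,
          cast_ne_zero_iff]
        erw [Finset.mem_filter]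
        simp only [Finset.mem_univ, true_and, h1 i]
        omega
    · refine ⟨0, zero_mem _, ?_⟩
      ext i
      simp only [support₂, Finset.mem_filter, Finset.mem_univ, true_and, Int.ModEq,
        Pi.zero_apply, ne_eq, not_true_eq_false, false_iff]
      erw [Finset.mem_filter]
      simp only [Finset.mem_univ, true_and, h1 i]
      omega

theorem mem_iff {x : GolayPt → ℤ} : x ∈ leechLattice ↔ IsL x := by
  constructor
  · intro h
    induction h using AddSubgroup.closure_induction with
    | mem y hy => exact isL_of_mem_set hy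
    | zero => exact isL_zero
    | add y z _ _ hy hz => exact isL_add hy hz
    | neg y _ hy => exact isL_neg hy
  · exact fun h => AddSubgroup.subset_closure (mem_set_of_isL h)

/-- Every code word has weight zero or at least 8, and weight divisible by 4. -/
theorem weight {c : GolayPt → ZMod 2} (hc : c ∈ golayCode) :
    (c = 0 ∨ 8 ≤ (support₂ c).card) ∧ 4 ∣ (support₂ c).card := by
  have h := Sporadic.card_code_support (s := support₂ c) ⟨c, hc, rfl⟩
  refine ⟨?_, by omega⟩
  rcases h with h | h | h | h | h <;> [left; right; right; right; right] <;> try omega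
  refine code_ext fun i => ?_
  rw [Finset.card_eq_zero] at h
  have : i ∉ support₂ c := by rw [h]; exact Finset.notMem_empty i
  simp [support₂] at this
  simp [this]

theorem card_pts : (Finset.univ : Finset GolayPt).card = 24 := rfl

/-- The number of odd entries. -/
theorem card_odd (d : GolayPt → ℤ) :
    ((support₂ (red d)).card : ℤ) = ∑ i, d i % 2 := by
  rw [Finset.card_eq_sum_ones, Nat.cast_sum, support₂, Finset.sum_filter]
  refine Finset.sum_congr rfl fun i _ => ?_
  simp only [red, cast_ne_zero_iff]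
  split_ifs with h
  · simp [h]
  · omega

theorem sq_mod_four (a : ℤ) : a ^ 2 % 4 = a % 2 := by
  obtain ⟨b, r, hr, rfl⟩ : ∃ b r, (r = 0 ∨ r = 1) ∧ a = 2 * b + r :=
    ⟨a / 2, a % 2, by omega, by omega⟩
  rcases hr with rfl | rfl <;> ring_nf <;> omega

theorem le_sq_of_odd {a : ℤ} (h : a % 2 = 1) : 1 ≤ a ^ 2 := by nlinarith [mul_self_nonneg a, show a ≠ 0 by omega, mul_self_pos.2 (show a ≠ 0 by omega)]

theorem mod_two_le_sq (a : ℤ) : a % 2 ≤ a ^ 2 := by
  rcases Int.emod_two_eq a with h | h
  · rw [h]; exact sq_nonneg a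
  · rw [h]; exact le_sq_of_odd h

theorem dvd_sum_of_forall_mod {m : ℤ} {f g : GolayPt → ℤ} (h : ∀ i, m ∣ f i - g i) :
    m ∣ (∑ i, f i) - ∑ i, g i := by
  rw [← Finset.sum_sub_distrib]; exact Finset.dvd_sum fun i _ => h i

/-- Every squared length is divisible by 16. -/
theorem norm_dvd {x : GolayPt → ℤ} (hx : IsL x) : (16 : ℤ) ∣ sqNorm x := by
  obtain ⟨m, d, h1, h2, h3⟩ := hx
  have hw := (weight h2).2
  have hcard := card_odd d
  rw [Finset.sum_congr rfl fun i _ => h1 i, Finset.sum_add_distrib, ← Finset.mul_sum,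
    Finset.sum_const, card_pts, nsmul_eq_mul] at h3
  have hsq : sqNorm x = 24 * m ^ 2 + 4 * m * (∑ i, d i) + 4 * ∑ i, d i ^ 2 := by
    rw [sqNorm, Finset.sum_congr rfl (g := fun i => m ^ 2 + 4 * m * d i + 4 * d i ^ 2)
      fun i _ => by rw [h1]; ring]
    simp only [Finset.sum_add_distrib, ← Finset.mul_sum, Finset.sum_const, card_pts, nsmul_eq_mul]
    push_cast; ring
  have h4 : (4 : ℤ) ∣ (∑ i, d i ^ 2) - ∑ i, d i % 2 :=
    dvd_sum_of_forall_mod fun i => by have := sq_mod_four (d i); omega
  obtain ⟨q, hq⟩ : ∃ q, (∑ i, d i ^ 2) = 4 * q :=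
    ⟨(∑ i, d i ^ 2) / 4, by omega⟩
  obtain ⟨u, hu⟩ : ∃ u, (∑ i, d i) = 4 * u + 2 * m :=
    ⟨((∑ i, d i) - 2 * m) / 4, by simp only [Int.ModEq] at h3; push_cast at h3; omega⟩
  obtain ⟨v, hv⟩ : ∃ v, m ^ 2 + m ^ 2 * 3 = 4 * v := ⟨m ^ 2, by ring⟩
  refine ⟨2 * m ^ 2 + m * u + q, ?_⟩
  rw [hsq, hq, hu]; ring

theorem norm_smul_two (x : GolayPt → ℤ) : sqNorm ((2 : ℕ) • x) = 4 * sqNorm x := by
  simp only [sqNorm, Pi.smul_apply, nsmul_eq_mul, Finset.mul_sum]
  exact Finset.sum_congr rfl fun i _ => by push_cast; ring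

theorem norm_eq_zero {x : GolayPt → ℤ} (h : sqNorm x = 0) : x = 0 := by
  funext i
  have := (Finset.sum_eq_zero_iff_of_nonneg fun i _ => sq_nonneg (x i)).1 h i (Finset.mem_univ i)
  simpa using this

/-- The minimum squared length is at least 32. -/
theorem norm_ge {x : GolayPt → ℤ} (hx : IsL x) (h0 : x ≠ 0) : 32 ≤ sqNorm x := by
  have hdvd := norm_dvd hx
  have hne : sqNorm x ≠ 0 := fun h => h0 (norm_eq_zero h)
  have hnn : 0 ≤ sqNorm x := Finset.sum_nonneg fun i _ => sq_nonneg _
  suffices sqNorm x ≠ 16 by omega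
  intro h16
  obtain ⟨m, d, h1, h2, h3⟩ := hx
  rcases Int.emod_two_eq m with hm | hm
  · -- even vectors: shift to `m = 0`
    let e : GolayPt → ℤ := fun i => m / 2 + d i
    have hxe : ∀ i, x i = 2 * e i := fun i => by simp only [e, h1]; omega
    have hsq : sqNorm x = 4 * ∑ i, e i ^ 2 := by
      rw [sqNorm, Finset.mul_sum]
      exact Finset.sum_congr rfl fun i _ => by rw [hxe]; ring
    have hec : red e ∈ golayCode := by
      have : red e = (fun _ => ((m / 2 : ℤ) : ZMod 2)) + red d := by
        funext i; simp [red, e]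
      rw [this]
      refine add_mem ?_ h2
      rw [show (fun _ => ((m / 2 : ℤ) : ZMod 2)) = ((m / 2 : ℤ) : ZMod 2) • (1 : GolayPt → ZMod 2)
        by funext i; simp]
      exact Submodule.smul_mem _ _ one_mem_code
    rcases (weight hec).1 with hc | hc
    · -- all entries divisible by 4
      have hev : ∀ i, e i % 2 = 0 := fun i => by
        have h' : ¬ (red e i ≠ 0) := by simp [hc]
        rw [red, cast_ne_zero_iff] at h'
        omega
      have hsum : sqNorm x = 16 * ∑ i, (e i / 2) ^ 2 := by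
        rw [sqNorm, Finset.mul_sum]
        refine Finset.sum_congr rfl fun i _ => ?_
        rw [hxe]; conv_lhs => rw [show e i = 2 * (e i / 2) by have := hev i; omega]
        ring
      have hes : ∑ i, (e i / 2) ^ 2 = 1 := by omega
      have hpar : (2 : ℤ) ∣ (∑ i, (e i / 2) ^ 2) - ∑ i, e i / 2 :=
        dvd_sum_of_forall_mod fun i => by have := sq_mod_four (e i / 2); omega
      rw [Finset.sum_congr rfl fun i _ => (hxe i).trans
        (show 2 * e i = 4 * (e i / 2) by have := hev i; omega), ← Finset.mul_sum] at h3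
      simp only [Int.ModEq] at h3
      omega
    · have : (8 : ℤ) ≤ ∑ i, e i ^ 2 := by
        refine le_trans ?_ (Finset.sum_le_sum fun i _ => mod_two_le_sq (e i))
        rw [← card_odd]
        exact_mod_cast hc
      omega
  · have : (24 : ℤ) ≤ sqNorm x := by
      refine le_trans ?_ (Finset.sum_le_sum fun i (_ : i ∈ Finset.univ) =>
        le_sq_of_odd (a := x i) (by rw [h1]; omega))
      simp [card_pts]
    omega

/-- Two short vectors congruent modulo twice the lattice. -/
theorem short_congr {v w z : GolayPt → ℤ} (hw : IsL w) (hz : IsL z) (hvn : sqNorm v ≤ 64)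
    (hwn : sqNorm w ≤ 64) (e : v - w = 2 • z) :
    sqNorm v = sqNorm w ∧ (sqNorm v < 64 → w = v ∨ w = -v) := by
  by_cases h1 : z = 0
  · rw [h1, smul_zero, sub_eq_zero] at e
    subst e
    exact ⟨rfl, fun _ => Or.inl rfl⟩
  by_cases h2 : z + w = 0
  · have : w = -v := by
      rw [eq_neg_of_add_eq_zero_left h2] at e
      have e' : v = w + 2 • (-w) := eq_add_of_sub_eq' e
      rw [e', two_nsmul]; abel
    subst this
    exact ⟨by simp [sqNorm], fun _ => Or.inr rfl⟩
  have hid : sqNorm (2 • z) + sqNorm (2 • (z + w)) = 2 * sqNorm v + 2 * sqNorm w := by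
    rw [nsmul_add, ← e]
    simp only [sqNorm, Finset.mul_sum, ← Finset.sum_add_distrib]
    exact Finset.sum_congr rfl fun i _ => by
      simp; ring
  rw [norm_smul_two, norm_smul_two] at hid
  have := norm_ge hz h1
  have := norm_ge (isL_add hz hw) h2
  exact ⟨by omega, fun h => absurd h (by omega)⟩

end CfsgLib.ThreeTrans.Leech
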