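import Cfsg.Agent.Lib.ThreeTrans.LeechIrred
import Cfsg.Agent.Lib.Sporadic.OctadStab

/-!
The only nonzero invariant quadratic form on the lattice modulo twice itself is `norm / 16`.
-/

set_option autoImplicit false

namespace CfsgLib.ThreeTrans.Leech

open Cfsg Finset CfsgLib.Sporadic
open scoped Pointwise

/-- A quadratic form on the lattice modulo twice itself, invariant under the automorphisms. -/
structure InvForm (R : Vec → ZMod 2) : Prop where
  coset : ∀ v w, IsL v → IsL w → R (v + (w + w)) = R v
  quad : ∀ u v w, IsL u → IsL v → IsL w →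
    R (u + v + w) + R u + R v + R w = R (u + v) + R (u + w) + R (v + w)
  perm : ∀ σ ∈ M24, ∀ v, IsL v → R (permVec σ v) = R v
  flip : ∀ s ∈ supports (golayCode : Set (GolayPt → ZMod 2)), ∀ v, IsL v → R (flipVec s v) = R v
  xi : ∀ v, IsL v → R (Leech.xi v) = R v

/-- The polar form. -/
def pol (R : Vec → ZMod 2) (u v : Vec) : ZMod 2 := R (u + v) + R u + R v

variable {R : Vec → ZMod 2}

theorem z2_self (a : ZMod 2) : a + a = 0 := CharTwo.add_self_eq_zero a

theorem InvForm.zero (h : InvForm R) : R 0 = 0 := by
  have := h.quad 0 0 0 isL_zero isL_zero isL_zero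
  simp only [add_zero] at this
  revert this; generalize R 0 = a; revert a; decide

theorem InvForm.congr (h : InvForm R) {v v' w : Vec} (hv' : IsL v') (hw : IsL w)
    (e : v = v' + (w + w)) : R v = R v' := by rw [e]; exact h.coset v' w hv' hw

theorem InvForm.pol_add (h : InvForm R) {u v w : Vec} (hu : IsL u) (hv : IsL v) (hw : IsL w) :
    pol R u (v + w) = pol R u v + pol R u w := by
  have := h.quad u v w hu hv hw
  simp only [pol, ← add_assoc] at this ⊢
  generalize R (u + v + w) = a, R u = b, R v = c, R w = d, R (u + v) = e, R (u + w) = f,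
    R (v + w) = g at this ⊢
  revert this; revert a b c d e f g; decide

theorem pol_comm (u v : Vec) : pol R u v = pol R v u := by
  simp only [pol, add_comm u v]; abel

theorem InvForm.pol_zero (h : InvForm R) {u : Vec} : pol R u 0 = 0 := by
  simp [pol, h.zero, z2_self]

theorem InvForm.pol_neg (h : InvForm R) {u v : Vec} (hu : IsL u) (hv : IsL v) :
    pol R u (-v) = pol R u v := by
  have h1 := h.pol_add hu hv (isL_neg hv)
  rw [add_neg_cancel, h.pol_zero] at h1
  revert h1
  generalize pol R u v = a, pol R u (-v) = b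
  revert a b; decide

theorem InvForm.pol_two (h : InvForm R) {u v : Vec} (hu : IsL u) (hv : IsL v) :
    pol R u (v + v) = 0 := by rw [h.pol_add hu hv hv, z2_self]

theorem InvForm.rneg (h : InvForm R) {v : Vec} (hv : IsL v) : R (-v) = R v :=
  h.congr hv (isL_neg hv) (by abel)

theorem InvForm.pol_perm (h : InvForm R) {σ : Equiv.Perm GolayPt} (hσ : σ ∈ M24) {u v : Vec}
    (hu : IsL u) (hv : IsL v) : pol R (permVec σ u) (permVec σ v) = pol R u v := by
  simp only [pol]
  rw [show permVec σ u + permVec σ v = permVec σ (u + v) from rfl, h.perm σ hσ _ (isL_add hu hv),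
    h.perm σ hσ _ hu, h.perm σ hσ _ hv]

theorem InvForm.pol_flip (h : InvForm R) {s : Finset GolayPt}
    (hs : s ∈ supports (golayCode : Set (GolayPt → ZMod 2))) {u v : Vec}
    (hu : IsL u) (hv : IsL v) : pol R (flipVec s u) (flipVec s v) = pol R u v := by
  simp only [pol]
  rw [show flipVec s u + flipVec s v = flipVec s (u + v) by
      funext i; simp only [flipVec, Pi.add_apply]; split_ifs <;> ring,
    h.flip s hs _ (isL_add hu hv), h.flip s hs _ hu, h.flip s hs _ hv]

theorem InvForm.pol_xi (h : InvForm R) {u v : Vec} (hu : IsL u) (hv : IsL v) :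
    pol R (Leech.xi u) (Leech.xi v) = pol R u v := by
  simp only [pol]
  rw [← xi_add hu, h.xi _ (isL_add hu hv), h.xi _ hu, h.xi _ hv]

theorem perm_pair (σ : Equiv.Perm GolayPt) (i j : GolayPt) :
    permVec σ (pairVec i j) = pairVec (σ i) (σ j) := by
  funext k
  simp only [permVec, pairVec, Equiv.symm_apply_eq]

theorem pairVec_comm (i j : GolayPt) : pairVec i j = pairVec j i := by
  funext k; simp only [pairVec]; ring

theorem perm_octVec (σ : Equiv.Perm GolayPt) (s : Finset GolayPt) :
    permVec σ (octVec s) = octVec (σ • s) := by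
  funext k
  simp only [permVec, octVec]
  have : σ.symm k ∈ s ↔ k ∈ σ • s := by
    rw [Finset.mem_smul_finset]
    exact ⟨fun h => ⟨_, h, σ.apply_symm_apply k⟩,
      by rintro ⟨y, hy, rfl⟩; rwa [Equiv.Perm.smul_def, Equiv.symm_apply_apply]⟩
  rw [if_congr this rfl rfl]

/-- Value on pairs. -/
theorem InvForm.R_pair (h : InvForm R) {i j : GolayPt} (hij : i ≠ j) :
    R (pairVec i j) = R (pairVec (some 4) (some 3)) := by
  obtain ⟨g, e1, e2⟩ := exists_map_two (show (some 4 : GolayPt) ≠ some 3 by decide) hij
  change g.1 _ = _ at e1 e2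
  rw [← e1, ← e2, ← perm_pair, h.perm _ g.2 _ (isL_pair _ _)]

theorem InvForm.R_diag (h : InvForm R) (i : GolayPt) : R (pairVec i i) = R (pairVec none none) := by
  refine h.congr (isL_pair _ _) (w := pairVec i i - pairVec i none) ?_ ?_
  · rw [sub_eq_add_neg]; exact isL_add (isL_pair _ _) (isL_neg (isL_pair _ _))
  · funext k; simp only [pairVec, Pi.add_apply, Pi.sub_apply]; ring

theorem flip_c : inCode 8683614 = true ∧ (∀ x, x ∈ setOfMask 4415544 →
    (x ∈ setOfMask 8683614 ↔ x = some 4 ∨ x = some 3)) := by decide +kernel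

theorem neg_c : inCode 1302533 = true ∧ (some 0 : GolayPt) ∈ setOfMask 1302533 ∧
    (none : GolayPt) ∉ setOfMask 1302533 := by decide +kernel

/-- `R` is constant on `pairVec i i`, zero. -/
theorem InvForm.diag_zero (h : InvForm R) :
    R (pairVec none none) = 0 := by
  obtain ⟨w1, w2, w3⟩ := neg_c
  let c := setOfMask 1302533
  have hc : c ∈ supports (golayCode : Set (GolayPt → ZMod 2)) := by
    rw [mem_supports_iff, maskOf_setOfMask (by norm_num)]; exact w1
  -- the polar value of a pair and a diagonal
  have hz : ∀ i j : GolayPt, i ≠ j → ∀ k, pol R (pairVec i j) (pairVec k k) =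
      R (pairVec none none) := by
    intro i j hij k
    have e0 : R (pairVec (some 0) none + pairVec k k) = R (pairVec (some 0) none) := by
      have hfl : flipVec c (pairVec (some 0) none) =
          pairVec (some 0) none - pairVec (some 0) (some 0) := by
        funext l
        simp only [flipVec, pairVec, Pi.sub_apply]
        by_cases hl : l = some 0
        · subst hl; simp [c, w2]
        · by_cases hl' : l = none
          · subst hl'; simp [c, w3]
          · simp [hl, hl']
      have hk : R (pairVec (some 0) none + pairVec k k) =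
          R (pairVec (some 0) none - pairVec (some 0) (some 0)) := by
        refine h.congr ?_ (w := pairVec (some 0) k) (isL_pair _ _) ?_
        · rw [sub_eq_add_neg]; exact isL_add (isL_pair _ _) (isL_neg (isL_pair _ _))
        · funext l; simp only [pairVec, Pi.add_apply, Pi.sub_apply]; ring
      rw [hk, ← hfl, h.flip c hc _ (isL_pair _ _)]
    have e1 : R (pairVec i j + pairVec k k) = R (pairVec i j) := by
      obtain ⟨g, a1, a2⟩ := exists_map_two (show (some 0 : GolayPt) ≠ none by decide) hij
      change g.1 _ = _ at a1 a2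
      rw [← a1, ← a2, ← perm_pair, h.perm _ g.2 _ (isL_pair _ _), ← e0,
        show permVec g.1 (pairVec (some 0) none) + pairVec k k =
          permVec g.1 (pairVec (some 0) none + pairVec (g.1.symm k) (g.1.symm k)) by
          rw [show permVec g.1 (pairVec (some 0) none + pairVec (g.1.symm k) (g.1.symm k)) =
              permVec g.1 (pairVec (some 0) none) +
                permVec g.1 (pairVec (g.1.symm k) (g.1.symm k)) from rfl,
            perm_pair g.1 (g.1.symm k), Equiv.apply_symm_apply],
        h.perm _ g.2 _ (isL_add (isL_pair _ _) (isL_pair _ _))]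
      refine h.congr (isL_add (isL_pair _ _) (isL_pair _ _)) (w := pairVec (g.1.symm k) none -
        pairVec k none) ?_ ?_
      · rw [sub_eq_add_neg]; exact isL_add (isL_pair _ _) (isL_neg (isL_pair _ _))
      · funext l; simp only [pairVec, Pi.add_apply, Pi.sub_apply]; ring
    rw [pol, e1, h.R_diag k]
    generalize R (pairVec i j) = a, R (pairVec none none) = b
    revert a b; decide
  have h1 := hz (some 0) (some 1) (by decide) none
  have h2 := hz (some 1) (some 2) (by decide) none
  have h3 := hz (some 0) (some 2) (by decide) none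
  have hl := h.pol_add (isL_pair none none) (isL_pair (some 0) (some 1))
    (isL_pair (some 1) (some 2))
  have e : pairVec (some 0) (some 1) + pairVec (some 1) (some 2) =
      pairVec (some 0) (some 2) + pairVec (some 1) (some 1) := by
    funext l; simp only [pairVec, Pi.add_apply]; ring
  rw [e, h.pol_add (isL_pair none none) (isL_pair _ _) (isL_pair _ _), pol_comm _ (pairVec (some 0) (some 2)), pol_comm _ (pairVec (some 0) (some 1)), pol_comm _ (pairVec (some 1) (some 2)), h1, h2, h3] at hl
  have hzz : pol R (pairVec none none) (pairVec (some 1) (some 1)) = 0 := by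
    have he : R (pairVec none none + pairVec (some 1) (some 1)) = 0 := by
      rw [← h.zero]
      refine h.congr isL_zero (w := pairVec none (some 1)) (isL_pair _ _) ?_
      funext l; simp only [pairVec, Pi.add_apply, Pi.zero_apply]; ring
    rw [pol, he, h.R_diag (some 1), zero_add, z2_self]
  rw [hzz, z2_self, add_zero] at hl
  exact hl

theorem InvForm.pol_pair_diag (h : InvForm R) {i j : GolayPt} (hij : i ≠ j) (k : GolayPt) :
    pol R (pairVec i j) (pairVec k k) = 0 := by
  -- linearity through a third point
  have hr := h.diag_zero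
  obtain ⟨w1, w2, w3⟩ := neg_c
  have hc : setOfMask 1302533 ∈ supports (golayCode : Set (GolayPt → ZMod 2)) := by
    rw [mem_supports_iff, maskOf_setOfMask (by norm_num)]; exact w1
  obtain ⟨g, a1, a2⟩ := exists_map_two (show (some 0 : GolayPt) ≠ none by decide) hij
  change g.1 _ = _ at a1 a2
  rw [← a1, ← a2, ← perm_pair, show pairVec k k = permVec g.1 (pairVec (g.1.symm k) (g.1.symm k)) by
    rw [perm_pair, Equiv.apply_symm_apply], h.pol_perm g.2 (isL_pair _ _) (isL_pair _ _)]
  have hfl : flipVec (setOfMask 1302533) (pairVec (some 0) none) =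
      pairVec (some 0) none - pairVec (some 0) (some 0) := by
    funext l
    simp only [flipVec, pairVec, Pi.sub_apply]
    by_cases hl : l = some 0
    · subst hl; simp [w2]
    · by_cases hl' : l = none
      · subst hl'; simp [w3]
      · simp [hl, hl']
  rw [pol]
  have e : R (pairVec (some 0) none + pairVec (g.1.symm k) (g.1.symm k)) =
      R (pairVec (some 0) none) := by
    rw [← h.flip _ hc _ (isL_pair (some 0) none), hfl]
    refine h.congr ?_ (w := pairVec (some 0) (g.1.symm k)) (isL_pair _ _) ?_
    · rw [sub_eq_add_neg]; exact isL_add (isL_pair _ _) (isL_neg (isL_pair _ _))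
    · funext l; simp only [pairVec, Pi.add_apply, Pi.sub_apply]; ring
  rw [e, h.R_diag, hr, add_zero, z2_self]

/-- Pairs meeting in a point. -/
theorem InvForm.pol_meet (h : InvForm R) {i j k : GolayPt} (hij : i ≠ j) (hjk : j ≠ k)
    (hik : i ≠ k) : pol R (pairVec i j) (pairVec j k) = R (pairVec (some 4) (some 3)) := by
  have e : pairVec i j + pairVec j k = pairVec i k + pairVec j j := by
    funext l; simp only [pairVec, Pi.add_apply]; ring
  have hd := h.pol_pair_diag hik j
  rw [pol, h.R_pair hik, h.R_diag j, h.diag_zero, add_zero] at hd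
  have h0 : R (pairVec i k + pairVec j j) = R (pairVec (some 4) (some 3)) := by
    revert hd
    generalize R (pairVec i k + pairVec j j) = a, R (pairVec (some 4) (some 3)) = b
    revert a b; decide
  rw [pol, e, h0, h.R_pair hij, h.R_pair hjk, add_assoc, z2_self, add_zero]

/-- Disjoint pairs are orthogonal. -/
theorem InvForm.pol_disjoint (h : InvForm R) {a b c d : GolayPt} (hab : a ≠ b) (hac : a ≠ c)
    (had : a ≠ d) (hbc : b ≠ c) (hbd : b ≠ d) (hcd : c ≠ d) :
    pol R (pairVec a b) (pairVec c d) = 0 := by
  have const : ∀ p q r s : GolayPt, [p, q, r, s].Nodup →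
      pol R (pairVec p q) (pairVec r s) = pol R (pairVec a b) (pairVec c d) := by
    intro p q r s hn
    obtain ⟨g, hg⟩ := exists_map_list (xs := [a, b, c, d]) (ys := [p, q, r, s])
      (by simp [hab, hac, had, hbc, hbd, hcd]) hn rfl (by simp)
    simp only [List.map_cons, List.map_nil, List.cons.injEq] at hg
    change g.1 _ = _ ∧ g.1 _ = _ ∧ g.1 _ = _ ∧ g.1 _ = _ ∧ _ at hg
    obtain ⟨e1, e2, e3, e4, -⟩ := hg
    rw [← e1, ← e2, ← e3, ← e4, ← perm_pair, ← perm_pair,
      h.pol_perm g.2 (isL_pair _ _) (isL_pair _ _)]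
  have h1 := const (some 0) (some 1) (some 2) (some 3) (by decide)
  have h2 := const (some 0) (some 1) (some 3) (some 4) (by decide)
  have h3 := const (some 0) (some 1) (some 2) (some 4) (by decide)
  have hl := h.pol_add (isL_pair (some 0) (some 1)) (isL_pair (some 2) (some 3))
    (isL_pair (some 3) (some 4))
  have e : pairVec (some 2) (some 3) + pairVec (some 3) (some 4) =
      pairVec (some 2) (some 4) + pairVec (some 3) (some 3) := by
    funext l; simp only [pairVec, Pi.add_apply]; ring
  rw [e, h.pol_add (isL_pair _ _) (isL_pair _ _) (isL_pair _ _), h1, h2, h3,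
    h.pol_pair_diag (by decide), add_zero, z2_self] at hl
  exact hl

/-! ### the three octads of the sextet -/

/-- First octad. -/
abbrev X : Finset GolayPt := setOfMask 4415544
/-- Second octad. -/
abbrev Y : Finset GolayPt := setOfMask 2769128
/-- Third octad. -/
abbrev Z : Finset GolayPt := setOfMask 6889680

theorem xyz_facts :
    xi (pairVec (some 4) (some 3)) + pairVec (some 4) (some 3) = octVec X ∧
    xi (pairVec (some 3) (some 6)) + pairVec (some 3) (some 6) = octVec Y ∧
    flipVec (setOfMask 11010247) (octVec Z) = octVec X - octVec Y ∧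
    flipVec (setOfMask 8683614) (octVec X - pairVec (some 4) (some 3)) = octVec X ∧
    inCode 4415544 = true ∧ inCode 2769128 = true ∧ inCode 6889680 = true ∧
    inCode 11010247 = true ∧ inCode 8683614 = true ∧
    popc 4415544 = 8 ∧ popc 2769128 = 8 ∧ popc 6889680 = 8 := by decide +kernel

theorem perm_facts :
    isAut 683612663258297385886888906850418006 = true ∧
    mimg 683612663258297385886888906850418006 4415544 = 2769128 ∧
    pget 683612663258297385886888906850418006 3 = 3 ∧
    pget 683612663258297385886888906850418006 6 = 4 := by decide +kernel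

theorem mask_supports {m : ℕ} (hm : inCode m = true) :
    setOfMask m ∈ supports (golayCode : Set (GolayPt → ZMod 2)) := by
  rw [mem_supports_iff, maskOf_setOfMask (inCode_lt hm)]; exact hm

theorem InvForm.R_octad (h : InvForm R) {o : Finset GolayPt} (ho : o ∈ octads) :
    R (octVec o) = R (octVec X) := by
  obtain ⟨-, -, -, -, w5, -, -, -, -, w10, -⟩ := xyz_facts
  have hX : X ∈ octads := by
    rw [mem_octads_iff, maskOf_setOfMask (inCode_lt w5)]; exact ⟨w5, w10⟩
  obtain ⟨g, hg, e⟩ := exists_smul_octad hX ho
  rw [← e, ← perm_octVec, h.perm g hg _ (isL_octVec hX.1)]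

/-- The value on pairs is zero. -/
theorem InvForm.alpha_zero (h : InvForm R) : R (pairVec (some 4) (some 3)) = 0 := by
  obtain ⟨hX, hY, hZ, hfX, w5, w6, w7, w8, w9, w10, w11, w12⟩ := xyz_facts
  obtain ⟨haut, hmove, hp3, hp6⟩ := perm_facts
  have lX : IsL (octVec X) := isL_octVec (mask_supports w5)
  have lY : IsL (octVec Y) := isL_octVec (mask_supports w6)
  have lP : IsL (pairVec (some 4) (some 3)) := isL_pair _ _
  have lQ : IsL (pairVec (some 3) (some 6)) := isL_pair _ _
  set α := R (pairVec (some 4) (some 3)) with hα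
  have lXP : IsL (octVec X - pairVec (some 4) (some 3)) := by
    rw [sub_eq_add_neg]; exact isL_add lX (isL_neg lP)
  -- the value on octads
  have hxP : Leech.xi (pairVec (some 4) (some 3)) = octVec X - pairVec (some 4) (some 3) :=
    eq_sub_of_add_eq hX
  have hxQ : Leech.xi (pairVec (some 3) (some 6)) = octVec Y - pairVec (some 3) (some 6) :=
    eq_sub_of_add_eq hY
  have rX : R (octVec X) = α := by
    rw [← hfX, h.flip _ (mask_supports w9) _ lXP, ← hxP, h.xi _ lP]
  have oct : ∀ m, inCode m = true → popc m = 8 → R (octVec (setOfMask m)) = α := fun m hm h8 => by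
    rw [h.R_octad (by rw [mem_octads_iff, maskOf_setOfMask (inCode_lt hm)]; exact ⟨hm, h8⟩), rX]
  have rY := oct _ w6 w11
  have rZ := oct _ w7 w12
  -- `X` and the pair inside
  have bXP : pol R (octVec X) (pairVec (some 4) (some 3)) = α := by
    rw [← h.pol_neg lX lP, pol, ← sub_eq_add_neg, ← hxP, h.xi _ lP, h.rneg lP, rX, ← hα]
    generalize α = a; revert a; decide
  have bYQ : pol R (octVec Y) (pairVec (some 3) (some 6)) = α := by
    rw [← h.pol_neg lY lQ, pol, ← sub_eq_add_neg, ← hxQ, h.xi _ lQ, h.rneg lQ, rY,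
      h.R_pair (show (some 3 : GolayPt) ≠ some 6 by decide), ← hα]
    generalize α = a; revert a; decide
  -- the cross values agree
  have cross : pol R (octVec X) (pairVec (some 3) (some 6)) =
      pol R (octVec Y) (pairVec (some 4) (some 3)) := by
    obtain ⟨σ, hσ, hr⟩ := exists_mem_M24 haut
    have e3 : σ (some 3) = some 3 := ix_injective (by rw [← hr]; exact hp3)
    have e6 : σ (some 6) = some 4 := ix_injective (by rw [← hr]; exact hp6)
    rw [← h.pol_perm hσ lX lQ, perm_octVec, perm_pair, e3, e6, smul_setOfMask hr, hmove,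
      pairVec_comm]
  have bXY : pol R (octVec X) (octVec Y) = α := by
    rw [← h.pol_neg lX lY, pol, ← sub_eq_add_neg, ← hZ,
      h.flip _ (mask_supports w8) _ (isL_octVec (mask_supports w7)), h.rneg lY, rX, rY, rZ]
    generalize α = a; revert a; decide
  have bPQ : pol R (pairVec (some 4) (some 3)) (pairVec (some 3) (some 6)) = α :=
    h.pol_meet (by decide) (by decide) (by decide)
  have key := h.pol_xi lP lQ
  rw [hxP, hxQ, sub_eq_add_neg, sub_eq_add_neg] at key
  have lX' : IsL (octVec X + -pairVec (some 4) (some 3)) := isL_add lX (isL_neg lP)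
  rw [h.pol_add lX' lY (isL_neg lQ), pol_comm _ (octVec Y), h.pol_add lY lX (isL_neg lP),
    h.pol_neg lY lP, h.pol_neg lX' lQ, pol_comm _ (pairVec (some 3) (some 6)),
    h.pol_add lQ lX (isL_neg lP), h.pol_neg lQ lP, pol_comm _ (octVec X), bXY, ← cross,
    pol_comm (pairVec (some 3) (some 6)) (octVec X),
    pol_comm (pairVec (some 3) (some 6)) (pairVec (some 4) (some 3)), bPQ] at key
  revert key
  generalize pol R (octVec X) (pairVec (some 3) (some 6)) = b, α = a
  revert a b; decide

theorem InvForm.pol_pairs (h : InvForm R) (a b c d : GolayPt) :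
    pol R (pairVec a b) (pairVec c d) = 0 := by
  have hα := h.alpha_zero
  have diag : ∀ a c, pol R (pairVec a a) (pairVec c c) = 0 := fun a c => by
    have he : R (pairVec a a + pairVec c c) = 0 := by
      rw [← h.zero]
      refine h.congr isL_zero (w := pairVec a c) (isL_pair _ _) ?_
      funext l; simp only [pairVec, Pi.add_apply, Pi.zero_apply]; ring
    rw [pol, he, h.R_diag a, h.R_diag c, zero_add, z2_self]
  by_cases hab : a = b
  · subst hab
    by_cases hcd : c = d
    · subst hcd; exact diag a c
    · rw [pol_comm]; exact h.pol_pair_diag hcd a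
  by_cases hcd : c = d
  · subst hcd; exact h.pol_pair_diag hab c
  have meet : ∀ i j k : GolayPt, i ≠ j → j ≠ k → pol R (pairVec i j) (pairVec j k) = 0 := by
    intro i j k hij hjk
    by_cases hik : i = k
    · subst hik
      rw [pairVec_comm j i, pol, h.R_pair hij, hα, add_zero, add_zero, ← h.zero]
      refine h.congr isL_zero (w := pairVec i j) (isL_pair _ _) ?_
      rw [zero_add]
    · rw [h.pol_meet hij hjk hik, hα]
  by_cases h1 : a = c
  · subst h1; rw [pairVec_comm a b]; exact meet b a d (Ne.symm hab) hcd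
  by_cases h2 : a = d
  · subst h2; rw [pairVec_comm a b, pairVec_comm c a]; exact meet b a c (Ne.symm hab) (Ne.symm hcd)
  by_cases h3 : b = c
  · subst h3; exact meet a b d hab hcd
  by_cases h4 : b = d
  · subst h4; rw [pairVec_comm c b]; exact meet a b c hab (Ne.symm hcd)
  exact h.pol_disjoint hab h1 h2 h3 h4 hcd

theorem pair_flip_table : forallLt 24 (fun a => !Nat.beq (bitAt 4415544 a) 1 || Nat.beq a 3 ||
    !forallLt 4096 (fun k => !Nat.beq (Nat.land (enc k) 4415544)
      (Nat.lor (Nat.shiftLeft 1 a) (Nat.shiftLeft 1 3)))) = true := by decide +kernel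

theorem inside_facts : inCode 11575377 = true ∧
    Nat.land 11575377 4415544 = Nat.lor (Nat.shiftLeft 1 4) (Nat.shiftLeft 1 13) := by
  decide +kernel

theorem X_mem : X ∈ octads := by
  obtain ⟨-, -, -, -, w5, -, -, -, -, w10, -⟩ := xyz_facts
  rw [mem_octads_iff, maskOf_setOfMask (inCode_lt w5)]; exact ⟨w5, w10⟩

theorem InvForm.R_X (h : InvForm R) : R (octVec X) = 0 := by
  obtain ⟨hX', -, -, hfX, -, -, -, -, w9, -⟩ := xyz_facts
  rw [← hfX, h.flip _ (mask_supports w9) _ (by
      rw [sub_eq_add_neg]; exact isL_add (isL_octVec X_mem.1) (isL_neg (isL_pair _ _))),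
    ← eq_sub_of_add_eq hX', h.xi _ (isL_pair _ _), h.alpha_zero]

theorem InvForm.flip_pair_zero (h : InvForm R) {m : ℕ} (hm : inCode m = true) {a b : GolayPt}
    (hab : a ≠ b)
    (hland : Nat.land m 4415544 = Nat.lor (Nat.shiftLeft 1 (ix a)) (Nat.shiftLeft 1 (ix b))) :
    pol R (octVec X) (pairVec a b) = 0 := by
  have lX : IsL (octVec X) := isL_octVec X_mem.1
  have hset : setOfMask m ∩ X = {a, b} := by
    show setOfMask m ∩ setOfMask 4415544 = _
    rw [← setOfMask_land]
    apply maskOf_injective
    rw [maskOf_setOfMask (Nat.and_lt_two_pow _ (by norm_num)),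
      show ({a, b} : Finset GolayPt) = {a} ∪ {b} from Finset.insert_eq _ _,
      maskOf_union, maskOf_singleton, maskOf_singleton]
    exact hland
  have hin : ∀ l, l ∈ setOfMask m ∧ l ∈ X ↔ l = a ∨ l = b := fun l => by
    rw [← Finset.mem_inter, hset]; simp
  have hflip : flipVec (setOfMask m) (octVec X - pairVec a b) = octVec X := by
    funext l
    simp only [flipVec, octVec, pairVec, Pi.sub_apply]
    by_cases hla : l = a
    · obtain ⟨hm', hX'⟩ := (hin l).2 (Or.inl hla)
      subst hla
      simp [hm', hX', hab]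
    by_cases hlb : l = b
    · obtain ⟨hm', hX'⟩ := (hin l).2 (Or.inr hlb)
      subst hlb
      simp [hm', hX', hla]
    by_cases hX' : l ∈ X
    · have hm' : l ∉ setOfMask m := fun hm' => ((hin l).1 ⟨hm', hX'⟩).elim hla hlb
      simp [hm', hX', hla, hlb]
    · simp [hX', hla, hlb]
  rw [← h.pol_neg lX (isL_pair _ _), pol, ← sub_eq_add_neg,
    ← h.flip _ (mask_supports hm) _ (by
      rw [sub_eq_add_neg]; exact isL_add lX (isL_neg (isL_pair _ _))), hflip,
    h.rneg (isL_pair _ _), h.R_pair hab, h.alpha_zero, h.R_X]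
  rfl

theorem InvForm.pol_oct_pair (h : InvForm R)
    (hη : pol R (octVec X) (pairVec (some 3) (some 6)) = 0) {o : Finset GolayPt} (ho : o ∈ octads)
    (a b : GolayPt) : pol R (octVec o) (pairVec a b) = 0 := by
  have hX : X ∈ octads := X_mem
  have lX : IsL (octVec X) := isL_octVec hX.1
  -- pairs through the point 3
  have hthree : ∀ a, a ≠ some 3 → pol R (octVec X) (pairVec a (some 3)) = 0 := by
    intro a ha
    by_cases haX : a ∈ X
    · have hix : ix a ≠ 3 := fun e => ha (ix_injective (e.trans (by decide)))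
      have hb : bitAt 4415544 (ix a) = 1 := by
        rw [bitAt_eq, if_pos (mem_setOfMask.1 haX)]
      have ht := forallLt_elim pair_flip_table (ix_lt a)
      simp only [hb, show Nat.beq 1 1 = true from rfl, Bool.not_true, Bool.false_or,
        Bool.or_eq_true, Nat.beq_eq, hix, false_or, Bool.not_eq_true'] at ht
      obtain ⟨k, hk, hk'⟩ : ∃ k < 4096, Nat.land (enc k) 4415544 =
          Nat.lor (Nat.shiftLeft 1 (ix a)) (Nat.shiftLeft 1 3) := by
        by_contra hn
        push Not at hn
        rw [(forallLt_iff _ _).2 fun k hk => by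
          simp only [Bool.not_eq_true', Bool.eq_false_iff, ne_eq, Nat.beq_eq]
          exact hn k hk] at ht
        exact Bool.noConfusion ht
      exact h.flip_pair_zero (inCode_enc hk) ha hk'
    · -- outside: the pointwise stabiliser is transitive
      obtain ⟨g, hfix, hg⟩ :=
        (fix_regular hX (show (some 6 : GolayPt) ∉ X by rw [mem_setOfMask]; decide)).2 a haX
      have e3 : g.1 (some 3) = some 3 := hfix _ (by rw [mem_setOfMask]; decide)
      have eX : g.1 • X = X := by
        apply Finset.eq_of_subset_of_card_le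
        · intro y hy
          rw [Finset.mem_smul_finset] at hy
          obtain ⟨z, hz, rfl⟩ := hy
          show g.1 z ∈ X
          rwa [show g.1 z = z from hfix z hz]
        · rw [Finset.card_smul_finset]
      change g.1 (some 6) = a at hg
      rw [← hg, ← e3, pairVec_comm, ← perm_pair]
      conv_lhs => rw [← eX, ← perm_octVec]
      rw [h.pol_perm g.2 lX (isL_pair _ _), hη]
  have h413 : pol R (octVec X) (pairVec (some 4) (some 13)) = 0 :=
    h.flip_pair_zero inside_facts.1 (by decide) inside_facts.2
  have hdiag : ∀ c, pol R (octVec X) (pairVec c c) = 0 := by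
    intro c
    have h3 : pol R (octVec X) (pairVec (some 3) (some 3)) = 0 := by
      have e : pairVec (some 4) (some 13) + pairVec (some 3) (some 3) =
          pairVec (some 4) (some 3) + pairVec (some 13) (some 3) := by
        funext l; simp only [pairVec, Pi.add_apply]; ring
      have h' := congrArg (pol R (octVec X)) e
      rwa [h.pol_add lX (isL_pair _ _) (isL_pair _ _), h.pol_add lX (isL_pair _ _) (isL_pair _ _),
        h413, hthree (some 4) (by decide), hthree (some 13) (by decide), zero_add, add_zero] at h'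
    have lw : IsL (pairVec c (some 3) - pairVec (some 3) (some 3)) := by
      rw [sub_eq_add_neg]; exact isL_add (isL_pair _ _) (isL_neg (isL_pair _ _))
    have e : pairVec c c = pairVec (some 3) (some 3) +
        ((pairVec c (some 3) - pairVec (some 3) (some 3)) +
          (pairVec c (some 3) - pairVec (some 3) (some 3))) := by
      funext l; simp only [pairVec, Pi.add_apply, Pi.sub_apply]; ring
    rw [e, h.pol_add lX (isL_pair _ _) (isL_add lw lw), h.pol_two lX lw, h3, add_zero]
  have hX0 : ∀ a b, pol R (octVec X) (pairVec a b) = 0 := by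
    intro a b
    by_cases hab : a = b
    · subst hab; exact hdiag a
    by_cases ha : a = some 3
    · subst ha; rw [pairVec_comm]; exact hthree b (Ne.symm hab)
    by_cases hb : b = some 3
    · subst hb; exact hthree a ha
    have e : pairVec a b + pairVec (some 3) (some 3) =
        pairVec a (some 3) + pairVec b (some 3) := by
      funext l; simp only [pairVec, Pi.add_apply]; ring
    have h' := congrArg (pol R (octVec X)) e
    rwa [h.pol_add lX (isL_pair _ _) (isL_pair _ _), h.pol_add lX (isL_pair _ _) (isL_pair _ _),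
      hdiag, hthree a ha, hthree b hb, add_zero, add_zero] at h'
  obtain ⟨g, hg, e⟩ := exists_smul_octad hX ho
  rw [← e, ← perm_octVec, show pairVec a b = permVec g (pairVec (g.symm a) (g.symm b)) by
    rw [perm_pair, Equiv.apply_symm_apply, Equiv.apply_symm_apply],
    h.pol_perm hg lX (isL_pair _ _), hX0]

theorem xi_inside : xi (pairVec (some 16) (some 22)) = pairVec (some 4) (some 13) := by
  decide +kernel

theorem basis_weight : ∀ b < 12, popc (basisMask b) = 8 := by decide +kernel

theorem basis_octad {b : ℕ} (hb : b < 12) : setOfMask (basisMask b) ∈ octads := by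
  rw [mem_octads_iff, maskOf_setOfMask (inCode_lt (basisMask_inCode b hb))]
  exact ⟨basisMask_inCode b hb, basis_weight b hb⟩

/-- The vectors orthogonal to `u`, as an additive subgroup. -/
def annih (h : InvForm R) {u : Vec} (hu : IsL u) : AddSubgroup Vec where
  carrier := {v | IsL v ∧ pol R u v = 0}
  zero_mem' := ⟨isL_zero, h.pol_zero⟩
  add_mem' := fun {a b} ha hb =>
    ⟨isL_add ha.1 hb.1, by rw [h.pol_add hu ha.1 hb.1, ha.2, hb.2, add_zero]⟩
  neg_mem' := fun {a} ha => ⟨isL_neg ha.1, by rw [h.pol_neg hu ha.1]; exact ha.2⟩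

theorem InvForm.pol_pair_all (h : InvForm R)
    (hη : pol R (octVec X) (pairVec (some 3) (some 6)) = 0) (a b : GolayPt) {v : Vec}
    (hv : IsL v) : pol R (pairVec a b) v = 0 := by
  -- even vectors
  have heven : ∀ a b : GolayPt, ∀ x : Vec, IsL x → x none % 2 = 0 →
      pol R (pairVec a b) x = 0 := by
    intro a b x hx hpar
    let M : AddSubgroup Vec :=
      { carrier := {y | IsL y ∧ (y none % 2 = 0 → pol R (pairVec a b) y = 0) ∧
          (y none % 2 = 1 → pol R (pairVec a b) (y - omegaVec) = 0)}
        zero_mem' := ⟨isL_zero, fun _ => h.pol_zero, fun h0 => by simp at h0⟩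
        add_mem' := fun {y z} hy hz => by
          have lω : IsL (-omegaVec) := isL_neg isL_omega
          have ly : IsL (y - omegaVec) := by rw [sub_eq_add_neg]; exact isL_add hy.1 lω
          have lz : IsL (z - omegaVec) := by rw [sub_eq_add_neg]; exact isL_add hz.1 lω
          have lP : IsL (pairVec a b) := isL_pair a b
          have hω : pol R (pairVec a b) (omegaVec + omegaVec) = 0 := h.pol_two lP isL_omega
          refine ⟨isL_add hy.1 hz.1, fun hp => ?_, fun hp => ?_⟩
          · simp only [Pi.add_apply] at hp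
            rcases Int.emod_two_eq (y none) with p1 | p1
            · rw [h.pol_add lP hy.1 hz.1, hy.2.1 p1, hz.2.1 (by omega), add_zero]
            · rw [show y + z = (y - omegaVec) + ((z - omegaVec) + (omegaVec + omegaVec)) by abel,
                h.pol_add lP ly (isL_add lz (isL_add isL_omega isL_omega)),
                h.pol_add lP lz (isL_add isL_omega isL_omega), hy.2.2 p1, hz.2.2 (by omega), hω,
                add_zero, add_zero]
          · simp only [Pi.add_apply] at hp
            rcases Int.emod_two_eq (y none) with p1 | p1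
            · rw [show y + z - omegaVec = y + (z - omegaVec) by abel, h.pol_add lP hy.1 lz,
                hy.2.1 p1, hz.2.2 (by omega), add_zero]
            · rw [show y + z - omegaVec = (y - omegaVec) + z by abel, h.pol_add lP ly hz.1,
                hy.2.2 p1, hz.2.1 (by omega), add_zero]
        neg_mem' := fun {y} hy => by
          have lω : IsL (-omegaVec) := isL_neg isL_omega
          have lP : IsL (pairVec a b) := isL_pair a b
          have ly : IsL (y - omegaVec) := by rw [sub_eq_add_neg]; exact isL_add hy.1 lω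
          refine ⟨isL_neg hy.1, fun hp => ?_, fun hp => ?_⟩
          · simp only [Pi.neg_apply] at hp
            rw [h.pol_neg lP hy.1]
            exact hy.2.1 (by omega)
          · simp only [Pi.neg_apply] at hp
            rw [show -y - omegaVec = -(y - omegaVec) + -(omegaVec + omegaVec) by abel,
              h.pol_add lP (isL_neg ly) (isL_neg (isL_add isL_omega isL_omega)),
              h.pol_neg lP ly, h.pol_neg lP (isL_add isL_omega isL_omega),
              h.pol_two lP isL_omega, add_zero]
            exact hy.2.2 (by omega) }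
    have hle : leechLattice ≤ M := le_of_gen fun y hy => ⟨isL_gen hy, by
      rcases hy with rfl | ⟨i, rfl⟩ | ⟨c, hc, rfl⟩
      · exact ⟨fun h0 => by simp [omegaVec] at h0, fun _ => by rw [sub_self, h.pol_zero]⟩
      · exact ⟨fun _ => h.pol_pairs a b i none, fun h1 => by
          simp only [pairVec] at h1; omega⟩
      · refine ⟨fun _ => by rw [pol_comm]; exact h.pol_oct_pair hη (basis_octad hc) a b,
          fun h1 => ?_⟩
        simp only [octVec] at h1; split_ifs at h1 <;> omega⟩
    exact (hle (mem_iff.2 hx)).2.1 hpar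
  -- one odd vector
  let ω' : Vec := Leech.xi (octVec (setOfMask (basisMask 1)))
  have lo : IsL (octVec (setOfMask (basisMask 1))) := isL_octVec (basis_supports (by norm_num))
  have lω' : IsL ω' := isL_xi lo
  have h0 : pol R (pairVec (some 4) (some 13)) ω' = 0 := by
    rw [← xi_inside, h.pol_xi (isL_pair _ _) lo, pol_comm]
    exact h.pol_oct_pair hη (basis_octad (by norm_num)) _ _
  have hω : ∀ a b : GolayPt, pol R (pairVec a b) ω' = 0 := by
    have hne : ∀ a b : GolayPt, a ≠ b → pol R (pairVec a b) ω' = 0 := by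
      intro a b hab
      obtain ⟨g, e1, e2⟩ := exists_map_two (show (some 4 : GolayPt) ≠ some 13 by decide) hab
      change g.1 _ = _ at e1 e2
      have lg := isL_perm g.2 lω'
      have hsub : IsL (ω' - permVec g.1 ω') := by
        rw [sub_eq_add_neg]; exact isL_add lω' (isL_neg lg)
      have hpar : (ω' - permVec g.1 ω') none % 2 = 0 := by
        obtain ⟨m, d, h1, -, -⟩ := lω'
        simp only [Pi.sub_apply, permVec, h1]; omega
      rw [show ω' = permVec g.1 ω' + (ω' - permVec g.1 ω') by abel,
        h.pol_add (isL_pair a b) lg hsub, heven a b _ hsub hpar, add_zero, ← e1, ← e2,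
        ← perm_pair, h.pol_perm g.2 (isL_pair _ _) lω', h0]
    intro a b
    by_cases hab : a = b
    · subst hab
      obtain ⟨c, -, hc⟩ := Finset.exists_mem_notMem_of_card_lt_card
        (s := ({a} : Finset GolayPt)) (t := Finset.univ) (by simp)
      rw [Finset.mem_singleton] at hc
      obtain ⟨d, -, hd⟩ := Finset.exists_mem_notMem_of_card_lt_card
        (s := ({a, c} : Finset GolayPt)) (t := Finset.univ)
        (lt_of_le_of_lt Finset.card_le_two (by decide))
      simp only [Finset.mem_insert, Finset.mem_singleton, not_or] at hd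
      have e : pairVec a a + pairVec c d = pairVec a c + pairVec a d := by
        funext l; simp only [pairVec, Pi.add_apply]; ring
      have h' := congrArg (fun x => pol R ω' x) e
      simp only [h.pol_add lω' (isL_pair _ _) (isL_pair _ _), pol_comm ω',
        hne c d (Ne.symm hd.2), hne a c (Ne.symm hc), hne a d (Ne.symm hd.1), add_zero] at h'
      exact h'
    · exact hne a b hab
  by_cases hpar : v none % 2 = 0
  · exact heven a b v hv hpar
  · have lsub : IsL (v - ω') := by rw [sub_eq_add_neg]; exact isL_add hv (isL_neg lω')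
    have hp : (v - ω') none % 2 = 0 := by
      have : ω' none % 2 = 1 := xi_oct_odd
      simp only [Pi.sub_apply]; omega
    rw [show v = ω' + (v - ω') by abel, h.pol_add (isL_pair a b) lω' lsub, hω,
      heven a b _ lsub hp, add_zero]

theorem isL_permVec_symm {σ : Equiv.Perm GolayPt} (hσ : σ ∈ M24) {x : Vec} (hx : IsL x) :
    IsL (permVec σ⁻¹ x) := isL_perm (inv_mem hσ) hx

theorem not_twice_pair : ¬ ∃ w, IsL w ∧ pairVec (some 4) (some 3) = w + w := by
  rintro ⟨w, hw, e⟩
  have : sqNorm w = 8 := by
    have h2 : sqNorm (w + w) = 4 * sqNorm w := by rw [← two_nsmul, norm_smul_two]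
    rw [← e, show sqNorm (pairVec (some 4) (some 3)) = 32 by decide +kernel] at h2
    omega
  have := norm_dvd hw
  omega

/-- A form with `η = 0` vanishes. -/
theorem InvForm.vanish (h : InvForm R)
    (hη : pol R (octVec X) (pairVec (some 3) (some 6)) = 0) {v : Vec} (hv : IsL v) : R v = 0 := by
  -- the radical
  let Rad : AddSubgroup Vec :=
    { carrier := {u | IsL u ∧ ∀ w, IsL w → pol R u w = 0}
      zero_mem' := ⟨isL_zero, fun w hw => by rw [pol_comm]; exact h.pol_zero⟩
      add_mem' := fun {a b} ha hb => ⟨isL_add ha.1 hb.1, fun w hw => by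
        rw [pol_comm, h.pol_add hw ha.1 hb.1, pol_comm w a, pol_comm w b, ha.2 w hw, hb.2 w hw,
          add_zero]⟩
      neg_mem' := fun {a} ha => ⟨isL_neg ha.1, fun w hw => by
        rw [pol_comm, h.pol_neg hw ha.1, pol_comm]; exact ha.2 w hw⟩ }
  have hRad : InvSub Rad := by
    refine ⟨fun x hx => hx.1, fun x hx => ⟨isL_add hx hx, fun w hw => ?_⟩, ?_, ?_, ?_⟩
    · rw [pol_comm]; exact h.pol_two hw hx
    · intro σ hσ x hx
      refine ⟨isL_perm hσ hx.1, fun w hw => ?_⟩
      rw [show w = permVec σ (permVec σ⁻¹ w) from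
          funext fun i => (congrArg w (σ.apply_symm_apply i)).symm,
        h.pol_perm hσ hx.1 (isL_permVec_symm hσ hw)]
      exact hx.2 _ (isL_permVec_symm hσ hw)
    · intro s hs x hx
      refine ⟨isL_flip hs hx.1, fun w hw => ?_⟩
      rw [← flip_flip s w, h.pol_flip hs hx.1 (isL_flip hs hw)]
      exact hx.2 _ (isL_flip hs hw)
    · intro x hx
      refine ⟨isL_xi hx.1, fun w hw => ?_⟩
      rw [← xi_xi hw, h.pol_xi hx.1 (isL_xi hw)]
      exact hx.2 _ (isL_xi hw)
  have hall : leechLattice ≤ Rad :=
    irreducible hRad (x := pairVec (some 4) (some 3))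
      ⟨isL_pair _ _, fun w hw => h.pol_pair_all hη _ _ hw⟩ not_twice_pair
  have hadd : ∀ a b, IsL a → IsL b → R (a + b) = R a + R b := by
    intro a b ha hb
    have := (hall (mem_iff.2 ha)).2 b hb
    rw [pol] at this
    revert this
    generalize R (a + b) = x, R a = y, R b = z
    revert x y z; decide
  let K : AddSubgroup Vec :=
    { carrier := {u | IsL u ∧ R u = 0}
      zero_mem' := ⟨isL_zero, h.zero⟩
      add_mem' := fun {a b} ha hb =>
        ⟨isL_add ha.1 hb.1, by rw [hadd a b ha.1 hb.1, ha.2, hb.2, add_zero]⟩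
      neg_mem' := fun {a} ha => ⟨isL_neg ha.1, by rw [h.rneg ha.1]; exact ha.2⟩ }
  have hK : InvSub K := by
    refine ⟨fun x hx => hx.1, fun x hx => ⟨isL_add hx hx, by rw [hadd x x hx hx, z2_self]⟩,
      ?_, ?_, ?_⟩
    · exact fun σ hσ x hx => ⟨isL_perm hσ hx.1, by rw [h.perm σ hσ x hx.1]; exact hx.2⟩
    · exact fun s hs x hx => ⟨isL_flip hs hx.1, by rw [h.flip s hs x hx.1]; exact hx.2⟩
    · exact fun x hx => ⟨isL_xi hx.1, by rw [h.xi x hx.1]; exact hx.2⟩
  exact (irreducible hK (x := pairVec (some 4) (some 3)) ⟨isL_pair _ _, h.alpha_zero⟩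
    not_twice_pair (mem_iff.2 hv)).2

/-! ### the norm form -/

/-- Half the norm, in the customary normalisation, mod 2. -/
def normForm (v : Vec) : ZMod 2 := ((sqNorm v / 16 : ℤ) : ZMod 2)

theorem norm_cubic (u v w : Vec) : sqNorm (u + v + w) + sqNorm u + sqNorm v + sqNorm w =
    sqNorm (u + v) + sqNorm (u + w) + sqNorm (v + w) := by
  simp only [sqNorm, ← Finset.sum_add_distrib, Pi.add_apply]
  exact Finset.sum_congr rfl fun i _ => by ring

theorem norm_coset (v w : Vec) :
    sqNorm (v + (w + w)) + sqNorm v + 4 * sqNorm w =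
      2 * (sqNorm (v + w) - sqNorm v - sqNorm w) + 2 * sqNorm v + 8 * sqNorm w := by
  simp only [sqNorm, Finset.mul_sum, ← Finset.sum_sub_distrib, ← Finset.sum_add_distrib,
    Pi.add_apply]
  exact Finset.sum_congr rfl fun i _ => by ring

theorem normForm_inv : InvForm normForm where
  coset v w hv hw := by
    have h1 := norm_dvd hv
    have h2 := norm_dvd hw
    have h3 := norm_dvd (isL_add hv hw)
    have h4 := norm_dvd (isL_add hv (isL_add hw hw))
    have h5 := norm_coset v w
    rw [normForm, normForm, ZMod.intCast_eq_intCast_iff]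
    simp only [Int.ModEq, Nat.cast_ofNat]
    omega
  quad u v w hu hv hw := by
    have h1 := norm_dvd hu
    have h2 := norm_dvd hv
    have h3 := norm_dvd hw
    have h4 := norm_dvd (isL_add hu hv)
    have h5 := norm_dvd (isL_add hu hw)
    have h6 := norm_dvd (isL_add hv hw)
    have h7 := norm_dvd (isL_add (isL_add hu hv) hw)
    have h8 := norm_cubic u v w
    simp only [normForm, ← Int.cast_add]
    congr 1
    omega
  perm σ _ v _ := by rw [normForm, normForm, norm_perm]
  flip s _ v _ := by rw [normForm, normForm, norm_flip]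
  xi v hv := by rw [normForm, normForm, norm_xi hv]

theorem normForm_eta : pol normForm (octVec X) (pairVec (some 3) (some 6)) = 1 := by
  decide +kernel

theorem InvForm.eq_normForm (h : InvForm R) (hne : ∃ v, IsL v ∧ R v ≠ 0) {v : Vec} (hv : IsL v) :
    R v = normForm v := by
  have hη : pol R (octVec X) (pairVec (some 3) (some 6)) = 1 := by
    rcases (show ∀ a : ZMod 2, a = 0 ∨ a = 1 by decide)
        (pol R (octVec X) (pairVec (some 3) (some 6))) with h0 | h1
    · obtain ⟨x, hx, hx0⟩ := hne
      exact absurd (h.vanish h0 hx) hx0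
    · exact h1
  have hN := normForm_inv
  have hsum : InvForm fun x => R x + normForm x := by
    refine ⟨fun a b ha hb => ?_, fun a b c ha hb hc => ?_, fun σ hσ a ha => ?_,
      fun s hs a ha => ?_, fun a ha => ?_⟩
    · rw [h.coset a b ha hb, hN.coset a b ha hb]
    · have e1 := h.quad a b c ha hb hc
      have e2 := hN.quad a b c ha hb hc
      linear_combination e1 + e2
    · rw [h.perm σ hσ a ha, hN.perm σ hσ a ha]
    · rw [h.flip s hs a ha, hN.flip s hs a ha]
    · rw [h.xi a ha, hN.xi a ha]
  have hzero : pol (fun x => R x + normForm x) (octVec X) (pairVec (some 3) (some 6)) = 0 := by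
    have e : pol R (octVec X) (pairVec (some 3) (some 6)) +
        pol normForm (octVec X) (pairVec (some 3) (some 6)) = 0 := by
      rw [hη, normForm_eta, z2_self]
    simp only [pol] at e ⊢
    linear_combination e
  have := hsum.vanish hzero hv
  calc R v = R v + (normForm v + normForm v) := by rw [z2_self, add_zero]
    _ = normForm v := by rw [← add_assoc, this, zero_add]

end CfsgLib.ThreeTrans.Leech

namespace CfsgLib.ThreeTrans.Leech

open Cfsg CfsgLib.Sporadic

theorem irreducible_mod_two (M : AddSubgroup Vec)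
    (h2 : ∀ v ∈ leechLattice, (2 : ℤ) • v ∈ M) (hle : M ≤ leechLattice)
    (hinv : ∀ g : ↥Co0, ∀ v : ↥leechLattice, (v : Vec) ∈ M →
      ((g • v : ↥leechLattice) : Vec) ∈ M) :
    (∀ x ∈ M, ∃ w ∈ leechLattice, x = (2 : ℤ) • w) ∨ M = leechLattice := by
  by_cases hx : ∀ x ∈ M, ∃ w ∈ leechLattice, x = (2 : ℤ) • w
  · exact Or.inl hx
  right
  push Not at hx
  obtain ⟨x, hx, hne⟩ := hx
  refine le_antisymm hle (irreducible ⟨fun y hy => mem_iff.1 (hle hy), fun y hy => ?_,
    fun σ hσ y hy => ?_, fun s hs y hy => ?_, fun y hy => ?_⟩ hx ?_)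
  · rw [← two_smul ℤ y]; exact h2 y (mem_iff.2 hy)
  · exact hinv (permElt hσ) ⟨y, hle hy⟩ hy
  · exact hinv (flipElt hs) ⟨y, hle hy⟩ hy
  · exact hinv xiElt ⟨y, hle hy⟩ hy
  · rintro ⟨w, hw, e⟩
    exact hne w (mem_iff.2 hw) (by rw [e, two_smul])

theorem form_unique (Q : ↥leechLattice → ZMod 2)
    (hcoset : ∀ v w : ↥leechLattice, Q (v + (w + w)) = Q v)
    (hquad : ∀ u v w : ↥leechLattice,
      Q (u + v + w) + Q u + Q v + Q w = Q (u + v) + Q (u + w) + Q (v + w))
    (hinv : ∀ (g : ↥Co0) (v : ↥leechLattice), Q (g • v) = Q v)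
    (hne : ∃ v : ↥leechLattice, Q v ≠ 0) (v : ↥leechLattice) :
    Q v = ((sqNorm (v : Vec) / 16 : ℤ) : ZMod 2) := by
  classical
  let R : Vec → ZMod 2 := fun x => if hx : x ∈ leechLattice then Q ⟨x, hx⟩ else 0
  have hR : ∀ x (hx : IsL x), R x = Q ⟨x, mem_iff.2 hx⟩ := fun x hx => dif_pos (mem_iff.2 hx)
  have hI : InvForm R := by
    refine ⟨fun a b ha hb => ?_, fun a b c ha hb hc => ?_, fun σ hσ a ha => ?_,
      fun s hs a ha => ?_, fun a ha => ?_⟩
    · rw [hR _ (isL_add ha (isL_add hb hb)), hR _ ha]
      exact hcoset ⟨a, mem_iff.2 ha⟩ ⟨b, mem_iff.2 hb⟩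
    · rw [hR _ (isL_add (isL_add ha hb) hc), hR _ ha, hR _ hb, hR _ hc, hR _ (isL_add ha hb),
        hR _ (isL_add ha hc), hR _ (isL_add hb hc)]
      exact hquad ⟨a, mem_iff.2 ha⟩ ⟨b, mem_iff.2 hb⟩ ⟨c, mem_iff.2 hc⟩
    · rw [hR _ (isL_perm hσ ha), hR _ ha]
      exact hinv (permElt hσ) ⟨a, mem_iff.2 ha⟩
    · rw [hR _ (isL_flip hs ha), hR _ ha]
      exact hinv (flipElt hs) ⟨a, mem_iff.2 ha⟩
    · rw [hR _ (isL_xi ha), hR _ ha]
      exact hinv xiElt ⟨a, mem_iff.2 ha⟩
  obtain ⟨x, hx⟩ := hne
  have hxL := mem_iff.1 x.2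
  have hvL := mem_iff.1 v.2
  have := hI.eq_normForm ⟨x, hxL, by rw [hR _ hxL]; exact hx⟩ hvL
  rw [hR _ hvL] at this
  exact this

end CfsgLib.ThreeTrans.Leech
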