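import Cfsg.Agent.Lib.ThreeTrans.Leech
import Cfsg.Agent.S0358

/-!
A sublattice of index `2^12` containing twice the lattice with all norms divisible by 32.
-/

set_option autoImplicit false

namespace CfsgLib.ThreeTrans.Leech

open Cfsg Finset

/-- The word of a vector relative to its entry at infinity. -/
def word (x : GolayPt → ℤ) : GolayPt → ZMod 2 := red fun i => (x i - x none) / 2

theorem parity {x : GolayPt → ℤ} (hx : IsL x) (i : GolayPt) : (x i - x none) % 2 = 0 := by
  obtain ⟨m, d, h1, -, -⟩ := hx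
  rw [h1, h1]; omega

theorem word_mem {x : GolayPt → ℤ} (hx : IsL x) : word x ∈ golayCode ∧ word x none = 0 := by
  refine ⟨?_, by simp [word, red]⟩
  obtain ⟨m, d, h1, h2, -⟩ := hx
  have : word x = red d + ((d none : ℤ) : ZMod 2) • (1 : GolayPt → ZMod 2) := by
    funext i
    simp only [word, red, Pi.add_apply, Pi.smul_apply, Pi.one_apply, smul_eq_mul, mul_one, h1]
    rw [show (m + 2 * d i - (m + 2 * d none)) / 2 = d i - d none by omega, Int.cast_sub,
      CharTwo.sub_eq_add]
  rw [this]
  exact add_mem h2 (Submodule.smul_mem _ _ one_mem_code)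

theorem word_add {x y : GolayPt → ℤ} (hx : IsL x) : word (x + y) = word x + word y := by
  funext i
  have h := parity hx i
  simp only [word, red, Pi.add_apply]
  rw [← Int.cast_add,
    show (x i + y i - (x none + y none)) / 2 = (x i - x none) / 2 + (y i - y none) / 2 by omega]

/-- Code words vanishing at infinity. -/
def codeInf : AddSubgroup (GolayPt → ZMod 2) where
  carrier := {c | c ∈ golayCode ∧ c none = 0}
  zero_mem' := ⟨zero_mem _, rfl⟩
  add_mem' {a b} ha hb := ⟨add_mem ha.1 hb.1, by simp [ha.2, hb.2]⟩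
  neg_mem' {a} ha := ⟨neg_mem ha.1, by simp [ha.2]⟩

theorem card_codeInf : Nat.card codeInf = 2 ^ 11 := by
  have hC : Nat.card golayCode = 2 ^ 12 := by
    rw [Module.natCard_eq_pow_finrank (K := ZMod 2), Nat.card_zmod, Cfsg.Agent.S0358.result]
  let e : ZMod 2 × codeInf → golayCode := fun p =>
    ⟨p.2.1 + p.1 • (1 : GolayPt → ZMod 2), add_mem p.2.2.1 (Submodule.smul_mem _ _ one_mem_code)⟩
  have he : Function.Bijective e := by
    constructor
    · rintro ⟨a, c⟩ ⟨b, d⟩ h
      have h' : c.1 + a • (1 : GolayPt → ZMod 2) = d.1 + b • (1 : GolayPt → ZMod 2) :=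
        congrArg Subtype.val h
      have hab : a = b := by
        have := congrFun h' none
        simpa [c.2.2, d.2.2] using this
      subst hab
      exact Prod.ext rfl (Subtype.ext (add_right_cancel h'))
    · intro w
      refine ⟨(w.1 none, ⟨w.1 + w.1 none • (1 : GolayPt → ZMod 2),
        add_mem w.2 (Submodule.smul_mem _ _ one_mem_code), by simp [CharTwo.add_self_eq_zero]⟩),
        Subtype.ext ?_⟩
      show w.1 + w.1 none • (1 : GolayPt → ZMod 2) + w.1 none • (1 : GolayPt → ZMod 2) = w.1
      funext i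
      simp [add_assoc, CharTwo.add_self_eq_zero]
  have := Nat.card_eq_of_bijective e he
  rw [hC, Nat.card_prod, Nat.card_zmod] at this
  omega

/-- The invariant of a lattice vector modulo the sublattice. -/
def inv : leechLattice →+ ZMod 2 × codeInf :=
  AddMonoidHom.mk'
    (fun x => (((x : GolayPt → ℤ) none : ℤ), ⟨word x, word_mem (mem_iff.1 x.2)⟩))
    fun x y => by
      refine Prod.ext ?_ (Subtype.ext (word_add (mem_iff.1 x.2)))
      simp

theorem inv_surjective : Function.Surjective inv := by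
  rintro ⟨p, ⟨c, hc, hc0⟩⟩
  let d : GolayPt → ℤ := fun i => (c i).val
  have hd : red d = c := by funext i; simp [red, d]
  have hsum : (∑ i, d i) = ((support₂ c).card : ℤ) := by
    rw [← hd, card_odd]
    refine Finset.sum_congr rfl fun i _ => ?_
    have := ZMod.val_lt (c i)
    simp only [d]
    omega
  have h4 := (weight hc).2
  have he : IsL fun i => 2 * d i := by
    refine ⟨0, d, fun i => by simp, by rw [hd]; exact hc, ?_⟩
    rw [← Finset.mul_sum, hsum]
    simp only [Int.ModEq]
    omega
  let o : GolayPt → ℤ := fun i => if i = some 0 then -3 else 1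
  have ho : IsL o := by
    refine ⟨1, fun i => if i = some 0 then -2 else 0, fun i => ?_, ?_, by decide⟩
    · simp only [o]; split_ifs <;> rfl
    · have : red (fun i : GolayPt => if i = some 0 then -2 else 0) = 0 := by
        funext i; simp only [red]; split_ifs <;> simp [CharTwo.two_eq_zero]
      rw [this]; exact zero_mem _
  have hwe : word (fun i => 2 * d i) = c := by
    funext i
    have : d none = 0 := by simp [d, hc0]
    simp only [word, red, this, mul_zero, sub_zero]
    rw [Int.mul_ediv_cancel_left _ two_ne_zero]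
    simp [d]
  have hwo : word o = 0 := by
    funext i; simp only [word, red, o]; split_ifs <;> simp_all <;> decide
  have hcases : p = 0 ∨ p = 1 := by revert p; decide
  rcases hcases with rfl | rfl
  · refine ⟨⟨_, mem_iff.2 he⟩, Prod.ext ?_ (Subtype.ext hwe)⟩
    simp [inv, CharTwo.two_eq_zero]
  · refine ⟨⟨_, mem_iff.2 (isL_add he ho)⟩, Prod.ext ?_ (Subtype.ext ?_)⟩
    · simp [inv, o, CharTwo.two_eq_zero]
    · show word ((fun i => 2 * d i) + o) = c
      rw [word_add he, hwe, hwo, add_zero]

/-- The sublattice: the vectors with even entries and all half entries congruent mod 2. -/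
def sub : AddSubgroup (GolayPt → ℤ) := inv.ker.map leechLattice.subtype

theorem sub_le : sub ≤ leechLattice := by rintro _ ⟨x, -, rfl⟩; exact x.2

theorem sub_index : (sub.addSubgroupOf leechLattice).index = 2 ^ 12 := by
  have : sub.addSubgroupOf leechLattice = inv.ker := by
    rw [sub, AddSubgroup.addSubgroupOf, AddSubgroup.comap_map_eq_self_of_injective]
    exact Subtype.val_injective
  rw [this, AddSubgroup.index_ker, AddMonoidHom.range_eq_top.2 inv_surjective,
    AddSubgroup.card_top, Nat.card_prod, card_codeInf, Nat.card_zmod]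
  rfl

theorem two_mem_sub {v : GolayPt → ℤ} (hv : v ∈ leechLattice) : (2 : ℤ) • v ∈ sub := by
  refine ⟨⟨v, hv⟩ + ⟨v, hv⟩, ?_, by funext i; simp; ring⟩
  show inv (⟨v, hv⟩ + ⟨v, hv⟩) = 0
  rw [map_add]
  generalize inv ⟨v, hv⟩ = q
  exact Prod.ext (CharTwo.add_self_eq_zero _)
    (Subtype.ext (funext fun i => CharTwo.add_self_eq_zero _))

theorem sub_norm {v : GolayPt → ℤ} (hv : v ∈ sub) : (32 : ℤ) ∣ sqNorm v := by
  obtain ⟨⟨x, hx⟩, hk, rfl⟩ := hv
  have hk' : (((x none : ℤ) : ZMod 2) = 0) ∧ word x = 0 := by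
    have : inv ⟨x, hx⟩ = 0 := hk
    exact ⟨congrArg Prod.fst this, congrArg (fun q => q.2.1) this⟩
  show (32 : ℤ) ∣ sqNorm x
  have hev : x none % 2 = 0 := by
    have := (ZMod.intCast_zmod_eq_zero_iff_dvd _ 2).1 hk'.1
    omega
  let t : ℤ := x none / 2
  have hpar : ∀ i, x i % 4 = (2 * t) % 4 := by
    intro i
    have h1 := parity (mem_iff.1 hx) i
    have h2 : ¬ (word x i ≠ 0) := by simp [hk'.2]
    simp only [word, red, cast_ne_zero_iff] at h2
    simp only [t]
    omega
  let e : GolayPt → ℤ := fun i => (x i - 2 * t) / 4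
  have he : ∀ i, x i = 2 * t + 4 * e i := fun i => by
    show x i = 2 * t + 4 * ((x i - 2 * t) / 4)
    have := hpar i
    omega
  -- the sum condition
  obtain ⟨m, d, h1, -, h3⟩ := mem_iff.1 hx
  have hm : m % 2 = 0 := by have := h1 none; omega
  rw [Finset.sum_congr rfl fun i _ => he i, Finset.sum_add_distrib, ← Finset.mul_sum,
    Finset.sum_const, card_pts, nsmul_eq_mul] at h3
  have hse : (∑ i, e i) % 2 = 0 := by
    simp only [← Finset.mul_sum, Int.ModEq] at h3; push_cast at h3; omega
  have hsq : sqNorm x = 96 * t ^ 2 + 16 * t * (∑ i, e i) + 16 * ∑ i, e i ^ 2 := by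
    rw [sqNorm, Finset.sum_congr rfl (g := fun i => 4 * t ^ 2 + 16 * t * e i + 16 * e i ^ 2)
      fun i _ => by rw [he]; ring]
    simp only [Finset.sum_add_distrib, ← Finset.mul_sum, Finset.sum_const, card_pts, nsmul_eq_mul]
    push_cast; ring
  have hp : (2 : ℤ) ∣ (∑ i, e i ^ 2) - ∑ i, e i :=
    dvd_sum_of_forall_mod fun i => by
      show (2 : ℤ) ∣ e i ^ 2 - e i
      have := sq_mod_four (e i); omega
  obtain ⟨u, hu⟩ : ∃ u, (∑ i, e i) = 2 * u := ⟨(∑ i, e i) / 2, by omega⟩
  obtain ⟨q, hq⟩ : ∃ q, (∑ i, e i ^ 2) = 2 * q := ⟨(∑ i, e i ^ 2) / 2, by omega⟩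
  refine ⟨3 * t ^ 2 + t * u + q, ?_⟩
  rw [hsq, hu, hq]; ring

end CfsgLib.ThreeTrans.Leech
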