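import Cfsg.Agent.Lib.ThreeTrans.M24Listing
import Cfsg.Agent.Lib.ThreeTrans.M24Invariant

/-!
The centraliser of a fixed-point-free involution of M24.
-/

set_option autoImplicit false
set_option maxRecDepth 100000

namespace CfsgLib.ThreeTrans.M24Cls

open Cfsg CfsgLib.Sporadic MulAction M24Inv M24Orb
open scoped Pointwise

/-- The elements of the fixer of four base points commuting with the involution. -/
noncomputable def centFour : List ℕ := fixFour.filter fun p => peq (pmul p invT) (pmul invT p)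

theorem invT_ok : isAut invT = true ∧ peq (pmul invT invT) pone = true ∧ peq invT pone = false ∧
    popc (fixMask invT) = 0 ∧ pget invT 23 = 0 ∧ pget invT 1 = 2 ∧
    sextetOK sextetT = true ∧ sextetT.all (fun v => Nat.beq (mimg invT v) v) = true ∧
    hasM sextetT 8388615 = true ∧
    (sextetList.filter fun w => w.all fun v => Nat.beq (mimg invT v) v).length = 1 ∧
    transT.length = 24 ∧
    transT.all (fun p => isAut p && peq (pmul p invT) (pmul invT p)) = true ∧
    forallLt 24 (fun y => Nat.beq (pget (transT.getD y 0) 23) y) = true ∧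
    isAut swapT = true ∧ peq (pmul swapT invT) (pmul invT swapT) = true ∧ pget swapT 23 = 23 ∧
    pget swapT 1 = 2 ∧
    centFour.length = 160 ∧ distinctList (centFour.map canon) = true ∧
    fixFour.all (fun p => isAut p && Nat.beq (pget p 23) 23 && Nat.beq (pget p 1) 1) = true := by
  decide +kernel

/-- The centraliser in M24. -/
def centGroup (t : Equiv.Perm GolayPt) : Subgroup (Equiv.Perm GolayPt) where
  carrier := {c | c ∈ M24 ∧ c * t = t * c}
  one_mem' := ⟨one_mem _, by simp⟩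
  mul_mem' {a b} ha hb := ⟨mul_mem ha.1 hb.1, by rw [mul_assoc, hb.2, ← mul_assoc, ha.2, mul_assoc]⟩
  inv_mem' {a} ha := ⟨inv_mem ha.1, by
    have := congrArg (fun x => a⁻¹ * x * a⁻¹) ha.2
    simp only [inv_mul_cancel_left, mul_assoc, mul_inv_cancel, mul_one] at this
    exact this.symm⟩

theorem cent_std {T : Equiv.Perm GolayPt} (hT : Rep T invT) :
    (∀ c ∈ centGroup T, c • toQ sextetT = toQ sextetT) ∧
    Nat.card ↥(centGroup T) = 7680 ∧
    Nat.card ↥(centGroup T ⊓ stabilizer (Equiv.Perm GolayPt) (pt 23)) = 320 ∧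
    ∀ p q : GolayPt, ∃ c ∈ centGroup T, c p = q := by
  obtain ⟨-, -, -, -, e23, e1, hsok, hsfix, hhas, huniq, htl, htr, hty, hswa, hswc, esw23, esw1,
    hlen, hdist, hfour⟩ := invT_ok
  obtain ⟨hS, hlt⟩ := toQ_sextet hsok
  simp only [List.all_eq_true, Nat.beq_eq] at hsfix
  have hSfix : ∀ v ∈ toQ sextetT, T • v = v := by
    intro v hv
    rw [mem_toQ hlt] at hv
    conv_lhs => rw [← setOfMask_maskOf v]
    rw [smul_setOfMask hT, hsfix _ hv, setOfMask_maskOf]
  have hsext : ∀ c ∈ centGroup T, c • toQ sextetT = toQ sextetT := by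
    rintro c ⟨hc, hct⟩
    have hX := sextets_inv ⟨c, hc⟩ _ hS
    obtain ⟨w, hw, ew⟩ := List.mem_map.1 (sextets_lists.all _ hX)
    obtain ⟨w0, hw0, ew0⟩ := List.mem_map.1 (sextets_lists.all _ hS)
    obtain ⟨u, hu⟩ := List.length_eq_one_iff.1 huniq
    have inFilt : ∀ z ∈ sextetList, (∀ v ∈ toQ z, T • v = v) → z = u := by
      intro z hz h
      have : z ∈ sextetList.filter fun w => w.all fun v => Nat.beq (mimg invT v) v := by
        refine List.mem_filter.2 ⟨hz, List.all_eq_true.2 fun v hv => ?_⟩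
        have := h _ (Finset.mem_image_of_mem _ (List.mem_toFinset.2 hv))
        rw [smul_setOfMask hT] at this
        rw [Nat.beq_eq]
        exact setOfMask_inj (mimg_lt hT _) ((sextets_lists.mem z hz).2 v hv) this
      rw [hu] at this
      exact List.mem_singleton.1 this
    have h1 : w = u := inFilt w hw fun v hv => by
      rw [ew] at hv
      obtain ⟨a, ha, rfl⟩ := Finset.mem_smul_finset.1 hv
      show T • c • a = c • a
      rw [← mul_smul, ← hct, mul_smul, hSfix a ha]
    have h2 : w0 = u := inFilt w0 hw0 fun v hv => hSfix v (ew0 ▸ hv)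
    exact (ew.symm.trans ((congrArg toQ (h1.trans h2.symm)).trans ew0))
  have hTv : ∀ i j, i < 24 → pget invT i = j → T (pt i) = pt j := fun i j hi e => by
    rw [← pt_ix (T (pt i)), ← hT, ix_pt hi, e]
  -- transitivity
  have htrans : ∀ x ∈ (Set.univ : Set GolayPt), ∃ g ∈ centGroup T, g • pt 23 = x := by
    intro x _
    have hmem : transT.getD (ix x) 0 ∈ transT := by
      rw [List.getD_eq_getElem _ _ (by rw [htl]; exact ix_lt x)]
      exact List.getElem_mem _
    simp only [List.all_eq_true, Bool.and_eq_true] at htr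
    obtain ⟨σ, hσ, hr⟩ := exists_mem_M24 (htr _ hmem).1
    refine ⟨σ, ⟨hσ, (commute_iff hr hT).1 (htr _ hmem).2⟩, ix_injective ?_⟩
    show ix (σ (pt 23)) = ix x
    rw [← hr, ix_pt (by norm_num)]
    exact Nat.eq_of_beq_eq_true (forallLt_elim hty (ix_lt x))
  have e24 := card_eq_orbit_mul (centGroup T) (pt 23) Set.univ (fun _ _ => Set.mem_univ _) htrans
  rw [Set.ncard_univ, show Nat.card GolayPt = 24 by simp [GolayPt]] at e24
  have e2 := card_eq_orbit_mul (centGroup T ⊓ stabilizer (Equiv.Perm GolayPt) (pt 23)) (pt 1)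
    ({pt 1, pt 2} : Set GolayPt)
    (fun c hc => by
      have h23 : c (pt 23) = pt 23 := hc.2
      have h0 : c (pt 0) = pt 0 := by
        rw [← hTv 23 0 (by norm_num) e23]
        have := congrArg (fun f : Equiv.Perm GolayPt => f (pt 23)) hc.1.2
        simp only [Equiv.Perm.mul_apply, h23] at this
        exact this
      have htet : c • setOfMask 8388615 = setOfMask 8388615 := by
        have hm : setOfMask 8388615 ∈ toQ sextetT :=
          Finset.mem_image_of_mem _ (List.mem_toFinset.2 (hasM_iff.1 hhas))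
        have hm' : c • setOfMask 8388615 ∈ toQ sextetT := by
          rw [← hsext c hc.1]; exact Finset.smul_mem_smul_finset hm
        by_contra hne
        have hd := (hS.2.2 _ hm' _ hm hne).2
        have h4 := hS.2.1 _ hm'
        have h4' := hS.2.1 _ hm
        rw [Finset.card_union, h4, h4'] at hd
        have : pt 23 ∈ c • setOfMask 8388615 ∩ setOfMask 8388615 := by
          refine Finset.mem_inter.2 ⟨?_, by decide +kernel⟩
          rw [← h23]
          exact Finset.smul_mem_smul_finset (a := c) (by decide +kernel)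
        have := Finset.card_pos.2 ⟨_, this⟩
        omega
      have hin : c (pt 1) ∈ setOfMask 8388615 := by
        rw [← htet]; exact Finset.smul_mem_smul_finset (a := c) (by decide +kernel)
      have hn23 : c (pt 1) ≠ pt 23 := fun e => absurd (c.injective (e.trans h23.symm)) (by decide)
      have hn0 : c (pt 1) ≠ pt 0 := fun e => absurd (c.injective (e.trans h0.symm)) (by decide)
      show c (pt 1) = pt 1 ∨ c (pt 1) = pt 2
      revert hin hn23 hn0
      generalize c (pt 1) = y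
      revert y; decide +kernel)
    (fun x hx => by
      rcases hx with rfl | rfl
      · exact ⟨1, one_mem _, rfl⟩
      · obtain ⟨σ, hσ, hr⟩ := exists_mem_M24 hswa
        refine ⟨σ, ⟨⟨hσ, (commute_iff hr hT).1 hswc⟩, ix_injective ?_⟩, ix_injective ?_⟩
        · show ix (σ (pt 23)) = ix (pt 23)
          rw [← hr, ix_pt (by norm_num), esw23]
        · show ix (σ (pt 1)) = ix (pt 2)
          rw [← hr, ix_pt (by norm_num), esw1, ix_pt (by norm_num)])
  rw [Set.ncard_pair (by decide)] at e2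
  have e160 : Nat.card ↥(centGroup T ⊓ stabilizer (Equiv.Perm GolayPt) (pt 23) ⊓
      stabilizer (Equiv.Perm GolayPt) (pt 1)) = 160 := by
    rw [show Nat.card ↥(centGroup T ⊓ stabilizer (Equiv.Perm GolayPt) (pt 23) ⊓
        stabilizer (Equiv.Perm GolayPt) (pt 1)) = {c : Equiv.Perm GolayPt | c ∈ M24 ∧ c * T = T * c ∧
          c (pt 23) = pt 23 ∧ c (pt 1) = pt 1}.ncard from ?_]
    · rw [← hlen]
      refine ncard_of_packed hdist (fun p hp => ?_) fun σ ⟨hσ, hc, h23, h1⟩ => ?_
      · rw [centFour, List.mem_filter] at hp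
        simp only [List.all_eq_true, Bool.and_eq_true, Nat.beq_eq] at hfour
        obtain ⟨⟨ha, b23⟩, b1⟩ := hfour p hp.1
        obtain ⟨σ, hσ, hr⟩ := exists_mem_M24 ha
        refine ⟨σ, hr, hσ, (commute_iff hr hT).1 hp.2, ix_injective ?_, ix_injective ?_⟩
        · rw [← hr, ix_pt (by norm_num), b23]
        · rw [← hr, ix_pt (by norm_num), b1]
      · have hmove : ∀ i j, T (pt i) = pt j → σ (pt i) = pt i → σ (pt j) = pt j := fun i j e e' => by
          have := congrArg (fun f : Equiv.Perm GolayPt => f (pt i)) hc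
          simp only [Equiv.Perm.mul_apply, e, e'] at this
          exact this
        obtain ⟨p, hp, hr⟩ := mem_fixFour (k := σ) (mem_fixOf.2 ⟨hσ, fun c hc' => by
          fin_cases hc'
          · exact hmove 1 2 (hTv 1 2 (by norm_num) e1) h1
          · exact h1
          · exact hmove 23 0 (hTv 23 0 (by norm_num) e23) h23
          · exact h23⟩)
        exact ⟨p, List.mem_filter.2 ⟨hp, (commute_iff hr hT).2 hc⟩, σ, hr, rfl⟩
    · rw [← Nat.card_coe_set_eq]
      exact Nat.card_congr (Equiv.subtypeEquivRight fun c =>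
        ⟨fun ⟨⟨⟨a, b⟩, h⟩, h'⟩ => ⟨a, b, h, h'⟩, fun ⟨a, b, h, h'⟩ => ⟨⟨⟨a, b⟩, h⟩, h'⟩⟩)
  rw [e160] at e2
  rw [e2] at e24
  refine ⟨hsext, e24, e2, fun p q => ?_⟩
  obtain ⟨a, ha, ea⟩ := htrans p trivial
  obtain ⟨b, hb, eb⟩ := htrans q trivial
  refine ⟨b * a⁻¹, mul_mem hb (inv_mem ha), ?_⟩
  show (b * a⁻¹) • p = q
  rw [mul_smul, ← ea, inv_smul_smul, eb]

/-- A fixed-point-free involution is conjugate to the standard one. -/
theorem conj_invT {t : Equiv.Perm GolayPt} (ht : t ∈ M24) (h₂ : orderOf t = 2) (h₀ : ∀ p, t p ≠ p) :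
    ∃ T, T ∈ M24 ∧ Rep T invT ∧ ∃ k ∈ M24, k * T * k⁻¹ = t := by
  obtain ⟨ha, hsq, hne, hf, -⟩ := invT_ok
  obtain ⟨T, hT, hr⟩ := exists_mem_M24 ha
  have ho : orderOf T = 2 := M24Inv.rep_props hr hsq hne
  have hfree : ∀ p, T p ≠ p := fun p hp => by
    have h1 : p ∈ Finset.univ.filter fun x => T x = x := by simp [hp]
    rw [M24Inv.fix_eq hr] at h1
    have h2 := Finset.card_pos.2 ⟨p, h1⟩
    rw [card_setOfMask, hf] at h2
    exact Nat.lt_irrefl 0 h2
  obtain ⟨k, hk, e⟩ := M24Inv.main.2.2.2 T hT t ht ho h₂ ⟨fun _ => h₀, fun _ => hfree⟩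
  exact ⟨T, hT, hr, k, hk, e⟩

theorem conj_comm_iff {k T c : Equiv.Perm GolayPt} :
    (k * c * k⁻¹) * (k * T * k⁻¹) = (k * T * k⁻¹) * (k * c * k⁻¹) ↔ c * T = T * c := by
  rw [show k * c * k⁻¹ * (k * T * k⁻¹) = k * (c * T) * k⁻¹ by group,
    show k * T * k⁻¹ * (k * c * k⁻¹) = k * (T * c) * k⁻¹ by group,
    mul_left_inj, mul_right_inj]

theorem free_involution_centralizer {t : Equiv.Perm GolayPt} (ht : t ∈ M24) (h₂ : orderOf t = 2)
    (h₀ : ∀ p, t p ≠ p) :
    Nat.card {c : Equiv.Perm GolayPt // c ∈ M24 ∧ c * t = t * c} = 7680 ∧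
    (∀ p q : GolayPt, ∃ c ∈ M24, c * t = t * c ∧ c p = q) ∧
    ∃ S ∈ sextets, t • S = S ∧ ∀ c ∈ M24, c * t = t * c → c • S = S := by
  obtain ⟨T, hTm, hr, k, hk, rfl⟩ := conj_invT ht h₂ h₀
  obtain ⟨hsext, hcard, -, htrans⟩ := cent_std hr
  have hS : toQ sextetT ∈ sextets := (toQ_sextet invT_ok.2.2.2.2.2.2.1).1
  refine ⟨?_, fun p q => ?_, k • toQ sextetT, (sextets_conj hk _).2 hS, ?_, fun c hc hct => ?_⟩
  · rw [← hcard]
    refine Nat.card_congr
      { toFun := fun c => ⟨k⁻¹ * c.1 * k, mul_mem (mul_mem (inv_mem hk) c.2.1) hk, ?_⟩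
        invFun := fun c => ⟨k * c.1 * k⁻¹, mul_mem (mul_mem hk c.2.1) (inv_mem hk), conj_comm_iff.2 c.2.2⟩
        left_inv := fun c => Subtype.ext (by simp [mul_assoc])
        right_inv := fun c => Subtype.ext (by simp [mul_assoc]) }
    rw [← conj_comm_iff (k := k), show k * (k⁻¹ * c.1 * k) * k⁻¹ = c.1 by group]
    exact c.2.2
  · obtain ⟨c, ⟨hc, hct⟩, e⟩ := htrans (k⁻¹ p) (k⁻¹ q)
    refine ⟨k * c * k⁻¹, mul_mem (mul_mem hk hc) (inv_mem hk), conj_comm_iff.2 hct, ?_⟩
    simp only [Equiv.Perm.mul_apply, e]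
    simp
  · rw [mul_smul, mul_smul, inv_smul_smul, hsext T ⟨hTm, rfl⟩]
  · have hc' : k⁻¹ * c * k ∈ centGroup T := by
      refine ⟨mul_mem (mul_mem (inv_mem hk) hc) hk, ?_⟩
      rw [← conj_comm_iff (k := k), show k * (k⁻¹ * c * k) * k⁻¹ = c by group]
      exact hct
    have := hsext _ hc'
    rw [mul_smul, mul_smul, inv_smul_eq_iff] at this
    exact this

theorem commuting_three_two {x s : Equiv.Perm GolayPt} (hx : x ∈ M24) (hs : s ∈ M24)
    (h₃ : orderOf x = 3) (h₂ : orderOf s = 2) (hc : Commute x s) :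
    ((Finset.univ.filter fun p => x p = p).card = 6 ∧ (Finset.univ.filter fun p => s p = p).card = 8) ∨
    ((Finset.univ.filter fun p => x p = p).card = 0 ∧ (Finset.univ.filter fun p => s p = p).card = 0) := by
  obtain ⟨-, -, -, -, -, -, -, -, -, -, -, -, f6, f0, f8, f0'⟩ := fixed_counts
  obtain ⟨q, hq, r, hr, rfl⟩ := conj_rep hs h₂
  obtain ⟨u, hu, v, hv, rfl⟩ := conj_three hx h₃
  rcases hr with hr | hr
  · refine Or.inl ⟨?_, by rw [fix_of_rep hr, f8]⟩
    rcases hv with hv | hv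
    · rw [fix_of_rep hv, f6]
    exfalso
    have hfree : ∀ p, (u * v * u⁻¹) p ≠ p := fun p hp => by
      have h1 : p ∈ Finset.univ.filter fun p => (u * v * u⁻¹) p = p := Finset.mem_filter.2 ⟨Finset.mem_univ p, hp⟩
      have h2 := Finset.card_pos.2 ⟨p, h1⟩
      rw [fix_of_rep hv, f0] at h2
      exact Nat.lt_irrefl 0 h2
    generalize hxg : u * v * u⁻¹ = x at hc h₃ hfree
    have hinv : ∀ p, p ∈ (Finset.univ.filter fun p => (q * r * q⁻¹) p = p) →
        x p ∈ Finset.univ.filter fun p => (q * r * q⁻¹) p = p := fun p hp => by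
      simp only [Finset.mem_filter, Finset.mem_univ, true_and] at hp ⊢
      have := congrArg (fun f : Equiv.Perm GolayPt => f p) hc.eq
      simp only [Equiv.Perm.mul_apply] at this hp ⊢
      rw [hp] at this
      exact this.symm
    let F := Finset.univ.filter fun p => (q * r * q⁻¹) p = p
    let π : Equiv.Perm ↥F := x.subtypePerm (fun p => ⟨fun h => by
      have h3 : x ^ 3 = 1 := h₃ ▸ pow_orderOf_eq_one x
      have := hinv _ (hinv _ h)
      rwa [show x (x (x p)) = p from congrArg (fun f : Equiv.Perm GolayPt => f p) h3] at this,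
      fun h => hinv p h⟩)
    have hπ : π ^ 3 ^ 1 = 1 := by
      rw [pow_one]
      refine Equiv.ext fun p => Subtype.ext ?_
      show x (x (x p.1)) = p.1
      exact congrArg (fun f : Equiv.Perm GolayPt => f p.1) (h₃ ▸ pow_orderOf_eq_one x : x ^ 3 = 1)
    haveI : Fact (Nat.Prime 3) := ⟨Nat.prime_three⟩
    have hnot : ¬ 3 ∣ Fintype.card ↥F := by
      rw [Fintype.card_coe, fix_of_rep hr, f8]; norm_num
    obtain ⟨p, hp⟩ := Equiv.Perm.exists_fixed_point_of_prime hnot hπ
    exact hfree p.1 (congrArg Subtype.val hp)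
  · refine Or.inr ⟨?_, by rw [fix_of_rep hr, f0']⟩
    rcases hv with hv | hv
    swap
    · rw [fix_of_rep hv, f0]
    exfalso
    have hsfree : ∀ p, (q * r * q⁻¹) p ≠ p := fun p hp => by
      have h1 : p ∈ Finset.univ.filter fun p => (q * r * q⁻¹) p = p := Finset.mem_filter.2 ⟨Finset.mem_univ p, hp⟩
      have h2 := Finset.card_pos.2 ⟨p, h1⟩
      rw [fix_of_rep hr, f0'] at h2
      exact Nat.lt_irrefl 0 h2
    obtain ⟨p, hp⟩ : (Finset.univ.filter fun p => (u * v * u⁻¹) p = p).Nonempty := by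
      rw [← Finset.card_pos, fix_of_rep hv, f6]; norm_num
    have hp' : (u * v * u⁻¹) p = p := (Finset.mem_filter.1 hp).2
    obtain ⟨T, hTm, hrT, k, hk, ek⟩ := conj_invT hs h₂ hsfree
    obtain ⟨-, -, h320, htrans⟩ := cent_std hrT
    obtain ⟨c, ⟨hcm, hct⟩, ec⟩ := htrans (k⁻¹ p) (pt 23)
    generalize hxg : u * v * u⁻¹ = x at hc h₃ hp' hx
    let j := c * k⁻¹
    have ej : j * (q * r * q⁻¹) * j⁻¹ = T := by
      rw [← ek]
      show c * k⁻¹ * (k * T * k⁻¹) * (c * k⁻¹)⁻¹ = T
      rw [show c * k⁻¹ * (k * T * k⁻¹) * (c * k⁻¹)⁻¹ = (c * T) * c⁻¹ by group, hct, mul_inv_cancel_right]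
    have hy : j * x * j⁻¹ ∈ centGroup T ⊓ stabilizer (Equiv.Perm GolayPt) (pt 23) := by
      refine Subgroup.mem_inf.2 ⟨⟨mul_mem (mul_mem (mul_mem hcm (inv_mem hk)) hx)
        (inv_mem (mul_mem hcm (inv_mem hk))), ?_⟩, ?_⟩
      · rw [← ej, conj_comm_iff]; exact hc.eq
      · show (j * x * j⁻¹) • pt 23 = pt 23
        have : j⁻¹ • pt 23 = p := by
          rw [inv_smul_eq_iff, ← ec]; rfl
        rw [mul_smul, mul_smul, this, show x • p = p from hp', ← this, smul_inv_smul]
    have hdvd := Subgroup.orderOf_dvd_natCard _ hy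
    rw [h320, show orderOf (j * x * j⁻¹) = orderOf x from (MulAut.conj j).orderOf_eq x, h₃] at hdvd
    norm_num at hdvd

end CfsgLib.ThreeTrans.M24Cls
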