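import Cfsg.Agent.Lib.ThreeTrans.M24Coset
import Cfsg.Agent.Lib.ThreeTrans.M24ClsData

/-!
The classes of elements of order 3 and of subgroups of order 7 of M24.
-/

set_option autoImplicit false
set_option maxRecDepth 100000

namespace CfsgLib.ThreeTrans.M24Cls

open Cfsg CfsgLib.Sporadic MulAction M24Inv
open scoped Pointwise

/-- A candidate has not the given order, or has a conjugator to one of two representatives. -/
noncomputable def goodPow (n : ℕ) (certs : List (ℕ × ℕ)) (r r' : ℕ) (g : ℕ) : Bool :=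
  !peq (ppow g n) pone || certs.any fun e => peq e.1 g &&
    (peq (pmul e.2 r) (pmul g e.2) || peq (pmul e.2 r') (pmul g e.2))

theorem three_ok : (fixFour.map (pmul shift3)).all (goodPow 3 certs3 rep6 rep0) = true := by
  decide +kernel

theorem seven_ok : (fixFour.map (pmul shift7)).all (goodPow 7 certs7 rep7 rep7b) = true := by
  decide +kernel

theorem data_ok : isAut shift3 = true ∧ isAut rep6 = true ∧ isAut rep0 = true ∧
    isAut shift7 = true ∧ isAut rep7 = true ∧ isAut rep7b = true ∧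
    certs3.all (fun e => isAut e.2) = true ∧ certs7.all (fun e => isAut e.2) = true ∧
    pget shift3 23 = 0 ∧ pget shift3 0 = 1 ∧ pget shift3 1 = 23 ∧ pget shift3 2 = 3 ∧
    pget shift7 23 = 0 ∧ pget shift7 0 = 1 ∧ pget shift7 1 = 2 ∧ pget shift7 2 = 3 ∧
    peq (ppow rep6 3) pone = true ∧ popc (fixMask rep6) = 6 ∧
    peq (ppow rep0 3) pone = true ∧ peq rep0 pone = false ∧ fixMask rep0 = 0 ∧
    peq rep6 pone = false ∧ peq (ppow rep7 3) rep7b = true ∧ peq (ppow rep7 7) pone = true ∧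
    peq rep7 pone = false := by
  decide +kernel

/-- An element in the coset with the right order is conjugate to a representative. -/
theorem conj_of_good {n : ℕ} {certs : List (ℕ × ℕ)} {r r' s : ℕ} (hr : isAut r = true)
    (hr' : isAut r' = true) (hs : isAut s = true) (hc : certs.all (fun e => isAut e.2) = true)
    (hok : (fixFour.map (pmul s)).all (goodPow n certs r r') = true) {σ : Equiv.Perm GolayPt}
    (hσ : σ ∈ M24) (h : ∀ c ∈ [2, 1, 0, 23], ix (σ (pt c)) = pget s c) (hn : σ ^ n = 1) :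
    ∃ q ∈ M24, ∃ R, (Rep R r ∨ Rep R r') ∧ q * R * q⁻¹ = σ := by
  obtain ⟨p, hp, hrep⟩ := mem_coset (fun k hk => mem_fixFour hk) hs hσ (by decide) h
  have hg := List.all_eq_true.1 hok p hp
  have hsq : peq (ppow p n) pone = true := (peq_iff (rep_ppow hrep n) Rep.one).2 hn
  rw [goodPow, hsq] at hg
  simp only [Bool.not_true, Bool.false_or, List.any_eq_true, Bool.and_eq_true, Bool.or_eq_true] at hg
  obtain ⟨e, he, -, hcase⟩ := hg
  obtain ⟨q, hq, hqr⟩ := exists_mem_M24 (List.all_eq_true.1 hc e he)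
  rcases hcase with hc' | hc'
  · obtain ⟨R, -, hR⟩ := exists_mem_M24 hr
    refine ⟨q, hq, R, Or.inl hR, ?_⟩
    rw [(peq_iff (hqr.mul hR) (hrep.mul hqr)).1 hc', mul_inv_cancel_right]
  · obtain ⟨R, -, hR⟩ := exists_mem_M24 hr'
    refine ⟨q, hq, R, Or.inr hR, ?_⟩
    rw [(peq_iff (hqr.mul hR) (hrep.mul hqr)).1 hc', mul_inv_cancel_right]

theorem three_cycle_not_mem {σ : Equiv.Perm GolayPt} (h9 : σ (pt 9) = pt 10)
    (hfix : ∀ x, x ≠ pt 9 → x ≠ pt 10 → x ≠ pt 11 → σ x = x) : σ ∉ M24 := by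
  intro hσ
  have := eq_one_of_fix_base hσ fun i hi => hfix _ (by revert hi; revert i; decide)
    (by revert hi; revert i; decide) (by revert hi; revert i; decide)
  rw [this] at h9
  revert h9
  decide

/-- An element of order 3 is conjugate to one of the two representatives. -/
theorem conj_three {g : Equiv.Perm GolayPt} (hg : g ∈ M24) (ho : orderOf g = 3) :
    ∃ q ∈ M24, ∃ r, (Rep r rep6 ∨ Rep r rep0) ∧ q * r * q⁻¹ = g := by
  have h3 : g ^ 3 = 1 := ho ▸ pow_orderOf_eq_one g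
  have hcyc : ∀ x, g (g (g x)) = x := fun x => by
    have := congrArg (fun f : Equiv.Perm GolayPt => f x) h3
    simpa [pow_succ] using this
  obtain ⟨a, ha⟩ : ∃ a, g a ≠ a := by
    by_contra h
    push Not at h
    rw [Equiv.ext h (g := (1 : Equiv.Perm GolayPt)), orderOf_one] at ho
    omega
  have ha2 : g (g a) ≠ a ∧ g (g a) ≠ g a :=
    ⟨fun e => ha (by have := hcyc a; rwa [e] at this), fun e => ha (g.injective e)⟩
  obtain ⟨b, hb0, hb1, hb2, hb⟩ : ∃ b, b ≠ a ∧ b ≠ g a ∧ b ≠ g (g a) ∧ g b ≠ b := by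
    by_contra h
    push Not at h
    obtain ⟨f, hf⟩ := exists_map_list (xs := [a, g a, g (g a)]) (ys := [pt 9, pt 10, pt 11])
      (by simp [Ne.symm ha, Ne.symm ha2.1, Ne.symm ha2.2]) (by decide) rfl (by simp)
    simp only [List.map_cons, List.map_nil, List.cons.injEq] at hf
    change f.1 _ = _ ∧ f.1 _ = _ ∧ f.1 _ = _ ∧ _ at hf
    refine three_cycle_not_mem (σ := f.1 * g * f.1⁻¹) ?_ ?_
      (mul_mem (mul_mem f.2 hg) (inv_mem f.2))
    · simp [← hf.1, hf.2.1]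
    · intro x h1 h2 h3'
      have := h (f.1⁻¹ x) (fun e => h1 (by rw [← hf.1, ← e]; simp))
        (fun e => h2 (by rw [← hf.2.1, ← e]; simp)) (fun e => h3' (by rw [← hf.2.2.1, ← e]; simp))
      show f.1 (g (f.1⁻¹ x)) = x
      rw [this]; simp
  have hgb : g b ≠ a ∧ g b ≠ g a ∧ g b ≠ g (g a) :=
    ⟨fun e => hb2 (by rw [← e, hcyc]), fun e => hb0 (g.injective e), fun e => hb1 (g.injective e)⟩
  obtain ⟨f, hf⟩ := exists_map_list (xs := [a, g a, g (g a), b, g b])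
    (ys := [pt 23, pt 0, pt 1, pt 2, pt 3])
    (by simp [Ne.symm ha, Ne.symm ha2.1, Ne.symm ha2.2, Ne.symm hb, Ne.symm hb0, Ne.symm hb1,
      Ne.symm hb2, Ne.symm hgb.1, Ne.symm hgb.2.1, Ne.symm hgb.2.2])
    (by decide) rfl (by simp)
  simp only [List.map_cons, List.map_nil, List.cons.injEq] at hf
  change f.1 _ = _ ∧ f.1 _ = _ ∧ f.1 _ = _ ∧ f.1 _ = _ ∧ f.1 _ = _ ∧ _ at hf
  obtain ⟨f1, f2, f3, f4, f5, -⟩ := hf
  let σ := f.1 * g * f.1⁻¹
  obtain ⟨s3, s6, s0, -, -, -, sc, -, e23, e0, e1, e2, -⟩ := data_ok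
  have hval : ∀ c ∈ [2, 1, 0, 23], ix (σ (pt c)) = pget shift3 c := by
    intro c hc
    fin_cases hc
    · rw [e2, show σ (pt 2) = pt 3 by simp [σ, ← f4, f5]]; rfl
    · rw [e1, show σ (pt 1) = pt 23 by simp [σ, ← f3, hcyc, f1]]; rfl
    · rw [e0, show σ (pt 0) = pt 1 by simp [σ, ← f2, f3]]; rfl
    · rw [e23, show σ (pt 23) = pt 0 by simp [σ, ← f1, f2]]; rfl
  obtain ⟨q, hq, r, hr, e⟩ := conj_of_good (n := 3) s6 s0 s3 sc three_ok
    (σ := σ) (mul_mem (mul_mem f.2 hg) (inv_mem f.2)) hval (by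
      show (f.1 * g * f.1⁻¹) ^ 3 = 1
      rw [conj_pow, h3]; group)
  refine ⟨f.1⁻¹ * q, mul_mem (inv_mem f.2) hq, r, hr, ?_⟩
  rw [show f.1⁻¹ * q * r * (f.1⁻¹ * q)⁻¹ = f.1⁻¹ * (q * r * q⁻¹) * f.1 by group, e]
  show f.1⁻¹ * (f.1 * g * f.1⁻¹) * f.1 = g
  group

/-- An element of order 7 is conjugate to the representative or to its cube. -/
theorem conj_seven {g : Equiv.Perm GolayPt} (hg : g ∈ M24) (ho : orderOf g = 7) :
    ∃ q ∈ M24, ∃ r, Rep r rep7 ∧ (q * r * q⁻¹ = g ∨ q * r ^ 3 * q⁻¹ = g) := by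
  have h7 : g ^ 7 = 1 := ho ▸ pow_orderOf_eq_one g
  obtain ⟨a, ha⟩ : ∃ a, g a ≠ a := by
    by_contra h
    push Not at h
    rw [Equiv.ext h (g := (1 : Equiv.Perm GolayPt)), orderOf_one] at ho
    omega
  have hj : ∀ j, 0 < j → j < 7 → (g ^ j) a ≠ a := by
    intro j h1 h2 e
    apply ha
    have key : ∀ m, ((g ^ j) ^ m) a = a := fun m => by
      induction m with
      | zero => simp
      | succ m ih => rw [pow_succ, Equiv.Perm.mul_apply, e, ih]
    have h8 : ∀ m k, j * m = 7 * k + 1 → g a = a := fun m k hmk => by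
      have := key m
      rwa [← pow_mul, hmk, pow_succ, pow_mul, h7, one_pow, one_mul] at this
    interval_cases j
    · exact h8 1 0 rfl
    · exact h8 4 1 rfl
    · exact h8 5 2 rfl
    · exact h8 2 1 rfl
    · exact h8 3 2 rfl
    · exact h8 6 5 rfl
  have hne : ∀ i j, i < j → j < 7 → (g ^ i) a ≠ (g ^ j) a := fun i j hij hj7 e => by
    refine hj (j - i) (by omega) (by omega) ?_
    rw [show j = i + (j - i) by omega, pow_add, Equiv.Perm.mul_apply] at e
    exact ((g ^ i).injective e).symm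
  obtain ⟨f, hf⟩ := exists_map_list (xs := [(g ^ 0) a, (g ^ 1) a, (g ^ 2) a, (g ^ 3) a, (g ^ 4) a])
    (ys := [pt 23, pt 0, pt 1, pt 2, pt 3])
    (by
      refine List.nodup_iff_pairwise_ne.2 ?_
      simp only [List.pairwise_cons, List.mem_cons, List.not_mem_nil, or_false, forall_eq_or_imp,
        forall_eq, IsEmpty.forall_iff, implies_true, List.Pairwise.nil, and_true]
      refine ⟨⟨?_, ?_, ?_, ?_⟩, ⟨?_, ?_, ?_⟩, ⟨?_, ?_⟩, ?_⟩ <;> exact hne _ _ (by norm_num) (by norm_num))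
    (by decide) rfl (by simp)
  simp only [List.map_cons, List.map_nil, List.cons.injEq] at hf
  change f.1 _ = _ ∧ f.1 _ = _ ∧ f.1 _ = _ ∧ f.1 _ = _ ∧ f.1 _ = _ ∧ _ at hf
  obtain ⟨f1, f2, f3, f4, f5, -⟩ := hf
  let σ := f.1 * g * f.1⁻¹
  have hs : ∀ i, ∀ y z, f.1 ((g ^ i) a) = y → f.1 ((g ^ (i + 1)) a) = z → σ y = z := by
    rintro i y z rfl rfl
    show f.1 (g (f.1⁻¹ (f.1 ((g ^ i) a)))) = _
    rw [pow_succ', Equiv.Perm.mul_apply]; simp
  obtain ⟨-, -, -, s7, sr, sr', -, sc, -, -, -, -, e23, e0, e1, e2, -, -, -, -, -, -, hcube, -⟩ := data_ok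
  have hval : ∀ c ∈ [2, 1, 0, 23], ix (σ (pt c)) = pget shift7 c := by
    intro c hc
    fin_cases hc
    · rw [e2, hs 3 _ _ f4 f5]; rfl
    · rw [e1, hs 2 _ _ f3 f4]; rfl
    · rw [e0, hs 1 _ _ f2 f3]; rfl
    · rw [e23, hs 0 _ _ f1 f2]; rfl
  obtain ⟨q, hq, R, hR, e⟩ := conj_of_good (n := 7) sr sr' s7 sc seven_ok
    (σ := σ) (mul_mem (mul_mem f.2 hg) (inv_mem f.2)) hval (by
      show (f.1 * g * f.1⁻¹) ^ 7 = 1
      rw [conj_pow, h7]; group)
  have hback : ∀ x, q * x * q⁻¹ = σ → f.1⁻¹ * q * x * (f.1⁻¹ * q)⁻¹ = g := fun x hx => by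
    rw [show f.1⁻¹ * q * x * (f.1⁻¹ * q)⁻¹ = f.1⁻¹ * (q * x * q⁻¹) * f.1 by group, hx]
    show f.1⁻¹ * (f.1 * g * f.1⁻¹) * f.1 = g
    group
  obtain ⟨r, -, hr⟩ := exists_mem_M24 sr
  refine ⟨f.1⁻¹ * q, mul_mem (inv_mem f.2) hq, r, hr, ?_⟩
  rcases hR with hR | hR
  · exact Or.inl (hback _ (by rw [hr.unique hR]; exact e))
  · exact Or.inr (hback _ (by rw [(peq_iff (rep_ppow hr 3) hR).1 hcube]; exact e))

theorem fix_of_rep {q r : Equiv.Perm GolayPt} {p : ℕ} (h : Rep r p) :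
    (Finset.univ.filter fun x => (q * r * q⁻¹) x = x).card = popc (fixMask p) := by
  rw [fix_conj, Finset.card_smul_finset, fix_eq h, card_setOfMask]

theorem order_of_rep {n : ℕ} [Fact n.Prime] {r : Equiv.Perm GolayPt} {p : ℕ} (h : Rep r p)
    (hpow : peq (ppow p n) pone = true) (hne : peq p pone = false) : orderOf r = n := by
  refine orderOf_eq_prime ((peq_iff (rep_ppow h n) Rep.one).1 hpow) fun e => ?_
  rw [(peq_iff h Rep.one).2 e] at hne
  exact Bool.noConfusion hne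

end CfsgLib.ThreeTrans.M24Cls
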