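import Cfsg.Agent.Lib.Sporadic.Orbits
import Cfsg.Agent.Lib.ThreeTrans.M24Inv

/-!
Lists of the elements of M24 with prescribed images of four or of five base points.
-/

set_option autoImplicit false

namespace CfsgLib.ThreeTrans.M24Cls

open Cfsg CfsgLib.Sporadic MulAction
open scoped Pointwise

/-- The pointwise fixer of five base points. -/
noncomputable def fixFive : List ℕ :=
  (pone :: m24Trans5).flatMap fun b => (pone :: m24Trans6).map fun c => pmul b c

/-- The pointwise fixer of four base points. -/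
noncomputable def fixFour : List ℕ :=
  (pone :: m24Trans4).flatMap fun a => fixFive.map fun d => pmul a d

theorem step {pre : List ℕ} {b : ℕ} {t : List ℕ} {O : ℕ} (hlev : levelOK pre b t O = true)
    (hK : ∀ p ∈ t, ∃ τ ∈ M24, Rep τ p) {k : Equiv.Perm GolayPt} (hk : k ∈ fixOf M24 pre)
    (hx : k (pt b) ∈ setOfMask O) :
    ∃ a ∈ pone :: t, ∃ τ, Rep τ a ∧ τ⁻¹ * k ∈ fixOf M24 (b :: pre) := by
  simp only [levelOK, Bool.and_eq_true, List.all_eq_true, Nat.beq_eq, Nat.blt_eq] at hlev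
  obtain ⟨⟨⟨hb, hpre⟩, hfix⟩, hO⟩ := hlev
  rw [mem_setOfMask, ← hO, testBit_bitmap] at hx
  obtain ⟨v, hv, he⟩ := hx
  rcases List.mem_cons.1 hv with rfl | hv
  · refine ⟨pone, List.mem_cons_self .., 1, Rep.one, ?_⟩
    rw [inv_one, one_mul, mem_fixOf]
    refine ⟨(mem_fixOf.1 hk).1, fun c hc => ?_⟩
    rcases List.mem_cons.1 hc with rfl | hc
    · rw [← pt_ix (k (pt c)), ← he]; rfl
    · exact (mem_fixOf.1 hk).2 c hc
  · obtain ⟨p, hp, rfl⟩ := List.mem_map.1 hv
    obtain ⟨τ, hτ, hr⟩ := hK p hp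
    refine ⟨p, List.mem_cons_of_mem _ hp, τ, hr, mem_fixOf.2 ⟨mul_mem (inv_mem hτ)
      (mem_fixOf.1 hk).1, fun c hc => ?_⟩⟩
    rw [Equiv.Perm.mul_apply, Equiv.Perm.inv_eq_iff_eq]
    rcases List.mem_cons.1 hc with rfl | hc
    · apply ix_injective
      rw [← he, ← hr, ix_pt hb]; rfl
    · rw [(mem_fixOf.1 hk).2 c hc]
      apply ix_injective
      rw [← hr, ix_pt (hpre c hc), hfix p hp c hc]

theorem mem_fixFive {k : Equiv.Perm GolayPt} (hk : k ∈ fixOf M24 [3, 2, 1, 0, 23]) :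
    ∃ p ∈ fixFive, Rep k p := by
  have hoct : setOfMask 8536111 ∈ octads := by
    rw [mem_octads_iff, maskOf_setOfMask (by norm_num)]; decide +kernel
  have inO : ∀ τ ∈ fixOf M24 [3, 2, 1, 0, 23], τ • setOfMask 8536111 = setOfMask 8536111 := by
    intro τ hτ
    refine smul_eq_of_fix_five (mem_fixOf.1 hτ).1 hoct (s := setOfMask 8388623)
      (by decide +kernel) (by decide +kernel) fun x hx => ?_
    have hc : ix x ∈ [3, 2, 1, 0, 23] := by revert hx; revert x; decide +kernel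
    have := (mem_fixOf.1 hτ).2 _ hc
    rwa [pt_ix] at this
  obtain ⟨b, hb, β, hβ, hk2⟩ := step level5 (m24Trans_mem _ (by simp [m24Trans])) hk (by
    have hin : k (pt 5) ∈ setOfMask 8536111 := by
      rw [← inO _ hk]
      exact Finset.smul_mem_smul_finset (a := k) (by decide +kernel)
    have hout : ∀ c ∈ [3, 2, 1, 0, 23], k (pt 5) ≠ pt c := fun c hc e => by
      rw [← (mem_fixOf.1 hk).2 c hc] at e
      have h' := k.injective e
      clear e
      revert c; decide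
    revert hin hout
    generalize k (pt 5) = y
    revert y; decide +kernel)
  obtain ⟨c, hc, γ, hγ, hk3⟩ := step level6 (m24Trans_mem _ (by simp [m24Trans])) hk2 (by
    have hk2' : β⁻¹ * k ∈ fixOf M24 [3, 2, 1, 0, 23] := (Subgroup.mem_inf.1 hk2).1
    have hout : (β⁻¹ * k) (pt 4) ∉ setOfMask 8536111 := by
      rw [← inO _ hk2']
      show (β⁻¹ * k) • pt 4 ∉ _
      rw [Finset.smul_mem_smul_finset_iff]
      decide +kernel
    revert hout
    generalize (β⁻¹ * k) (pt 4) = y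
    revert y; decide +kernel)
  have hone := eq_one_of_fix_base (mem_fixOf.1 hk3).1 fun i hi =>
    (mem_fixOf.1 hk3).2 i (by simp only [List.mem_cons, List.not_mem_nil] at hi ⊢; tauto)
  refine ⟨pmul b c, List.mem_flatMap.2 ⟨b, hb, List.mem_map.2 ⟨c, hc, rfl⟩⟩, ?_⟩
  have : k = β * γ := by
    have e := inv_mul_eq_one.1 hone
    rw [e]; group
  rw [this]
  exact hβ.mul hγ

theorem mem_fixFour {k : Equiv.Perm GolayPt} (hk : k ∈ fixOf M24 [2, 1, 0, 23]) :
    ∃ p ∈ fixFour, Rep k p := by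
  obtain ⟨a, ha, α, hα, hk1⟩ := step level4 (m24Trans_mem _ (by simp [m24Trans])) hk
    (mem_compl_of_fix (K := M24) (pre := [2, 1, 0, 23]) (b := 3) (by decide) (by decide +kernel) _ hk)
  obtain ⟨d, hd, hrd⟩ := mem_fixFive hk1
  refine ⟨pmul a d, List.mem_flatMap.2 ⟨a, ha, List.mem_map.2 ⟨d, hd, rfl⟩⟩, ?_⟩
  have := hα.mul hrd
  rwa [← mul_assoc, mul_inv_cancel, one_mul] at this

/-- An element with the same images as a listed one on base points lies in the coset of the fixer. -/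
theorem mem_coset {pre : List ℕ} {l : List ℕ} (hl : ∀ k ∈ fixOf M24 pre, ∃ p ∈ l, Rep k p)
    {s : ℕ} (hs : isAut s = true) {σ : Equiv.Perm GolayPt} (hσ : σ ∈ M24) (hpre : ∀ c ∈ pre, c < 24)
    (h : ∀ c ∈ pre, ix (σ (pt c)) = pget s c) : ∃ p ∈ l.map (pmul s), Rep σ p := by
  obtain ⟨S, hS, hr⟩ := exists_mem_M24 hs
  obtain ⟨p, hp, hrp⟩ := hl (S⁻¹ * σ) (mem_fixOf.2 ⟨mul_mem (inv_mem hS) hσ, fun c hc => by
    rw [Equiv.Perm.mul_apply, Equiv.Perm.inv_eq_iff_eq]
    apply ix_injective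
    rw [h c hc, ← hr, ix_pt (hpre c hc)]⟩)
  refine ⟨pmul s p, List.mem_map.2 ⟨p, hp, rfl⟩, ?_⟩
  have := hr.mul hrp
  rwa [← mul_assoc, mul_inv_cancel, one_mul] at this

/-- The iterates of a packed permutation. -/
noncomputable def ppow (p : ℕ) (n : ℕ) : ℕ := Nat.rec pone (fun _ ih => pmul p ih) n

theorem rep_ppow {σ : Equiv.Perm GolayPt} {p : ℕ} (h : Rep σ p) : ∀ n, Rep (σ ^ n) (ppow p n)
  | 0 => by rw [pow_zero]; exact Rep.one
  | n + 1 => by
    rw [pow_succ']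
    exact h.mul (rep_ppow h n)

theorem peq_refl {σ : Equiv.Perm GolayPt} {p q : ℕ} (h : Rep σ p) (h' : Rep σ q) :
    M24Inv.peq p q = true := (M24Inv.peq_iff h h').2 rfl

end CfsgLib.ThreeTrans.M24Cls
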