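import Cfsg.Agent.Lib.Sporadic.Census

/-!
The stabiliser of a dodecad and three of its points, as a list, with a quaternion subgroup.
-/

set_option autoImplicit false

namespace CfsgLib.ThreeTrans.M24Nine

def nineList : List ℕ :=
  [227866200190482962309748417481934880,
   232783362388564428185213343297439776,
   232652365823391711183829569059784736,
   227578386318009578406903204956702752,
   227468939079694360949178429167896608,
   233054687951835244750033064009402400,
   313063593285160742836699179059316768,
   304527279934878073638008567181674528,
   304382488815307602047787978285647904,
   313626468097149398198142802389895200,
   303972014349329906305369256209090592,
   313451266620471430272303061907212320,
   425260589770023667920228681599158304,
   438084364835391119001047119775926304,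
   424698032726113400716592269113985056,
   438228640608320839931147656307705888,
   437673696385666828435562741295908896,
   425085878865583144827023905643726880,
   486317894067777385906476470720956448,
   487655643029606470073469406179395616,
   486073779993727295785104656607348768,
   487607080158395075740321133224921120,
   487373122709212905255923294881187872,
   486349973926430203268823274221996064,
   609718671646466476278175549440296992,
   608460305594945736333983948957190176,
   609271311764373893382231684089481248,
   608405391266436187982588441666881568,
   607974513007959930786473204517505056,
   609744425604512129277147896769742880,
   648154481660236051385864952584734752,
   629863500390412654982178157189269536,
   629994123837064240816195434993748000,
   648441755269428208718993426702993440,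
   648045425277649902928402440926824480,
   630264916018297267747726081680246816,
   719360590536681843314903822610073632,
   716016777081418520089506884598499360,
   715461294005770680473893921775552544,
   719748774308089385568610015441717280,
   719923664328491199848526586197411872,
   715872302521680643580706198532491296,
   809127892823755776035426641505355808,
   796422664143520048046740322637776928,
   796134455581813252778404696041064480,
   808997782816701570676445371466909728,
   809399594410595785774724965859756064,
   796025918939784314627536738561984544,
   858934107515357207598970770041374752,
   849414919297944031155053626894092320,
   849862808090484735685470734032308256,
   858988336336270505570052787752405024,
   849887890532701421127722391426172960,
   858502712789113075489201924125100064,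
   899189355044933402820830013086107680,
   891440084380668137666183104591693856,
   898742143189044893377746329054414880,
   891385682027558266148352467872712736,
   899214583888558003150069357295700000,
   890954976140709938678640932563453984,
   944569772236290697579231267829188640,
   928718206277989008510816407558424608,
   928952864966028496604741530750814240,
   944293816565412651426207388111472672,
   929000492124499343650182431580424224,
   944538627742660781242037951888164896,
   984818244535754528103549039458486304,
   970499966350631336865513127433832480,
   984769902586367543974814854303385632,
   970254902120350598020240965873371168,
   984534996141977609297800625156032544,
   970531819526550031117983620406741024]

def quatA : ℕ := 227866200190482962309748417481934880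

def quatX : ℕ := 424698032726113400716592269113985056

end CfsgLib.ThreeTrans.M24Nine
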