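import Cfsg.Agent.Lib.ThreeTrans.M24Listing
import Cfsg.Agent.Lib.ThreeTrans.M24Mathieu
import Cfsg.Agent.Lib.ThreeTrans.M24NineData

/-!
The stabiliser of a dodecad and three of its points: order 72, elementary 9 by quaternion 8.
-/

set_option autoImplicit false
set_option maxRecDepth 100000

namespace CfsgLib.ThreeTrans.M24Nine

open Cfsg CfsgLib.Sporadic MulAction M24Cls M24Inv
open scoped Pointwise

/-- The packed image of a quaternion element. -/
noncomputable def quatImg : QuaternionGroup 2 → ℕ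
  | .a i => ppow quatA i.val
  | .xa i => pmul quatX (ppow quatA i.val)

theorem nine_ok : nineList.length = 72 ∧ distinctList (nineList.map canon) = true ∧
    nineList.all (fun p => isAut p && Nat.beq (mimg p stdD) stdD && Nat.beq (pget p 0) 0 &&
      Nat.beq (pget p 1) 1 && Nat.beq (pget p 2) 2) = true ∧
    forallLt 24 (fun i => forallLt 24 fun j => Nat.beq i j || Nat.beq (bitAt stdD i) 0 ||
      Nat.beq (bitAt stdD j) 0 || Nat.blt i 3 || Nat.blt j 3 ||
      nineList.any fun p => Nat.beq (pget p 3) i && Nat.beq (pget p 4) j) = true ∧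
    (nineList.filter fun p => peq (ppow p 3) pone).length = 9 ∧
    nineList.all (fun p => !peq (ppow p 9) pone || peq (ppow p 3) pone) = true ∧
    isAut quatA = true ∧ isAut quatX = true ∧
    mimg quatA stdD = stdD ∧ pget quatA 0 = 0 ∧ pget quatA 1 = 1 ∧ pget quatA 2 = 2 ∧
    mimg quatX stdD = stdD ∧ pget quatX 0 = 0 ∧ pget quatX 1 = 1 ∧ pget quatX 2 = 2 := by
  decide +kernel

theorem quat_table : ∀ x y : QuaternionGroup 2,
    peq (pmul (quatImg x) (quatImg y)) (quatImg (x * y)) = true ∧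
      (peq (quatImg x) pone = true → x = 1) := by
  decide +kernel

/-- The subgroup at the standard dodecad. -/
abbrev stdNine : Subgroup ↥M24 :=
  stabilizer ↥M24 (setOfMask stdD) ⊓ stabilizer ↥M24 (pt 0) ⊓ stabilizer ↥M24 (pt 1) ⊓
    stabilizer ↥M24 (pt 2)

theorem mem_std {g : ↥M24} {p : ℕ} (hr : Rep (g : Equiv.Perm GolayPt) p) (hd : mimg p stdD = stdD)
    (h0 : pget p 0 = 0) (h1 : pget p 1 = 1) (h2 : pget p 2 = 2) : g ∈ stdNine :=
  Subgroup.mem_inf.2 ⟨Subgroup.mem_inf.2 ⟨Subgroup.mem_inf.2 ⟨mem_stab_mask hr hd,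
    mem_stab_point hr (by rw [ix_pt (by norm_num)]; exact h0)⟩,
    mem_stab_point hr (by rw [ix_pt (by norm_num)]; exact h1)⟩,
    mem_stab_point hr (by rw [ix_pt (by norm_num)]; exact h2)⟩

theorem list_elt {p : ℕ} (hp : p ∈ nineList) : ∃ g : ↥stdNine, Rep ((g : ↥M24) : Equiv.Perm GolayPt) p := by
  have h := List.all_eq_true.1 nine_ok.2.2.1 p hp
  simp only [Bool.and_eq_true, Nat.beq_eq] at h
  obtain ⟨g, hr⟩ := exists_M24_elt h.1.1.1.1
  exact ⟨⟨g, mem_std hr h.1.1.1.2 h.1.1.2 h.1.2 h.2⟩, hr⟩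

theorem elt_list (g : ↥stdNine) : ∃ p ∈ nineList, Rep ((g : ↥M24) : Equiv.Perm GolayPt) p := by
  obtain ⟨⟨⟨gd, g0⟩, g1⟩, g2⟩ := g.2
  have hall := nine_ok.2.2.2.1
  have hne : ∀ i j, i < 24 → j < 24 → i ≠ j → (g : ↥M24) • pt i ≠ (g : ↥M24) • pt j := by
    intro i j hi hj hij e
    have := congrArg ix (MulAction.injective (g : ↥M24) e)
    rw [ix_pt hi, ix_pt hj] at this
    exact hij this
  have hin : ∀ i, i < 24 → bitAt stdD i = 1 → bitAt stdD (ix ((g : ↥M24) • pt i)) = 1 := by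
    intro i hi hb
    have h1 : pt i ∈ setOfMask stdD := by
      rw [mem_setOfMask, ix_pt hi]; rw [bitAt_eq] at hb; simpa using hb
    have h2 := (smul_mem_of_stab (g := (g : ↥M24)) gd).2 h1
    rw [mem_setOfMask] at h2
    simp [bitAt_eq, h2]
  have hge : ∀ i, i < 24 → 3 ≤ i → 3 ≤ ix ((g : ↥M24) • pt i) := by
    intro i hi h3
    by_contra hc
    obtain ⟨k, hk, e⟩ : ∃ k, k < 3 ∧ (g : ↥M24) • pt i = pt k := ⟨_, not_le.1 hc, (pt_ix _).symm⟩
    have hfix : (g : ↥M24) • pt k = pt k := by interval_cases k <;> [exact g0; exact g1; exact g2]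
    exact hne i k hi (by omega) (by omega) (e.trans hfix.symm)
  have h := forallLt_elim (forallLt_elim hall (ix_lt ((g : ↥M24) • pt 3))) (ix_lt ((g : ↥M24) • pt 4))
  simp only [Bool.or_eq_true, Nat.beq_eq, Nat.blt_eq, List.any_eq_true, Bool.and_eq_true] at h
  rw [hin 3 (by norm_num) (by decide +kernel), hin 4 (by norm_num) (by decide +kernel)] at h
  rcases h with ((((h | h) | h) | h) | h) | ⟨p, hp, e3, e4⟩
  · exact absurd (ix_injective h) (hne 3 4 (by norm_num) (by norm_num) (by norm_num))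
  · exact absurd h one_ne_zero
  · exact absurd h one_ne_zero
  · exact absurd h (not_lt.2 (hge 3 (by norm_num) le_rfl))
  · exact absurd h (not_lt.2 (hge 4 (by norm_num) (by norm_num)))
  obtain ⟨k, hk⟩ := list_elt hp
  obtain ⟨⟨⟨kd, k0⟩, k1⟩, k2⟩ := k.2
  have hpt : ∀ i, i < 24 → pget p i = ix ((g : ↥M24) • pt i) → (k : ↥M24) • pt i = (g : ↥M24) • pt i := by
    intro i hi e
    apply ix_injective
    rw [← e]
    have := hk (pt i)
    rw [ix_pt hi] at this
    exact this.symm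
  have : (k : ↥M24)⁻¹ * g = 1 := by
    refine M24Sub.five_unique (d := setOfMask stdD) (E := setOfMask 31) stdD_mem
      (by decide +kernel) (by decide +kernel) (mul_mem (inv_mem kd) gd) fun x hx => ?_
    rw [mul_smul, inv_smul_eq_iff]
    have hx5 : x = pt 0 ∨ x = pt 1 ∨ x = pt 2 ∨ x = pt 3 ∨ x = pt 4 := by
      revert hx; revert x; decide +kernel
    rcases hx5 with rfl | rfl | rfl | rfl | rfl
    · exact (show (g : ↥M24) • pt 0 = pt 0 from g0).trans (show (k : ↥M24) • pt 0 = pt 0 from k0).symm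
    · exact (show (g : ↥M24) • pt 1 = pt 1 from g1).trans (show (k : ↥M24) • pt 1 = pt 1 from k1).symm
    · exact (show (g : ↥M24) • pt 2 = pt 2 from g2).trans (show (k : ↥M24) • pt 2 = pt 2 from k2).symm
    · exact (hpt 3 (by norm_num) e3).symm
    · exact (hpt 4 (by norm_num) e4).symm
  exact ⟨p, hp, inv_mul_eq_one.1 this ▸ hk⟩

theorem card_sets (f : ℕ → Bool) (P : ↥stdNine → Prop) (hP : ∀ (g : ↥stdNine) (p : ℕ),
    Rep ((g : ↥M24) : Equiv.Perm GolayPt) p → (P g ↔ f p = true)) :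
    {g : ↥stdNine | P g}.ncard = (nineList.filter f).length := by
  obtain ⟨-, hd, -⟩ := nine_ok
  have hi : Function.Injective fun g : ↥stdNine => ((g : ↥M24) : Equiv.Perm GolayPt) :=
    Subtype.val_injective.comp Subtype.val_injective
  rw [← Set.ncard_image_of_injective _ hi]
  rw [show (fun g : ↥stdNine => ((g : ↥M24) : Equiv.Perm GolayPt)) '' {g | P g} =
    {σ | ∃ g : ↥stdNine, P g ∧ ((g : ↥M24) : Equiv.Perm GolayPt) = σ} from rfl]
  refine ncard_of_packed ?_ (fun p hp => ?_) ?_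
  · have hnd := nodup_of_distinctList hd
    have : ∀ l : List ℕ, l.Nodup → distinctList l = true := by
      intro l hl
      induction l with
      | nil => rfl
      | cons a t ih =>
        rw [List.nodup_cons] at hl
        show (_ && distinctList t) = true
        rw [ih hl.2, Bool.and_true]
        rw [Bool.not_eq_true', Bool.eq_false_iff, ne_eq, List.any_eq_true]
        rintro ⟨b, hb, e⟩
        exact hl.1 (Nat.eq_of_beq_eq_true e ▸ hb)
    exact this _ (hnd.sublist (List.filter_sublist.map canon))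
  · rw [List.mem_filter] at hp
    obtain ⟨g, hr⟩ := list_elt hp.1
    exact ⟨_, hr, g, (hP g p hr).2 hp.2, rfl⟩
  · rintro σ ⟨g, hg, rfl⟩
    obtain ⟨p, hp, hr⟩ := elt_list g
    exact ⟨p, List.mem_filter.2 ⟨hp, (hP g p hr).1 hg⟩, _, hr, rfl⟩

theorem card_std : Nat.card ↥stdNine = 72 := by
  have h := card_sets (fun _ => true) (fun _ => True) fun _ _ _ => iff_of_true trivial rfl
  rw [List.filter_eq_self.2 fun _ _ => rfl, nine_ok.1] at h
  rw [← h, Set.setOf_true, Set.ncard_univ]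

theorem pow_iff (g : ↥stdNine) {p : ℕ} (hr : Rep ((g : ↥M24) : Equiv.Perm GolayPt) p) (n : ℕ) :
    g ^ n = 1 ↔ peq (ppow p n) pone = true := by
  rw [peq_iff (rep_ppow hr n) Rep.one, ← Subtype.val_inj, ← Subtype.val_inj]
  rfl

theorem quat_hom : ∃ f : QuaternionGroup 2 →* ↥stdNine, Function.Injective f := by
  obtain ⟨-, -, -, -, -, -, ha, hx, a1, a2, a3, a4, x1, x2, x3, x4⟩ := nine_ok
  obtain ⟨A, hA⟩ := exists_M24_elt ha
  obtain ⟨X, hX⟩ := exists_M24_elt hx
  let A' : ↥stdNine := ⟨A, mem_std hA a1 a2 a3 a4⟩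
  let X' : ↥stdNine := ⟨X, mem_std hX x1 x2 x3 x4⟩
  let F : QuaternionGroup 2 → ↥stdNine := fun z => match z with
    | .a i => A' ^ i.val
    | .xa i => X' * A' ^ i.val
  have hF : ∀ z, Rep ((F z : ↥M24) : Equiv.Perm GolayPt) (quatImg z) := by
    intro z
    cases z with
    | a i => exact rep_ppow hA i.val
    | xa i => exact hX.mul (rep_ppow hA i.val)
  have hmul : ∀ x y, F (x * y) = F x * F y := fun x y => Subtype.ext (Subtype.ext
    (((peq_iff ((hF x).mul (hF y)) (hF (x * y))).1 (quat_table x y).1).symm))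
  refine ⟨MonoidHom.mk' F hmul, (injective_iff_map_eq_one _).2 fun z hz => (quat_table z 1).2 ?_⟩
  refine (peq_iff (hF z) Rep.one).2 ?_
  change F z = 1 at hz
  rw [hz]; rfl

theorem std_sylow :
    (∀ Q : Sylow 3 ↥stdNine, (Q : Subgroup ↥stdNine).Normal ∧ Nat.card ↥Q = 9 ∧
      ∀ x ∈ (Q : Subgroup ↥stdNine), x ^ 3 = 1) ∧
    ∀ P : Sylow 2 ↥stdNine, Nonempty (↥P ≃* QuaternionGroup 2) := by
  haveI : Fact (Nat.Prime 3) := ⟨Nat.prime_three⟩
  haveI : Fact (Nat.Prime 2) := ⟨Nat.prime_two⟩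
  have f72 : (72 : ℕ).factorization 3 = 2 ∧ (72 : ℕ).factorization 2 = 3 := by
    rw [show (72 : ℕ) = 2 ^ 3 * 3 ^ 2 from rfl, Nat.factorization_mul (by norm_num) (by norm_num),
      Nat.factorization_pow, Nat.factorization_pow]
    simp [Nat.Prime.factorization_self, Nat.prime_two, Nat.prime_three,
      Nat.factorization_eq_zero_of_not_dvd]
  refine ⟨fun Q => ?_, fun P => ?_⟩
  · have hQ : Nat.card ↥Q = 9 := Q.card_eq_multiplicity.trans (by rw [card_std, f72.1]; norm_num)
    have hset : (Q : Set ↥stdNine) = {g | g ^ 3 = 1} := by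
      refine Set.eq_of_subset_of_ncard_le (fun g hg => ?_) ?_ (Set.toFinite _)
      · have h9 : g ^ 9 = 1 := by
          have := pow_card_eq_one' (x := (⟨g, hg⟩ : ↥Q))
          rw [hQ] at this
          exact congrArg Subtype.val this
        obtain ⟨p, hp, hr⟩ := elt_list g
        rw [Set.mem_ofPred_eq, pow_iff g hr]
        have hall := List.all_eq_true.1 nine_ok.2.2.2.2.2.1 p hp
        rw [(pow_iff g hr 9).1 h9] at hall
        simpa using hall
      · rw [card_sets (fun p => peq (ppow p 3) pone) (fun g => g ^ 3 = 1) fun g p hr => pow_iff g hr 3,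
          nine_ok.2.2.2.2.1, ← hQ, ← Nat.card_coe_set_eq]
        exact le_of_eq rfl
    refine ⟨⟨fun n hn g => ?_⟩, hQ, fun x hx => ?_⟩
    · have h3 : n ^ 3 = 1 := by
        have : n ∈ (Q : Set ↥stdNine) := hn
        rwa [hset] at this
      show g * n * g⁻¹ ∈ (Q : Set ↥stdNine)
      rw [hset, Set.mem_ofPred_eq, conj_pow, h3]; group
    · have : x ∈ (Q : Set ↥stdNine) := hx
      rwa [hset] at this
  · obtain ⟨f, hf⟩ := quat_hom
    have hcard : Nat.card ↥f.range = 2 ^ (Nat.card ↥stdNine).factorization 2 := by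
      rw [card_std, f72.2, ← Nat.card_congr (MonoidHom.ofInjective hf).toEquiv,
        Nat.card_eq_fintype_card, QuaternionGroup.card]
      norm_num
    exact ⟨(P.equiv (Sylow.ofCard f.range hcard)).trans (MonoidHom.ofInjective hf).symm⟩

theorem sylow_transport {G H : Type*} [Group G] [Group H] [Finite G] [Finite H] (e : G ≃* H)
    (h : (∀ Q : Sylow 3 G, (Q : Subgroup G).Normal ∧ Nat.card ↥Q = 9 ∧ ∀ x ∈ (Q : Subgroup G), x ^ 3 = 1) ∧
      ∀ P : Sylow 2 G, Nonempty (↥P ≃* QuaternionGroup 2)) :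
    (∀ Q : Sylow 3 H, (Q : Subgroup H).Normal ∧ Nat.card ↥Q = 9 ∧ ∀ x ∈ (Q : Subgroup H), x ^ 3 = 1) ∧
      ∀ P : Sylow 2 H, Nonempty (↥P ≃* QuaternionGroup 2) := by
  haveI : Fact (Nat.Prime 3) := ⟨Nat.prime_three⟩
  haveI : Fact (Nat.Prime 2) := ⟨Nat.prime_two⟩
  refine ⟨fun Q => ?_, fun P => ?_⟩
  · let Q' : Sylow 3 G := Q.comapOfInjective e.toMonoidHom e.injective (by
      rw [MonoidHom.range_eq_top.2 e.surjective]; exact le_top)
    obtain ⟨hn, hc, hx⟩ := h.1 Q'
    have eQ : (Q : Subgroup H) = (Q' : Subgroup G).map e.toMonoidHom :=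
      (Subgroup.map_comap_eq_self_of_surjective e.surjective _).symm
    refine ⟨eQ ▸ hn.map _ e.surjective, ?_, fun x hxQ => ?_⟩
    · rw [← hc]
      show Nat.card ↥(Q : Subgroup H) = _
      rw [eQ]
      exact (Nat.card_congr (Subgroup.equivMapOfInjective _ _ e.injective).toEquiv).symm
    · rw [eQ] at hxQ
      obtain ⟨y, hy, rfl⟩ := hxQ
      show e y ^ 3 = 1
      rw [← map_pow, hx y hy, map_one]
  · let P' : Sylow 2 G := P.comapOfInjective e.toMonoidHom e.injective (by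
      rw [MonoidHom.range_eq_top.2 e.surjective]; exact le_top)
    obtain ⟨φ⟩ := h.2 P'
    have eP : (P : Subgroup H) = (P' : Subgroup G).map e.toMonoidHom :=
      (Subgroup.map_comap_eq_self_of_surjective e.surjective _).symm
    exact ⟨((MulEquiv.subgroupCongr eP).trans (Subgroup.equivMapOfInjective _ _ e.injective).symm).trans φ⟩

theorem mathieu_nine {d : Finset GolayPt} (hd : d ∈ dodecads) {p q r : GolayPt} (hp : p ∈ d)
    (hq : q ∈ d) (hr : r ∈ d) (hpq : p ≠ q) (hpr : p ≠ r) (hqr : q ≠ r) :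
    (∀ Q : Sylow 3 ↥(stabilizer ↥M24 d ⊓ stabilizer ↥M24 p ⊓ stabilizer ↥M24 q ⊓ stabilizer ↥M24 r),
      (Q : Subgroup ↥(stabilizer ↥M24 d ⊓ stabilizer ↥M24 p ⊓ stabilizer ↥M24 q ⊓ stabilizer ↥M24 r)).Normal ∧ Nat.card ↥Q = 9 ∧ ∀ x ∈ (Q : Subgroup ↥(stabilizer ↥M24 d ⊓ stabilizer ↥M24 p ⊓ stabilizer ↥M24 q ⊓ stabilizer ↥M24 r)), x ^ 3 = 1) ∧
    ∀ P : Sylow 2 ↥(stabilizer ↥M24 d ⊓ stabilizer ↥M24 p ⊓ stabilizer ↥M24 q ⊓ stabilizer ↥M24 r),
      Nonempty (↥P ≃* QuaternionGroup 2) := by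
  obtain ⟨t, rfl⟩ := exists_smul_stdD hd
  have inj : ∀ {u v w : GolayPt}, u ≠ v → u ≠ w → v ≠ w → Function.Injective ![u, v, w] := by
    intro u v w h1 h2 h3 i j h
    fin_cases i <;> fin_cases j <;> first
      | rfl
      | (exfalso; revert h; simp [h1, h2, h3, h1.symm, h2.symm, h3.symm])
  obtain ⟨u, hu, e⟩ := exists_map_dodecad hd (k := 3) (by norm_num)
    ⟨![t • pt 0, t • pt 1, t • pt 2], inj (fun e => by have := MulAction.injective t e; revert this; decide)
      (fun e => by have := MulAction.injective t e; revert this; decide)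
      (fun e => by have := MulAction.injective t e; revert this; decide)⟩
    ⟨![p, q, r], inj hpq hpr hqr⟩
    (fun i => by fin_cases i <;> exact (mem_smul_set t).2 (by decide +kernel))
    (fun i => by fin_cases i <;> [exact hp; exact hq; exact hr])
  have hs : (u * t) • setOfMask stdD = t • setOfMask stdD := by rw [mul_smul, mem_stabilizer_iff.1 hu]
  have e0 : (u * t) • pt 0 = p := by rw [mul_smul]; exact e 0
  have e1 : (u * t) • pt 1 = q := by rw [mul_smul]; exact e 1
  have e2 : (u * t) • pt 2 = r := by rw [mul_smul]; exact e 2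
  have heq : stdNine.map (MulAut.conj (u * t)).toMonoidHom =
      stabilizer ↥M24 (t • setOfMask stdD) ⊓ stabilizer ↥M24 p ⊓ stabilizer ↥M24 q ⊓ stabilizer ↥M24 r := by
    ext g
    rw [Subgroup.mem_map_equiv, MulAut.conj_symm_apply, ← hs, ← e0, ← e1, ← e2]
    simp only [Subgroup.mem_inf, mem_stabilizer_iff, mul_smul (_⁻¹ * g), mul_smul (_⁻¹),
      inv_smul_eq_iff]
  exact sylow_transport ((stdNine.equivMapOfInjective _ (MulAut.conj (u * t)).injective).trans
    (MulEquiv.subgroupCongr heq)) std_sylow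

end CfsgLib.ThreeTrans.M24Nine
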