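import Cfsg.Agent.Lib.ThreeTrans.M24OrbitThms
import Cfsg.Agent.Lib.Sporadic.OctadStab

/-!
The fifteen trios through an octad.
-/

set_option autoImplicit false
set_option maxRecDepth 100000

namespace CfsgLib.ThreeTrans.M24Orb

open Cfsg CfsgLib.Sporadic MulAction
open scoped Pointwise

/-- The masks of the octads disjoint from the standard one. -/
noncomputable def disjList : List ℕ := (codeList 8).filter fun m => Nat.beq (Nat.land m stdO) 0

theorem mem_disjList {B : Finset GolayPt} :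
    maskOf B ∈ disjList ↔ B ∈ octads ∧ Disjoint B (setOfMask stdO) := by
  rw [disjList, List.mem_filter, mem_codeList, mem_octads_iff, Nat.beq_eq, disjoint_iff_land,
    maskOf_setOfMask (by decide)]
  rfl

/-- The trios containing a given octad. -/
def through (o : Finset GolayPt) : Set (Finset (Finset GolayPt)) := {T | T ∈ trios ∧ o ∈ T}

theorem octTrio_ok : trioOK octTrioRoot = true ∧ hasM octTrioRoot stdO = true ∧
    octTrioGens.all (fun p => isAut p && Nat.beq (mimg p stdO) stdO &&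
      octTrioRoot.all fun v => hasM octTrioRoot (mimg p v)) = true ∧
    maskWalkOK octTrioGens octTrioB octTrioOps 28 = true ∧
    maskWalkOK octStGens octDisjB octDisjOps 30 = true ∧
    hasM disjList octTrioB = true ∧ hasM disjList octDisjB = true ∧
    (disjList.filter fun m => !hasM octTrioRoot m).length = 28 ∧ disjList.length = 30 ∧
    hasM octTrioRoot octTrioB = false ∧
    octFixList.all (fun p => disjList.all fun m =>
      Nat.beq (mimg p m) m || Nat.beq (mimg p m) (Nat.xor (Nat.xor 16777215 stdO) m)) = true ∧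
    forallLt 24 (fun i => forallLt 24 fun j => Nat.beq i j || Nat.beq (bitAt stdO i) 1 ||
      Nat.beq (bitAt stdO j) 1 || disjList.any fun m => Nat.beq (bitAt m i) 1 && Nat.beq (bitAt m j) 0) = true := by
  decide +kernel

theorem orbit_eq_of_count {H : Subgroup ↥M24} {x : Finset GolayPt} {l : List ℕ} {S : Set (Finset GolayPt)}
    {n : ℕ} (hS : ∀ s ∈ orbit ↥H x, s ∈ S) (hl : ∀ s ∈ S, maskOf s ∈ l) (hn : l.length = n)
    (hle : n ≤ (orbit ↥H x).ncard) : orbit ↥H x = S := by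
  refine Set.eq_of_subset_of_ncard_le hS ((le_trans ?_ (hn.le.trans hle))) (Set.toFinite _)
  rw [← Set.ncard_image_of_injective S maskOf_injective]
  refine (Set.ncard_le_ncard (t := (↑l.toFinset : Set ℕ)) ?_ (Finset.finite_toSet _)).trans ?_
  · rintro _ ⟨s, hs, rfl⟩; exact List.mem_toFinset.2 (hl s hs)
  · rw [Set.ncard_coe_finset]; exact List.toFinset_card_le l

theorem disj_smul {g : ↥M24} {o B : Finset GolayPt} (hg : g • o = o) :
    (g • B ∈ octads ∧ Disjoint (g • B) o) ↔ (B ∈ octads ∧ Disjoint B o) := by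
  rw [smul_mem_octads']
  refine and_congr_right fun _ => ?_
  conv_lhs => rw [← hg]
  exact disjoint_smul_set g

theorem trio_through {T : Finset (Finset GolayPt)} {o : Finset GolayPt} (h : T ∈ through o) :
    ∃ B ∈ T, B ≠ o ∧ B ∈ octads ∧ Disjoint B o ∧ T = {o, B, (o ∪ B)ᶜ} := by
  obtain ⟨a, ha, hne⟩ := Finset.exists_mem_ne (by rw [h.1.1]; norm_num : 1 < T.card) o
  exact ⟨a, ha, hne, h.1.2.1 a ha, h.1.2.2 a ha o h.2 hne, trio_eq h.1 h.2 ha (Ne.symm hne)⟩

theorem trans_one : ∀ T ∈ through (setOfMask stdO), ∃ g : ↥M24, g • setOfMask stdO = setOfMask stdO ∧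
    g • toQ octTrioRoot = T := by
  intro T hT
  obtain ⟨hok, hin, -, -, hwalk, -, hB0, -, h30, -⟩ := octTrio_ok
  obtain ⟨hT0, hlt⟩ := toQ_trio hok
  have hinT : setOfMask stdO ∈ toQ octTrioRoot :=
    Finset.mem_image_of_mem _ (List.mem_toFinset.2 (hasM_iff.1 hin))
  have horb : orbit ↥(stabilizer ↥M24 (setOfMask stdO)) (setOfMask octDisjB) =
      {B | B ∈ octads ∧ Disjoint B (setOfMask stdO)} := by
    have h0 := hasM_iff.1 hB0
    have hlt0 : octDisjB < 2 ^ 24 := by decide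
    rw [← maskOf_setOfMask hlt0, mem_disjList] at h0
    refine orbit_eq_of_count ?_ (fun s hs => mem_disjList.2 hs) h30 (mask_lower octStGens_in hwalk)
    rintro _ ⟨⟨g, hg⟩, rfl⟩
    exact (disj_smul (mem_stabilizer_iff.1 hg)).2 h0
  obtain ⟨A, hA, -, hAo, hAd, eA⟩ := trio_through ⟨hT0, hinT⟩
  obtain ⟨B, hB, -, hBo, hBd, eB⟩ := trio_through hT
  obtain ⟨⟨a, ha⟩, ea⟩ := (horb ▸ ⟨hAo, hAd⟩ : A ∈ orbit ↥(stabilizer ↥M24 (setOfMask stdO)) (setOfMask octDisjB))
  obtain ⟨⟨b, hb⟩, eb⟩ := (horb ▸ ⟨hBo, hBd⟩ : B ∈ orbit ↥(stabilizer ↥M24 (setOfMask stdO)) (setOfMask octDisjB))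
  change a • _ = A at ea
  change b • _ = B at eb
  have hgo : (b * a⁻¹) • setOfMask stdO = setOfMask stdO := mul_mem hb (inv_mem ha)
  have hgA : (b * a⁻¹) • A = B := by rw [mul_smul, ← ea, inv_smul_smul, eb]
  refine ⟨b * a⁻¹, hgo, ?_⟩
  have h1 := smul_mem_trios (b * a⁻¹) hT0
  have m1 : setOfMask stdO ∈ (b * a⁻¹) • toQ octTrioRoot := by
    rw [← hgo]; exact Finset.smul_mem_smul_finset hinT
  have m2 : B ∈ (b * a⁻¹) • toQ octTrioRoot := by
    rw [← hgA]; exact Finset.smul_mem_smul_finset hA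
  rw [trio_eq h1 m1 m2 (fun e => by
    have := (stdO_mem).2
    rw [e] at this hBd
    simp [disjoint_self.1 hBd] at this), eB]

theorem trans_two : ∀ T ∈ through (setOfMask stdO), T ≠ toQ octTrioRoot →
    ∀ T' ∈ through (setOfMask stdO), T' ≠ toQ octTrioRoot →
    ∃ g : ↥M24, g • setOfMask stdO = setOfMask stdO ∧ g • toQ octTrioRoot = toQ octTrioRoot ∧ g • T = T' := by
  intro T hT hne T' hT' hne'
  obtain ⟨hok, hin, hgens, hwalk, -, hB0, -, h28, -, hnot, -⟩ := octTrio_ok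
  obtain ⟨hT0, hlt⟩ := toQ_trio hok
  have hinT : setOfMask stdO ∈ toQ octTrioRoot :=
    Finset.mem_image_of_mem _ (List.mem_toFinset.2 (hasM_iff.1 hin))
  let H : Subgroup ↥M24 := stabilizer ↥M24 (setOfMask stdO) ⊓ stabilizer ↥M24 (toQ octTrioRoot)
  simp only [List.all_eq_true, Bool.and_eq_true, Nat.beq_eq, hasM_iff] at hgens
  have hH : GensIn H octTrioGens := fun p hp => by
    obtain ⟨g, hg⟩ := exists_M24_elt (hgens p hp).1.1
    refine ⟨g, Subgroup.mem_inf.2 ⟨mem_stab_mask hg (hgens p hp).1.2, ?_⟩, hg⟩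
    rw [mem_stabilizer_iff]
    refine Finset.eq_of_subset_of_card_le ?_ (by rw [Finset.card_smul_finset])
    intro s hs
    obtain ⟨v, hv, rfl⟩ := Finset.mem_smul_finset.1 hs
    rw [mem_toQ hlt] at hv
    rw [← setOfMask_maskOf v]
    have e : g • setOfMask (maskOf v) = setOfMask (mimg p (maskOf v)) := smul_setOfMask hg _
    rw [e]
    exact Finset.mem_image_of_mem _ (List.mem_toFinset.2 ((hgens p hp).2 _ hv))
  have horb : orbit ↥H (setOfMask octTrioB) =
      {B | B ∈ octads ∧ Disjoint B (setOfMask stdO) ∧ B ∉ toQ octTrioRoot} := by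
    have h0 := hasM_iff.1 hB0
    have hlt0 : octTrioB < 2 ^ 24 := by decide
    rw [← maskOf_setOfMask hlt0, mem_disjList] at h0
    refine orbit_eq_of_count ?_ (fun s hs => ?_) h28 (mask_lower hH hwalk)
    · rintro _ ⟨⟨g, hg⟩, rfl⟩
      obtain ⟨g1, g2⟩ := Subgroup.mem_inf.1 hg
      have h3 := (disj_smul (B := setOfMask octTrioB) (mem_stabilizer_iff.1 g1)).2 h0
      refine ⟨h3.1, h3.2, ?_⟩
      show g • setOfMask octTrioB ∉ _
      rw [← mem_stabilizer_iff.1 g2, Finset.smul_mem_smul_finset_iff, mem_toQ hlt,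
        maskOf_setOfMask hlt0, ← hasM_iff, hnot]
      exact Bool.false_ne_true
    · rw [List.mem_filter, mem_disjList]
      refine ⟨⟨hs.1, hs.2.1⟩, ?_⟩
      rw [Bool.not_eq_true', Bool.eq_false_iff, ne_eq, hasM_iff, ← mem_toQ hlt]
      exact hs.2.2
  have pick : ∀ U ∈ through (setOfMask stdO), U ≠ toQ octTrioRoot →
      ∃ B ∈ U, B ≠ setOfMask stdO ∧ B ∈ orbit ↥H (setOfMask octTrioB) := by
    intro U hU hneU
    obtain ⟨B, hB, hBne, hBo, hBd, eB⟩ := trio_through hU
    refine ⟨B, hB, hBne, horb ▸ ⟨hBo, hBd, fun hmem => hneU ?_⟩⟩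
    rw [eB, ← trio_eq hT0 hinT hmem (Ne.symm hBne)]
  obtain ⟨A, hA, hAne, ⟨⟨a, ha⟩, ea⟩⟩ := pick T hT hne
  obtain ⟨B, hB, hBne, ⟨⟨b, hb⟩, eb⟩⟩ := pick T' hT' hne'
  change a • _ = A at ea
  change b • _ = B at eb
  obtain ⟨g1, g2⟩ := Subgroup.mem_inf.1 (mul_mem hb (inv_mem ha) : b * a⁻¹ ∈ H)
  have hgA : (b * a⁻¹) • A = B := by rw [mul_smul, ← ea, inv_smul_smul, eb]
  refine ⟨b * a⁻¹, g1, g2, ?_⟩
  have m1 : setOfMask stdO ∈ (b * a⁻¹) • T := by
    rw [← mem_stabilizer_iff.1 g1]; exact Finset.smul_mem_smul_finset hT.2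
  have m2 : B ∈ (b * a⁻¹) • T := by rw [← hgA]; exact Finset.smul_mem_smul_finset hA
  rw [trio_eq (smul_mem_trios _ hT.1) m1 m2 (Ne.symm hBne), trio_eq hT'.1 hT'.2 hB (Ne.symm hBne)]

theorem mem_through_smul (t : ↥M24) {o : Finset GolayPt} {T : Finset (Finset GolayPt)} :
    t • T ∈ through (t • o) ↔ T ∈ through o := by
  rw [through, through, Set.mem_ofPred_eq, Set.mem_ofPred_eq, Finset.smul_mem_smul_finset_iff]
  exact and_congr_left' ⟨fun h => by simpa using trios_inv t⁻¹ _ h, trios_inv t T⟩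

theorem through_ncard {o : Finset GolayPt} (ho : o ∈ octads) : (through o).ncard = 15 := by
  classical
  let P := octadFinset.filter (Disjoint o ·)
  let F : Finset GolayPt → Finset (Finset GolayPt) := fun B => {o, B, (o ∪ B)ᶜ}
  have hP : ∀ B, B ∈ P ↔ B ∈ octads ∧ Disjoint o B := fun B => by simp [P, mem_octadFinset]
  have hne : ∀ B ∈ P, o ≠ B := fun B hB e => by
    have := ho.2
    have h2 := ((hP B).1 hB).2
    rw [← e, disjoint_self] at h2
    simp [h2] at this
  have hT : through o = ↑(P.image F) := by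
    ext T
    simp only [Finset.coe_image, Set.mem_image, Finset.mem_coe]
    constructor
    · intro h
      obtain ⟨B, -, -, hBo, hBd, e⟩ := trio_through h
      exact ⟨B, (hP B).2 ⟨hBo, hBd.symm⟩, e.symm⟩
    · rintro ⟨B, hB, rfl⟩
      exact ⟨trio_mem ho ((hP B).1 hB).1 ((hP B).1 hB).2, by simp [F]⟩
  have h2 : ∀ T ∈ P.image F, (P.filter fun B => F B = T).card = 2 := by
    intro T hT'
    have hT'' : T ∈ through o := by rw [hT]; exact hT'
    rw [show P.filter (fun B => F B = T) = T.erase o from ?_, Finset.card_erase_of_mem hT''.2, hT''.1.1]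
    ext B
    rw [Finset.mem_filter, Finset.mem_erase, hP]
    constructor
    · rintro ⟨hB, rfl⟩
      exact ⟨Ne.symm (hne B ((hP B).2 hB)), by simp [F]⟩
    · rintro ⟨h1, h2⟩
      exact ⟨⟨hT''.1.2.1 B h2, hT''.1.2.2 o hT''.2 B h2 (Ne.symm h1)⟩,
        (trio_eq hT''.1 hT''.2 h2 (Ne.symm h1)).symm⟩
  have h := Finset.card_eq_sum_card_image F P
  rw [Finset.sum_congr rfl h2, Finset.sum_const, smul_eq_mul, card_disjoint_octads ho] at h
  rw [hT, Set.ncard_coe_finset]
  omega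

theorem pointwise_fixes {g : Equiv.Perm GolayPt} (hg : g ∈ M24)
    (hfix : ∀ x ∈ setOfMask stdO, g x = x) {T : Finset (Finset GolayPt)}
    (hT : T ∈ through (setOfMask stdO)) : g • T = T := by
  obtain ⟨p, hp, hr⟩ := octFix_mem_list hg hfix
  obtain ⟨B, hB, hne, hBo, hBd, eT⟩ := trio_through hT
  have hall := octTrio_ok.2.2.2.2.2.2.2.2.2.2.1
  simp only [List.all_eq_true, Bool.or_eq_true, Nat.beq_eq] at hall
  let G : ↥M24 := ⟨g, hg⟩
  have hgo : G • setOfMask stdO = setOfMask stdO := mem_stab_of_fix (g := G) hfix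
  have himg := hall p hp (maskOf B) (mem_disjList.2 ⟨hBo, hBd⟩)
  have hgB : G • B ∈ T := by
    rw [show G • B = setOfMask (mimg p (maskOf B)) by
      rw [← smul_setOfMask hr, setOfMask_maskOf]; rfl]
    rcases himg with e | e
    · rw [e, setOfMask_maskOf]; exact hB
    · have : setOfMask (mimg p (maskOf B)) = (setOfMask stdO ∪ B)ᶜ := by
        rw [e]
        show setOfMask ((16777215 ^^^ stdO) ^^^ maskOf B) = _
        rw [setOfMask_xor, setOfMask_maskOf, setOfMask_xor, ← maskOf_univ, setOfMask_maskOf]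
        ext z
        have hd : z ∈ B → z ∉ setOfMask stdO := fun h => Finset.disjoint_left.1 hBd h
        simp only [Finset.mem_symmDiff, Finset.mem_univ, not_true_eq_false, true_and, and_false,
          or_false, Finset.mem_compl, Finset.mem_union]
        tauto
      rw [this, eT]; simp
  show G • T = T
  have m1 : setOfMask stdO ∈ G • T := by rw [← hgo]; exact Finset.smul_mem_smul_finset hT.2
  have m2 : G • B ∈ G • T := Finset.smul_mem_smul_finset hB
  have hne' : setOfMask stdO ≠ G • B := fun e => hne (by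
    have := congrArg (G⁻¹ • ·) e
    simp only [inv_smul_smul, inv_smul_eq_iff.2 hgo.symm] at this
    exact this.symm)
  rw [trio_eq (smul_mem_trios G hT.1) m1 m2 hne', ← trio_eq hT.1 hT.2 hgB hne']

theorem fixes_pointwise {g : Equiv.Perm GolayPt} (hg : g ∈ M24)
    (hgo : g • setOfMask stdO = setOfMask stdO)
    (hall : ∀ T ∈ through (setOfMask stdO), g • T = T) : ∀ x ∈ setOfMask stdO, g x = x := by
  let G : ↥M24 := ⟨g, hg⟩
  change G • setOfMask stdO = setOfMask stdO at hgo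
  have h4 : pt 4 ∉ setOfMask stdO := by decide +kernel
  have hg4 : G • pt 4 ∉ setOfMask stdO := by rwa [stab_mem_iff (g := G) hgo]
  obtain ⟨u, hu, eu⟩ := (fix_regular stdO_mem h4).2 _ hg4
  have huo : u • setOfMask stdO = setOfMask stdO := mem_stab_of_fix hu
  let k : ↥M24 := u⁻¹ * G
  have hk4 : k • pt 4 = pt 4 := by rw [mul_smul, ← eu, inv_smul_smul]
  have hko : k • setOfMask stdO = setOfMask stdO := by
    rw [mul_smul, hgo, inv_smul_eq_iff.2 huo.symm]
  have huT : ∀ T ∈ through (setOfMask stdO), u • T = T := fun T hT => pointwise_fixes u.2 hu hT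
  have hkT : ∀ T ∈ through (setOfMask stdO), k • T = T := fun T hT => by
    rw [mul_smul, show G • T = T from hall T hT, inv_smul_eq_iff.2 (huT T hT).symm]
  have hkB : ∀ B, B ∈ octads → Disjoint B (setOfMask stdO) → k • B = B := by
    intro B hB hd
    have hT : {setOfMask stdO, B, (setOfMask stdO ∪ B)ᶜ} ∈ through (setOfMask stdO) :=
      ⟨trio_mem stdO_mem hB hd.symm, by simp⟩
    have hmem : k • B ∈ ({setOfMask stdO, B, (setOfMask stdO ∪ B)ᶜ} : Finset (Finset GolayPt)) := by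
      rw [← hkT _ hT]; exact Finset.smul_mem_smul_finset (by simp)
    have h4B : pt 4 ∈ k • B ↔ pt 4 ∈ B := by
      conv_lhs => rw [← hk4]
      exact mem_smul_set k
    simp only [Finset.mem_insert, Finset.mem_singleton] at hmem
    rcases hmem with e | e | e
    · exfalso
      have := congrArg (k⁻¹ • ·) e
      simp only [inv_smul_smul, inv_smul_eq_iff.2 hko.symm] at this
      rw [this, disjoint_self] at hd
      have h8 := stdO_mem.2
      simp [hd] at h8
    · exact e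
    · exfalso
      rw [e, Finset.mem_compl, Finset.mem_union] at h4B
      tauto
  have hsep := octTrio_ok.2.2.2.2.2.2.2.2.2.2.2
  have hout : ∀ y, y ∉ setOfMask stdO → k • y = y := by
    intro y hy
    by_contra hne
    have hky : k • y ∉ setOfMask stdO := by rwa [stab_mem_iff (g := k) hko]
    have := forallLt_elim (forallLt_elim hsep (ix_lt (k • y))) (ix_lt y)
    simp only [Bool.or_eq_true, Nat.beq_eq, List.any_eq_true, Bool.and_eq_true] at this
    rw [mem_setOfMask] at hy hky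
    rcases this with ((h | h) | h) | ⟨m, hm, h1, h2⟩
    · exact hne (ix_injective h)
    · simp [bitAt_eq, hky] at h
    · simp [bitAt_eq, hy] at h
    · have hlt : m < 2 ^ 24 := by
        rw [disjList, List.mem_filter, mem_codeList] at hm
        exact inCode_lt hm.1.1
      rw [← maskOf_setOfMask hlt, mem_disjList] at hm
      have e := hkB _ hm.1 hm.2
      have hin : k • y ∈ setOfMask m := by rw [mem_setOfMask]; simpa [bitAt_eq] using h1
      rw [← e, mem_smul_set, mem_setOfMask] at hin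
      simp [bitAt_eq, hin] at h2
  have hk1 : k = 1 := by
    obtain ⟨hok, hin, -⟩ := octTrio_ok
    obtain ⟨hT0, -⟩ := toQ_trio hok
    obtain ⟨B, -, -, hBo, hBd, -⟩ := trio_through (o := setOfMask stdO) ⟨hT0,
      Finset.mem_image_of_mem _ (List.mem_toFinset.2 (hasM_iff.1 hin))⟩
    obtain ⟨z, hz, hzB⟩ : ∃ z, z ∉ setOfMask stdO ∧ z ∉ B := by
      have h3 := (third_octad stdO_mem hBo hBd.symm).2
      obtain ⟨z, hz⟩ := Finset.card_pos.1 (by rw [h3]; norm_num : 0 < (setOfMask stdO ∪ B)ᶜ.card)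
      rw [Finset.mem_compl, Finset.mem_union, not_or] at hz
      exact ⟨z, hz⟩
    exact (fix_regular hBo hzB).1 k (fun y hy => hout y (Finset.disjoint_left.1 hBd hy)) (hout z hz)
  have : G = u := (inv_mul_eq_one.1 hk1).symm
  intro x hx
  show G • x = x
  rw [this]; exact hu x hx

theorem octad_trios {o : Finset GolayPt} (ho : o ∈ octads) :
    {T : Finset (Finset GolayPt) | T ∈ trios ∧ o ∈ T}.ncard = 15 ∧
    (∀ T₁ T₂ T₁' T₂' : Finset (Finset GolayPt), T₁ ∈ trios → T₂ ∈ trios → T₁' ∈ trios → T₂' ∈ trios →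
      o ∈ T₁ → o ∈ T₂ → o ∈ T₁' → o ∈ T₂' → T₁ ≠ T₂ → T₁' ≠ T₂' →
      ∃ g ∈ M24, g • o = o ∧ g • T₁ = T₁' ∧ g • T₂ = T₂') ∧
    ∀ g ∈ M24, g • o = o → ((∀ T ∈ trios, o ∈ T → g • T = T) ↔ ∀ p ∈ o, g p = p) := by
  refine ⟨through_ncard ho, ?_, ?_⟩
  · obtain ⟨t, rfl⟩ := exists_smul_stdO ho
    intro T₁ T₂ T₁' T₂' h1 h2 h1' h2' m1 m2 m1' m2' hne hne'
    obtain ⟨A, rfl⟩ : ∃ A, T₁ = t • A := ⟨_, (smul_inv_smul t T₁).symm⟩
    obtain ⟨B, rfl⟩ : ∃ B, T₂ = t • B := ⟨_, (smul_inv_smul t T₂).symm⟩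
    obtain ⟨A', rfl⟩ : ∃ A', T₁' = t • A' := ⟨_, (smul_inv_smul t T₁').symm⟩
    obtain ⟨B', rfl⟩ : ∃ B', T₂' = t • B' := ⟨_, (smul_inv_smul t T₂').symm⟩
    have hA := (mem_through_smul t).1 ⟨h1, m1⟩
    have hA' := (mem_through_smul t).1 ⟨h1', m1'⟩
    obtain ⟨a, ao, ea⟩ := trans_one A hA
    obtain ⟨a', ao', ea'⟩ := trans_one A' hA'
    have back : ∀ (c : ↥M24), c • setOfMask stdO = setOfMask stdO → ∀ {X Y}, c • toQ octTrioRoot = X →
        Y ∈ through (setOfMask stdO) → X ≠ Y →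
        c⁻¹ • Y ∈ through (setOfMask stdO) ∧ c⁻¹ • Y ≠ toQ octTrioRoot := by
      intro c hc X Y eX hY hXY
      refine ⟨?_, fun e => hXY (by rw [← eX, ← e, smul_inv_smul])⟩
      rw [show setOfMask stdO = c⁻¹ • setOfMask stdO from (inv_smul_eq_iff.2 hc.symm).symm]
      exact (mem_through_smul c⁻¹).2 hY
    obtain ⟨bB, bB'⟩ := back a ao ea ((mem_through_smul t).1 ⟨h2, m2⟩) (fun e => hne (by rw [e]))
    obtain ⟨cB, cB'⟩ := back a' ao' ea' ((mem_through_smul t).1 ⟨h2', m2'⟩) (fun e => hne' (by rw [e]))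
    obtain ⟨c, co, cT, cB''⟩ := trans_two _ bB bB' _ cB cB'
    have e1 : (a' * c * a⁻¹) • A = A' := by rw [mul_smul, mul_smul, ← ea, inv_smul_smul, cT, ea']
    have e2 : (a' * c * a⁻¹) • B = B' := by rw [mul_smul, mul_smul, cB'', smul_inv_smul]
    have e0 : (a' * c * a⁻¹) • setOfMask stdO = setOfMask stdO := by
      rw [mul_smul, mul_smul, inv_smul_eq_iff.2 ao.symm, co, ao']
    refine ⟨_, (t * (a' * c * a⁻¹) * t⁻¹).2, ?_, ?_, ?_⟩
    · show (t * (a' * c * a⁻¹) * t⁻¹) • t • setOfMask stdO = _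
      rw [mul_smul, mul_smul t, inv_smul_smul, e0]
    · show (t * (a' * c * a⁻¹) * t⁻¹) • t • A = _
      rw [mul_smul, mul_smul t, inv_smul_smul, e1]
    · show (t * (a' * c * a⁻¹) * t⁻¹) • t • B = _
      rw [mul_smul, mul_smul t, inv_smul_smul, e2]
  · obtain ⟨t, rfl⟩ := exists_smul_stdO ho
    intro g hg hgo
    let k : ↥M24 := t⁻¹ * ⟨g, hg⟩ * t
    have hko : k • setOfMask stdO = setOfMask stdO := by
      rw [mul_smul, mul_smul, inv_smul_eq_iff]; exact hgo
    have hk : ∀ {α : Type} [MulAction (Equiv.Perm GolayPt) α] (x : α),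
        g • ((t : Equiv.Perm GolayPt) • x) = (t : Equiv.Perm GolayPt) • x ↔
          (k : Equiv.Perm GolayPt) • x = x := by
      intro α _ x
      show _ ↔ ((t : Equiv.Perm GolayPt)⁻¹ * g * (t : Equiv.Perm GolayPt)) • x = x
      rw [mul_smul, mul_smul, inv_smul_eq_iff]
    constructor
    · intro h p hp
      obtain ⟨q, hq, rfl⟩ := Finset.mem_smul_finset.1 hp
      refine (hk q).2 (fixes_pointwise k.2 hko (fun T hT => (hk T).1 ?_) q hq)
      exact h _ ((mem_through_smul t).2 hT).1 ((mem_through_smul t).2 hT).2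
    · intro h T hT hoT
      obtain ⟨A, rfl⟩ : ∃ A, T = t • A := ⟨_, (smul_inv_smul t T).symm⟩
      refine (hk A).2 (pointwise_fixes k.2 (fun x hx => (hk x).1 ?_) ((mem_through_smul t).1 ⟨hT, hoT⟩))
      exact h _ ((mem_smul_set t).2 hx)

end CfsgLib.ThreeTrans.M24Orb
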