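import Cfsg.Agent.Lib.Sporadic.Maximal
import Cfsg.Agent.Lib.Sporadic.OctadStab
import Cfsg.Prelude.Def_SporadicCombinatorics

/-!
Pairs of octads and sets of six points.
-/

set_option autoImplicit false

namespace CfsgLib.ThreeTrans.M24Oct

open Cfsg CfsgLib.Sporadic MulAction
open scoped Pointwise

/-- Octad masks meeting the standard one in 0, 2, 4 points, and connecting octads. -/
theorem reps_ok : forallLt 8 (fun i => let m := [6889680, 4845570, 13062145, 3704512, 9830549, 6337856, 8536111, 8536111].getD i 0;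
      inCode m && Nat.beq (popc m) 8) = true ∧
    popc (stdO &&& 6889680) = 0 ∧ popc (stdO &&& 4845570) = 2 ∧ popc (stdO &&& 13062145) = 4 ∧
    stdO &&& 3704512 = 0 ∧ 3704512 &&& 13062145 = 0 ∧
    stdO &&& 6337856 = 0 ∧ 6337856 &&& 9830549 = 0 ∧ 9830549 &&& 4845570 = 0 ∧
    countList (codeList 8) (fun m => Nat.beq (Nat.land m stdO) 0 && Nat.beq (Nat.land m 4845570) 0) = 0 ∧
    countLt 4096 (fun k => famMask 8 0 0 stdO 0 (enc k)) = 30 ∧
    countLt 4096 (fun k => famMask 8 0 0 stdO 4 (enc k)) = 280 ∧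
    countLt 4096 (fun k => famMask 8 0 0 stdO 2 (enc k)) = 448 ∧
    octFixList.all (fun p => !Nat.beq (mimg p 4845570) 4845570 || Nat.beq p pone) = true := by
  decide +kernel

theorem rep_mem {m i : ℕ} (hi : i < 8)
    (hm : [6889680, 4845570, 13062145, 3704512, 9830549, 6337856, 8536111, 8536111].getD i 0 = m) :
    setOfMask m ∈ octads := by
  have h := forallLt_elim reps_ok.1 hi
  simp only [hm, Bool.and_eq_true, Nat.beq_eq] at h
  rw [mem_octads_iff, maskOf_setOfMask (inCode_lt h.1)]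
  exact h

/-- Two octads can be moved to the standard one and a given partner with the same intersection. -/
theorem exists_pair {o o' : Finset GolayPt} (ho : o ∈ octads) (ho' : o' ∈ octads) {r : ℕ}
    (hr : setOfMask r ∈ octads) (h : (o ∩ o').card = popc (stdO &&& r)) :
    ∃ t : ↥M24, t • setOfMask stdO = o ∧ t • setOfMask r = o' := by
  obtain ⟨t, rfl⟩ := exists_smul_stdO ho
  obtain ⟨g, h1, h2⟩ := octad_suborbit (o := t • setOfMask stdO) (o' := t • setOfMask r) (o'' := o')
    ho ((smul_mem_octads' t).2 hr) ho' (by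
      rw [h, card_inter_smul, ← card_setOfMask, setOfMask_land])
  exact ⟨g * t, by rw [mul_smul, h1], by rw [mul_smul, h2]⟩

/-! ### the graph -/

theorem adj_iff (a b : ↥octads) :
    (blockGraph octads).Adj a b ↔ Disjoint (a : Finset GolayPt) (b : Finset GolayPt) := by
  rw [blockGraph, SimpleGraph.fromRel_adj]
  constructor
  · rintro ⟨-, h | h⟩
    · exact h
    · exact h.symm
  · intro h
    refine ⟨fun e => ?_, Or.inl h⟩
    subst e
    rw [disjoint_self] at h
    have := a.2.2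
    simp [h] at this

theorem disjoint_masks {a b : ℕ} (ha : a < 2 ^ 24) (hb : b < 2 ^ 24) (t : ↥M24) (h : a &&& b = 0) :
    Disjoint (t • setOfMask a) (t • setOfMask b) := by
  rw [disjoint_smul_set, disjoint_iff_land, maskOf_setOfMask ha, maskOf_setOfMask hb, h]

theorem path_two {o o' : Finset GolayPt} (ho : o ∈ octads) (ho' : o' ∈ octads) (h : (o ∩ o').card = 4) :
    ∃ c : ↥octads, Disjoint o (c : Finset GolayPt) ∧ Disjoint (c : Finset GolayPt) o' := by
  obtain ⟨-, -, -, h4, d1, d2, -⟩ := reps_ok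
  obtain ⟨t, rfl, rfl⟩ := exists_pair ho ho' (rep_mem (m := 13062145) (i := 2) (by norm_num) rfl) (by rw [h, h4])
  exact ⟨⟨t • setOfMask 3704512, (smul_mem_octads' t).2 (rep_mem (m := 3704512) (i := 3) (by norm_num) rfl)⟩,
    disjoint_masks (by decide) (by decide) t d1, disjoint_masks (by decide) (by decide) t d2⟩

theorem path_three {o o' : Finset GolayPt} (ho : o ∈ octads) (ho' : o' ∈ octads) (h : (o ∩ o').card = 2) :
    (∃ c e : ↥octads, Disjoint o (c : Finset GolayPt) ∧
      Disjoint (c : Finset GolayPt) (e : Finset GolayPt) ∧ Disjoint (e : Finset GolayPt) o') ∧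
    ∀ c ∈ octads, Disjoint o c → ¬ Disjoint c o' := by
  obtain ⟨-, -, h2, -, -, -, d1, d2, d3, h0, -⟩ := reps_ok
  obtain ⟨t, rfl, rfl⟩ := exists_pair ho ho' (rep_mem (m := 4845570) (i := 1) (by norm_num) rfl) (by rw [h, h2])
  refine ⟨⟨⟨t • setOfMask 6337856, (smul_mem_octads' t).2 (rep_mem (m := 6337856) (i := 5) (by norm_num) rfl)⟩,
    ⟨t • setOfMask 9830549, (smul_mem_octads' t).2 (rep_mem (m := 9830549) (i := 4) (by norm_num) rfl)⟩,
    disjoint_masks (by decide) (by decide) t d1, disjoint_masks (by decide) (by decide) t d2,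
    disjoint_masks (by decide) (by decide) t d3⟩, ?_⟩
  intro c hc hd hd'
  obtain ⟨b, rfl⟩ : ∃ b, c = t • b := ⟨_, (smul_inv_smul t c).symm⟩
  rw [disjoint_smul_set, disjoint_iff_land, maskOf_setOfMask (by decide)] at hd hd'
  rw [smul_mem_octads'] at hc
  have hn := ncard_eq_countList (S := {u | u ∈ octads ∧ (Nat.beq (Nat.land (maskOf u) stdO) 0 &&
      Nat.beq (Nat.land (maskOf u) 4845570) 0) = true}) 8
    (fun m => Nat.beq (Nat.land m stdO) 0 && Nat.beq (Nat.land m 4845570) 0) (fun _ => Iff.rfl)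
  rw [h0, Set.ncard_eq_zero] at hn
  refine Set.eq_empty_iff_forall_notMem.1 hn b ⟨hc, ?_⟩
  simp only [Bool.and_eq_true, Nat.beq_eq]
  exact ⟨show maskOf b &&& stdO = 0 by rw [Nat.and_comm]; exact hd, hd'⟩

theorem octad_graph (o o' : Finset GolayPt) (ho : o ∈ octads) (ho' : o' ∈ octads) (hne : o ≠ o') :
    (blockGraph octads).Connected ∧
    ((blockGraph octads).dist ⟨o, ho⟩ ⟨o', ho'⟩ = 1 ↔ (o ∩ o').card = 0) ∧
    ((blockGraph octads).dist ⟨o, ho⟩ ⟨o', ho'⟩ = 2 ↔ (o ∩ o').card = 4) ∧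
    ((blockGraph octads).dist ⟨o, ho⟩ ⟨o', ho'⟩ = 3 ↔ (o ∩ o').card = 2) := by
  have key : ∀ a b : ↥octads, a ≠ b →
      ((a.1 ∩ b.1).card = 0 ∧ (blockGraph octads).dist a b = 1 ∧ (blockGraph octads).Reachable a b) ∨
      ((a.1 ∩ b.1).card = 4 ∧ (blockGraph octads).dist a b = 2 ∧ (blockGraph octads).Reachable a b) ∨
      ((a.1 ∩ b.1).card = 2 ∧ (blockGraph octads).dist a b = 3 ∧ (blockGraph octads).Reachable a b) := by
    intro a b hab
    have hne1 : (a.1 ∩ b.1).card ≠ 0 → (blockGraph octads).dist a b ≠ 1 := fun h e => h (by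
      rw [SimpleGraph.dist_eq_one_iff_adj, adj_iff, Finset.disjoint_iff_inter_eq_empty] at e
      rw [e, Finset.card_empty])
    rcases card_inter_octads a.2 b.2 (fun e => hab (Subtype.ext e)) with h | h | h
    · have hadj : (blockGraph octads).Adj a b := by
        rw [adj_iff, Finset.disjoint_iff_inter_eq_empty, ← Finset.card_eq_zero, h]
      exact Or.inl ⟨h, SimpleGraph.dist_eq_one_iff_adj.2 hadj, hadj.reachable⟩
    · obtain ⟨⟨c, e, h1, h2, h3⟩, hno⟩ := path_three a.2 b.2 h
      let w : (blockGraph octads).Walk a b := .cons ((adj_iff a c).2 h1)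
        (.cons ((adj_iff c e).2 h2) (.cons ((adj_iff e b).2 h3) .nil))
      refine Or.inr (Or.inr ⟨h, ?_, w.reachable⟩)
      have hle : (blockGraph octads).dist a b ≤ 3 := SimpleGraph.dist_le w
      have h0 : (blockGraph octads).dist a b ≠ 0 := fun e => hab (w.reachable.dist_eq_zero_iff.1 e)
      have h1' := hne1 (by omega)
      have h2' : (blockGraph octads).dist a b ≠ 2 := fun e2 => by
        obtain ⟨p, hp⟩ := w.reachable.exists_walk_length_eq_dist
        rw [e2] at hp
        cases p with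
        | nil => simp at hp
        | cons u1 q =>
          cases q with
          | nil => simp at hp
          | cons u2 r =>
            cases r with
            | nil => exact hno _ (Subtype.coe_prop _) ((adj_iff _ _).1 u1) ((adj_iff _ _).1 u2)
            | cons _ _ => simp at hp
      omega
    · obtain ⟨c, h1, h2⟩ := path_two a.2 b.2 h
      let w : (blockGraph octads).Walk a b := .cons ((adj_iff a c).2 h1) (.cons ((adj_iff c b).2 h2) .nil)
      refine Or.inr (Or.inl ⟨h, ?_, w.reachable⟩)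
      have hle : (blockGraph octads).dist a b ≤ 2 := SimpleGraph.dist_le w
      have h0 : (blockGraph octads).dist a b ≠ 0 := fun e => hab (w.reachable.dist_eq_zero_iff.1 e)
      have h1' := hne1 (by omega)
      omega
  refine ⟨{ preconnected := fun a b => ?_, nonempty := ⟨⟨o, ho⟩⟩ }, ?_⟩
  · by_cases hab : a = b
    · exact hab ▸ SimpleGraph.Reachable.refl _
    · rcases key a b hab with h | h | h <;> exact h.2.2
  · rcases key ⟨o, ho⟩ ⟨o', ho'⟩ (fun e => hne (congrArg Subtype.val e)) with ⟨a, b, -⟩ | ⟨a, b, -⟩ | ⟨a, b, -⟩ <;>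
      · simp only at a
        rw [a, b]
        decide

/-! ### joint stabilisers -/

theorem card_joint {o o' : Finset GolayPt} (ho : o ∈ octads) (ho' : o' ∈ octads) {i n c : ℕ}
    (h : (o ∩ o').card = i) (hn : countLt 4096 (fun k => famMask 8 0 0 stdO i (enc k)) = n)
    (hc : c * n = 322560) :
    Nat.card ↥(stabilizer ↥M24 o ⊓ stabilizer ↥M24 o') = c := by
  have := card_eq_orbit_mul (stabilizer ↥M24 o) o' {x | x ∈ octads ∧ (o ∩ x).card = i}
    (fun g hg => ⟨(smul_mem_octads' g).2 ho', by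
      conv_lhs => rw [← mem_stabilizer_iff.1 hg]
      rw [card_inter_smul, h]⟩)
    (fun x hx => by
      obtain ⟨g, h1, h2⟩ := octad_suborbit ho ho' hx.1 (by rw [h, hx.2])
      exact ⟨g, h1, h2⟩)
  rw [card_stab_octad' ho, octad_meet_ncard ho, hn, ← hc, mul_comm c n] at this
  have hpos : 0 < n := Nat.pos_of_ne_zero fun h0 => by rw [h0, mul_zero] at hc; omega
  exact (Nat.eq_of_mul_eq_mul_left hpos this).symm

theorem joint_orders {o o' : Finset GolayPt} (ho : o ∈ octads) (ho' : o' ∈ octads) :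
    ((o ∩ o').card = 0 → Nat.card ↥(stabilizer ↥M24 o ⊓ stabilizer ↥M24 o') = 10752) ∧
    ((o ∩ o').card = 4 → Nat.card ↥(stabilizer ↥M24 o ⊓ stabilizer ↥M24 o') = 1152) ∧
    ((o ∩ o').card = 2 → Nat.card ↥(stabilizer ↥M24 o ⊓ stabilizer ↥M24 o') = 720) := by
  obtain ⟨-, -, -, -, -, -, -, -, -, -, n0, n4, n2, -⟩ := reps_ok
  exact ⟨fun h => card_joint ho ho' h n0 (by norm_num), fun h => card_joint ho ho' h n4 (by norm_num),
    fun h => card_joint ho ho' h n2 (by norm_num)⟩

/-- Six fixed points in an octad fix the whole octad. -/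
theorem fix_octad_of_six {o E : Finset GolayPt} (ho : o ∈ octads) (hsub : E ⊆ o) (hE : E.card = 6)
    {g : ↥M24} (h : ∀ x ∈ E, g • x = x) : ∀ x ∈ o, g • x = x := by
  have hgo : g • o = o := by
    obtain ⟨s, hs, hsc⟩ := Finset.exists_subset_card_eq (s := E) (n := 5) (by omega)
    exact smul_eq_of_fix_five g.2 ho (s := s) (hs.trans hsub) hsc.ge fun x hx => h x (hs hx)
  obtain ⟨a, b, hab, e⟩ := Finset.card_eq_two.1
    (by rw [Finset.card_sdiff_of_subset hsub, ho.2, hE] : (o \ E).card = 2)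
  have ha : a ∈ o \ E := by rw [e]; simp
  have hb : b ∈ o \ E := by rw [e]; simp
  let p : Equiv.Perm ↥o := octRestrict o ⟨g, hgo⟩
  have hp : p ∈ alternatingGroup ↥o := by rw [← range_restrict ho]; exact ⟨_, rfl⟩
  have hfix : ∀ z : ↥o, z.1 ∈ E → p z = z := fun z hz => Subtype.ext (h _ hz)
  have hpa : p ⟨a, (Finset.mem_sdiff.1 ha).1⟩ = ⟨a, (Finset.mem_sdiff.1 ha).1⟩ := by
    by_contra hne
    have hmove : ∀ z : ↥o, p z ≠ z → z.1 = a ∨ z.1 = b := fun z hz => by
      have : z.1 ∈ o \ E := Finset.mem_sdiff.2 ⟨z.2, fun hzE => hz (hfix z hzE)⟩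
      rw [e] at this
      simpa using this
    have hsw : p.IsSwap := by
      rw [← Equiv.Perm.card_support_eq_two]
      refine le_antisymm ?_ (Equiv.Perm.two_le_card_support_of_ne_one fun e1 => hne (by rw [e1]; rfl))
      refine le_trans (Finset.card_le_card (t := {⟨a, (Finset.mem_sdiff.1 ha).1⟩, ⟨b, (Finset.mem_sdiff.1 hb).1⟩})
        fun z hz => ?_) (Finset.card_le_two)
      rcases hmove z (Equiv.Perm.mem_support.1 hz) with h' | h' <;> simp [Subtype.ext_iff, h']
    have := hsw.sign_eq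
    rw [Equiv.Perm.mem_alternatingGroup.1 hp] at this
    exact absurd this (by decide)
  intro x hx
  by_cases hxE : x ∈ E
  · exact h x hxE
  have hx' : x ∈ o \ E := Finset.mem_sdiff.2 ⟨hx, hxE⟩
  rw [e, Finset.mem_insert, Finset.mem_singleton] at hx'
  have ga : g • a = a := congrArg Subtype.val hpa
  rcases hx' with rfl | rfl
  · exact ga
  · have h1 : g • x ∈ o \ E := by
      refine Finset.mem_sdiff.2 ⟨(stab_mem_iff (g := g) hgo x).2 (Finset.mem_sdiff.1 hb).1, fun hm => ?_⟩
      exact (Finset.mem_sdiff.1 hb).2 (MulAction.injective g (h _ hm) ▸ hm)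
    rw [e, Finset.mem_insert, Finset.mem_singleton] at h1
    exact h1.resolve_left fun e' => hab (MulAction.injective g (e'.trans ga.symm)).symm

theorem joint_symmetric {o o' : Finset GolayPt} (ho : o ∈ octads) (ho' : o' ∈ octads)
    (h2 : (o ∩ o').card = 2) :
    Nonempty (↥(stabilizer ↥M24 o ⊓ stabilizer ↥M24 o') ≃* Equiv.Perm (Fin 6)) := by
  classical
  let K : Subgroup ↥M24 := stabilizer ↥M24 o ⊓ stabilizer ↥M24 o'
  have hmem : ∀ (g : ↥K) (x : GolayPt), g.1 • x ∈ o \ o' ↔ x ∈ o \ o' := fun g x => by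
    simp only [Finset.mem_sdiff, stab_mem_iff g.2.1, stab_mem_iff g.2.2]
  let φ : ↥K →* Equiv.Perm ↥(o \ o') :=
    { toFun := fun g => Equiv.Perm.subtypePerm ((g : ↥M24) : Equiv.Perm GolayPt) fun x => hmem g x
      map_one' := rfl
      map_mul' := fun _ _ => rfl }
  have h6 : (o \ o').card = 6 := by
    have := Finset.card_sdiff_add_card_inter o o'
    rw [h2, ho.2] at this
    omega
  have hinj : Function.Injective φ := by
    rw [injective_iff_map_eq_one]
    intro g hg
    have hfix : ∀ x ∈ o \ o', g.1 • x = x := fun x hx =>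
      congrArg (fun e : Equiv.Perm ↥(o \ o') => (e ⟨x, hx⟩ : GolayPt)) hg
    have hall := fix_octad_of_six ho Finset.sdiff_subset h6 hfix
    obtain ⟨-, -, r2, -, -, -, -, -, -, -, -, -, -, hchk⟩ := reps_ok
    obtain ⟨t, rfl, rfl⟩ := exists_pair ho ho' (rep_mem (m := 4845570) (i := 1) (by norm_num) rfl) (by rw [h2, r2])
    let k : ↥M24 := t⁻¹ * g.1 * t
    have hk : ∀ x ∈ setOfMask stdO, (k : Equiv.Perm GolayPt) x = x := fun x hx => by
      show k • x = x
      rw [mul_smul, mul_smul, hall _ ((mem_smul_set t).2 hx), inv_smul_smul]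
    obtain ⟨p, hp, hr⟩ := octFix_mem_list k.2 hk
    have hk2 : k • setOfMask 4845570 = setOfMask 4845570 := by
      rw [mul_smul, mul_smul, mem_stabilizer_iff.1 g.2.2, inv_smul_smul]
    simp only [List.all_eq_true, Bool.or_eq_true, Bool.not_eq_true', Bool.eq_false_iff, ne_eq,
      Nat.beq_eq] at hchk
    have hp1 : p = pone := (hchk p hp).resolve_left fun hne => hne (by
      have e := smul_setOfMask hr 4845570
      rw [show (k : Equiv.Perm GolayPt) • setOfMask 4845570 = setOfMask 4845570 from hk2] at e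
      exact (setOfMask_inj (by decide) (mimg_lt hr _) e).symm)
    have : k = 1 := Subtype.ext (hr.unique (hp1 ▸ Rep.one))
    apply Subtype.ext
    show g.1 = 1
    have e : g.1 = t * k * t⁻¹ := by simp [k, mul_assoc]
    rw [e, this]; simp
  have hcard : Nat.card ↥K = Nat.card (Equiv.Perm ↥(o \ o')) := by
    rw [Nat.card_perm, Nat.card_eq_fintype_card (α := ↥(o \ o')), Fintype.card_coe, h6,
      (joint_orders ho ho').2.2 h2]
    rfl
  exact ⟨(MulEquiv.ofBijective φ ((Nat.bijective_iff_injective_and_card φ).2 ⟨hinj, hcard⟩)).trans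
    (Equiv.permCongrHom ((o \ o').equivFinOfCardEq h6))⟩

/-! ### six-element sets -/

theorem exists_six {f : Fin 6 ↪ GolayPt} (hout : ¬ ∃ o ∈ octads, Finset.univ.map f ⊆ o) :
    ∃ g : ↥M24, ∀ i, g • pt ([23, 0, 1, 2, 3, 4].getD i.val 0) = f i := by
  obtain ⟨o, ho, hsub⟩ := exists_octad_of_five
    (s := (Finset.univ : Finset (Fin 5)).map ((Fin.castLEEmb (by norm_num : 5 ≤ 6)).trans f))
    (by simp)
  have hz : f 5 ∉ o := fun hz => hout ⟨o, ho, fun x hx => by
    obtain ⟨i, -, rfl⟩ := Finset.mem_map.1 hx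
    by_cases hi : i.val < 5
    · exact hsub (Finset.mem_map.2 ⟨⟨i.val, hi⟩, Finset.mem_univ _, rfl⟩)
    · rwa [show i = 5 from Fin.ext (by have := i.isLt; simp only [Fin.coe_ofNat_eq_mod]; omega)]⟩
  obtain ⟨g, -, h5, h4⟩ := exists_frame_out ho [f 0, f 1, f 2, f 3, f 4]
    (by simp [f.injective.eq_iff])
    (fun x hx => by
      simp only [List.mem_cons, List.not_mem_nil, or_false] at hx
      rcases hx with rfl | rfl | rfl | rfl | rfl <;>
        [exact hsub (Finset.mem_map.2 ⟨0, Finset.mem_univ _, rfl⟩);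
         exact hsub (Finset.mem_map.2 ⟨1, Finset.mem_univ _, rfl⟩);
         exact hsub (Finset.mem_map.2 ⟨2, Finset.mem_univ _, rfl⟩);
         exact hsub (Finset.mem_map.2 ⟨3, Finset.mem_univ _, rfl⟩);
         exact hsub (Finset.mem_map.2 ⟨4, Finset.mem_univ _, rfl⟩)])
    (by simp) hz
  simp only [List.length_cons, List.length_nil, List.take_succ_cons, List.take_nil, List.map_cons,
    List.map_nil, List.cons.injEq, and_true] at h5
  obtain ⟨e0, e1, e2, e3, e4⟩ := h5
  refine ⟨g, fun i => ?_⟩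
  fin_cases i <;> [exact e0; exact e1; exact e2; exact e3; exact e4; exact h4]

theorem card_fix_six_out : Nat.card ↥(fixOf M24 [4, 3, 2, 1, 0, 23]) = 3 := by
  have hk : ∀ t ∈ m24Trans, ∀ p ∈ t, ∃ σ ∈ M24, Rep σ p := m24Trans_mem
  have hoct : setOfMask 8536111 ∈ octads := stdO_mem
  have inO : ∀ σ ∈ fixOf M24 [3, 2, 1, 0, 23], σ • setOfMask 8536111 = setOfMask 8536111 := by
    intro σ hσ
    refine smul_eq_of_fix_five (mem_fixOf.1 hσ).1 hoct (s := setOfMask 8388623)
      (by decide +kernel) (by decide +kernel) fun x hx => ?_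
    have hc : ix x ∈ [3, 2, 1, 0, 23] := by revert hx; revert x; decide +kernel
    have := (mem_fixOf.1 hσ).2 _ hc
    rwa [pt_ix] at this
  have e0 := card_level level0 (hk _ (by simp [m24Trans])) fun σ _ => by
    rw [← maskOf_univ, setOfMask_maskOf]; simp
  have e1 := card_level level1 (hk _ (by simp [m24Trans]))
    (mem_compl_of_fix (K := M24) (pre := [23]) (b := 0) (by decide) (by decide +kernel))
  have e2 := card_level level2 (hk _ (by simp [m24Trans]))
    (mem_compl_of_fix (K := M24) (pre := [0, 23]) (b := 1) (by decide) (by decide +kernel))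
  have e3 := card_level level3 (hk _ (by simp [m24Trans]))
    (mem_compl_of_fix (K := M24) (pre := [1, 0, 23]) (b := 2) (by decide) (by decide +kernel))
  have e4 := card_level level4 (hk _ (by simp [m24Trans]))
    (mem_compl_of_fix (K := M24) (pre := [2, 1, 0, 23]) (b := 3) (by decide) (by decide +kernel))
  have e5 := card_eq_orbit_mul (fixOf M24 [3, 2, 1, 0, 23]) (pt 4)
    (setOfMask 8241104 : Set GolayPt) (fun σ hσ => by
      have hout : σ (pt 4) ∉ setOfMask 8536111 := by
        rw [← inO σ hσ]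
        show σ • pt 4 ∉ _
        rw [Finset.smul_mem_smul_finset_iff]
        decide +kernel
      show σ (pt 4) ∈ setOfMask 8241104
      revert hout
      generalize σ (pt 4) = y
      revert y; decide +kernel)
    (fun x hx => by
      obtain ⟨σ, hσ, e⟩ := exists_of_level level6 (hk _ (by simp [m24Trans])) hx
      refine ⟨σ, mem_fixOf.2 ⟨(mem_fixOf.1 hσ).1, fun c hc => (mem_fixOf.1 hσ).2 c ?_⟩, e⟩
      simp only [List.mem_cons] at hc ⊢; tauto)
  rw [Set.ncard_coe_finset, show (setOfMask 8241104).card = 16 by decide +kernel] at e5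
  change Nat.card ↥(fixOf M24 [3, 2, 1, 0, 23]) = 16 * Nat.card ↥(fixOf M24 [4, 3, 2, 1, 0, 23]) at e5
  rw [e1, e2, e3, e4, e5] at e0
  change Nat.card ↥M24 = _ at e0
  rw [M24_card, show popc 16777215 = 24 by decide +kernel, show popc 8388607 = 23 by decide +kernel,
    show popc 8388606 = 22 by decide +kernel, show popc 8388604 = 21 by decide +kernel,
    show popc 8388600 = 20 by decide +kernel] at e0
  omega

/-- The pointwise fixer in subtype form. -/
abbrev Fixer (E : Finset GolayPt) : Type :=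
  {g : Equiv.Perm GolayPt // g ∈ M24 ∧ ∀ p ∈ E, g p = p}

theorem six_points (E : Finset GolayPt) (hE : E.card = 6) :
    (∀ σ : Equiv.Perm ↥E, ∃ g ∈ M24, ∀ p : ↥E, g p = σ p) ∧
    ((∃ o ∈ octads, E ⊆ o) → Nat.card (Fixer E) = 16) ∧
    ((¬ ∃ o ∈ octads, E ⊆ o) → Nat.card (Fixer E) = 3 ∧ Nat.card ↥(stabilizer ↥M24 E) = 2160) := by
  classical
  have hsurj : ∀ σ : Equiv.Perm ↥E, ∃ g ∈ M24, ∀ p : ↥E, g p = σ p := by
    intro σ
    by_cases hin : ∃ o ∈ octads, E ⊆ o
    · obtain ⟨o, ho, hsub⟩ := hin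
      obtain ⟨a, b, hab, eab⟩ := Finset.card_eq_two.1
        (by rw [Finset.card_sdiff_of_subset hsub, ho.2, hE] : (o \ E).card = 2)
      have ha : a ∈ o \ E := by rw [eab]; simp
      have hb : b ∈ o \ E := by rw [eab]; simp
      let f : ↥E ≃ {x : ↥o // x.1 ∈ E} :=
        { toFun := fun x => ⟨⟨x.1, hsub x.2⟩, x.2⟩
          invFun := fun x => ⟨x.1.1, x.2⟩
          left_inv := fun _ => rfl
          right_inv := fun _ => rfl }
      let τ := σ.extendDomain f
      have hτ : ∀ p : ↥E, (τ ⟨p.1, hsub p.2⟩ : GolayPt) = σ p := fun p => by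
        show ((σ.extendDomain f) (f p : ↥o) : GolayPt) = σ p
        rw [Equiv.Perm.extendDomain_apply_image]; rfl
      obtain ⟨e, he, hee⟩ : ∃ e ∈ alternatingGroup ↥o, ∀ p : ↥E, (e ⟨p.1, hsub p.2⟩ : GolayPt) = σ p := by
        rcases Int.units_eq_one_or (Equiv.Perm.sign τ) with hs | hs
        · exact ⟨τ, Equiv.Perm.mem_alternatingGroup.2 hs, hτ⟩
        · let A : ↥o := ⟨a, (Finset.mem_sdiff.1 ha).1⟩
          let B : ↥o := ⟨b, (Finset.mem_sdiff.1 hb).1⟩
          refine ⟨τ * Equiv.swap A B, Equiv.Perm.mem_alternatingGroup.2 ?_, fun p => ?_⟩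
          · rw [map_mul, hs, Equiv.Perm.sign_swap (fun e => hab (congrArg Subtype.val e))]
            rfl
          · rw [Equiv.Perm.mul_apply, Equiv.swap_apply_of_ne_of_ne]
            · exact hτ p
            · exact fun e => (Finset.mem_sdiff.1 ha).2 (by have h := congrArg Subtype.val e; simp only [A, B] at h; rw [← h]; exact p.2)
            · exact fun e => (Finset.mem_sdiff.1 hb).2 (by have h := congrArg Subtype.val e; simp only [A, B] at h; rw [← h]; exact p.2)
      rw [← range_restrict ho] at he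
      obtain ⟨g, rfl⟩ := he
      exact ⟨g.1.1, g.1.2, hee⟩
    · let e6 := (E.equivFinOfCardEq hE).symm
      have mk : ∀ π : Equiv.Perm ↥E, ∃ g : ↥M24, ∀ i, g • pt ([23, 0, 1, 2, 3, 4].getD i.val 0) =
          (π (e6 i) : GolayPt) := by
        intro π
        refine exists_six (f := (e6.trans π).toEmbedding.trans (Function.Embedding.subtype _)) ?_
        rintro ⟨o, ho, hsub⟩
        refine hin ⟨o, ho, fun x hx => hsub (Finset.mem_map.2 ⟨(e6.trans π).symm ⟨x, hx⟩, Finset.mem_univ _, ?_⟩)⟩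
        simp
      obtain ⟨g0, h0⟩ := mk 1
      obtain ⟨g1, h1⟩ := mk σ
      refine ⟨_, (g1 * g0⁻¹).2, fun p => ?_⟩
      obtain ⟨i, rfl⟩ := e6.surjective p
      show (g1 * g0⁻¹) • ((e6 i : ↥E) : GolayPt) = _
      rw [mul_smul, show ((e6 i : ↥E) : GolayPt) = g0 • pt ([23, 0, 1, 2, 3, 4].getD i.val 0) from (h0 i).symm,
        inv_smul_smul, h1]
  refine ⟨hsurj, ?_, ?_⟩
  · rintro ⟨o, ho, hsub⟩
    rw [← card_fix_octad ho]
    exact Nat.card_congr
      { toFun := fun g => ⟨⟨g.1, g.2.1⟩, fix_octad_of_six ho hsub hE (g := ⟨g.1, g.2.1⟩) g.2.2⟩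
        invFun := fun g => ⟨g.1.1, g.1.2, fun p hp => g.2 p (hsub hp)⟩
        left_inv := fun _ => rfl
        right_inv := fun _ => rfl }
  · intro hout
    let e6 := (E.equivFinOfCardEq hE).symm
    obtain ⟨t, ht⟩ := exists_six (f := e6.toEmbedding.trans (Function.Embedding.subtype _)) (by
      rintro ⟨o, ho, hsub⟩
      exact hout ⟨o, ho, fun x hx => hsub (Finset.mem_map.2 ⟨e6.symm ⟨x, hx⟩, Finset.mem_univ _, by simp⟩)⟩)
    have hbase : ∀ p ∈ E, ∃ c ∈ [4, 3, 2, 1, 0, 23], t • pt c = p := by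
      intro p hp
      refine ⟨_, ?_, (ht (e6.symm ⟨p, hp⟩)).trans (by simp)⟩
      generalize e6.symm ⟨p, hp⟩ = i
      fin_cases i <;> simp
    have hbase' : ∀ c ∈ [4, 3, 2, 1, 0, 23], t • pt c ∈ E := by
      intro c hc
      obtain ⟨i, rfl⟩ : ∃ i : Fin 6, [23, 0, 1, 2, 3, 4].getD i.val 0 = c := by
        fin_cases hc <;> decide
      rw [ht]; exact (e6 i).2
    have h3 : Nat.card (Fixer E) = 3 := by
      rw [← card_fix_six_out]
      refine Nat.card_congr
        { toFun := fun g => ⟨((t⁻¹ * ⟨g.1, g.2.1⟩ * t : ↥M24) : Equiv.Perm GolayPt), ?_⟩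
          invFun := fun k => ⟨((t * ⟨k.1, (mem_fixOf.1 k.2).1⟩ * t⁻¹ : ↥M24) : Equiv.Perm GolayPt),
            SetLike.coe_mem _, ?_⟩
          left_inv := fun g => Subtype.ext (by simp [mul_assoc])
          right_inv := fun k => Subtype.ext (by simp [mul_assoc]) }
      · refine mem_fixOf.2 ⟨SetLike.coe_mem _, fun c hc => ?_⟩
        show (t⁻¹ * ⟨g.1, g.2.1⟩ * t : ↥M24) • pt c = pt c
        rw [mul_smul, mul_smul, show (⟨g.1, g.2.1⟩ : ↥M24) • t • pt c = t • pt c from g.2.2 _ (hbase' c hc),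
          inv_smul_smul]
      · intro p hp
        obtain ⟨c, hc, rfl⟩ := hbase p hp
        show (t * ⟨k.1, (mem_fixOf.1 k.2).1⟩ * t⁻¹ : ↥M24) • t • pt c = t • pt c
        rw [mul_smul, mul_smul, inv_smul_smul,
          show (⟨k.1, (mem_fixOf.1 k.2).1⟩ : ↥M24) • pt c = pt c from (mem_fixOf.1 k.2).2 c hc]
    refine ⟨h3, ?_⟩
    let ψ : ↥(stabilizer ↥M24 E) →* Equiv.Perm ↥E :=
      { toFun := fun g => Equiv.Perm.subtypePerm ((g : ↥M24) : Equiv.Perm GolayPt) fun x => stab_mem_iff g.2 x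
        map_one' := rfl
        map_mul' := fun _ _ => rfl }
    have hψ : Function.Surjective ψ := fun σ => by
      obtain ⟨g, hg, e⟩ := hsurj σ
      have hst : (⟨g, hg⟩ : ↥M24) • E = E := by
        refine Finset.eq_of_subset_of_card_le (fun y hy => ?_) (le_of_eq (card_smul_set _ _).symm)
        obtain ⟨x, hx, rfl⟩ := Finset.mem_smul_finset.1 hy
        show g x ∈ E
        rw [e ⟨x, hx⟩]; exact (σ _).2
      exact ⟨⟨⟨g, hg⟩, hst⟩, Equiv.ext fun x => Subtype.ext (e x)⟩
    have hker : Nat.card ↥ψ.ker = 3 := by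
      rw [← h3]
      exact Nat.card_congr
        { toFun := fun g => ⟨g.1.1.1, g.1.1.2, fun p hp =>
            congrArg (fun e : Equiv.Perm ↥E => (e ⟨p, hp⟩ : GolayPt)) (MonoidHom.mem_ker.1 g.2)⟩
          invFun := fun g => ⟨⟨⟨g.1, g.2.1⟩, by
              refine Finset.eq_of_subset_of_card_le (fun y hy => ?_) (le_of_eq (card_smul_set _ _).symm)
              obtain ⟨x, hx, rfl⟩ := Finset.mem_smul_finset.1 hy
              show g.1 x ∈ E
              rw [g.2.2 x hx]; exact hx⟩,
            MonoidHom.mem_ker.2 (Equiv.ext fun x => Subtype.ext (g.2.2 x.1 x.2))⟩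
          left_inv := fun _ => rfl
          right_inv := fun _ => rfl }
    have hmul := ψ.ker.card_mul_index
    rw [Subgroup.index_ker, MonoidHom.range_eq_top.2 hψ, Subgroup.card_top, hker, Nat.card_perm,
      Nat.card_eq_fintype_card (α := ↥E), Fintype.card_coe, hE] at hmul
    rw [← hmul]; rfl

end CfsgLib.ThreeTrans.M24Oct
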