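import Cfsg.Agent.Lib.ThreeTrans.M24Orbits

/-!
Kernel checks of the walks.
-/

set_option autoImplicit false
set_option maxRecDepth 100000

namespace CfsgLib.ThreeTrans.M24Orb

open CfsgLib.Sporadic

theorem octSx0_ok : famWalkOK octStGens octSxRoot0 octSxOps0 35 = true ∧ sextetOK octSxRoot0 = true ∧
    sqList [stdO] octSxRoot0 = 32 := by decide +kernel

theorem octSx1_ok : famWalkOK octStGens octSxRoot1 octSxOps1 840 = true ∧ sextetOK octSxRoot1 = true ∧
    sqList [stdO] octSxRoot1 = 16 := by decide +kernel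

theorem octSx2_ok : famWalkOK octStGens octSxRoot2 octSxOps2 896 = true ∧ sextetOK octSxRoot2 = true ∧
    sqList [stdO] octSxRoot2 = 14 := by decide +kernel

theorem octTr0_ok : famWalkOK octStGens octTrRoot0 octTrOps0 15 = true ∧ trioOK octTrRoot0 = true ∧
    sqList [stdO] octTrRoot0 = 64 := by decide +kernel

theorem octTr1_ok : famWalkOK octStGens octTrRoot1 octTrOps1 420 = true ∧ trioOK octTrRoot1 = true ∧
    sqList [stdO] octTrRoot1 = 32 := by decide +kernel

theorem octTr2_ok : famWalkOK octStGens octTrRoot2 octTrOps2 3360 = true ∧ trioOK octTrRoot2 = true ∧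
    sqList [stdO] octTrRoot2 = 24 := by decide +kernel

theorem sxOct0_ok : maskWalkOK sextetGens (sxOctRoot0.headD 0) sxOctOps0 15 = true ∧
    inCode (sxOctRoot0.headD 0) = true ∧ popc (sxOctRoot0.headD 0) = 8 ∧ sqList sextetRoot [sxOctRoot0.headD 0] = 32 := by
  decide +kernel

theorem sxOct1_ok : maskWalkOK sextetGens (sxOctRoot1.headD 0) sxOctOps1 360 = true ∧
    inCode (sxOctRoot1.headD 0) = true ∧ popc (sxOctRoot1.headD 0) = 8 ∧ sqList sextetRoot [sxOctRoot1.headD 0] = 16 := by
  decide +kernel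

theorem sxOct2_ok : maskWalkOK sextetGens (sxOctRoot2.headD 0) sxOctOps2 384 = true ∧
    inCode (sxOctRoot2.headD 0) = true ∧ popc (sxOctRoot2.headD 0) = 8 ∧ sqList sextetRoot [sxOctRoot2.headD 0] = 14 := by
  decide +kernel

theorem sxTr0_ok : famWalkOK sextetGens sxTrRoot0 sxTrOps0 15 = true ∧ trioOK sxTrRoot0 = true ∧
    sqList sextetRoot sxTrRoot0 = 96 := by decide +kernel

theorem sxTr1_ok : famWalkOK sextetGens sxTrRoot1 sxTrOps1 180 = true ∧ trioOK sxTrRoot1 = true ∧
    sqList sextetRoot sxTrRoot1 = 64 := by decide +kernel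

theorem sxTr2_ok : famWalkOK sextetGens sxTrRoot2 sxTrOps2 720 = true ∧ trioOK sxTrRoot2 = true ∧
    sqList sextetRoot sxTrRoot2 = 48 := by decide +kernel

theorem sxTr3_ok : famWalkOK sextetGens sxTrRoot3 sxTrOps3 2880 = true ∧ trioOK sxTrRoot3 = true ∧
    sqList sextetRoot sxTrRoot3 = 44 := by decide +kernel

theorem trOct0_ok : maskWalkOK trioGens (trOctRoot0.headD 0) trOctOps0 3 = true ∧
    inCode (trOctRoot0.headD 0) = true ∧ popc (trOctRoot0.headD 0) = 8 ∧ sqList trioRoot [trOctRoot0.headD 0] = 64 := by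
  decide +kernel

theorem trOct1_ok : maskWalkOK trioGens (trOctRoot1.headD 0) trOctOps1 84 = true ∧
    inCode (trOctRoot1.headD 0) = true ∧ popc (trOctRoot1.headD 0) = 8 ∧ sqList trioRoot [trOctRoot1.headD 0] = 32 := by
  decide +kernel

theorem trOct2_ok : maskWalkOK trioGens (trOctRoot2.headD 0) trOctOps2 672 = true ∧
    inCode (trOctRoot2.headD 0) = true ∧ popc (trOctRoot2.headD 0) = 8 ∧ sqList trioRoot [trOctRoot2.headD 0] = 24 := by
  decide +kernel

theorem trSx0_ok : famWalkOK trioGens trSxRoot0 trSxOps0 7 = true ∧ sextetOK trSxRoot0 = true ∧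
    sqList trioRoot trSxRoot0 = 96 := by decide +kernel

theorem trSx1_ok : famWalkOK trioGens trSxRoot1 trSxOps1 84 = true ∧ sextetOK trSxRoot1 = true ∧
    sqList trioRoot trSxRoot1 = 64 := by decide +kernel

theorem trSx2_ok : famWalkOK trioGens trSxRoot2 trSxOps2 336 = true ∧ sextetOK trSxRoot2 = true ∧
    sqList trioRoot trSxRoot2 = 48 := by decide +kernel

theorem trSx3_ok : famWalkOK trioGens trSxRoot3 trSxOps3 1344 = true ∧ sextetOK trSxRoot3 = true ∧
    sqList trioRoot trSxRoot3 = 44 := by decide +kernel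

theorem triSx0_ok : famWalkOK triadGens triSxRoot0 triSxOps0 21 = true ∧ sextetOK triSxRoot0 = true ∧
    sqList [stdTriad] triSxRoot0 = 9 := by decide +kernel

theorem triSx1_ok : famWalkOK triadGens triSxRoot1 triSxOps1 630 = true ∧ sextetOK triSxRoot1 = true ∧
    sqList [stdTriad] triSxRoot1 = 5 := by decide +kernel

theorem triSx2_ok : famWalkOK triadGens triSxRoot2 triSxOps2 1120 = true ∧ sextetOK triSxRoot2 = true ∧
    sqList [stdTriad] triSxRoot2 = 3 := by decide +kernel

theorem duum0_ok : famWalkOK dodStGens duumRoot0 duumOps0 396 = true ∧ sextetOK duumRoot0 = true ∧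
    sqList [stdD, 16777215 ^^^ stdD] duumRoot0 = 48 := by decide +kernel

theorem duum1_ok : famWalkOK dodStGens duumRoot1 duumOps1 495 = true ∧ sextetOK duumRoot1 = true ∧
    sqList [stdD, 16777215 ^^^ stdD] duumRoot1 = 64 := by decide +kernel

theorem duum2_ok : famWalkOK dodStGens duumRoot2 duumOps2 880 = true ∧ sextetOK duumRoot2 = true ∧
    sqList [stdD, 16777215 ^^^ stdD] duumRoot2 = 60 := by decide +kernel

end CfsgLib.ThreeTrans.M24Orb
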