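import Cfsg.Agent.Lib.Sporadic.Families
import Cfsg.Agent.Lib.ThreeTrans.M24OrbData

/-!
Orbits of stabilisers in M24: lower bounds from walks, exhaustion by an invariant, transport.
-/

set_option autoImplicit false

namespace CfsgLib.ThreeTrans.M24Orb

open Cfsg CfsgLib.Sporadic MulAction
open scoped Pointwise

/-- A certificate that a walk meets `n` families of masks. -/
noncomputable def famWalkOK (gens root ops : List ℕ) (n : ℕ) : Bool :=
  root.all (fun v => Nat.blt v 16777216) && Nat.beq (walk (stepQ gens) ops root).length n &&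
    (walk (stepQ gens) ops root).all (fun w => distinctList w) &&
    distinctBuckets ((walk (stepQ gens) ops root).map famCode)

theorem fam_lower {H : Subgroup ↥M24} {gens root ops : List ℕ} {n : ℕ} (hg : GensIn H gens)
    (h : famWalkOK gens root ops n = true) : n ≤ (orbit ↥H (toQ root)).ncard := by
  simp only [famWalkOK, Bool.and_eq_true, List.all_eq_true, Nat.blt_eq, Nat.beq_eq] at h
  obtain ⟨⟨⟨hlt, hlen⟩, hnd⟩, hdist⟩ := h
  have hw := walk_quartet hg ops root hlt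
  have hnodup := nodup_of_buckets hdist
  generalize walk (stepQ gens) ops root = W at hlen hnd hnodup hw
  rw [← hlen, ← List.length_map (f := famCode) (as := W), ← List.toFinset_card_of_nodup hnodup,
    ← Set.ncard_coe_finset]
  have hfin : (orbit ↥H (toQ root)).Finite := Set.toFinite _
  refine le_trans (Set.ncard_le_ncard ?_ (hfin.image famCode')) (Set.ncard_image_le hfin)
  intro c hc
  rw [Finset.mem_coe, List.mem_toFinset, List.mem_map] at hc
  obtain ⟨w, hwW, rfl⟩ := hc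
  obtain ⟨hwlt, g, hgm, e⟩ := hw w hwW
  exact ⟨toQ w, ⟨⟨g, hgm⟩, e⟩, famCode_spec (nodup_of_distinctList (hnd w hwW)) hwlt⟩

/-- A certificate that a walk meets `n` masks. -/
noncomputable def maskWalkOK (gens : List ℕ) (root : ℕ) (ops : List ℕ) (n : ℕ) : Bool :=
  Nat.blt root 16777216 && Nat.beq (walk (stepMask gens) ops root).length n &&
    distinctBuckets (walk (stepMask gens) ops root)

theorem mask_lower {H : Subgroup ↥M24} {gens ops : List ℕ} {root n : ℕ} (hg : GensIn H gens)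
    (h : maskWalkOK gens root ops n = true) : n ≤ (orbit ↥H (setOfMask root)).ncard := by
  simp only [maskWalkOK, Bool.and_eq_true, Nat.blt_eq, Nat.beq_eq] at h
  obtain ⟨⟨hlt, hlen⟩, hdist⟩ := h
  have hw := walk_mask hg ops root
  have hl := walk_lt hg ops hlt
  have hnodup := nodup_of_buckets hdist
  generalize walk (stepMask gens) ops root = W at hlen hnodup hw hl
  rw [← hlen, ← List.toFinset_card_of_nodup hnodup, ← Set.ncard_coe_finset]
  have hfin : (orbit ↥H (setOfMask root)).Finite := Set.toFinite _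
  refine le_trans (Set.ncard_le_ncard ?_ (hfin.image maskOf)) (Set.ncard_image_le hfin)
  intro c hc
  rw [Finset.mem_coe, List.mem_toFinset] at hc
  obtain ⟨g, hgm, e⟩ := hw c hc
  exact ⟨setOfMask c, ⟨⟨g, hgm⟩, e⟩, maskOf_setOfMask (hl c hc)⟩

/-- Orbits in the distinct level sets of an invariant exhaust a family of known size. -/
theorem classes {G β : Type*} [Group G] [Finite β] [MulAction G β] (H : Subgroup G) {F : Set β}
    (hF : ∀ g ∈ H, ∀ x ∈ F, g • x ∈ F) (f : β → ℕ) (hf : ∀ g ∈ H, ∀ x ∈ F, f (g • x) = f x)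
    {k : ℕ} (X : Fin k → β) (hX : ∀ i, X i ∈ F) (z n : Fin k → ℕ) (hz : ∀ i, f (X i) = z i)
    (hinj : Function.Injective z) (hn : ∀ i, n i ≤ (orbit ↥H (X i)).ncard)
    (htot : ∑ i, n i = F.ncard) :
    F = ⋃ i, orbit ↥H (X i) ∧
      ∀ i, (orbit ↥H (X i)).ncard = n i ∧ {a | a ∈ F ∧ f a = z i} = orbit ↥H (X i) := by
  have hA : ∀ i, orbit ↥H (X i) ⊆ F := by
    rintro i _ ⟨g, rfl⟩; exact hF g g.2 _ (hX i)
  have hfA : ∀ i, ∀ a ∈ orbit ↥H (X i), f a = z i := by
    rintro i _ ⟨g, rfl⟩; exact (hf g g.2 _ (hX i)).trans (hz i)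
  have hdis : Pairwise fun i j => Disjoint (orbit ↥H (X i)) (orbit ↥H (X j)) := fun i j hij =>
    Set.disjoint_left.2 fun a h1 h2 => hij (hinj ((hfA i a h1).symm.trans (hfA j a h2)))
  have hc : (⋃ i, orbit ↥H (X i)).ncard = ∑ i, (orbit ↥H (X i)).ncard := by
    rw [Set.ncard_iUnion_of_finite (fun i => Set.toFinite _) hdis, finsum_eq_sum_of_fintype]
  have hsub : (⋃ i, orbit ↥H (X i)) ⊆ F := Set.iUnion_subset hA
  have hle := Set.ncard_le_ncard hsub (Set.toFinite F)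
  rw [hc, ← htot] at hle
  have hsum : ∑ i, (orbit ↥H (X i)).ncard = ∑ i, n i :=
    le_antisymm hle (Finset.sum_le_sum fun i _ => hn i)
  have heq : ∀ i, (orbit ↥H (X i)).ncard = n i := fun i =>
    ((Finset.sum_eq_sum_iff_of_le fun j _ => hn j).1 hsum.symm i (Finset.mem_univ i)).symm
  have hF' : F = ⋃ i, orbit ↥H (X i) :=
    (Set.eq_of_subset_of_ncard_le hsub (by rw [hc, hsum, htot]) (Set.toFinite F)).symm
  refine ⟨hF', fun i => ⟨heq i, ?_⟩⟩
  ext a
  refine ⟨fun ⟨ha, hfa⟩ => ?_, fun h => ⟨hA i h, hfA i a h⟩⟩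
  rw [hF', Set.mem_iUnion] at ha
  obtain ⟨j, hj⟩ := ha
  rwa [← hinj ((hfA j a hj).symm.trans hfa)]

/-- A subgroup has exactly three orbits of the given sizes on a set. -/
def Three {G β : Type*} [Group G] [MulAction G β] (H : Subgroup G) (F : Set β) (a b c : ℕ) : Prop :=
  ∃ X₁ ∈ F, ∃ X₂ ∈ F, ∃ X₃ ∈ F, (orbit ↥H X₁).ncard = a ∧ (orbit ↥H X₂).ncard = b ∧
    (orbit ↥H X₃).ncard = c ∧ F = orbit ↥H X₁ ∪ orbit ↥H X₂ ∪ orbit ↥H X₃

/-- A subgroup has exactly four orbits of the given sizes on a set. -/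
def Four {G β : Type*} [Group G] [MulAction G β] (H : Subgroup G) (F : Set β) (a b c d : ℕ) : Prop :=
  ∃ X₁ ∈ F, ∃ X₂ ∈ F, ∃ X₃ ∈ F, ∃ X₄ ∈ F, (orbit ↥H X₁).ncard = a ∧ (orbit ↥H X₂).ncard = b ∧
    (orbit ↥H X₃).ncard = c ∧ (orbit ↥H X₄).ncard = d ∧
    F = orbit ↥H X₁ ∪ orbit ↥H X₂ ∪ orbit ↥H X₃ ∪ orbit ↥H X₄

theorem three_of_classes {G β : Type*} [Group G] [Finite β] [MulAction G β] (H : Subgroup G) {F : Set β}
    (hF : ∀ g ∈ H, ∀ x ∈ F, g • x ∈ F) (f : β → ℕ) (hf : ∀ g ∈ H, ∀ x ∈ F, f (g • x) = f x)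
    (X : Fin 3 → β) (hX : ∀ i, X i ∈ F) (z n : Fin 3 → ℕ) (hz : ∀ i, f (X i) = z i)
    (hinj : Function.Injective z) (hn : ∀ i, n i ≤ (orbit ↥H (X i)).ncard)
    (htot : ∑ i, n i = F.ncard) : Three H F (n 0) (n 1) (n 2) := by
  obtain ⟨e, h⟩ := classes H hF f hf X hX z n hz hinj hn htot
  refine ⟨X 0, hX 0, X 1, hX 1, X 2, hX 2, (h 0).1, (h 1).1, (h 2).1, ?_⟩
  conv_lhs => rw [e]
  ext R
  simp only [Set.mem_iUnion, Fin.exists_fin_succ, IsEmpty.exists_iff, Set.mem_union, or_false,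
    Fin.succ_zero_eq_one]
  exact or_assoc.symm

theorem four_of_classes {G β : Type*} [Group G] [Finite β] [MulAction G β] (H : Subgroup G) {F : Set β}
    (hF : ∀ g ∈ H, ∀ x ∈ F, g • x ∈ F) (f : β → ℕ) (hf : ∀ g ∈ H, ∀ x ∈ F, f (g • x) = f x)
    (X : Fin 4 → β) (hX : ∀ i, X i ∈ F) (z n : Fin 4 → ℕ) (hz : ∀ i, f (X i) = z i)
    (hinj : Function.Injective z) (hn : ∀ i, n i ≤ (orbit ↥H (X i)).ncard)
    (htot : ∑ i, n i = F.ncard) : Four H F (n 0) (n 1) (n 2) (n 3) := by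
  obtain ⟨e, h⟩ := classes H hF f hf X hX z n hz hinj hn htot
  refine ⟨X 0, hX 0, X 1, hX 1, X 2, hX 2, X 3, hX 3, (h 0).1, (h 1).1, (h 2).1, (h 3).1, ?_⟩
  conv_lhs => rw [e]
  ext R
  simp only [Set.mem_iUnion, Fin.exists_fin_succ, IsEmpty.exists_iff, Set.mem_union, or_false,
    Fin.succ_zero_eq_one]
  simp only [or_assoc]
  rfl

/-! ### transport -/

theorem orbit_stab_smul {G α β : Type*} [Group G] [MulAction G α] [MulAction G β] (t : G) (a : α)
    (x : β) : orbit ↥(stabilizer G (t • a)) (t • x) = (t • ·) '' orbit ↥(stabilizer G a) x := by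
  ext y
  constructor
  · rintro ⟨⟨g, hg⟩, rfl⟩
    refine ⟨(t⁻¹ * g * t) • x, ⟨⟨t⁻¹ * g * t, ?_⟩, rfl⟩, ?_⟩
    · rw [mem_stabilizer_iff] at hg ⊢
      rw [mul_smul, mul_smul, hg, inv_smul_smul]
    · show t • (t⁻¹ * g * t) • x = g • t • x
      rw [mul_smul, mul_smul, smul_inv_smul]
  · rintro ⟨_, ⟨⟨g, hg⟩, rfl⟩, rfl⟩
    refine ⟨⟨t * g * t⁻¹, ?_⟩, ?_⟩
    · rw [mem_stabilizer_iff] at hg ⊢
      rw [mul_smul, mul_smul, inv_smul_smul, hg]
    · show (t * g * t⁻¹) • t • x = t • g • x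
      rw [mul_smul, mul_smul, inv_smul_smul]

theorem ncard_orbit_smul {G α β : Type*} [Group G] [MulAction G α] [MulAction G β] (t : G) (a : α)
    (x : β) : (orbit ↥(stabilizer G (t • a)) (t • x)).ncard = (orbit ↥(stabilizer G a) x).ncard := by
  rw [orbit_stab_smul, Set.ncard_image_of_injective _ (MulAction.injective t)]

theorem image_invariant {G β : Type*} [Group G] [MulAction G β] (t : G) {F : Set β}
    (hF : ∀ (g : G), ∀ x ∈ F, g • x ∈ F) : (t • ·) '' F = F := by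
  ext y
  exact ⟨fun ⟨x, hx, e⟩ => e ▸ hF t x hx, fun h => ⟨t⁻¹ • y, hF _ y h, smul_inv_smul t y⟩⟩

theorem Three.smul {G α β : Type*} [Group G] [MulAction G α] [MulAction G β] {a₀ : α} {F : Set β}
    (hF : ∀ (g : G), ∀ x ∈ F, g • x ∈ F) {a b c : ℕ} (h : Three (stabilizer G a₀) F a b c) (t : G) :
    Three (stabilizer G (t • a₀)) F a b c := by
  obtain ⟨X₁, h1, X₂, h2, X₃, h3, e1, e2, e3, e⟩ := h
  refine ⟨t • X₁, hF t _ h1, t • X₂, hF t _ h2, t • X₃, hF t _ h3, by rw [ncard_orbit_smul, e1],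
    by rw [ncard_orbit_smul, e2], by rw [ncard_orbit_smul, e3], ?_⟩
  rw [orbit_stab_smul, orbit_stab_smul, orbit_stab_smul, ← Set.image_union, ← Set.image_union, ← e,
    image_invariant t hF]

theorem Four.smul {G α β : Type*} [Group G] [MulAction G α] [MulAction G β] {a₀ : α} {F : Set β}
    (hF : ∀ (g : G), ∀ x ∈ F, g • x ∈ F) {a b c d : ℕ} (h : Four (stabilizer G a₀) F a b c d) (t : G) :
    Four (stabilizer G (t • a₀)) F a b c d := by
  obtain ⟨X₁, h1, X₂, h2, X₃, h3, X₄, h4, e1, e2, e3, e4, e⟩ := h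
  refine ⟨t • X₁, hF t _ h1, t • X₂, hF t _ h2, t • X₃, hF t _ h3, t • X₄, hF t _ h4,
    by rw [ncard_orbit_smul, e1], by rw [ncard_orbit_smul, e2], by rw [ncard_orbit_smul, e3],
    by rw [ncard_orbit_smul, e4], ?_⟩
  rw [orbit_stab_smul, orbit_stab_smul, orbit_stab_smul, orbit_stab_smul, ← Set.image_union,
    ← Set.image_union, ← Set.image_union, ← e, image_invariant t hF]

/-! ### invariants -/

theorem toQ_singleton (m : ℕ) : toQ [m] = ({setOfMask m} : Finset (Finset GolayPt)) := by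
  simp [toQ]

theorem sq_set {o : Finset GolayPt} {g : ↥M24} (hg : g • o = o) (R : Finset (Finset GolayPt)) :
    sqInv {o} (g • R) = sqInv {o} R := by
  conv_lhs => rw [show ({o} : Finset (Finset GolayPt)) = g • {o} by
    rw [Finset.smul_finset_singleton, hg]]
  exact sqInv_smul g _ _

theorem sq_fam {Q : Finset (Finset GolayPt)} {g : ↥M24} (hg : g • Q = Q) (R : Finset (Finset GolayPt)) :
    sqInv Q (g • R) = sqInv Q R := by
  conv_lhs => rw [← hg]
  exact sqInv_smul g _ _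

theorem sq_fam_set {Q : Finset (Finset GolayPt)} {g : ↥M24} (hg : g • Q = Q) (o : Finset GolayPt) :
    sqInv Q {g • o} = sqInv Q {o} := by
  rw [← Finset.smul_finset_singleton]; exact sq_fam hg _

end CfsgLib.ThreeTrans.M24Orb
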