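import Cfsg.Agent.Lib.ThreeTrans.GolayModule
import Cfsg.Agent.Lib.ThreeTrans.M24RigidData

/-!
A linear map of the code, fixing the all-ones word, which moves each word inside its orbit up to
complement, is induced by the automorphism group up to complement: a base-and-transversal
certificate along eleven basis words.
-/

set_option autoImplicit false

namespace CfsgLib.ThreeTrans.M24Rigid

open Cfsg CfsgLib.Sporadic CfsgLib.ThreeTrans.Golay
open scoped Pointwise

/-- The mask of all 24 points. -/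
abbrev full : ℕ := 16777215

/-- The basis indices. -/
noncomputable def bIdx (i : ℕ) : ℕ := base.getD i 0

/-- Combinations of the basis. -/
noncomputable def sp (n m : ℕ) : ℕ := xorComb bIdx m n

/-- A mask or its complement has weight eight. -/
noncomputable def isOct (a : ℕ) : Bool := Nat.beq (popc a) 8 || Nat.beq (popc a) 16

/-- Equality up to complement. -/
noncomputable def sameCls (a b : ℕ) : Bool := Nat.beq a b || Nat.beq a (Nat.xor b full)

/-- A possible image of the next basis word. -/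
noncomputable def cand (j v : ℕ) : Bool :=
  forallLt (2 ^ j) fun m => !Nat.beq (sp j m) v &&
    Nat.beq (bitAt octTable (Nat.xor (sp j m) v)) (bitAt octTable (Nat.xor (sp j m) (bIdx j)))

/-- The certificate of a level. -/
noncomputable def levelCheck (j : ℕ) : Bool :=
  Nat.blt (bIdx j) 2048 &&
  forallLt (2 ^ j) (fun m => !Nat.beq (sp j m) (bIdx j)) &&
  forallLt 2048 (fun v => !cand j v || Nat.beq (bitAt (cover.getD j 0) v) 1) &&
  Nat.beq (bitmap (fun e : ℕ × ℕ => e.1) (trans.getD j [])) (cover.getD j 0) &&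
  (trans.getD j []).all (fun e => isAut e.2 &&
    forallLt j (fun i => sameCls (mimg e.2 (enc (bIdx i))) (enc (bIdx i))) &&
    sameCls (mimg e.2 (enc (bIdx j))) (enc e.1))

theorem level_checks : forallLt 11 levelCheck = true := by decide +kernel

theorem table_ok : forallLt 2048 (fun k =>
    Nat.beq (bitAt octTable k) (cond (isOct (enc k)) 1 0)) = true := by decide +kernel

theorem span_full :
    Nat.beq (bitmap (fun m : ℕ => sp 11 m) (List.range 2048)) (2 ^ 2048 - 1) = true := by
  decide +kernel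

theorem enc_full : enc 4095 = full := by decide +kernel

theorem full_inCode : inCode full = true := by decide +kernel

/-- The image of a mask. -/
noncomputable def img (σ : Equiv.Perm GolayPt) (a : ℕ) : ℕ := mimg (packImage σ) a

theorem img_xor (σ : Equiv.Perm GolayPt) (a b : ℕ) : img σ (a ^^^ b) = img σ a ^^^ img σ b :=
  mimg_xor (rep_packImage σ) a b

theorem img_eq {σ : Equiv.Perm GolayPt} {p : ℕ} (h : Rep σ p) (a : ℕ) : img σ a = mimg p a := by
  refine setOfMask_inj (mimg_lt (rep_packImage σ) a) (mimg_lt h a) ?_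
  rw [img, setOfMask_mimg (rep_packImage σ), setOfMask_mimg h]

theorem img_mul (σ τ : Equiv.Perm GolayPt) (a : ℕ) : img (σ * τ) a = img σ (img τ a) := by
  refine setOfMask_inj (mimg_lt (rep_packImage _) a) (mimg_lt (rep_packImage σ) _) ?_
  simp only [img, setOfMask_mimg (rep_packImage _), Finset.image_image]
  rfl

theorem img_one {a : ℕ} (ha : a < 2 ^ 24) : img 1 a = a := by
  refine setOfMask_inj (mimg_lt (rep_packImage _) a) ha ?_
  rw [img, setOfMask_mimg (rep_packImage _)]
  exact Finset.image_id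

theorem img_full (σ : Equiv.Perm GolayPt) : img σ full = full := by
  refine setOfMask_inj (mimg_lt (rep_packImage σ) _) (by norm_num) ?_
  rw [img, setOfMask_mimg (rep_packImage σ), show full = maskOf Finset.univ from maskOf_univ.symm,
    setOfMask_maskOf]
  exact Finset.image_univ_of_surjective σ.surjective

theorem img_code {σ : Equiv.Perm GolayPt} (hσ : σ ∈ M24) {a : ℕ} (ha : inCode a = true) :
    inCode (img σ a) = true := by
  have hl := inCode_lt ha
  rw [← maskOf_setOfMask hl, ← mem_supports_iff, ← smul_mem_supports hσ, mem_supports_iff,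
    maskOf_smul (rep_packImage σ), maskOf_setOfMask hl] at ha
  exact ha

/-- Weight is kept by permutations. -/
theorem popc_img (σ : Equiv.Perm GolayPt) (a : ℕ) : popc (img σ a) = popc a := by
  rw [← card_setOfMask, ← card_setOfMask, img, setOfMask_mimg (rep_packImage σ),
    Finset.card_image_of_injective _ σ.injective]

/-- Up to complement. -/
def Cls (a b : ℕ) : Prop := a = b ∨ a = b ^^^ full

theorem Cls.of_sameCls {a b : ℕ} (h : sameCls a b = true) : Cls a b := by
  rw [sameCls, Bool.or_eq_true] at h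
  rcases h with h | h
  · exact Or.inl (Nat.eq_of_beq_eq_true h)
  · exact Or.inr (Nat.eq_of_beq_eq_true h)

theorem xor_cancel (a b : ℕ) : a ^^^ b ^^^ b = a := by simp

theorem Cls.rfl' (a : ℕ) : Cls a a := Or.inl rfl

theorem Cls.symm {a b : ℕ} (h : Cls a b) : Cls b a := by
  rcases h with rfl | rfl
  · exact Or.inl rfl
  · exact Or.inr (xor_cancel b full).symm

theorem Cls.trans {a b c : ℕ} (h : Cls a b) (h' : Cls b c) : Cls a c := by
  rcases h with rfl | rfl <;> rcases h' with rfl | rfl
  · exact Or.inl rfl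
  · exact Or.inr rfl
  · exact Or.inr rfl
  · exact Or.inl (xor_cancel c full)

theorem Cls.xor {a b c d : ℕ} (h : Cls a b) (h' : Cls c d) : Cls (a ^^^ c) (b ^^^ d) := by
  rcases h with rfl | rfl <;> rcases h' with rfl | rfl
  · exact Or.inl rfl
  · exact Or.inr (Nat.xor_assoc _ _ _).symm
  · exact Or.inr (by rw [Nat.xor_assoc, Nat.xor_comm full c, ← Nat.xor_assoc])
  · left
    rw [Nat.xor_assoc, Nat.xor_comm full (d ^^^ full), Nat.xor_assoc, Nat.xor_self, Nat.xor_zero]

theorem Cls.img {a b : ℕ} (σ : Equiv.Perm GolayPt) (h : Cls a b) :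
    Cls (M24Rigid.img σ a) (M24Rigid.img σ b) := by
  rcases h with rfl | rfl
  · exact Or.inl rfl
  · exact Or.inr (by rw [img_xor, img_full])

/-- The data of a map of the code (on masks). -/
structure Good (τ : ℕ → ℕ) : Prop where
  map_xor : ∀ a b, inCode a = true → inCode b = true → τ (a ^^^ b) = τ a ^^^ τ b
  map_full : τ full = full
  orbit : ∀ a, inCode a = true → ∃ σ ∈ M24, Cls (τ a) (img σ a)

theorem Good.code {τ : ℕ → ℕ} (h : Good τ) {a : ℕ} (ha : inCode a = true) :
    inCode (τ a) = true := by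
  obtain ⟨σ, hσ, e | e⟩ := h.orbit a ha
  · rw [e]; exact img_code hσ ha
  · rw [e]; exact inCode_xor (img_code hσ ha) full_inCode

theorem Good.comp {τ : ℕ → ℕ} (h : Good τ) {σ : Equiv.Perm GolayPt} (hσ : σ ∈ M24) :
    Good fun a => img σ (τ a) where
  map_xor a b ha hb := by rw [h.map_xor a b ha hb, img_xor]
  map_full := by rw [h.map_full, img_full]
  orbit a ha := by
    obtain ⟨σ', hσ', e⟩ := h.orbit a ha
    exact ⟨σ * σ', mul_mem hσ hσ', by rw [img_mul]; exact e.img σ⟩

theorem xor_low : forallLt 4096 (fun k => Nat.beq (Nat.xor k 4095) (Nat.sub 4095 k)) = true := by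
  decide +kernel

theorem exists_idx {a : ℕ} (ha : inCode a = true) : ∃ k < 2048, Cls a (enc k) := by
  obtain ⟨k, hk, rfl⟩ := inCode_iff.1 ha
  by_cases h : k < 2048
  · exact ⟨k, h, Cls.rfl' _⟩
  · refine ⟨k ^^^ 4095, ?_, Or.inr ?_⟩
    · have : (4095 : ℕ) = 2 ^ 12 - 1 := rfl
      have hx : k ^^^ 4095 = 4095 - k := by
        exact Nat.eq_of_beq_eq_true (forallLt_elim xor_low hk)
      omega
    · rw [enc_xor, enc_full, xor_cancel]

theorem isOct_cls {a b : ℕ} (hb : inCode b = true) (h : Cls a b) : isOct a = isOct b := by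
  rcases h with rfl | rfl
  · rfl
  · obtain ⟨k, hk, rfl⟩ := inCode_iff.1 hb
    have e : popc (enc k ^^^ full) + popc (enc k) = 24 := by
      have := Nat.eq_of_beq_eq_true (forallLt_elim popc_compl hk)
      rw [Nat.xor_comm, add_comm]; exact this
    rw [Bool.eq_iff_iff]
    simp only [isOct, Bool.or_eq_true, Nat.beq_eq]
    omega

theorem Good.isOct_eq {τ : ℕ → ℕ} (h : Good τ) {a : ℕ} (ha : inCode a = true) :
    isOct (τ a) = isOct a := by
  obtain ⟨σ, hσ, e⟩ := h.orbit a ha
  rw [isOct_cls (img_code hσ ha) e, isOct, isOct, popc_img]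

theorem table_eq {k : ℕ} (hk : k < 2048) : bitAt octTable k = cond (isOct (enc k)) 1 0 :=
  Nat.eq_of_beq_eq_true (forallLt_elim table_ok hk)

theorem sp_lt {n : ℕ} (hn : n ≤ 11) (m : ℕ) : sp n m < 2048 := by
  induction n with
  | zero => exact Nat.two_pow_pos 11
  | succ n ih =>
    rw [sp, xorComb_succ]
    refine Nat.xor_lt_two_pow (n := 11) (ih (by omega)) ?_
    have hl := forallLt_elim level_checks (show n < 11 by omega)
    simp only [levelCheck, Bool.and_eq_true, Nat.blt_eq] at hl
    rw [bitAt_eq]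
    split
    · rw [one_mul]; exact hl.1.1.1.1
    · simp

theorem Good.enc_sp {τ : ℕ → ℕ} (h : Good τ) {n : ℕ} (hn : n ≤ 11)
    (hfix : ∀ i < n, Cls (τ (enc (bIdx i))) (enc (bIdx i))) (m : ℕ) :
    Cls (τ (enc (sp n m))) (enc (sp n m)) := by
  have hz : τ 0 = 0 := by
    have := h.map_xor full full full_inCode full_inCode
    rwa [Nat.xor_self, Nat.xor_self] at this
  have h0 : enc 0 = 0 := by decide +kernel
  induction n with
  | zero =>
    show Cls (τ (enc 0)) (enc 0)
    rw [h0, hz]; exact Cls.rfl' 0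
  | succ n ih =>
    have hb : bitAt m n * bIdx n < 4096 := by
      have hl := forallLt_elim level_checks (show n < 11 by omega)
      simp only [levelCheck, Bool.and_eq_true, Nat.blt_eq] at hl
      rw [bitAt_eq]
      have := hl.1.1.1.1
      split <;> omega
    rw [sp, xorComb_succ, enc_xor]
    show Cls (τ (enc (sp n m) ^^^ enc (bitAt m n * bIdx n))) (enc (sp n m) ^^^ enc (bitAt m n * bIdx n))
    rw [h.map_xor _ _ (inCode_enc ((sp_lt (n := n) (by omega) m).trans (by norm_num)))
      (inCode_enc hb)]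
    refine Cls.xor (ih (by omega) fun i hi => hfix i (by omega)) ?_
    rw [bitAt_eq]
    split
    · rw [one_mul]; exact hfix n (Nat.lt_succ_self n)
    · rw [zero_mul, h0, hz]; exact Cls.rfl' 0

theorem Good.inj {τ : ℕ → ℕ} (h : Good τ) {a b : ℕ} (ha : inCode a = true) (hb : inCode b = true)
    (e : Cls (τ a) (τ b)) : Cls a b := by
  obtain ⟨σ, hσ, hc⟩ := h.orbit (a ^^^ b) (inCode_xor ha hb)
  rw [h.map_xor a b ha hb] at hc
  have h1 : Cls (τ a ^^^ τ b) 0 := by
    have := e.xor (Cls.rfl' (τ b))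
    rwa [Nat.xor_self] at this
  have h2 := (hc.symm.trans h1).img σ⁻¹
  rw [← img_mul, inv_mul_cancel, img_one (inCode_lt (inCode_xor ha hb))] at h2
  have h3 : img σ⁻¹ 0 = 0 := mimg_zero _
  rw [h3] at h2
  have h4 := h2.xor (Cls.rfl' b)
  rwa [xor_cancel, Nat.zero_xor] at h4

theorem cls_enc {k l : ℕ} (hk : k < 2048) (hl : l < 2048) (h : Cls (enc k) (enc l)) : k = l := by
  rcases h with e | e
  · exact enc_inj (by omega) (by omega) e
  · rw [← enc_full, ← enc_xor] at e
    have := enc_inj (by omega) (Nat.xor_lt_two_pow (n := 12) (by omega) (by norm_num)) e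
    have hx : l ^^^ 4095 = 4095 - l := by
      exact Nat.eq_of_beq_eq_true (forallLt_elim xor_low (by omega))
    omega

/-- Normalising one more basis word. -/
theorem step {τ : ℕ → ℕ} (h : Good τ) {j : ℕ} (hj : j < 11)
    (hfix : ∀ i < j, Cls (τ (enc (bIdx i))) (enc (bIdx i))) :
    ∃ σ ∈ M24, ∀ i < j + 1, Cls (img σ (τ (enc (bIdx i)))) (enc (bIdx i)) := by
  have hl := forallLt_elim level_checks hj
  simp only [levelCheck, Bool.and_eq_true, Nat.blt_eq, List.all_eq_true] at hl
  obtain ⟨⟨⟨⟨hb, hind⟩, hcov⟩, hbm⟩, htr⟩ := hl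
  have hbc : inCode (enc (bIdx j)) = true := inCode_enc (by omega)
  obtain ⟨v, hv, hv'⟩ := exists_idx (h.code hbc)
  have hcand : cand j v = true := by
    rw [cand, forallLt_iff]
    intro m hm
    have hs := sp_lt (n := j) (by omega) m
    have hsc : inCode (enc (sp j m)) = true := inCode_enc (by omega)
    have hspm := h.enc_sp (n := j) (by omega) hfix m
    rw [Bool.and_eq_true, Bool.not_eq_true']
    constructor
    · rw [Bool.eq_false_iff]
      intro e
      have e' : sp j m = v := Nat.eq_of_beq_eq_true e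
      have := cls_enc hs hb (h.inj hsc hbc (hspm.trans (by rw [e']; exact hv'.symm)))
      have h' := forallLt_elim hind hm
      rw [this] at h'
      simp at h'
    · rw [Nat.beq_eq]
      show bitAt octTable (sp j m ^^^ v) = bitAt octTable (sp j m ^^^ bIdx j)
      rw [table_eq (Nat.xor_lt_two_pow (n := 11) hs hv),
        table_eq (Nat.xor_lt_two_pow (n := 11) hs hb), enc_xor, enc_xor]
      have hc2 : inCode (enc (sp j m) ^^^ enc (bIdx j)) = true := inCode_xor hsc hbc
      have := h.isOct_eq hc2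
      rw [h.map_xor _ _ hsc hbc] at this
      rw [← this]
      congr 1
      exact isOct_cls (inCode_xor (h.code hsc) (h.code hbc)) (hspm.symm.xor hv'.symm)
  have hc := forallLt_elim hcov hv
  rw [hcand, Bool.not_true, Bool.false_or, Nat.beq_eq, bitAt_eq] at hc
  have hbit : (cover.getD j 0).testBit v = true := by
    by_contra hf
    rw [Bool.not_eq_true] at hf
    rw [hf] at hc
    simp at hc
  rw [← Nat.eq_of_beq_eq_true hbm, testBit_bitmap] at hbit
  obtain ⟨e, he, rfl⟩ := hbit
  obtain ⟨⟨haut, hfx⟩, hmv⟩ := htr e he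
  obtain ⟨π, hπ, hr⟩ := exists_mem_M24 haut
  refine ⟨π⁻¹, inv_mem hπ, fun i hi => ?_⟩
  have back : ∀ a, inCode a = true → ∀ b, Cls (img π a) b → Cls (img π⁻¹ b) a := by
    intro a ha b hab
    have := (hab.img π⁻¹).symm
    rwa [← img_mul, inv_mul_cancel, img_one (inCode_lt ha)] at this
  rcases eq_or_lt_of_le (Nat.lt_succ_iff.1 hi) with rfl | hlt
  · refine (hv'.img π⁻¹).trans (back _ hbc _ ?_)
    rw [img_eq hr]
    exact Cls.of_sameCls hmv
  · refine ((hfix i hlt).img π⁻¹).trans (back _ ?_ _ ?_)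
    · have hl' := forallLt_elim level_checks (show i < 11 by omega)
      simp only [levelCheck, Bool.and_eq_true, Nat.blt_eq] at hl'
      exact inCode_enc (by have := hl'.1.1.1.1; omega)
    · rw [img_eq hr]
      exact Cls.of_sameCls (forallLt_elim hfx hlt)

theorem rigid {τ : ℕ → ℕ} (h : Good τ) :
    ∃ σ ∈ M24, ∀ a, inCode a = true → Cls (τ a) (img σ a) := by
  have main : ∀ j ≤ 11, ∃ σ ∈ M24, ∀ i < j, Cls (img σ (τ (enc (bIdx i)))) (enc (bIdx i)) := by
    intro j
    induction j with
    | zero => exact fun _ => ⟨1, one_mem _, fun i hi => absurd hi (Nat.not_lt_zero i)⟩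
    | succ j ih =>
      intro hj
      obtain ⟨σ, hσ, hfix⟩ := ih (by omega)
      obtain ⟨π, hπ, hπ'⟩ := step (h.comp hσ) (show j < 11 by omega) hfix
      exact ⟨π * σ, mul_mem hπ hσ, fun i hi => by rw [img_mul]; exact hπ' i hi⟩
  obtain ⟨σ, hσ, hfix⟩ := main 11 le_rfl
  refine ⟨σ⁻¹, inv_mem hσ, fun a ha => ?_⟩
  obtain ⟨k, hk, hak⟩ := exists_idx ha
  have hbit : (bitmap (fun m : ℕ => sp 11 m) (List.range 2048)).testBit k = true := by
    rw [Nat.eq_of_beq_eq_true span_full, Nat.testBit_two_pow_sub_one]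
    exact decide_eq_true hk
  rw [testBit_bitmap] at hbit
  obtain ⟨m, -, hm⟩ := hbit
  have hfixk : Cls (img σ (τ (enc k))) (enc k) := by
    rw [← hm]; exact (h.comp hσ).enc_sp le_rfl hfix m
  have hkc : inCode (enc k) = true := inCode_enc (by omega)
  have hta : Cls (τ a) (τ (enc k)) := by
    rcases hak with rfl | rfl
    · exact Cls.rfl' _
    · rw [h.map_xor _ _ hkc full_inCode, h.map_full]
      exact Or.inr rfl
  have h2 := hfixk.img σ⁻¹
  rw [← img_mul, inv_mul_cancel, img_one (inCode_lt (h.code hkc))] at h2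
  exact hta.trans (h2.trans (hak.symm.img σ⁻¹))

theorem img_mk (σ : Equiv.Perm GolayPt) (w : Word) : img σ (mk w) = mk (act σ w) :=
  (mk_act (rep_packImage σ) w).symm

theorem induced (f : ↥golayCode ≃ₗ[ZMod 2] ↥golayCode)
    (h1 : ∀ e : ↥golayCode, (e : Word) = 1 → f e = e)
    (horb : ∀ c : ↥golayCode, ∃ σ ∈ M24, (f c : Word) = act σ c ∨ (f c : Word) = act σ c + 1) :
    ∃ σ ∈ M24, ∀ c : ↥golayCode, (f c : Word) = act σ c ∨ (f c : Word) = act σ c + 1 := by
  classical
  let τ : ℕ → ℕ := fun a => if h : wordOf a ∈ golayCode then mk (f ⟨_, h⟩ : Word) else 0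
  have hmem : ∀ a, inCode a = true → wordOf a ∈ golayCode := fun a ha => by
    rw [mem_code_iff, mk_wordOf (inCode_lt ha)]; exact ha
  have hτ : ∀ a (ha : inCode a = true), τ a = mk (f ⟨_, hmem a ha⟩ : Word) := fun a ha =>
    dif_pos (hmem a ha)
  have hfull : wordOf full = 1 := by
    rw [← wordOf_mk (1 : Word), mk_one]
  have good : Good τ := by
    refine ⟨fun a b ha hb => ?_, ?_, fun a ha => ?_⟩
    · rw [hτ a ha, hτ b hb, hτ _ (inCode_xor ha hb), ← mk_add, ← Submodule.coe_add, ← map_add]
      exact congrArg (fun c => mk (f c : Word)) (Subtype.ext (wordOf_xor a b))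
    · rw [hτ full full_inCode, h1 _ hfull]
      exact mk_wordOf (by norm_num)
    · obtain ⟨σ, hσ, e | e⟩ := horb ⟨_, hmem a ha⟩ <;> refine ⟨σ, hσ, ?_⟩
      · left; rw [hτ a ha, e, ← img_mk, mk_wordOf (inCode_lt ha)]
      · right; rw [hτ a ha, e, mk_add, mk_one, ← img_mk, mk_wordOf (inCode_lt ha)]
  obtain ⟨σ, hσ, hall⟩ := rigid good
  refine ⟨σ, hσ, fun c => ?_⟩
  have hc : inCode (mk (c : Word)) = true := (mem_code_iff _).1 c.2
  have h := hall _ hc
  rw [hτ _ hc, show (⟨_, hmem _ hc⟩ : ↥golayCode) = c from Subtype.ext (wordOf_mk _), img_mk] at h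
  rcases h with h | h
  · exact Or.inl (mk_injective h)
  · right
    apply mk_injective
    rw [mk_add, mk_one]; exact h

end CfsgLib.ThreeTrans.M24Rigid
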