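import Cfsg.Agent.Lib.ThreeTrans.M24Listing
import Cfsg.Agent.Lib.ThreeTrans.M24Invariant

/-!
The normaliser and the centraliser of a subgroup of order 7 of M24.
-/

set_option autoImplicit false
set_option maxRecDepth 100000

namespace CfsgLib.ThreeTrans.M24Cls

open Cfsg CfsgLib.Sporadic MulAction M24Inv M24Orb
open scoped Pointwise

/-- The packed permutation conjugates the representative to its power. -/
noncomputable def rel7 (k n : ℕ) : Bool := peq (pmul n rep7) (pmul (ppow rep7 k) n)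

/-- The five base points as an orbit segment. -/
noncomputable def baseIx (j : ℕ) : ℕ := [23, 0, 1, 2, 3].getD j 0

theorem norm_data : isAut rep7 = true ∧ norm7.all isAut = true ∧
    norm7.all (fun n => [1, 2, 3, 4, 5, 6].any fun k => rel7 k n) = true ∧
    norm7.length = 126 ∧ distinctList (norm7.map canon) = true ∧
    (norm7.filter (rel7 1)).length = 42 ∧ distinctList ((norm7.filter (rel7 1)).map canon) = true ∧
    norm7.all (fun n => fixesFam n trio7) = true ∧ trioOK trio7 = true ∧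
    isAut ncx = true ∧ isAut ncy = true ∧ rel7 1 ncx = true ∧ rel7 1 ncy = true ∧
    peq (pmul ncx ncy) (pmul ncy ncx) = false ∧
    forallLt 5 (fun j => Nat.beq (pget (ppow rep7 j) 23) (baseIx j)) = true ∧ pget rep7 23 = 0 := by
  decide +kernel

theorem norm_cosets : [1, 2, 3, 4, 5, 6].all (fun k => forallLt 24 fun b =>
    Nat.beq (pget rep7 b) b || cosets7.any fun e => Nat.beq e.1 k && Nat.beq e.2.1 b &&
      isAut e.2.2 && forallLt 5 (fun j => Nat.beq (pget e.2.2 (baseIx j)) (pget (ppow rep7 (k * j)) b)) &&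
      (fixFive.map (pmul e.2.2)).all (fun n => !rel7 k n || (norm7.map canon).any (Nat.beq (canon n)))) = true := by
  decide +kernel

theorem rel7_iff {r n : Equiv.Perm GolayPt} {p : ℕ} (hr : Rep r rep7) (hn : Rep n p) (k : ℕ) :
    rel7 k p = true ↔ n * r = r ^ k * n :=
  peq_iff (hn.mul hr) ((rep_ppow hr k).mul hn)

/-- Every normalising element is listed. -/
theorem mem_norm7 {r n : Equiv.Perm GolayPt} (hr : Rep r rep7) (hn : n ∈ M24) {k : ℕ}
    (hk : k ∈ [1, 2, 3, 4, 5, 6]) (h : n * r = r ^ k * n) : ∃ p ∈ norm7, Rep n p := by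
  obtain ⟨-, haut, -, -, -, -, -, -, -, -, -, -, -, -, hbase, h23⟩ := norm_data
  have hpow : ∀ j, n * r ^ j = r ^ (k * j) * n := fun j => by
    induction j with
    | zero => simp
    | succ j ih => rw [pow_succ, ← mul_assoc, ih, mul_assoc, h, ← mul_assoc, ← pow_add, ← Nat.mul_succ]
  have hmoved : Nat.beq (pget rep7 (ix (n (pt 23)))) (ix (n (pt 23))) = false := by
    rw [Bool.eq_false_iff, ne_eq, Nat.beq_eq, hr, ix_inj]
    intro e
    have h1 : (r ^ k) (n (pt 23)) = n (pt 23) := by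
      clear hk hpow h
      induction k with
      | zero => simp
      | succ k ih => rw [pow_succ, Equiv.Perm.mul_apply, e, ih]
    have h2 := congrArg (fun f : Equiv.Perm GolayPt => f (pt 23)) h
    simp only [Equiv.Perm.mul_apply, h1] at h2
    have h3 := congrArg ix (n.injective h2)
    rw [← hr, ix_pt (by norm_num), h23] at h3
    exact absurd h3 (by norm_num)
  have hc := forallLt_elim (List.all_eq_true.1 norm_cosets k hk) (ix_lt (n (pt 23)))
  rw [hmoved, Bool.false_or] at hc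
  simp only [List.any_eq_true, Bool.and_eq_true] at hc
  obtain ⟨e, -, ⟨⟨⟨⟨-, -⟩, hs⟩, him⟩, hall⟩⟩ := hc
  have hval : ∀ c ∈ [3, 2, 1, 0, 23], ix (n (pt c)) = pget e.2.2 c := by
    intro c hc
    obtain ⟨j, hj, rfl⟩ : ∃ j, j < 5 ∧ baseIx j = c := by
      fin_cases hc
      exacts [⟨4, by norm_num, rfl⟩, ⟨3, by norm_num, rfl⟩, ⟨2, by norm_num, rfl⟩,
        ⟨1, by norm_num, rfl⟩, ⟨0, by norm_num, rfl⟩]
    rw [Nat.eq_of_beq_eq_true (forallLt_elim him hj)]
    have h1 : (r ^ j) (pt 23) = pt (baseIx j) := by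
      have := rep_ppow hr j (pt 23)
      rw [ix_pt (by norm_num), Nat.eq_of_beq_eq_true (forallLt_elim hbase hj)] at this
      rw [this, pt_ix]
    rw [← h1, show n ((r ^ j) (pt 23)) = (r ^ (k * j)) (n (pt 23)) from
      congrArg (fun f : Equiv.Perm GolayPt => f (pt 23)) (hpow j)]
    exact (rep_ppow hr (k * j) (n (pt 23))).symm
  obtain ⟨p, hp, hrp⟩ := mem_coset (fun x hx => mem_fixFive hx) hs hn (by decide) hval
  have hlist := List.all_eq_true.1 hall p hp
  rw [(rel7_iff hr hrp k).2 h] at hlist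
  simp only [Bool.not_true, Bool.false_or, List.any_eq_true, List.mem_map, Nat.beq_eq] at hlist
  obtain ⟨c, ⟨p', hp', rfl⟩, e'⟩ := hlist
  obtain ⟨σ, hσ, hr'⟩ := exists_mem_M24 (List.all_eq_true.1 haut p' hp')
  refine ⟨p', hp', ?_⟩
  rw [canon_eq hr', canon_eq hrp] at e'
  have : σ = n := by
    have h1 := rep_packImage σ
    rw [← e'] at h1
    exact h1.unique (rep_packImage n)
  exact this ▸ hr'

theorem seven_sylow (S : Subgroup ↥M24) (hS : Nat.card S = 7) :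
    Nat.card ↥(Subgroup.normalizer (S : Set ↥M24)) = 126 ∧
    Nat.card ↥(Subgroup.centralizer (S : Set ↥M24)) = 42 ∧
    (∃ x ∈ Subgroup.centralizer (S : Set ↥M24), ∃ y ∈ Subgroup.centralizer (S : Set ↥M24), x * y ≠ y * x) ∧
    ∃ T ∈ trios, ∀ n ∈ Subgroup.normalizer (S : Set ↥M24), ((n : ↥M24) : Equiv.Perm GolayPt) • T = T := by
  haveI : Fact (Nat.Prime 7) := ⟨by norm_num⟩
  obtain ⟨haR, hn1, hn2, hlen, hdist, hlen1, hdist1, htr, htok, hax, hay, hrx, hry, hxy, -, -⟩ := norm_data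
  obtain ⟨-, -, -, -, -, -, -, -, -, -, -, -, -, -, -, -, -, -, -, -, -, -, -, hp7, hne7⟩ := data_ok
  obtain ⟨g, hg⟩ := exists_prime_orderOf_dvd_card' (G := ↥S) 7 (by rw [hS])
  have hgo : orderOf (g : ↥M24) = 7 := (orderOf_injective S.subtype Subtype.val_injective g).trans hg
  obtain ⟨q, hq, r, hr, hcase⟩ := conj_seven (g : ↥M24).2
    ((orderOf_injective M24.subtype Subtype.val_injective (g : ↥M24)).trans hgo)
  obtain ⟨R, hR, hrR⟩ := exists_mem_M24 haR
  obtain rfl : r = R := hr.unique hrR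
  have oR : orderOf r = 7 := order_of_rep hr hp7 hne7
  let ρ : ↥M24 := ⟨r, hR⟩
  let Q : ↥M24 := ⟨q, hq⟩
  have oρ : orderOf ρ = 7 := (orderOf_injective M24.subtype Subtype.val_injective ρ).symm.trans oR
  have hgen : ∀ y, y ∈ S ↔ Q⁻¹ * y * Q ∈ Subgroup.zpowers ρ := by
    have hmemS : Q * ρ * Q⁻¹ ∈ S := by
      rcases hcase with e | e
      · rw [show Q * ρ * Q⁻¹ = (g : ↥M24) from Subtype.ext e]; exact g.2
      · have hg3 : (g : ↥M24) = Q * ρ ^ 3 * Q⁻¹ := Subtype.ext e.symm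
        have : (g : ↥M24) ^ 5 = Q * ρ * Q⁻¹ := by
          rw [hg3, conj_pow, ← pow_mul, show 3 * 5 = 7 * 2 + 1 from rfl, pow_succ, pow_mul,
            ← oρ, pow_orderOf_eq_one, one_pow, one_mul]
        rw [← this]; exact S.pow_mem g.2 5
    have hmap : S = (Subgroup.zpowers ρ).map (MulAut.conj Q).toMonoidHom := by
      rw [MonoidHom.map_zpowers]
      refine (Subgroup.eq_of_le_of_card_ge (Subgroup.zpowers_le.2 hmemS) ?_).symm
      rw [Nat.card_zpowers, hS]; exact le_of_eq (((MulAut.conj Q).orderOf_eq ρ).trans oρ).symm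
    intro y
    rw [hmap, Subgroup.mem_map_equiv, MulAut.conj_symm_apply]
  have hpow : ∀ n : ↥M24, n * ρ * n⁻¹ ∈ Subgroup.zpowers ρ ↔
      ∃ k ∈ [1, 2, 3, 4, 5, 6], (n : Equiv.Perm GolayPt) * r = r ^ k * n := by
    intro n
    constructor
    · intro h
      rw [mem_zpowers_iff_mem_range_orderOf, oρ, Finset.mem_image] at h
      obtain ⟨k, hk, e⟩ := h
      rw [Finset.mem_range] at hk
      have hk0 : k ≠ 0 := fun h0 => by
        subst h0
        rw [pow_zero] at e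
        have h1 : ρ = 1 := by
          have := congrArg (fun z => n⁻¹ * z * n) e
          simpa [mul_assoc] using this.symm
        rw [h1, orderOf_one] at oρ
        omega
      refine ⟨k, by simp only [List.mem_cons, List.not_mem_nil, or_false]; omega, ?_⟩
      have e' : n * ρ = ρ ^ k * n := by rw [e]; group
      exact congrArg Subtype.val e'
    · rintro ⟨k, -, e⟩
      rw [show n * ρ * n⁻¹ = ρ ^ k by
        rw [mul_inv_eq_iff_eq_mul]; exact Subtype.ext e]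
      exact pow_mem (Subgroup.mem_zpowers ρ) k
  have hnorm : ∀ n : ↥M24, n ∈ Subgroup.normalizer (S : Set ↥M24) ↔
      (Q⁻¹ * n * Q) * ρ * (Q⁻¹ * n * Q)⁻¹ ∈ Subgroup.zpowers ρ := by
    intro n
    have hρS : Q * ρ * Q⁻¹ ∈ S := (hgen _).2 (by simp [mul_assoc])
    constructor
    · intro hn
      have h1 := (hgen _).1 ((Subgroup.mem_normalizer_iff.1 hn _).1 hρS)
      rwa [show Q⁻¹ * n * Q * ρ * (Q⁻¹ * n * Q)⁻¹ = Q⁻¹ * (n * (Q * ρ * Q⁻¹) * n⁻¹) * Q by group]
    · intro h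
      let φ := (MulAut.conj (Q⁻¹ * n * Q)).toMonoidHom
      have heq : (Subgroup.zpowers ρ).map φ = Subgroup.zpowers ρ := by
        rw [MonoidHom.map_zpowers]
        refine Subgroup.eq_of_le_of_card_ge (Subgroup.zpowers_le.2 h) ?_
        exact le_of_eq (by rw [Nat.card_zpowers, Nat.card_zpowers]; exact ((MulAut.conj (Q⁻¹ * n * Q)).orderOf_eq ρ).symm)
      rw [Subgroup.mem_normalizer_iff]
      intro y
      show y ∈ S ↔ n * y * n⁻¹ ∈ S
      rw [hgen, hgen]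
      conv_rhs => rw [← heq]
      rw [Subgroup.mem_map_equiv, MulAut.conj_symm_apply,
        show (Q⁻¹ * n * Q)⁻¹ * (Q⁻¹ * (n * y * n⁻¹) * Q) * (Q⁻¹ * n * Q) = Q⁻¹ * y * Q by group]
  have hcent : ∀ n : ↥M24, n ∈ Subgroup.centralizer (S : Set ↥M24) ↔
      ((Q⁻¹ * n * Q : ↥M24) : Equiv.Perm GolayPt) * r = r ^ 1 * ((Q⁻¹ * n * Q : ↥M24) : Equiv.Perm GolayPt) := by
    intro n
    rw [Subgroup.mem_centralizer_iff, pow_one]
    constructor
    · intro h
      have h1 := h (Q * ρ * Q⁻¹) ((hgen _).2 (by simp [mul_assoc]))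
      have e : (Q⁻¹ * n * Q) * ρ = ρ * (Q⁻¹ * n * Q) := by
        calc (Q⁻¹ * n * Q) * ρ = Q⁻¹ * (n * (Q * ρ * Q⁻¹)) * Q := by group
          _ = Q⁻¹ * ((Q * ρ * Q⁻¹) * n) * Q := by rw [h1]
          _ = ρ * (Q⁻¹ * n * Q) := by group
      exact congrArg Subtype.val e
    · intro h y hy
      obtain ⟨i, hi⟩ := Subgroup.mem_zpowers_iff.1 ((hgen y).1 hy)
      have hc : Commute (Q⁻¹ * n * Q) ρ := Subtype.ext h
      have := (hc.zpow_right i).eq
      rw [hi] at this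
      calc y * n = Q * (Q⁻¹ * y * Q * (Q⁻¹ * n * Q)) * Q⁻¹ := by group
        _ = Q * (Q⁻¹ * n * Q * (Q⁻¹ * y * Q)) * Q⁻¹ := by rw [← this]
        _ = n * y := by group
  have conjEquiv : ∀ (P : ↥M24 → Prop) (P' : Equiv.Perm GolayPt → Prop),
      (∀ n, P n ↔ P' ((Q⁻¹ * n * Q : ↥M24) : Equiv.Perm GolayPt)) →
      (∀ n, P' n → n ∈ M24) → Nat.card {n // P n} = {n | P' n}.ncard := by
    intro P P' h hM
    rw [← Nat.card_coe_set_eq]
    exact Nat.card_congr
      { toFun := fun n => ⟨((Q⁻¹ * n.1 * Q : ↥M24) : Equiv.Perm GolayPt), (h _).1 n.2⟩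
        invFun := fun n => ⟨Q * ⟨n.1, hM _ n.2⟩ * Q⁻¹, (h _).2 (by
          have : Q⁻¹ * (Q * ⟨n.1, hM _ n.2⟩ * Q⁻¹) * Q = (⟨n.1, hM _ n.2⟩ : ↥M24) := by group
          rw [this]; exact n.2)⟩
        left_inv := fun n => Subtype.ext (by
          have : (⟨((Q⁻¹ * n.1 * Q : ↥M24) : Equiv.Perm GolayPt), SetLike.coe_mem _⟩ : ↥M24) = Q⁻¹ * n.1 * Q := rfl
          simp only [this]; group)
        right_inv := fun n => Subtype.ext (by simp [mul_assoc]) }
  have hNcard : {n : Equiv.Perm GolayPt | n ∈ M24 ∧ ∃ k ∈ [1, 2, 3, 4, 5, 6], n * r = r ^ k * n}.ncard = 126 := by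
    rw [← hlen]
    refine ncard_of_packed hdist (fun p hp => ?_) fun σ ⟨hσ, k, hk, h⟩ => ?_
    · obtain ⟨σ, hσ, hs⟩ := exists_mem_M24 (List.all_eq_true.1 hn1 p hp)
      have := List.all_eq_true.1 hn2 p hp
      rw [List.any_eq_true] at this
      obtain ⟨k, hk, h⟩ := this
      exact ⟨σ, hs, hσ, k, hk, (rel7_iff hr hs k).1 h⟩
    · obtain ⟨p, hp, hs⟩ := mem_norm7 hr hσ hk h
      exact ⟨p, hp, σ, hs, rfl⟩
  have hCcard : {n : Equiv.Perm GolayPt | n ∈ M24 ∧ n * r = r ^ 1 * n}.ncard = 42 := by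
    rw [← hlen1]
    refine ncard_of_packed hdist1 (fun p hp => ?_) fun σ ⟨hσ, h⟩ => ?_
    · rw [List.mem_filter] at hp
      obtain ⟨σ, hσ, hs⟩ := exists_mem_M24 (List.all_eq_true.1 hn1 p hp.1)
      exact ⟨σ, hs, hσ, (rel7_iff hr hs 1).1 hp.2⟩
    · obtain ⟨p, hp, hs⟩ := mem_norm7 hr hσ (by simp) h
      exact ⟨p, List.mem_filter.2 ⟨hp, (rel7_iff hr hs 1).2 h⟩, σ, hs, rfl⟩
  refine ⟨?_, ?_, ?_, ?_⟩
  · rw [← hNcard]
    exact conjEquiv _ _ (fun n => by
      rw [hnorm, hpow]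
      exact ⟨fun h => ⟨SetLike.coe_mem _, h⟩, fun h => h.2⟩) fun n h => h.1
  · rw [← hCcard]
    exact conjEquiv _ _ (fun n => by
      rw [hcent]
      exact ⟨fun h => ⟨SetLike.coe_mem _, h⟩, fun h => h.2⟩) fun n h => h.1
  · obtain ⟨X, hX, hrX⟩ := exists_mem_M24 hax
    obtain ⟨Y, hY, hrY⟩ := exists_mem_M24 hay
    have back : ∀ z : ↥M24, (z : Equiv.Perm GolayPt) * r = r ^ 1 * z →
        Q * z * Q⁻¹ ∈ Subgroup.centralizer (S : Set ↥M24) := fun z hz => by
      rw [hcent, show Q⁻¹ * (Q * z * Q⁻¹) * Q = z by group]; exact hz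
    refine ⟨Q * ⟨X, hX⟩ * Q⁻¹, back _ ((rel7_iff hr hrX 1).1 hrx), Q * ⟨Y, hY⟩ * Q⁻¹,
      back _ ((rel7_iff hr hrY 1).1 hry), fun e => ?_⟩
    have e1 : (⟨X, hX⟩ : ↥M24) * ⟨Y, hY⟩ = ⟨Y, hY⟩ * ⟨X, hX⟩ := by
      have := congrArg (fun z => Q⁻¹ * z * Q) e
      simpa [mul_assoc] using this
    rw [(commute_iff hrX hrY).2 (congrArg Subtype.val e1)] at hxy
    exact Bool.noConfusion hxy
  · obtain ⟨hT, hTlt⟩ := toQ_trio htok
    refine ⟨Q • toQ trio7, trios_inv Q _ hT, fun n hn => ?_⟩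
    rw [hnorm, hpow] at hn
    obtain ⟨k, hk, h⟩ := hn
    obtain ⟨p, hp, hs⟩ := mem_norm7 hr (SetLike.coe_mem _) hk h
    have hfix := (fixesFam_iff hs hTlt).1 (List.all_eq_true.1 htr p hp)
    show n • Q • toQ trio7 = Q • toQ trio7
    rw [← mul_smul, show n * Q = Q * (Q⁻¹ * n * Q) by group, mul_smul,
      show (Q⁻¹ * n * Q : ↥M24) • toQ trio7 = toQ trio7 from hfix]

end CfsgLib.ThreeTrans.M24Cls
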