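import Cfsg.Agent.Lib.ThreeTrans.M24OrbitThms

/-!
Sextets with respect to a set of three points.
-/

set_option autoImplicit false

namespace CfsgLib.ThreeTrans.M24Orb

open Cfsg CfsgLib.Sporadic MulAction
open scoped Pointwise

/-- The number of the tetrads meeting a set. -/
def meetNum (Y : Finset GolayPt) (S : Finset (Finset GolayPt)) : ℕ :=
  (S.filter fun t => (t ∩ Y).Nonempty).card

theorem meetNum_smul (g : ↥M24) (Y : Finset GolayPt) (S : Finset (Finset GolayPt)) :
    meetNum (g • Y) (g • S) = meetNum Y S := by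
  rw [meetNum, meetNum, ← Finset.card_image_of_injective (S.filter fun t => (t ∩ Y).Nonempty)
    (MulAction.injective g)]
  congr 1
  ext u
  simp only [Finset.mem_filter, Finset.mem_image, Finset.mem_smul_finset]
  constructor
  · rintro ⟨⟨t, ht, rfl⟩, hne⟩
    refine ⟨t, ⟨ht, ?_⟩, rfl⟩
    rw [← Finset.card_pos, ← card_inter_smul g]; exact Finset.card_pos.2 hne
  · rintro ⟨t, ⟨ht, hne⟩, rfl⟩
    refine ⟨⟨t, ht, rfl⟩, ?_⟩
    rw [← Finset.card_pos, card_inter_smul]; exact Finset.card_pos.2 hne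

theorem meetNum_toQ {m : ℕ} (hm : m < 2 ^ 24) {q : List ℕ} (hn : q.Nodup)
    (hq : ∀ v ∈ q, v < 2 ^ 24) :
    meetNum (setOfMask m) (toQ q) = (q.filter fun v => !Nat.beq (Nat.land v m) 0).length := by
  rw [meetNum, toQ, Finset.filter_image, Finset.card_image_of_injOn (fun a ha b hb e =>
    setOfMask_inj (hq a (List.mem_toFinset.1 (Finset.mem_filter.1 ha).1))
      (hq b (List.mem_toFinset.1 (Finset.mem_filter.1 hb).1)) e)]
  rw [← List.toFinset_card_of_nodup (hn.filter _)]
  congr 1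
  ext v
  simp only [Finset.mem_filter, List.mem_toFinset, List.mem_filter, Bool.not_eq_true',
    Bool.eq_false_iff, ne_eq, Nat.beq_eq]
  refine and_congr_right fun hv => ?_
  show _ ↔ ¬ (v &&& m = 0)
  rw [Finset.nonempty_iff_ne_empty, ne_eq, ← Finset.disjoint_iff_inter_eq_empty, disjoint_iff_land,
    maskOf_setOfMask (hq v hv), maskOf_setOfMask hm]

theorem triSx_meet : ((triSxRoot0.filter fun v => !Nat.beq (Nat.land v stdTriad) 0).length = 1) ∧
    ((triSxRoot1.filter fun v => !Nat.beq (Nat.land v stdTriad) 0).length = 2) ∧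
    ((triSxRoot2.filter fun v => !Nat.beq (Nat.land v stdTriad) 0).length = 3) := by decide +kernel

theorem triad_sextets {Y : Finset GolayPt} (hY : Y.card = 3) :
    {S | S ∈ sextets ∧ meetNum Y S = 1}.ncard = 21 ∧ {S | S ∈ sextets ∧ meetNum Y S = 2}.ncard = 630 ∧
    {S | S ∈ sextets ∧ meetNum Y S = 3}.ncard = 1120 ∧
    ∀ S S', S ∈ sextets → S' ∈ sextets → meetNum Y S = meetNum Y S' →
      ∃ g ∈ M24, g • Y = Y ∧ g • S = S' := by
  obtain ⟨t, rfl⟩ := exists_smul_set (s := setOfMask stdTriad) (t := Y)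
    (by rw [hY]; decide +kernel) (by decide +kernel)
  have q0 := toQ_sextet triSx0_ok.2.1
  have q1 := toQ_sextet triSx1_ok.2.1
  have q2 := toQ_sextet triSx2_ok.2.1
  have hnd : ∀ {q : List ℕ}, sextetOK q = true → q.Nodup := fun {q} h => by
    simp only [sextetOK, Bool.and_eq_true] at h
    exact nodup_of_distinctList h.1.1.2
  have hin := triadGens_in
  obtain ⟨e, h⟩ := classes (stabilizer ↥M24 (setOfMask stdTriad)) (F := sextets)
    (fun g _ => sextets_inv g) (meetNum (setOfMask stdTriad))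
    (fun g hg x _ => by
      conv_lhs => rw [← mem_stabilizer_iff.1 hg]
      exact meetNum_smul g _ x)
    ![toQ triSxRoot0, toQ triSxRoot1, toQ triSxRoot2]
    (fun i => by fin_cases i <;> [exact q0.1; exact q1.1; exact q2.1])
    ![1, 2, 3] ![21, 630, 1120]
    (fun i => by
      have hm : stdTriad < 2 ^ 24 := by decide
      fin_cases i <;> [
      exact (meetNum_toQ hm (hnd triSx0_ok.2.1) q0.2).trans triSx_meet.1;
      exact (meetNum_toQ hm (hnd triSx1_ok.2.1) q1.2).trans triSx_meet.2.1;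
      exact (meetNum_toQ hm (hnd triSx2_ok.2.1) q2.2).trans triSx_meet.2.2])
    (by decide)
    (fun i => by fin_cases i <;> [exact fam_lower hin triSx0_ok.1; exact fam_lower hin triSx1_ok.1;
      exact fam_lower hin triSx2_ok.1])
    (by rw [sextets_ncard]; rfl)
  have key : ∀ z, {S | S ∈ sextets ∧ meetNum (t • setOfMask stdTriad) S = z}.ncard =
      {S | S ∈ sextets ∧ meetNum (setOfMask stdTriad) S = z}.ncard := fun z =>
    (ncard_smul_congr t (P := fun S => S ∈ sextets ∧ meetNum (setOfMask stdTriad) S = z)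
      (Q := fun S => S ∈ sextets ∧ meetNum (t • setOfMask stdTriad) S = z) fun S => by
        rw [meetNum_smul]
        exact and_congr_left' ⟨sextets_inv t S, fun h => by
          simpa using sextets_inv t⁻¹ _ h⟩).symm
  refine ⟨?_, ?_, ?_, fun S S' hS hS' heq => ?_⟩
  · rw [key]; exact (congrArg Set.ncard (h 0).2).trans (h 0).1
  · rw [key]; exact (congrArg Set.ncard (h 1).2).trans (h 1).1
  · rw [key]; exact (congrArg Set.ncard (h 2).2).trans (h 2).1
  obtain ⟨A, rfl⟩ : ∃ A, S = t • A := ⟨_, (smul_inv_smul t S).symm⟩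
  obtain ⟨B, rfl⟩ : ∃ B, S' = t • B := ⟨_, (smul_inv_smul t S').symm⟩
  rw [meetNum_smul, meetNum_smul] at heq
  have hA : A ∈ sextets := by simpa using sextets_inv t⁻¹ _ hS
  have hB : B ∈ sextets := by simpa using sextets_inv t⁻¹ _ hS'
  obtain ⟨i, hi⟩ := Set.mem_iUnion.1 (e ▸ hA)
  have hz : meetNum (setOfMask stdTriad) A = ![1, 2, 3] i := by
    rw [← (h i).2] at hi; exact hi.2
  have hB' : B ∈ {a | a ∈ sextets ∧ meetNum (setOfMask stdTriad) a = ![1, 2, 3] i} :=
    ⟨hB, heq ▸ hz⟩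
  rw [(h i).2] at hB'
  obtain ⟨⟨a, ha⟩, eA⟩ := hi
  obtain ⟨⟨b, hb⟩, eB⟩ := hB'
  change a • _ = A at eA
  change b • _ = B at eB
  have hga : (b * a⁻¹) • setOfMask stdTriad = setOfMask stdTriad :=
    mul_mem hb (inv_mem ha)
  have hgA : (b * a⁻¹) • A = B := by rw [mul_smul, ← eA, inv_smul_smul, eB]
  refine ⟨_, (t * (b * a⁻¹) * t⁻¹).2, ?_, ?_⟩
  · show (t * (b * a⁻¹) * t⁻¹) • t • setOfMask stdTriad = _
    rw [mul_smul, mul_smul, inv_smul_smul, hga]
  · show (t * (b * a⁻¹) * t⁻¹) • t • A = _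
    rw [mul_smul, mul_smul, inv_smul_smul, hgA]

end CfsgLib.ThreeTrans.M24Orb
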