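import Cfsg.Agent.Lib.Sporadic.M12
import Cfsg.Agent.Lib.Sporadic.Mathieu

/-!
Base size of M24, and elusiveness of M11 in degree 12.
-/

set_option autoImplicit false

namespace CfsgLib.ThreeTrans.MathieuBase

open Cfsg CfsgLib.Sporadic MulAction
open scoped Pointwise

/-- Six points never form a base. -/
theorem exists_fixing (B : Finset GolayPt) (hB : B.card ≤ 6) :
    ∃ g ∈ M24, g ≠ 1 ∧ ∀ b ∈ B, g b = b := by
  classical
  obtain ⟨S, hBS, -, hS⟩ := Finset.exists_subsuperset_card_eq (Finset.subset_univ B) hB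
    (show 6 ≤ (Finset.univ : Finset GolayPt).card by decide)
  obtain ⟨z, hz⟩ : S.Nonempty := Finset.card_pos.1 (by omega)
  -- pigeonhole: the stabiliser of five points has 48 elements and at most 24 images of `z`
  let l := (S.erase z).toList
  have hl : l.length = 5 := by simp [l, Finset.card_erase_of_mem hz, hS]
  have hn : l.Nodup := Finset.nodup_toList _
  let O : Set (List GolayPt) := {m | m.length = 5 ∧ m.Nodup}
  have hcard : (244823040 : ℕ) ≤ 5100480 * Nat.card {g : ↥M24 // l.map (g • ·) = l} := by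
    let f : ↥M24 → {m : List GolayPt // m ∈ O} := fun g =>
      ⟨l.map (g • ·), by simp [O, hl, (List.nodup_map_iff (MulAction.injective g)).2 hn]⟩
    have hfib : ∀ m, Nat.card {g // f g = m} ≤ Nat.card {g : ↥M24 // l.map (g • ·) = l} := by
      intro m
      by_cases he : IsEmpty {g // f g = m}
      · simp
      rw [not_isEmpty_iff] at he
      obtain ⟨⟨g₀, hg₀⟩⟩ := he
      refine Nat.card_le_card_of_injective (fun g => ⟨g₀⁻¹ * g.1, ?_⟩) fun a b h => ?_
      · have := congrArg Subtype.val (g.2.trans hg₀.symm)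
        apply_fun List.map (g₀⁻¹ • ·) at this
        simp only [f, List.map_map] at this
        simpa [Function.comp_def, mul_smul] using this
      · exact Subtype.ext (mul_left_cancel (congrArg Subtype.val h))
    have hOfin : Finite {m : List GolayPt // m ∈ O} := by
      refine Finite.of_injective (fun m : {m : List GolayPt // m ∈ O} =>
        (fun i : Fin 5 => m.1[i.1]'(by have := m.2.1; omega))) fun a b h => ?_
      refine Subtype.ext (List.ext_getElem (a.2.1.trans b.2.1.symm) fun i h1 h2 => ?_)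
      exact congrFun h ⟨i, by have := a.2.1; omega⟩
    have hO : Nat.card {m : List GolayPt // m ∈ O} ≤ 5100480 := by
      refine le_trans (Nat.card_le_card_of_injective (fun m : {m : List GolayPt // m ∈ O} =>
        (⟨fun i => m.1[i.1]'(by have := m.2.1; omega), fun i j h =>
          Fin.ext ((m.2.2.getElem_inj_iff).1 h)⟩ : Fin 5 ↪ GolayPt)) fun a b h => ?_) ?_
      · refine Subtype.ext (List.ext_getElem (a.2.1.trans b.2.1.symm) fun i h1 h2 => ?_)
        exact congrArg (fun e : Fin 5 ↪ GolayPt => e ⟨i, by have := a.2.1; omega⟩) h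
      · rw [Nat.card_eq_fintype_card, Fintype.card_embedding_eq]
        decide
    calc (244823040 : ℕ) = Nat.card ↥M24 := M24_card.symm
      _ = ∑ᶠ m, Nat.card {g // f g = m} := by
          have := Fintype.ofFinite {m : List GolayPt // m ∈ O}
          rw [← Nat.card_congr (Equiv.sigmaFiberEquiv f), Nat.card_sigma, finsum_eq_sum_of_fintype]
      _ ≤ _ := by
          have := Fintype.ofFinite {m : List GolayPt // m ∈ O}
          rw [finsum_eq_sum_of_fintype]
          refine le_trans (Finset.sum_le_card_nsmul _ _ _ fun m _ => hfib m) ?_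
          rw [smul_eq_mul, Finset.card_univ, ← Nat.card_eq_fintype_card]
          exact Nat.mul_le_mul_right _ hO
  have h48 : 48 ≤ Nat.card {g : ↥M24 // l.map (g • ·) = l} := by omega
  obtain ⟨a, b, hab, he⟩ : ∃ a b : {g : ↥M24 // l.map (g • ·) = l}, a ≠ b ∧ a.1 • z = b.1 • z := by
    by_contra h
    push Not at h
    have := Nat.card_le_card_of_injective (fun g : {g : ↥M24 // l.map (g • ·) = l} => g.1 • z)
      fun a b e => by_contra fun hne => h a b hne e
    rw [Nat.card_eq_fintype_card (α := GolayPt)] at this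
    have : Fintype.card GolayPt = 24 := rfl
    omega
  refine ⟨((b.1)⁻¹ * a.1 : ↥M24), SetLike.coe_mem _, fun h1 => ?_, fun x hx => ?_⟩
  · exact hab (Subtype.ext (inv_mul_eq_one.1 (Subtype.ext h1)).symm)
  · show (b.1⁻¹ * a.1) • x = x
    rw [mul_smul, inv_smul_eq_iff]
    by_cases hxz : x = z
    · rw [hxz, he]
    · have hxl : x ∈ l := Finset.mem_toList.2 (Finset.mem_erase.2 ⟨hxz, hBS hx⟩)
      have key : ∀ g : {g : ↥M24 // l.map (g • ·) = l}, g.1 • x = x := fun g => by
        obtain ⟨i, hi, rfl⟩ := List.getElem_of_mem hxl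
        simpa using (List.getElem_map (fun y : GolayPt => g.1 • y) (l := l) (i := i)
          (h := by simpa using hi)).symm.trans (by simp only [g.2])
      rw [key a, key b]

theorem base_seven : ∃ B : Finset GolayPt, B.card = 7 ∧
    ∀ g ∈ M24, (∀ b ∈ B, g b = b) → g = 1 :=
  ⟨([23, 0, 1, 2, 3, 5, 4].map pt).toFinset, by decide, fun g hg h =>
    eq_one_of_fix_base hg fun i hi => h _ (List.mem_toFinset.2 (List.mem_map_of_mem hi))⟩

/-! ### M11 -/

/-- Elements with 3 ↔ 4 fixing 0 and 2, by the image of 1. -/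
def candsTwo : List (ℕ × ℕ) :=
  [(12, 610567132226883707190967285251705216), (16, 422178007629886548994302847281662464),
   (8, 809396745776258030521293514462071040), (9, 726400993347889868607917493830420768),
   (1, 486073779993727295785104656607348768), (6, 982224155767909524168889505747699904),
   (13, 899228651922494682346309486665402784), (18, 297684506988996728075960479428774464)]

/-- Elements with the cycle 4, 3, 2 fixing 0, by the image of 1. -/
def candsThree : List (ℕ × ℕ) :=
  [(8, 476987172678530055893359221401522432), (9, 601480695580581317658425721487429920),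
   (12, 818483141610437216193738665505132928), (1, 735487641475210312359759341757206560),
   (16, 879757416248480875337972395495461376), (18, 962753146415690651573906265250796096),
   (13, 317155705561079494526444166374822304), (6, 441649054084036462147139492002205888)]

/-- A point outside the dodecad is fixed. -/
noncomputable def fixesOut (p : ℕ) : Bool :=
  !forallLt 24 fun i => Nat.beq (bitAt stdD i) 1 || !Nat.beq (pget p i) i

/-- The certificate of a candidate list. -/
noncomputable def candOK (imgs : List (ℕ × ℕ)) (c : List (ℕ × ℕ)) (n : ℕ) : Bool :=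
  stabGens (c.map Prod.snd) stdD [0] &&
  c.all (fun e => Nat.beq (pget e.2 1) e.1 && imgs.all (fun ab => Nat.beq (pget e.2 ab.1) ab.2) &&
    (fixesOut e.2 || !forallLt 24 (fun i =>
      Nat.beq (Nat.rec i (fun _ acc => pget e.2 acc) n) i))) &&
  forallLt 24 (fun x => !Nat.beq (bitAt stdD x) 1 || Nat.beq x 0 ||
    imgs.any (fun ab => Nat.beq x ab.2) || c.any (fun e => Nat.beq e.1 x))

theorem two_ok : candOK [(4, 3), (3, 4), (2, 2)] candsTwo 2 = true := by decide +kernel

theorem three_ok : candOK [(4, 3), (3, 2), (2, 4)] candsThree 3 = true := by decide +kernel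

theorem exists_fix_of_coprime {g : Equiv.Perm GolayPt} {p : ℕ} [Fact p.Prime] (hg : orderOf g = p)
    {s : Finset GolayPt} (hs : ∀ x, g x ∈ s ↔ x ∈ s) (hp : ¬ p ∣ s.card) :
    ∃ x ∈ s, g x = x := by
  let σ : Equiv.Perm {x // x ∈ s} := g.subtypePerm hs
  have hpow : σ ^ p = 1 := by
    refine Equiv.ext fun x => Subtype.ext ?_
    rw [Equiv.Perm.subtypePerm_pow]
    show (g ^ p) x.1 = x.1
    rw [← hg, pow_orderOf_eq_one]
    rfl
  have hps : ∀ n : ℕ, p ^ n = p ^ n := fun _ => rfl
  obtain ⟨x, hx⟩ := Equiv.Perm.exists_fixed_point_of_prime (n := 1) (p := p)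
    (by rwa [Fintype.card_coe]) (σ := σ) (by rwa [pow_one])
  exact ⟨x.1, x.2, congrArg Subtype.val hx⟩

theorem m12Base_eq : m12Base = [some 4, some 3, some 2, some 1, some 0] := rfl

/-- An element of the point stabiliser in normal form is in the list. -/
theorem cand_finish {imgs c : List (ℕ × ℕ)} {n : ℕ} (hok : candOK imgs c n = true)
    (hkey : ∀ i ∈ [4, 3, 2], ∃ j, (i, j) ∈ imgs)
    {h : ↥M24} (hD : h ∈ stabilizer ↥M24 (setOfMask stdD)) (h0 : h • (some 0 : GolayPt) = some 0)
    (himg : ∀ ab ∈ imgs, h • pt ab.1 = pt ab.2) (himgs : ∀ ab ∈ imgs, ab.1 < 24 ∧ ab.2 < 24)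
    (hne : ∀ ab ∈ imgs, ab.1 ≠ 1) (hord : (h : Equiv.Perm GolayPt) ^ n = 1) :
    ∃ x, x ∉ setOfMask stdD ∧ h • x = x := by
  simp only [candOK, Bool.and_eq_true] at hok
  obtain ⟨⟨hgens, hall⟩, hcov⟩ := hok
  have h1in : (some 1 : GolayPt) ∈ setOfMask stdD := by rw [mem_setOfMask]; decide +kernel
  have himage := (smul_mem_of_stab hD).2 h1in
  set y := h • (some 1 : GolayPt) with hy
  have hyb : bitAt stdD (ix y) = 1 := by rw [bitAt_eq, if_pos (mem_setOfMask.1 himage)]
  have hc := forallLt_elim hcov (ix_lt y)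
  simp only [hyb, show Nat.beq 1 1 = true from rfl, Bool.not_true, Bool.false_or, Bool.or_eq_true,
    List.any_eq_true, Nat.beq_eq] at hc
  rcases hc with (hc | ⟨ab, hab, hc⟩) | ⟨e, he, hc⟩
  · exfalso
    have : h • (some 1 : GolayPt) = h • (some 0 : GolayPt) := by
      rw [h0, ← hy]; exact ix_injective (hc.trans (by decide))
    exact absurd (MulAction.injective h this) (by decide)
  · exfalso
    have : h • (some 1 : GolayPt) = h • pt ab.1 := by
      rw [himg ab hab, ← hy, ← hc, pt_ix]
    have h' := MulAction.injective h this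
    have := congrArg ix h'
    rw [ix_pt (himgs ab hab).1] at this
    exact hne ab hab (this.symm.trans (by decide))
  rw [List.all_eq_true] at hall
  have he' := hall e he
  simp only [Bool.and_eq_true, Nat.beq_eq, List.all_eq_true] at he'
  obtain ⟨⟨hp1, hpimg⟩, hfix⟩ := he'
  obtain ⟨g, hgD, hgr, hgp⟩ := stabGens_in hgens e.2 (List.mem_map_of_mem he)
  have hagree : ∀ i ∈ [4, 3, 2, 1, 0], h • pt i = g • pt i := by
    intro i hi
    by_cases h1 : i = 1
    · subst h1
      apply ix_injective
      show ix y = ix (g.1 (pt 1))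
      rw [← hgr (pt 1), ix_pt (by norm_num), hp1, hc]
    by_cases h00 : i = 0
    · subst h00
      have e0 : pt 0 = (some 0 : GolayPt) := rfl
      rw [e0, h0, hgp (some 0) (by decide)]
    obtain ⟨j, hj⟩ := hkey i (by simp only [List.mem_cons, List.not_mem_nil, or_false] at hi ⊢; omega)
    apply ix_injective
    rw [himg _ hj, ix_pt (himgs _ hj).2]
    show j = ix (g.1 (pt i))
    rw [← hgr (pt i), ix_pt (himgs _ hj).1]
    exact (hpimg _ hj).symm
  have hmem : ∀ i ∈ [4, 3, 2, 1, 0], pt i ∈ setOfMask stdD := by decide +kernel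
  let xe : Fin 5 ↪ GolayPt := ⟨fun k => pt ([4, 3, 2, 1, 0].getD k.1 0), by decide⟩
  have hxk : ∀ k : Fin 5, [4, 3, 2, 1, 0].getD k.1 0 ∈ [4, 3, 2, 1, 0] := by decide
  let ye : Fin 5 ↪ GolayPt :=
    ⟨fun k => h • xe k, (MulAction.injective h).comp xe.injective⟩
  obtain ⟨u, -, huniq⟩ := existsUnique_map_dodecad stdD_mem xe ye (fun k => hmem _ (hxk k))
    (fun k => (smul_mem_of_stab hD).2 (hmem _ (hxk k)))
  have e1 : (⟨h, hD⟩ : stabilizer ↥M24 (setOfMask stdD)) = u := huniq _ fun k => rfl
  have e2 : (⟨g, hgD⟩ : stabilizer ↥M24 (setOfMask stdD)) = u :=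
    huniq _ fun k => (hagree _ (hxk k)).symm
  have hhg : h = g := congrArg Subtype.val (e1.trans e2.symm)
  subst hhg
  rw [Bool.or_eq_true] at hfix
  rcases hfix with hfix | hfix
  · simp only [fixesOut, Bool.not_eq_true'] at hfix
    obtain ⟨i, hi, hfi⟩ : ∃ i < 24,
        (Nat.beq (bitAt stdD i) 1 || !Nat.beq (pget e.2 i) i) = false := by
      by_contra hn
      push Not at hn
      rw [(forallLt_iff _ _).2 fun k hk => by
        have h' := hn k hk
        revert h'
        cases Nat.beq (bitAt stdD k) 1 <;> cases Nat.beq (pget e.2 k) k <;> simp] at hfix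
      exact Bool.noConfusion hfix
    rw [Bool.or_eq_false_iff, Bool.not_eq_false'] at hfi
    refine ⟨pt i, ?_, ?_⟩
    · rw [mem_setOfMask, ix_pt hi]
      intro hb
      rw [bitAt_eq, if_pos hb] at hfi
      simp at hfi
    · apply ix_injective
      show ix (h.1 (pt i)) = ix (pt i)
      rw [← hgr, ix_pt hi]
      exact Nat.eq_of_beq_eq_true hfi.2
  · exfalso
    rw [Bool.not_eq_true'] at hfix
    have hiter : ∀ m : ℕ, ∀ x : GolayPt,
        (Nat.rec (ix x) (fun _ acc => pget e.2 acc) m : ℕ) = ix ((h.1 ^ m) x) := by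
      intro m
      induction m with
      | zero => intro x; rfl
      | succ m ih =>
        intro x
        show pget e.2 (Nat.rec (ix x) (fun _ acc => pget e.2 acc) m) = _
        rw [ih x, hgr, pow_succ', Equiv.Perm.mul_apply]
    rw [(forallLt_iff _ _).2 fun i hi => by
      rw [Nat.beq_eq]
      have := hiter n (pt i)
      rw [ix_pt hi, hord] at this
      rw [this]
      show ix (pt i) = i
      exact ix_pt hi] at hfix
    exact Bool.noConfusion hfix

theorem elusive {g : Equiv.Perm GolayPt} (hg : g ∈ Spor.M11) (hord : (orderOf g).Prime) :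
    ∃ x : GolayPt, x ∉ Spor.squareDodecad ∧ g x = x := by
  obtain ⟨⟨hg24, hgD⟩, hg0⟩ := hg
  rw [squareDodecad_eq] at *
  change g • setOfMask stdD = setOfMask stdD at hgD
  change g (some 0) = some 0 at hg0
  have hmem : ∀ x, g x ∈ setOfMask stdD ↔ x ∈ setOfMask stdD := fun x => by
    conv_lhs => rw [← hgD]
    exact Finset.smul_mem_smul_finset_iff g
  set p := orderOf g with hp
  have : Fact p.Prime := ⟨hord⟩
  have hDcard : (setOfMask stdD).card = 12 := stdD_mem.2
  by_cases hp12 : p ∣ 12
  swap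
  · have hc : (setOfMask stdD)ᶜ.card = 12 := by rw [Finset.card_compl, hDcard]; rfl
    obtain ⟨x, hx, hfx⟩ := exists_fix_of_coprime (s := (setOfMask stdD)ᶜ) hp.symm
      (fun x => by simp only [Finset.mem_compl, hmem]) (by rw [hc]; exact hp12)
    exact ⟨x, Finset.mem_compl.1 hx, hfx⟩
  have hpcases : p = 2 ∨ p = 3 := by
    have h12 : p ≤ 12 := Nat.le_of_dvd (by norm_num) hp12
    have h2 := hord.two_le
    have hne : p ≠ 4 ∧ p ≠ 6 ∧ p ≠ 12 := by
      refine ⟨?_, ?_, ?_⟩ <;> intro e <;> rw [e] at hord <;> norm_num at hord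
    interval_cases p <;> omega
  let G : ↥M24 := ⟨g, hg24⟩
  have hGD : G ∈ stabilizer ↥M24 (setOfMask stdD) := hgD
  have hpow : g ^ p = 1 := pow_orderOf_eq_one g
  -- a moved point in the dodecad
  obtain ⟨a, haD, ha⟩ : ∃ a ∈ setOfMask stdD, g a ≠ a := by
    by_contra h
    push Not at h
    let xe : Fin 5 ↪ GolayPt := ⟨fun k => pt ([4, 3, 2, 1, 0].getD k.1 0), by decide⟩
    have hin : ∀ k, xe k ∈ setOfMask stdD := by decide +kernel
    obtain ⟨u, -, huniq⟩ := existsUnique_map_dodecad stdD_mem xe xe hin hin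
    have e1 : (⟨G, hGD⟩ : stabilizer ↥M24 (setOfMask stdD)) = u := huniq _ fun k => h _ (hin k)
    have e2 : (1 : stabilizer ↥M24 (setOfMask stdD)) = u := huniq _ fun k => one_smul _ _
    have : g = 1 := congrArg (fun t : stabilizer ↥M24 (setOfMask stdD) => (t.1.1)) (e1.trans e2.symm)
    rw [this, orderOf_one] at hp
    rw [hp] at hord
    exact Nat.not_prime_one hord
  have ha0 : a ≠ some 0 := fun e => ha (e ▸ hg0)
  have hga0 : g a ≠ some 0 := fun e => ha0 (g.injective (e.trans hg0.symm))
  -- three points and their images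
  obtain ⟨b, c, hbD, hcD, hab, hac, hbc, hb0, hc0, himg⟩ : ∃ b c : GolayPt,
      b ∈ setOfMask stdD ∧ c ∈ setOfMask stdD ∧ a ≠ b ∧ a ≠ c ∧ b ≠ c ∧ b ≠ some 0 ∧
      c ≠ some 0 ∧ g a = b ∧ ((p = 2 ∧ g b = a ∧ g c = c) ∨ (p = 3 ∧ g b = c ∧ g c = a)) := by
    rcases hpcases with e2 | e3
    · rw [e2, pow_two] at hpow
      have hga : g (g a) = a := congrArg (fun f : Equiv.Perm GolayPt => f a) hpow
      have hs : ∀ x, g x ∈ (setOfMask stdD).erase (some 0) ↔ x ∈ (setOfMask stdD).erase (some 0) :=
        fun x => by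
          simp only [Finset.mem_erase, hmem]
          refine and_congr_left fun _ => not_congr ⟨fun e => g.injective (e.trans hg0.symm),
            fun e => e ▸ hg0⟩
      obtain ⟨c, hc, hfc⟩ := exists_fix_of_coprime hp.symm hs (by
        rw [Finset.card_erase_of_mem (by rw [mem_setOfMask]; decide +kernel), hDcard, e2]; decide)
      rw [Finset.mem_erase] at hc
      exact ⟨g a, c, (hmem a).2 haD, hc.2, Ne.symm ha, fun e => ha (e ▸ hfc),
        fun e => ha (g.injective (by rw [e, hfc])), hga0, hc.1, rfl, Or.inl ⟨e2, hga, hfc⟩⟩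
    · rw [e3] at hpow
      have hga : g (g (g a)) = a := congrArg (fun f : Equiv.Perm GolayPt => f a) hpow
      exact ⟨g a, g (g a), (hmem a).2 haD, (hmem _).2 ((hmem a).2 haD), Ne.symm ha,
        fun e => ha (by conv_rhs => rw [← hga, ← e]), fun e => ha (g.injective e.symm), hga0,
        fun e => hga0 (g.injective (e.trans hg0.symm)), rfl, Or.inr ⟨e3, rfl, hga⟩⟩
  -- move them to 4, 3, 2
  obtain ⟨d, hdD, hd⟩ : ∃ d ∈ setOfMask stdD, d ∉ ({a, b, c, some 0} : Finset GolayPt) :=
    Finset.exists_mem_notMem_of_card_lt_card (lt_of_le_of_lt Finset.card_le_four (by rw [hDcard]; norm_num))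
  simp only [Finset.mem_insert, Finset.mem_singleton, not_or] at hd
  obtain ⟨k, hk, hkmap⟩ := exists_map_stdD [a, b, c, d, some 0] rfl
    (by simp [hab, hac, hbc, hb0, hc0, ha0, Ne.symm hd.1, Ne.symm hd.2.1, Ne.symm hd.2.2.1, hd.2.2.2])
    (by
      simp only [List.mem_cons, List.not_mem_nil, or_false]
      rintro y (rfl | rfl | rfl | rfl | rfl)
      exacts [haD, hbD, hcD, hdD, by rw [mem_setOfMask]; decide +kernel])
  rw [m12Base_eq] at hkmap
  simp only [List.map_cons, List.map_nil, List.cons.injEq] at hkmap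
  obtain ⟨k4, k3, k2, -, k0, -⟩ := hkmap
  let h : ↥M24 := k⁻¹ * G * k
  have hD : h ∈ stabilizer ↥M24 (setOfMask stdD) := mul_mem (mul_mem (inv_mem hk) hGD) hk
  have happ : ∀ u v x y : GolayPt, k • u = x → g x = y → k • v = y → h • u = v := by
    intro u v x y e1 e2 e3
    show (k⁻¹ * G * k) • u = v
    rw [mul_smul, mul_smul, e1, show G • x = y from e2, ← e3, inv_smul_smul]
  have h0 : h • (some 0 : GolayPt) = some 0 := happ _ _ _ _ k0 hg0 k0
  have hpowh : (h : Equiv.Perm GolayPt) ^ p = 1 := by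
    show ((k : Equiv.Perm GolayPt)⁻¹ * g * k) ^ p = 1
    rw [show (k : Equiv.Perm GolayPt)⁻¹ * g * k =
      (k : Equiv.Perm GolayPt)⁻¹ * g * ((k : Equiv.Perm GolayPt)⁻¹)⁻¹ by rw [inv_inv],
      conj_pow, hpow]
    group
  obtain ⟨x, hx, hfx⟩ : ∃ x, x ∉ setOfMask stdD ∧ h • x = x := by
    obtain ⟨hga, ⟨e2, hgb, hgc⟩ | ⟨e3, hgb, hgc⟩⟩ := himg
    · refine cand_finish two_ok ?hk hD h0 ?_ (by decide) (by decide) (e2 ▸ hpowh)
      case hk => simp
      simp only [List.mem_cons, List.not_mem_nil, or_false]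
      rintro ab (rfl | rfl | rfl)
      exacts [happ _ _ _ _ k4 hga k3, happ _ _ _ _ k3 hgb k4, happ _ _ _ _ k2 hgc k2]
    · refine cand_finish three_ok ?hk hD h0 ?_ (by decide) (by decide) (e3 ▸ hpowh)
      case hk => simp
      simp only [List.mem_cons, List.not_mem_nil, or_false]
      rintro ab (rfl | rfl | rfl)
      exacts [happ _ _ _ _ k4 hga k3, happ _ _ _ _ k3 hgb k2, happ _ _ _ _ k2 hgc k4]
  refine ⟨k • x, fun hc => hx ((smul_mem_of_stab hk).1 hc), ?_⟩
  show G • k • x = k • x
  conv_rhs => rw [← hfx]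
  show G • k • x = k • (k⁻¹ * G * k) • x
  rw [mul_smul, mul_smul, smul_inv_smul]

end CfsgLib.ThreeTrans.MathieuBase
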