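import Cfsg.Agent.Lib.ThreeTrans.MonoStab

/-!
Invariant subgroups for the stabilizer of the class of `8e_∞` contain all pairs (owner: lead).
-/

set_option autoImplicit false

namespace CfsgLib.ThreeTrans.MonoPairs

open Cfsg Finset CfsgLib.Sporadic CfsgLib.ThreeTrans.Leech
open CfsgLib.ThreeTrans.Leech.UPerp (Cong F8)

variable {X : AddSubgroup Vec}

/-- Invariance under permutations and sign changes. -/
structure InvN (X : AddSubgroup Vec) : Prop where
  le : ∀ x ∈ X, IsL x
  two : ∀ x, IsL x → x + x ∈ X
  eight : F8 ∈ X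
  perm : ∀ σ ∈ M24, ∀ x ∈ X, permVec σ x ∈ X
  flip : ∀ s ∈ supports (golayCode : Set (GolayPt → ZMod 2)), ∀ x ∈ X, flipVec s x ∈ X

theorem InvN.of_cong (h : InvN X) {x y : Vec} (hc : Cong x y) (hy : y ∈ X) : x ∈ X := by
  obtain ⟨z, hz, e⟩ := hc
  rw [sub_eq_iff_eq_add] at e
  rw [e]; exact X.add_mem (h.two z hz) hy

theorem InvN.exists_four (h : InvN X) {x : Vec} (hx : x ∈ X) (h0 : ¬ Cong x 0) (h8 : ¬ Cong x F8) :
    ∃ e : Vec, red e ∉ golayCode ∧ (4 : ℤ) • e ∈ X := by
  classical
  -- an even member whose half is neither constant word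
  have mixed : ∀ d : Vec, (fun i => 2 * d i) ∈ X → red d ∈ golayCode →
      ∀ a b, d a % 2 = 1 → d b % 2 = 0 → ∃ e : Vec, red e ∉ golayCode ∧ (4 : ℤ) • e ∈ X := by
    intro d hd _ a b ha hb
    obtain ⟨o, ho, hao, hbo⟩ : ∃ o ∈ octads, a ∈ o ∧ b ∈ o := by
      obtain ⟨s, hs1, -, hs2⟩ := Finset.exists_subsuperset_card_eq
        (s := ({a, b} : Finset GolayPt)) (t := Finset.univ) (n := 5) (Finset.subset_univ _)
        (Finset.card_le_two.trans (by norm_num)) (by decide)
      obtain ⟨o, ho, hso⟩ := exists_octad_of_five hs2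
      exact ⟨o, ho, hso (hs1 (Finset.mem_insert_self a _)),
        hso (hs1 (Finset.mem_insert_of_mem (Finset.mem_singleton_self b)))⟩
    let e : Vec := fun i => if i ∈ o then d i else 0
    refine ⟨e, fun hc => ?_, ?_⟩
    · have hsub : support₂ (red e) ⊆ o := fun i hi => by
        rw [support_red] at hi
        by_contra hio
        simp [e, hio] at hi
      have hae : a ∈ support₂ (red e) := by
        rw [support_red]
        simp only [e, if_pos hao]; exact ha
      have hbe : b ∉ support₂ (red e) := by
        rw [support_red]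
        simp only [e, if_pos hbo]; omega
      have hlt : (support₂ (red e)).card < o.card :=
        Finset.card_lt_card ⟨hsub, fun hh => hbe (hh hbo)⟩
      have hpos : 0 < (support₂ (red e)).card := Finset.card_pos.2 ⟨a, hae⟩
      rw [ho.2] at hlt
      rcases (weight hc).1 with h' | h'
      · rw [h'] at hpos; simp [support₂] at hpos
      · omega
    · have := X.sub_mem hd (h.flip o ho.1 _ hd)
      rw [sub_flip] at this
      convert this using 1
      funext i
      simp only [Pi.smul_apply, smul_eq_mul, e]
      split_ifs <;> ring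
  obtain ⟨m, d, h1, h2, h3⟩ := h.le x hx
  rcases Int.emod_two_eq m with hm | hm
  · let d' : Vec := fun i => m / 2 + d i
    have hd' : x = fun i => 2 * d' i := funext fun i => by simp only [d', h1]; omega
    have hred : red d' ∈ golayCode := by
      have : red d' = ((m / 2 : ℤ) : ZMod 2) • (1 : Golay.Word) + red d := by
        funext i; simp [red, d']
      rw [this]; exact add_mem (Submodule.smul_mem _ _ one_mem_code) h2
    by_cases hW : ∀ i, (x i - x none) % 4 = 0
    · obtain ⟨f, hf, hc⟩ := UPerp.InW.decomp (x := x) ⟨h.le x hx, by rw [h1]; omega, hW⟩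
      by_cases hfc : red f ∈ golayCode
      · exfalso
        rcases UPerp.cong_four_code hfc with h' | h'
        · exact h0 (hc.trans h')
        · exact h8 (hc.trans h')
      · exact ⟨f, hfc, h.of_cong hc.symm hx⟩
    · push Not at hW
      obtain ⟨i, hi⟩ := hW
      rw [hd'] at hx hi
      dsimp only at hi
      rcases Int.emod_two_eq (d' i) with hi' | hi'
      · exact mixed d' hx hred none i (by omega) hi'
      · exact mixed d' hx hred i none hi' (by omega)
  · obtain ⟨o, ho⟩ : ∃ o : Finset GolayPt, o ∈ octads := by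
      refine Set.nonempty_of_ncard_ne_zero ?_
      rw [octads_ncard]; norm_num
    have hy := X.sub_mem hx (h.flip o ho.1 x hx)
    rw [sub_flip] at hy
    let d' : Vec := fun i => if i ∈ o then x i else 0
    have hy' : (fun i => 2 * d' i) ∈ X := by
      convert hy using 1
      funext i; simp only [d']; split_ifs <;> ring
    obtain ⟨a, ha⟩ : ∃ i, i ∈ o := Finset.card_pos.1 (by rw [ho.2]; norm_num)
    obtain ⟨b, -, hb⟩ := Finset.exists_mem_notMem_of_card_lt_card (s := o) (t := Finset.univ)
      (by rw [ho.2]; decide)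
    have hred : red d' ∈ golayCode := by
      have hs : support₂ (red d') = o := by
        ext i
        rw [support_red]
        simp only [d']
        split_ifs with hi
        · simp only [hi, iff_true, h1]; omega
        · simp [hi]
      obtain ⟨w, hw, hws⟩ := ho.1
      have : red d' = w := by
        refine Golay.mk_injective ?_
        rw [Golay.mk, Golay.mk, hs, hws]
      rw [this]; exact hw
    refine mixed d' hy' hred a b ?_ ?_
    · simp only [d', if_pos ha, h1]; omega
    · simp only [d', if_neg hb]; rfl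

theorem InvN.pair_mem (h : InvN X) {x : Vec} (hx : x ∈ X) (h0 : ¬ Cong x 0) (h8 : ¬ Cong x F8)
    (i j : GolayPt) : pairVec i j ∈ X := by
  obtain ⟨e, he, heX⟩ := h.exists_four hx h0 h8
  have hinv : Golay.Invariant (layer X 4) := by
    rintro σ hσ w ⟨d, hd, hdM⟩
    exact ⟨permVec σ d, by rw [← hd]; rfl, h.perm σ hσ _ hdM⟩
  have heven : Golay.evenSub ≤ layer X 4 :=
    Golay.even_le_of_not_le hinv fun hle => he (hle ⟨e, rfl, heX⟩)
  have hdiag : ∀ k, pairVec k k ∈ X := by
    intro k
    refine h.of_cong ?_ h.eight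
    refine ⟨pairVec k none - pairVec none none, UPerp.isL_sub (isL_pair _ _) (isL_pair _ _), ?_⟩
    funext l; simp only [pairVec, Pi.sub_apply, Pi.add_apply]; ring
  obtain ⟨f, hf, hfM⟩ := heven (show Golay.pairWord i j ∈ Golay.evenSub by
    show ∑ p, Golay.pairWord i j p = 0
    simp [Golay.pairWord, Finset.sum_add_distrib, CharTwo.add_self_eq_zero])
  let g : Vec := fun k =>
    (((if k = i then (1 : ℤ) else 0) + (if k = j then 1 else 0)) - f k) / 2
  have hk : pairVec i j = (4 : ℤ) • f + (8 : ℤ) • g := by
    funext k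
    have hk := congrFun hf k
    simp only [red, Golay.pairWord, Pi.add_apply, Pi.single_apply] at hk
    have hdvd : (2 : ℤ) ∣ ((if k = i then (1 : ℤ) else 0) + (if k = j then 1 else 0)) - f k := by
      refine (ZMod.intCast_zmod_eq_zero_iff_dvd _ 2).1 ?_
      rw [Int.cast_sub, hk]
      push_cast [apply_ite]
      split_ifs <;> simp
    show 4 * ((if k = i then (1 : ℤ) else 0) + (if k = j then 1 else 0)) = 4 * f k + 8 * g k
    simp only [g]
    omega
  rw [hk]
  refine X.add_mem hfM ?_
  have : (8 : ℤ) • g = ∑ k, g k • pairVec k k := by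
    funext l
    simp only [Finset.sum_apply, Pi.smul_apply, smul_eq_mul, pairVec]
    rw [Finset.sum_eq_single l (fun b _ hb => by rw [if_neg (Ne.symm hb)]; ring) (by simp)]
    simp; ring
  rw [this]
  exact X.sum_mem fun k _ => X.zsmul_mem (hdiag k) _

end CfsgLib.ThreeTrans.MonoPairs
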