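import Cfsg.Agent.Lib.ThreeTrans.LeechUPerp
import Cfsg.Agent.Lib.Sporadic.ConwayOrder
import Cfsg.Agent.Lib.Sporadic.Simple

/-!
The stabilizer of the class of `8e_∞`: sign changes extended by the permutations (owner: lead).
-/

set_option autoImplicit false

namespace CfsgLib.ThreeTrans.MonoStab

open Cfsg Finset CfsgLib.Sporadic CfsgLib.ThreeTrans.Leech CfsgLib.Sporadic.Conway
open CfsgLib.ThreeTrans.Leech.UPerp (Cong Bev ap)
open scoped Pointwise

/-- The automorphisms fixing each coordinate axis. -/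
def signs : Subgroup ↥Co0 where
  carrier := {g | ∀ i, ap g (eightVec i) = eightVec i ∨ ap g (eightVec i) = -eightVec i}
  one_mem' i := Or.inl (UPerp.ap_one (mem_iff.1 (eightVec_mem i)))
  mul_mem' := fun {g h} hg hh i => by
    have hL := mem_iff.1 (eightVec_mem i)
    rcases hh i with e | e <;> rw [UPerp.ap_mul g h hL, e]
    · exact hg i
    · rw [UPerp.ap_neg g hL]
      rcases hg i with e' | e' <;> rw [e']
      · exact Or.inr rfl
      · exact Or.inl (neg_neg _)
  inv_mem' := fun {g} hg i => by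
    have hL := mem_iff.1 (eightVec_mem i)
    rcases hg i with e | e
    · left; conv_lhs => rw [← e]
      rw [UPerp.ap_inv' g hL]
    · right
      have h1 := UPerp.ap_inv' g hL
      rw [e, UPerp.ap_neg _ hL] at h1
      exact neg_eq_iff_eq_neg.1 h1

/-- The permutations inside the automorphism group. -/
def permHom' : ↥M24 →* ↥Co0 := MonoidHom.mk' (fun σ => permElt σ.2) fun σ τ => by
  refine Subtype.ext (Equiv.ext fun v => Subtype.ext ?_)
  show ((permElt (σ * τ).2 • v : ↥leechLattice) : Vec) = ((permElt σ.2 • (permElt τ.2 • v) : ↥leechLattice) : Vec)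
  rw [permElt_apply, permElt_apply, permElt_apply]
  rfl

theorem ap_mono {σ : Equiv.Perm GolayPt} (hσ : σ ∈ M24) {c : Finset GolayPt}
    (hc : c ∈ supports (golayCode : Set (GolayPt → ZMod 2))) (i : GolayPt) :
    ap (monoElt hσ hc) (eightVec i) = if σ i ∈ c then -eightVec (σ i) else eightVec (σ i) := by
  rw [UPerp.ap_mk _ (mem_iff.1 (eightVec_mem i)), monoElt_apply]
  exact signedPerm_eight σ c i

theorem monoElt_one_left {c : Finset GolayPt} (hc : c ∈ supports (golayCode : Set (GolayPt → ZMod 2))) :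
    monoElt (one_mem M24) hc = flipElt hc := by
  refine Subtype.ext (Equiv.ext fun v => Subtype.ext ?_)
  show ((monoElt (one_mem M24) hc • v : ↥leechLattice) : Vec) = ((flipElt hc • v : ↥leechLattice) : Vec)
  rw [monoElt_apply, flipElt_apply]
  rfl

theorem flip_mem {c : Finset GolayPt} (hc : c ∈ supports (golayCode : Set (GolayPt → ZMod 2))) :
    flipElt hc ∈ signs := fun i => by
  rw [← monoElt_one_left hc, ap_mono, Equiv.Perm.one_apply]
  split_ifs
  · exact Or.inr rfl
  · exact Or.inl rfl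

theorem signs_le : signs ≤ crossStab := fun g hg => mem_crossStab.2 fun v hv => by
  obtain ⟨i, e⟩ := mem_stdCross.1 hv
  have hL := mem_iff.1 (eightVec_mem i)
  have : ((g • v : ↥leechLattice) : Vec) = ap g (v : Vec) := (UPerp.ap_coe g v).symm
  rw [this]
  rcases e with e | e <;> rw [e]
  · exact mem_stdCross.2 ⟨i, hg i⟩
  · rw [UPerp.ap_neg g hL]
    rcases hg i with e' | e' <;> rw [e']
    · exact mem_stdCross.2 ⟨i, Or.inr rfl⟩
    · exact mem_stdCross.2 ⟨i, Or.inl (neg_neg _)⟩

theorem perm_signs {σ : ↥M24} (h : permHom' σ ∈ signs) : σ = 1 := by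
  refine Subtype.ext (Equiv.ext fun i => ?_)
  have e : ap (permHom' σ) (eightVec i) = eightVec (σ.1 i) := by
    rw [show permHom' σ = permElt σ.2 from rfl, UPerp.ap_mk _ (mem_iff.1 (eightVec_mem i)), permElt_apply]
    funext k
    simp only [permVec, eightVec, Equiv.symm_apply_eq]
  rcases h i with h' | h' <;> rw [e] at h'
  · exact eightVec_inj h'
  · exact absurd h' (eightVec_ne_neg _ _)

theorem decompose {g : ↥Co0} (hg : g ∈ crossStab) :
    ∃ f ∈ signs, ∃ σ : ↥M24, g = f * permHom' σ := by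
  obtain ⟨σ, hσ, c, hc, rfl⟩ := exists_mono (mem_crossStab.1 hg)
  exact ⟨flipElt hc, flip_mem hc, ⟨σ, hσ⟩, rfl⟩

theorem permHom'_mem (σ : ↥M24) : permHom' σ ∈ crossStab := by
  refine mem_crossStab.2 fun v hv => ?_
  obtain ⟨i, e⟩ := mem_stdCross.1 hv
  rw [show permHom' σ = permElt σ.2 from rfl, permElt_apply]
  refine mem_stdCross.2 ⟨σ.1 i, e.imp (fun e' => ?_) fun e' => ?_⟩ <;>
    (rw [e']; funext k; simp only [permVec, eightVec, Pi.neg_apply, Equiv.symm_apply_eq])

theorem exists_flip {g : ↥Co0} (hg : g ∈ signs) :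
    ∃ (c : Finset GolayPt) (hc : c ∈ supports (golayCode : Set (GolayPt → ZMod 2))), g = flipElt hc := by
  obtain ⟨σ, hσ, c, hc, rfl⟩ := exists_mono (mem_crossStab.1 (signs_le hg))
  have hf : flipElt hc ∈ signs := flip_mem hc
  have h1 : permHom' (⟨σ, hσ⟩ : ↥M24) ∈ signs := (Subgroup.mul_mem_cancel_left _ hf).1 hg
  have h2 : σ = 1 := congrArg Subtype.val (perm_signs h1)
  subst h2
  exact ⟨c, hc, monoElt_one_left hc⟩

theorem signs_sq {g : ↥Co0} (hg : g ∈ signs) : g * g = 1 := by
  obtain ⟨c, hc, rfl⟩ := exists_flip hg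
  refine Subtype.ext (Equiv.ext fun v => Subtype.ext ?_)
  show ((flipElt hc • (flipElt hc • v) : ↥leechLattice) : Vec) = (v : Vec)
  rw [flipElt_apply, flipElt_apply, Leech.flip_flip]

theorem center_le_signs : Subgroup.center ↥Co0 ≤ signs := fun g hg => by
  have h : g ∈ ({1, negElt} : Set ↥Co0) := center_eq ▸ hg
  rcases h with rfl | rfl
  · exact one_mem _
  · exact flip_mem univ_supports

theorem card_signs_le : Nat.card ↥signs ≤ 4096 := by
  rw [← card_supports, ← Nat.card_coe_set_eq]
  haveI : Finite ↥{c : Finset GolayPt | c ∈ supports (golayCode : Set (GolayPt → ZMod 2))} := Subtype.finite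
  refine Nat.card_le_card_of_surjective (fun c => (⟨flipElt c.2, flip_mem c.2⟩ : ↥signs)) fun g => ?_
  obtain ⟨c, hc, e⟩ := exists_flip g.2
  exact ⟨⟨c, hc⟩, Subtype.ext e.symm⟩

theorem signs_normal {g : ↥Co0} (hg : g ∈ crossStab) {f : ↥Co0} (hf : f ∈ signs) : g * f * g⁻¹ ∈ signs := by
  intro i
  have hL := mem_iff.1 (eightVec_mem i)
  have hP : Preserves g⁻¹ := mem_crossStab.1 (inv_mem hg)
  obtain ⟨j, hj⟩ := mem_stdCross.1 (hP ⟨eightVec i, eightVec_mem i⟩ (mem_stdCross.2 ⟨i, Or.inl rfl⟩))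
  rw [← UPerp.ap_coe] at hj
  change ap g⁻¹ (eightVec i) = _ ∨ ap g⁻¹ (eightVec i) = _ at hj
  have hjL := mem_iff.1 (eightVec_mem j)
  have hback : ap g (ap g⁻¹ (eightVec i)) = eightVec i := UPerp.ap_inv g hL
  rw [UPerp.ap_mul (g * f) g⁻¹ hL, UPerp.ap_mul g f (UPerp.ap_isL _ hL)]
  have hf' : ap f (ap g⁻¹ (eightVec i)) = ap g⁻¹ (eightVec i) ∨
      ap f (ap g⁻¹ (eightVec i)) = -ap g⁻¹ (eightVec i) := by
    rcases hj with e | e <;> rw [e]
    · exact hf j
    · rw [UPerp.ap_neg f hjL]
      exact (hf j).imp (fun h => by rw [h]) fun h => by rw [h]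
  rcases hf' with e | e <;> rw [e]
  · exact Or.inl hback
  · exact Or.inr (by rw [UPerp.ap_neg g (UPerp.ap_isL _ hL), hback])

/-- Normal 2-subgroups of the stabilizer consist of sign changes. -/
theorem le_signs (E : Subgroup ↥Co0) (hE : E ≤ crossStab) (hp : IsPGroup 2 E)
    (hn : ∀ g ∈ crossStab, ∀ e ∈ E, g * e * g⁻¹ ∈ E) : E ≤ signs := by
  classical
  haveI : Fact (Nat.Prime 2) := ⟨Nat.prime_two⟩
  have hS : IsPGroup 2 signs := fun f => ⟨1, Subtype.ext (by
    rw [pow_one, Subgroup.coe_pow, sq]; exact signs_sq f.2)⟩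
  have hle : E ≤ Subgroup.normalizer (signs : Set ↥Co0) := fun e he => by
    refine Subgroup.mem_normalizer_iff.2 fun f => ⟨fun hf => signs_normal (hE he) hf, fun hf => ?_⟩
    have := signs_normal (inv_mem (hE he)) hf
    simpa [mul_assoc] using this
  have hsup : IsPGroup 2 ↥(E ⊔ signs) := hp.to_sup_of_normal_right' hS hle
  let P : Subgroup ↥M24 := (E ⊔ signs).comap permHom'
  have hinj : Function.Injective permHom' := (injective_iff_map_eq_one _).2 fun σ h =>
    perm_signs (h ▸ one_mem signs)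
  have hPp : IsPGroup 2 P := hsup.comap_of_injective _ hinj
  haveI := M24_isSimple
  haveI hPn : P.Normal := by
    refine ⟨fun p hp' σ => ?_⟩
    show permHom' (σ * p * σ⁻¹) ∈ E ⊔ signs
    rw [map_mul, map_mul, map_inv]
    have hσ := permHom'_mem σ
    have h1 : (E ⊔ signs).map (MulAut.conj (permHom' σ)).toMonoidHom ≤ E ⊔ signs := by
      rw [Subgroup.map_sup]
      refine sup_le_sup ?_ ?_
      · rintro _ ⟨e, he, rfl⟩; exact hn _ hσ e he
      · rintro _ ⟨e, he, rfl⟩; exact signs_normal hσ he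
    exact h1 ⟨_, hp', rfl⟩
  rcases hPn.eq_bot_or_eq_top with hP | hP
  · intro e he
    obtain ⟨f, hf, σ, rfl⟩ := decompose (hE he)
    have h1 : σ ∈ P := by
      show permHom' σ ∈ E ⊔ signs
      have := Subgroup.mul_mem _ (Subgroup.inv_mem _ (Subgroup.mem_sup_right hf : f ∈ E ⊔ signs))
        (Subgroup.mem_sup_left he : f * permHom' σ ∈ E ⊔ signs)
      rwa [inv_mul_cancel_left] at this
    rw [hP, Subgroup.mem_bot] at h1
    rw [h1, map_one, mul_one]
    exact hf
  · exfalso
    haveI : Finite ↥M24 := inferInstance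
    obtain ⟨n, hn'⟩ := IsPGroup.iff_card.1 hPp
    rw [hP, Subgroup.card_top, M24_card] at hn'
    have h3 : 3 ∣ 2 ^ n := hn' ▸ (by norm_num : 3 ∣ 244823040)
    exact absurd (Nat.prime_three.dvd_of_dvd_pow h3) (by norm_num)

/-- Fixing the class of `8e_∞`. -/
theorem mem_crossStab_iff {g : ↥Co0} :
    g ∈ crossStab ↔ Cong (ap g (eightVec none)) (eightVec none) := by
  rw [mem_crossStab, preserves_iff, Lattice.classOf_eq_iff (SetLike.coe_mem _) (eightVec_mem none)]
  rw [show ((g • baseElt : ↥leechLattice) : Vec) = ap g (eightVec none) from (UPerp.ap_coe g baseElt).symm]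
  constructor
  · rintro ⟨w, hw, e⟩; exact ⟨w, mem_iff.1 hw, by rw [e, two_smul]⟩
  · rintro ⟨w, hw, e⟩; exact ⟨w, mem_iff.2 hw, by rw [e, two_smul]⟩

/-- A sign change acting trivially modulo `0, F8` on the octad vectors is central. -/
theorem sign_central {k : ↥Co0} (hk : k ∈ signs)
    (h : ∀ o ∈ octads, Cong (ap k (octVec o)) (octVec o) ∨
      Cong (ap k (octVec o) - octVec o) (eightVec none)) :
    k ∈ Subgroup.center ↥Co0 := by
  classical
  obtain ⟨c, hc, rfl⟩ := exists_flip hk
  by_cases h0 : c = ∅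
  · subst h0
    have : flipElt hc = 1 := by
      refine Subtype.ext (Equiv.ext fun v => Subtype.ext ?_)
      show ((flipElt hc • v : ↥leechLattice) : Vec) = (v : Vec)
      rw [flipElt_apply]; funext i; simp [flipVec]
    rw [this]; exact one_mem _
  by_cases h1 : c = Finset.univ
  · subst h1
    have : negElt ∈ (Subgroup.center ↥Co0 : Set ↥Co0) := by rw [center_eq]; exact Or.inr rfl
    exact this
  exfalso
  obtain ⟨a, ha⟩ := Finset.nonempty_iff_ne_empty.2 h0
  obtain ⟨b, hb⟩ : ∃ b, b ∉ c := by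
    by_contra hn
    push Not at hn
    exact h1 (Finset.eq_univ_of_forall hn)
  obtain ⟨o, ho, hao, hbo⟩ : ∃ o ∈ octads, a ∈ o ∧ b ∈ o := by
    obtain ⟨s, hs1, -, hs2⟩ := Finset.exists_subsuperset_card_eq
      (s := ({a, b} : Finset GolayPt)) (t := Finset.univ) (n := 5) (Finset.subset_univ _)
      (Finset.card_le_two.trans (by norm_num)) (by decide)
    obtain ⟨o, ho, hso⟩ := exists_octad_of_five hs2
    exact ⟨o, ho, hso (hs1 (Finset.mem_insert_self a _)),
      hso (hs1 (Finset.mem_insert_of_mem (Finset.mem_singleton_self b)))⟩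
  let e : Vec := fun i => if i ∈ o ∩ c then 1 else 0
  have hdiff : ap (flipElt hc) (octVec o) - octVec o = -(fun i => 4 * e i) := by
    rw [UPerp.ap_mk _ (isL_octVec ho.1), flipElt_apply]
    funext i
    simp only [flipVec, octVec, Pi.sub_apply, Pi.neg_apply, e, Finset.mem_inter]
    by_cases h2 : i ∈ c <;> by_cases h3 : i ∈ o <;> simp [h2, h3]
  have hcode : red e ∈ golayCode := by
    rcases h o ho with ⟨z, hz, ez⟩ | ⟨z, hz, ez⟩ <;> rw [hdiff] at ez
    · have he : z = fun i => 2 * (-e i) := by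
        funext i
        have := congrFun ez i
        simp only [Pi.neg_apply, Pi.add_apply] at this
        omega
      rw [he, Lattice.isL_two] at hz
      convert hz.1 using 1
      funext i; simp [red, CharTwo.neg_eq]
    · have he : z = fun i => 2 * (-e i - if i = none then 2 else 0) := by
        funext i
        have := congrFun ez i
        simp only [Pi.neg_apply, Pi.sub_apply, Pi.add_apply, eightVec] at this
        split_ifs at this ⊢ <;> omega
      rw [he, Lattice.isL_two] at hz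
      convert hz.1 using 1
      funext i; simp only [red]; split_ifs <;> simp [CharTwo.neg_eq, CharTwo.two_eq_zero]
  have hsupp : support₂ (red e) = o ∩ c := red_indicator _
  rcases (weight hcode).1 with h' | h'
  · rw [h'] at hsupp
    have : a ∈ o ∩ c := Finset.mem_inter.2 ⟨hao, ha⟩
    rw [← hsupp] at this
    simp [support₂] at this
  · rw [hsupp] at h'
    have := Finset.card_lt_card (show o ∩ c ⊂ o from
      ⟨Finset.inter_subset_left, fun hh => hb (Finset.mem_inter.1 (hh hbo)).2⟩)
    rw [ho.2] at this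
    omega

end CfsgLib.ThreeTrans.MonoStab
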