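import Cfsg.Agent.Lib.ThreeTrans.MonsterPair
import Cfsg.Agent.Lib.ThreeTrans.MonoPairs
import Cfsg.Agent.Lib.Components.CharTwoLocal
import Cfsg.Agent.Lib.HallGen.Basic

/-!
The centralizer of an involution over a short vector is of Baby Monster type (owner: lead).
-/

set_option autoImplicit false

namespace CfsgLib.ThreeTrans.MonsterType

open Cfsg CfsgLib.PGroups CfsgLib.Sporadic CfsgLib.ThreeTrans.Leech
open CfsgLib.ThreeTrans.Leech.UPerp (Cong InK Bev ap U F8)
open CfsgLib.Sporadic.Conway (eightVec eightVec_mem norm_eight crossStab baseElt)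
open scoped commutatorElement

theorem linOf_eq_smul (g : ↥Co0) (v : ↥leechLattice) : Conway.linOf g v = g • v := rfl

variable {G : Type*} [Group G] [Finite G] {z : G} {Q : Subgroup (Subgroup.centralizer ({z} : Set G))}
  [Q.Normal] {e : (Subgroup.centralizer ({z} : Set G)) ⧸ Q ≃* Spor.Co1} {ψ : leechLattice → Q ⧸ Subgroup.center Q}
  (hM : IsExtraspecialCentralizerSetting z Q 12) (hψ : IsLeechModTwoIso Q e ψ)

include hM hψ in
theorem not_conj_mul {v : leechLattice} {x : Q} (hx : ψ v = QuotientGroup.mk x)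
    (hn : sqNorm (v : Vec) = 32) : ¬ IsConj z (val x * z) := by
  obtain ⟨c, hc, hcz⟩ := z_mem hM hψ
  have h1 : val (x * c) = val x * z := by rw [val_mul, hcz]
  rw [← h1]
  refine not_conj32 hM hψ (v0 := v) ?_ hn
  rw [hx, QuotientGroup.mk_mul, (QuotientGroup.eq_one_iff c).2 hc, mul_one]

include hM hψ in
/-- An element centralizing the involution and moving `z` inside `Q`. -/
theorem exists_conj_fix {v : leechLattice} {x : Q} (hx : ψ v = QuotientGroup.mk x)
    (hn : sqNorm (v : Vec) = 32) :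
    ∃ (g : G) (y : Q), g * val x = val x * g ∧ g * z * g⁻¹ = val y ∧ val y ≠ z := by
  classical
  obtain ⟨g, ⟨hC, hQ⟩, hne⟩ := hM.2.2.2.2
  let s : Q := ⟨⟨g * z * g⁻¹, hC⟩, hQ⟩
  obtain ⟨g1, hP⟩ := exists_pair hM hψ (x := s) (g := g) rfl hne
  obtain ⟨c, hc, hcz⟩ := z_mem hM hψ
  let X : AddSubgroup Vec :=
    { carrier := {w | ∃ hw : w ∈ leechLattice, ∃ y : Q, (y : Subgroup.centralizer ({z} : Set G)) ∈ inter Q g ∧
        ψ (g1 • (⟨w, hw⟩ : leechLattice)) = QuotientGroup.mk y}
      zero_mem' := ⟨zero_mem _, 1, one_mem _, by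
        rw [show g1 • (⟨0, zero_mem _⟩ : leechLattice) = 0 from
          Subtype.ext (by rw [← UPerp.ap_coe]; exact UPerp.ap_zero g1)]
        exact psi_zero hψ⟩
      add_mem' := fun {a b} ⟨ha, y, hy, ea⟩ ⟨hb, y', hy', eb⟩ => ⟨add_mem ha hb, y * y', mul_mem hy hy', by
        rw [QuotientGroup.mk_mul, ← ea, ← eb, ← hψ.1]
        exact congrArg ψ (g1.2.1 ⟨a, ha⟩ ⟨b, hb⟩)⟩
      neg_mem' := fun {a} ⟨ha, y, hy, ea⟩ => ⟨neg_mem ha, y⁻¹, inv_mem hy, by
        rw [QuotientGroup.mk_inv, ← ea]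
        refine eq_inv_of_mul_eq_one_left ?_
        rw [← hψ.1, ← linOf_eq_smul, ← linOf_eq_smul, ← map_add,
          show (⟨-a, neg_mem ha⟩ : leechLattice) + ⟨a, ha⟩ = 0 from Subtype.ext (neg_add_cancel a), map_zero, psi_zero hψ]⟩ }
  have hstab : ∀ k ∈ crossStab, ∀ w ∈ X, ap k w ∈ X := by
    rintro k hk w ⟨hw, y, hy, ey⟩
    obtain ⟨a, ha, hka⟩ := comm_of_stab hM hψ hP hk
    refine ⟨mem_iff.2 (UPerp.ap_isL k (mem_iff.1 hw)), cj a y, inter_conj hP.conj ha hy, ?_⟩
    have h0 : (QuotientGroup.mk (g1 * k * g1⁻¹) : Spor.Co1) = e (QuotientGroup.mk a) := by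
      rw [← proj_apply (e := e), hka]
    rw [← act hψ h0 ey, ← mul_smul, inv_mul_cancel_right, mul_smul]
    exact congrArg (fun u => ψ (g1 • u)) (Subtype.ext (UPerp.ap_coe k ⟨w, hw⟩))
  have hX : MonoPairs.InvN X := by
    refine ⟨fun w hw => mem_iff.1 hw.1, fun w hw => ?_, ?_, fun σ hσ w hw => ?_, fun o ho w hw => ?_⟩
    · refine ⟨mem_iff.2 (isL_add hw hw), 1, one_mem _, ?_⟩
      rw [QuotientGroup.mk_one, psi_eq_one_iff hψ, ← UPerp.ap_coe]
      refine ⟨ap g1 w, UPerp.ap_isL g1 hw, ?_⟩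
      show ap g1 (w + w) - 0 = _
      rw [sub_zero, UPerp.ap_add g1 hw hw]
    · refine ⟨mem_iff.2 (isL_pair _ _), s, (mem_inter _).2 ⟨c, by rw [hcz]⟩, ?_⟩
      rw [show (⟨F8, mem_iff.2 (isL_pair _ _)⟩ : leechLattice) = baseElt from
        Subtype.ext (Conway.pair_self none)]
      exact hP.lift
    · have hL := mem_iff.1 hw.1
      have h1 := hstab _ (MonoStab.permHom'_mem ⟨σ, hσ⟩) w hw
      rwa [show MonoStab.permHom' ⟨σ, hσ⟩ = permElt hσ from rfl, UPerp.ap_mk _ hL, permElt_apply] at h1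
    · have hL := mem_iff.1 hw.1
      have h1 := hstab _ (MonoStab.signs_le (MonoStab.flip_mem ho)) w hw
      rwa [UPerp.ap_mk _ hL, flipElt_apply] at h1
  obtain ⟨w, hw, hw0, hw8⟩ : ∃ w, w ∈ X ∧ ¬ Cong w 0 ∧ ¬ Cong w F8 := by
    by_contra hno
    push Not at hno
    have h13 := (counts hM hψ hP).1
    have hto : ∀ a : ↥(inter Q g ⊓ Q), (a : G) ∈ ({1, z, val s, val s * z} : Finset G) := by
      intro a
      let y : Q := ⟨a, a.2.2⟩
      obtain ⟨v', hv'⟩ := hψ.2.1 (QuotientGroup.mk y)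
      set u : leechLattice := g1⁻¹ • v' with hu
      have hgu : g1 • u = v' := by rw [hu, smul_inv_smul]
      have hmem : (u : Vec) ∈ X := ⟨u.2, y, a.2.1, by rw [show (⟨(u : Vec), u.2⟩ : leechLattice) = u from rfl, hgu, hv']⟩
      simp only [Finset.mem_insert, Finset.mem_singleton]
      by_cases h0 : Cong (u : Vec) 0
      · have h1 : ψ v' = 1 := by
          rw [psi_eq_one_iff hψ, ← hgu, ← UPerp.ap_coe]
          simpa [UPerp.ap_zero] using h0.ap isL_zero g1
        rw [hv', ← QuotientGroup.mk_one] at h1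
        rcases mk_eq_cases hM hψ h1.symm with h | h
        · exact Or.inl (h.trans val_one)
        · exact Or.inr (Or.inl (by rw [show (a : G) = val (1 : Q) * z from h, val_one, one_mul]))
      · have h8 := hno _ hmem h0
        have h1 : ψ v' = ψ (g1 • baseElt) := by
          rw [psi_eq_iff hψ, ← hgu, ← UPerp.ap_coe, ← UPerp.ap_coe]
          have h9 := h8.ap (isL_pair _ _) g1
          rw [show F8 = eightVec none from Conway.pair_self none] at h9
          simp only [← UPerp.ap_coe, hu] at h9 ⊢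
          exact h9
        rw [hv', hP.lift] at h1
        rcases mk_eq_cases hM hψ h1.symm with h | h
        · exact Or.inr (Or.inr (Or.inl h))
        · exact Or.inr (Or.inr (Or.inr h))
    have h4 := Nat.card_le_card_of_injective (fun a => (⟨_, hto a⟩ : ({1, z, val s, val s * z} : Finset G)))
      fun a b h => Subtype.ext (Subtype.ext (by simpa using congrArg Subtype.val h))
    rw [h13, Nat.card_eq_fintype_card, Fintype.card_coe] at h4
    have h5 : (({1, z, val s, val s * z} : Finset G)).card ≤ 4 := Finset.card_le_four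
    omega
  obtain ⟨hpL, y', hy', ey'⟩ := hX.pair_mem hw hw0 hw8 (some 1) (some 2)
  have hn' : sqNorm ((g1 • (⟨_, hpL⟩ : leechLattice) : leechLattice) : Vec) = 32 := by
    rw [← UPerp.ap_coe, UPerp.ap_norm g1 (mem_iff.1 hpL)]
    exact UPerp.bev_pair12.2.1
  obtain ⟨y0, hy0⟩ := (mem_inter _).1 hy'
  change g * val y0 * g⁻¹ = val y' at hy0
  have hy'c : IsConj (val y0) (val y') := isConj_iff.2 ⟨g, hy0⟩
  have hnc := not_conj32 hM hψ ey' hn'
  have hy02 : y0 ^ 2 = 1 := by
    have hq : y' ^ 2 = 1 := (sq_one_iff hM hψ ey').2 (by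
      rw [normForm, hn']; rfl)
    refine val_injective ?_
    have h1 : (g * val y0 * g⁻¹) ^ 2 = 1 := by rw [hy0]; exact congrArg val hq
    rw [conj_pow] at h1
    show (val y0) ^ 2 = 1
    exact conj_eq_one_iff.1 h1
  obtain ⟨u0, hu0 | hu0, eu0⟩ := exists_rep hM hψ hy02
    (fun h => not_center_of_short hψ ey' (by omega) (by omega) (by
      rw [val_injective (show val y' = val (1 : Q) by rw [← hy0, h, val_one]; group)]; exact one_mem _))
    (fun h => hnc (by rwa [h] at hy'c))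
  swap
  · exact absurd (((conj_iff hM hψ y0).2 ⟨u0, hu0, eu0⟩).1.trans hy'c) hnc
  obtain ⟨h2, hh2, e2⟩ := conj_same hM hψ ey' hx (hn'.trans hn.symm) (Or.inl hn')
  obtain ⟨h3, hh3, e3⟩ := conj_same hM hψ hx eu0 (hn.trans hu0.symm) (Or.inl hn)
  refine ⟨h2 * g * h3, cj ⟨h2, hh2⟩ s, mul_inv_eq_iff_eq_mul.1 ?_, ?_, ?_⟩
  · calc h2 * g * h3 * val x * (h2 * g * h3)⁻¹ = h2 * (g * (h3 * val x * h3⁻¹) * g⁻¹) * h2⁻¹ := by group
      _ = val x := by rw [e3, hy0, e2]
  · have hz3 : h3 * z = z * h3 := Subgroup.mem_centralizer_singleton_iff.1 hh3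
    calc h2 * g * h3 * z * (h2 * g * h3)⁻¹ = h2 * (g * (h3 * z * h3⁻¹) * g⁻¹) * h2⁻¹ := by group
      _ = h2 * val s * h2⁻¹ := by rw [hz3, mul_inv_cancel_right]; rfl
      _ = val (cj ⟨h2, hh2⟩ s) := (val_cj ⟨h2, hh2⟩ s).symm
  · intro h
    rw [val_cj] at h
    have hz2 : h2 * z = z * h2 := Subgroup.mem_centralizer_singleton_iff.1 hh2
    refine hne ?_
    show val s = z
    calc val s = h2⁻¹ * (h2 * val s * h2⁻¹) * h2 := by group
      _ = h2⁻¹ * (h2 * z) := by rw [hz2, mul_assoc, show h2 * val s * h2⁻¹ = z from h]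
      _ = z := by group

section Baby

variable {v : leechLattice} {x : Q} (hx : ψ v = QuotientGroup.mk x) (hn : sqNorm (v : Vec) = 32)

include hM hψ hx hn in
/-- The centralizer of the involution modulo it is of Baby Monster type. -/
theorem baby [hN : ((Subgroup.zpowers (val x)).subgroupOf (Subgroup.centralizer ({val x} : Set G))).Normal] :
    IsOfBabyMonsterType (↥(Subgroup.centralizer ({val x} : Set G)) ⧸
      (Subgroup.zpowers (val x)).subgroupOf (Subgroup.centralizer ({val x} : Set G))) := by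
  classical
  haveI : Fact (Nat.Prime 2) := ⟨Nat.prime_two⟩
  have hE := hM.2.2.1
  obtain ⟨c, hc, hcz⟩ := z_mem hM hψ
  have hzz : z * z = 1 := by rw [← sq, ← hM.1]; exact pow_orderOf_eq_one z
  have hxc : x ∉ Subgroup.center Q := not_center_of_short hψ hx (by omega) (by omega)
  have hxz : val x ≠ z := fun h => hxc (by rwa [val_injective (h.trans hcz.symm)])
  have hx1 : val x ≠ 1 := fun h => hxc (by rw [val_injective (h.trans val_one.symm)]; exact one_mem _)
  have hz1 : z ≠ 1 := fun h' => by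
    have h2 := hM.1
    rw [h', orderOf_one] at h2
    omega
  have hx2 : x ^ 2 = 1 := (sq_one_iff hM hψ hx).2 (by rw [normForm, hn]; rfl)
  have hxx : val x * val x = 1 := by rw [← val_mul, ← sq, hx2, val_one]
  have hncz : ¬ IsConj z (val x * z) := not_conj_mul hM hψ hx hn
  -- the subgroup of powers of the involution
  have hzp : ∀ a : G, a ∈ Subgroup.zpowers (val x) ↔ a = 1 ∨ a = val x := by
    intro a
    constructor
    · rintro ⟨n, rfl⟩
      rcases Int.even_or_odd n with ⟨j, hj⟩ | ⟨j, hj⟩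
      · left
        show val x ^ n = 1
        rw [hj, ← two_mul, zpow_mul, zpow_two, hxx, one_zpow]
      · right
        show val x ^ n = val x
        rw [hj, zpow_add, zpow_mul, zpow_two, hxx, one_zpow, one_mul, zpow_one]
    · rintro (rfl | rfl)
      exacts [one_mem _, Subgroup.mem_zpowers _]
  let T := Subgroup.centralizer ({val x} : Set G)
  let N := (Subgroup.zpowers (val x)).subgroupOf T
  have hmkeq : ∀ a b : T, (QuotientGroup.mk a : T ⧸ N) = QuotientGroup.mk b ↔
      (b : G) = (a : G) ∨ (b : G) = (a : G) * val x := by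
    intro a b
    rw [QuotientGroup.eq, Subgroup.mem_subgroupOf, Subgroup.coe_mul, InvMemClass.coe_inv, hzp,
      inv_mul_eq_one, inv_mul_eq_iff_eq_mul]
    exact or_congr eq_comm Iff.rfl
  have hzT : z ∈ T := Subgroup.mem_centralizer_singleton_iff.2 (val_comm x).symm
  let zT : T := ⟨z, hzT⟩
  let zb : T ⧸ N := QuotientGroup.mk zT
  let CC := Subgroup.centralizer ({z} : Set G)
  let D : Subgroup CC := Subgroup.centralizer {(x : CC)}
  have hD : ∀ d : CC, d ∈ D ↔ (d : G) * val x = val x * (d : G) := fun d => by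
    rw [Subgroup.mem_centralizer_singleton_iff, Subtype.ext_iff]; rfl
  have hDT : ∀ d : D, ((d : CC) : G) ∈ T := fun d =>
    Subgroup.mem_centralizer_singleton_iff.2 ((hD d).1 d.2)
  have hDC : ∀ d : D, (QuotientGroup.mk (⟨_, hDT d⟩ : T) : T ⧸ N) ∈ Subgroup.centralizer ({zb} : Set (T ⧸ N)) := by
    intro d
    rw [Subgroup.mem_centralizer_singleton_iff, ← QuotientGroup.mk_mul, ← QuotientGroup.mk_mul]
    congr 1
    exact Subtype.ext (Subgroup.mem_centralizer_singleton_iff.1 (d : CC).2)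
  let f : D →* Subgroup.centralizer ({zb} : Set (T ⧸ N)) :=
    MonoidHom.mk' (fun d => ⟨QuotientGroup.mk ⟨_, hDT d⟩, hDC d⟩) fun _ _ => rfl
  have hfe : ∀ a b : D, f a = f b ↔ ((b : CC) : G) = ((a : CC) : G) ∨ ((b : CC) : G) = ((a : CC) : G) * val x :=
    fun a b => by rw [Subtype.ext_iff]; exact hmkeq _ _
  have hfs : Function.Surjective f := by
    rintro ⟨q, hq⟩
    obtain ⟨a, rfl⟩ := QuotientGroup.mk_surjective q
    rw [Subgroup.mem_centralizer_singleton_iff, ← QuotientGroup.mk_mul, ← QuotientGroup.mk_mul] at hq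
    have ha : (a : G) ∈ CC := by
      refine Subgroup.mem_centralizer_singleton_iff.2 ?_
      rcases (hmkeq _ _).1 hq with h | h
      · exact h.symm
      · exfalso
        simp only [Subgroup.coe_mul] at h
        change z * (a : G) = (a : G) * z * val x at h
        refine hncz (isConj_iff.2 ⟨(a : G)⁻¹, ?_⟩)
        rw [inv_inv, mul_assoc, h, val_comm x]
        group
    exact ⟨⟨⟨(a : G), ha⟩, (hD _).2 (Subgroup.mem_centralizer_singleton_iff.1 a.2)⟩, rfl⟩
  let B : Subgroup D := Q.subgroupOf D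
  have hxD : (x : CC) ∈ D := (hD _).2 rfl
  have hker : f.ker ≤ B := by
    intro d hd
    rw [MonoidHom.mem_ker, ← map_one f, eq_comm, hfe] at hd
    show (d : CC) ∈ Q
    rcases hd with h | h
    · rw [show (d : CC) = 1 from Subtype.ext h]; exact one_mem _
    · rw [show (d : CC) = (x : CC) from Subtype.ext (h.trans (by rw [OneMemClass.coe_one, OneMemClass.coe_one, one_mul]; rfl))]
      exact x.2
  let R : Subgroup (Subgroup.centralizer ({zb} : Set (T ⧸ N))) := B.map f
  haveI hRn : R.Normal := Subgroup.Normal.map inferInstance f hfs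
  have hmemR : ∀ d : D, f d ∈ R ↔ (d : CC) ∈ Q := by
    intro d
    refine ⟨fun ⟨b, hb, hbd⟩ => ?_, fun hd => ⟨d, hd, rfl⟩⟩
    have hk : b⁻¹ * d ∈ f.ker := by rw [MonoidHom.mem_ker, map_mul, map_inv, hbd, inv_mul_cancel]
    have := mul_mem hb (hker hk)
    rwa [mul_inv_cancel_left] at this
  -- members of `Q` commuting with the involution
  have hcomB : ∀ b : Q, b * x = x * b → (b : CC) ∈ D := fun b hb => (hD _).2 (by
    show val b * val x = val x * val b
    rw [← val_mul, hb, val_mul])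
  have hBcom : ∀ b : D, ∀ hb : (b : CC) ∈ Q, (⟨(b : CC), hb⟩ : Q) * x = x * ⟨(b : CC), hb⟩ := fun b hb =>
    val_injective ((hD _).1 b.2)
  -- pairs commuting modulo the involution
  have hcenR : ∀ b : D, ∀ hb : (b : CC) ∈ Q, (∀ b' ∈ B, f b * f b' = f b' * f b) →
      (⟨(b : CC), hb⟩ : Q) ∈ Subgroup.center Q ⊔ Subgroup.zpowers x := by
    intro b hb hcom
    rw [← IsExtraspecial.centralizer_centralizer hE (A := Subgroup.center Q ⊔ Subgroup.zpowers x) le_sup_left]
    refine Subgroup.mem_centralizer_iff.2 fun b' hb' => ?_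
    have hb'x : b' * x = x * b' :=
      ((Subgroup.mem_centralizer_iff.1 hb') x (Subgroup.mem_sup_right (Subgroup.mem_zpowers x))).symm
    let d' : D := ⟨(b' : CC), hcomB b' hb'x⟩
    set a : Q := ⟨(b : CC), hb⟩ with ha
    rw [← commutatorElement_eq_one_iff_mul_comm]
    have h1 := hcom d' b'.2
    rw [← map_mul, ← map_mul, eq_comm, hfe] at h1
    rcases center_cases hM hψ (IsExtraspecial.comm_mem hE b' a) with h | h
    · exact val_injective (h.trans val_one.symm)
    · exfalso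
      have e1 : val (b' * a) = val ⁅b', a⁆ * val (a * b') := by
        rw [← val_mul, commutatorElement_def]; congr 1; group
      have e2 : val (a * b') = val (b' * a) ∨ val (a * b') = val (b' * a) * val x := h1
      rw [h] at e1
      rcases e2 with e2 | e2 <;> rw [e2] at e1
      · exact hz1 (mul_eq_right.1 e1.symm)
      · rw [← mul_assoc, ← val_comm (b' * a), mul_assoc] at e1
        have h2 : z * val x = 1 := left_eq_mul.1 e1
        refine hxz ?_
        rw [← mul_inv_eq_one, ← h2, inv_eq_of_mul_eq_one_right hzz, val_comm x]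
  have hA0 : ∀ a : Q, a ∈ Subgroup.center Q ⊔ Subgroup.zpowers x → ∀ d : D, (d : CC) = (a : CC) →
      f d = 1 ∨ f d = f ⟨(c : CC), hcomB c (Subgroup.mem_center_iff.1 hc x).symm⟩ := by
    intro a ha d hd
    obtain ⟨a1, ha1, a2, ha2, rfl⟩ := Subgroup.mem_sup_of_normal_left.1 ha
    have hval : val a2 = 1 ∨ val a2 = val x := by
      obtain ⟨n, rfl⟩ := Subgroup.mem_zpowers_iff.1 ha2
      refine (hzp _).1 ⟨n, ?_⟩
      show val x ^ n = val (x ^ n)
      simp [val]
    have hdv : ((d : CC) : G) = val a1 * val a2 := by rw [hd, ← val_mul]; rfl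
    rcases center_cases hM hψ ha1 with h | h <;> rw [h] at hdv
    · left
      rw [← map_one f, eq_comm, hfe, OneMemClass.coe_one, OneMemClass.coe_one, one_mul]
      rw [one_mul] at hdv
      exact hdv ▸ hval
    · right
      rw [eq_comm, hfe]
      show ((d : CC) : G) = val c ∨ ((d : CC) : G) = val c * val x
      rw [hcz, hdv]
      rcases hval with h' | h' <;> rw [h']
      · exact Or.inl (mul_one z)
      · exact Or.inr rfl
  let zd : D := ⟨(c : CC), hcomB c (Subgroup.mem_center_iff.1 hc x).symm⟩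
  have hzd1 : f zd ≠ 1 := by
    rw [Ne, ← map_one f, eq_comm, hfe, OneMemClass.coe_one, OneMemClass.coe_one, one_mul]
    show ¬ (val c = 1 ∨ val c = val x)
    rw [hcz, not_or]
    exact ⟨hz1, Ne.symm hxz⟩
  let zR : R := ⟨f zd, zd, c.2, rfl⟩
  have hzRc : zR ∈ Subgroup.center R := by
    refine Subgroup.mem_center_iff.2 ?_
    rintro ⟨_, b, hb, rfl⟩
    refine Subtype.ext ?_
    show f b * f zd = f zd * f b
    rw [← map_mul, ← map_mul]
    congr 1
    refine Subtype.ext (Subtype.ext ?_)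
    show ((b : CC) : G) * val c = val c * ((b : CC) : G)
    rw [hcz]
    exact Subgroup.mem_centralizer_singleton_iff.1 (b : CC).2
  have hcenter : ∀ r : R, r ∈ Subgroup.center R → r = 1 ∨ r = zR := by
    rintro ⟨_, b, hb, rfl⟩ hr
    have h1 := hA0 _ (hcenR b hb fun b' hb' => by
      have := congrArg Subtype.val (Subgroup.mem_center_iff.1 hr ⟨f b', b', hb', rfl⟩)
      exact this.symm) b rfl
    exact h1.imp (fun h => Subtype.ext h) fun h => Subtype.ext h
  have hcZ : Nat.card (Subgroup.center R) = 2 := by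
    refine (Nat.card_eq_two_iff' (1 : Subgroup.center R)).2 ⟨⟨zR, hzRc⟩, ?_, ?_⟩
    · exact fun h => hzd1 (congrArg (fun w : Subgroup.center R => ((w : R) : Subgroup.centralizer ({zb} : Set (T ⧸ N)))) h)
    · rintro ⟨r, hr⟩ hne
      exact Subtype.ext ((hcenter r hr).resolve_left fun h => hne (Subtype.ext h))
  -- the orders
  have hcardR : Nat.card R = 2 ^ 23 := by
    have hB24 : Nat.card B = 2 ^ 24 := by
      have h1 := Subgroup.card_mul_index (Subgroup.centralizer ({x} : Set Q))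
      rw [IsExtraspecial.index_centralizer_singleton hE hxc, hM.2.2.2.1] at h1
      have h2 : Nat.card ↥(Subgroup.centralizer ({x} : Set Q)) = 2 ^ 24 := by
        norm_num at h1 ⊢
        omega
      rw [← h2]
      refine Nat.card_congr ⟨fun b => ⟨⟨((b : D) : CC), b.2⟩, Subgroup.mem_centralizer_singleton_iff.2 (hBcom b.1 b.2)⟩,
        fun q => ⟨⟨(q.1 : CC), hcomB q.1 (Subgroup.mem_centralizer_singleton_iff.1 q.2)⟩, q.1.2⟩,
        fun _ => rfl, fun _ => rfl⟩
    have hkcard : Nat.card f.ker = 2 := by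
      refine (Nat.card_eq_two_iff' (1 : f.ker)).2 ⟨⟨⟨(x : CC), hxD⟩, ?_⟩, ?_, ?_⟩
      · rw [MonoidHom.mem_ker, ← map_one f, eq_comm, hfe, OneMemClass.coe_one, OneMemClass.coe_one, one_mul]
        exact Or.inr rfl
      · exact fun h => hx1 (congrArg (fun w : f.ker => (((w : D) : CC) : G)) h)
      · rintro ⟨d, hd⟩ hne
        rw [MonoidHom.mem_ker, ← map_one f, eq_comm, hfe, OneMemClass.coe_one, OneMemClass.coe_one, one_mul] at hd
        refine Subtype.ext (Subtype.ext (Subtype.ext (hd.resolve_left fun h => hne ?_)))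
        exact Subtype.ext (Subtype.ext (Subtype.ext h))
    have h3 := Subgroup.card_mul_index (f.comp B.subtype).ker
    rw [Subgroup.index_ker, MonoidHom.range_comp, Subgroup.range_subtype, hB24] at h3
    have hk2 : Nat.card (f.comp B.subtype).ker = 2 := by
      rw [← hkcard]
      exact Nat.card_congr ⟨fun b => ⟨b.1.1, b.2⟩, fun d => ⟨⟨d.1, hker d.2⟩, d.2⟩, fun _ => rfl, fun _ => rfl⟩
    rw [hk2] at h3
    have h4 : 2 * Nat.card R = 2 * 2 ^ 23 := by
      rw [show Nat.card R = Nat.card ↥(B.map f) from rfl, h3]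
      norm_num
    exact Nat.eq_of_mul_eq_mul_left (by norm_num) h4
  have hRp : IsPGroup 2 R := IsPGroup.of_card hcardR
  have hES : IsExtraspecial 2 R := by
    refine CfsgLib.PGroups.isExtraspecial_of hRp ?_ hcZ ?_ ?_
    · intro hab
      have h : Subgroup.center R = ⊤ := eq_top_iff.2 fun r _ => Subgroup.mem_center_iff.2 fun r' => hab.1.1 r' r
      rw [h, Subgroup.card_top, hcardR] at hcZ
      norm_num at hcZ
    · rw [commutator_def, Subgroup.commutator_le]
      rintro ⟨_, a, ha, rfl⟩ - ⟨_, b, hb, rfl⟩ -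
      rcases center_cases hM hψ (IsExtraspecial.comm_mem hE (⟨(a : CC), ha⟩ : Q) ⟨(b : CC), hb⟩) with h | h
      · convert one_mem (Subgroup.center R)
        refine Subtype.ext ?_
        show ⁅f a, f b⁆ = 1
        rw [← map_commutatorElement, ← map_one f]
        congr 1
        exact Subtype.ext (Subtype.ext h)
      · convert hzRc
        refine Subtype.ext ?_
        show ⁅f a, f b⁆ = f zd
        rw [← map_commutatorElement]
        congr 1
        exact Subtype.ext (Subtype.ext (h.trans hcz.symm))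
    · rintro ⟨_, a, ha, rfl⟩
      rcases center_cases hM hψ (IsExtraspecial.pow_mem_center hE (⟨(a : CC), ha⟩ : Q)) with h | h
      · convert one_mem (Subgroup.center R)
        refine Subtype.ext ?_
        show f a ^ 2 = 1
        rw [← map_pow, ← map_one f]
        congr 1
        exact Subtype.ext (Subtype.ext h)
      · convert hzRc
        refine Subtype.ext ?_
        show f a ^ 2 = f zd
        rw [← map_pow]
        congr 1
        exact Subtype.ext (Subtype.ext (h.trans hcz.symm))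
  -- seen from the lattice
  let u : leechLattice := ⟨U, mem_iff.2 UPerp.isL_U⟩
  have hUu : (u : Vec) = U := rfl
  obtain ⟨g1, hg1⟩ : ∃ g1 : Co0, g1 • u = v :=
    Conway.exists_smul_of_rel (Conway.orbit32 u.2 UPerp.bev_pair12.2.2.1) (Conway.orbit32 v.2 hn)
  have hgU : ∀ g2 : Co0, ∀ w : leechLattice, g2 • w = v → ∀ d : D, ∀ k : Co0,
      (QuotientGroup.mk (g2 * k * g2⁻¹) : Spor.Co1) = e (QuotientGroup.mk (d : CC)) →
        Cong (ap k (w : Vec)) (w : Vec) := by
    intro g2 w hw d k hk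
    have h1 := act hψ hk hx
    rw [show cj (d : CC) x = x from val_injective (by rw [val_cj, (hD _).1 d.2, mul_inv_cancel_right]), ← hx,
      ← hw, ← mul_smul, inv_mul_cancel_right, psi_eq_iff hψ, ← UPerp.ap_coe, ← UPerp.ap_coe] at h1
    have hL := mem_iff.1 w.2
    have h2 := h1.ap (UPerp.ap_isL g2 hL) g2⁻¹
    rwa [← UPerp.ap_mul _ _ hL, inv_mul_cancel_left, UPerp.ap_inv' g2 hL] at h2
  have hlift : ∀ g2 : Co0, ∀ w : leechLattice, g2 • w = v → ∀ k : Co0, k • w = w →
      ∃ d : D, (QuotientGroup.mk (g2 * k * g2⁻¹) : Spor.Co1) = e (QuotientGroup.mk (d : CC)) := by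
    intro g2 w hw k hk
    obtain ⟨h, hh⟩ := exists_lift e (g2 * k * g2⁻¹)
    have h1 := act hψ hh hx
    rw [← hw, ← mul_smul, inv_mul_cancel_right, mul_smul, hk, hw, hx] at h1
    rcases mk_eq_cases hM hψ h1 with h2 | h2 <;> rw [val_cj] at h2
    · exact ⟨⟨h, (hD _).2 (mul_inv_eq_iff_eq_mul.1 h2)⟩, hh⟩
    obtain ⟨q, hq⟩ := swap hM hψ hxc
    refine ⟨⟨(q : CC) * h, (hD _).2 (mul_inv_eq_iff_eq_mul.1 ?_)⟩, ?_⟩
    · rw [Subgroup.coe_mul]
      change val q * (h : G) * val x * (val q * (h : G))⁻¹ = val x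
      calc val q * (h : G) * val x * (val q * (h : G))⁻¹
          = val q * ((h : G) * val x * (h : G)⁻¹) * (val q)⁻¹ := by group
        _ = val q * val x * (val q)⁻¹ * (val q * z * (val q)⁻¹) := by rw [h2]; group
        _ = val x * z * z := by rw [hq, val_comm q, mul_inv_cancel_right]
        _ = val x := by rw [mul_assoc, hzz, mul_one]
    · show _ = e (QuotientGroup.mk ((q : CC) * h))
      rw [QuotientGroup.mk_mul (N := Q) (q : CC) h, (QuotientGroup.eq_one_iff (q : CC)).2 q.2, one_mul]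
      exact hh
  have hcentral : ∀ (g2 k : Co0) (d : CC), k ∈ Subgroup.center ↥Co0 →
      (QuotientGroup.mk (g2 * k * g2⁻¹) : Spor.Co1) = e (QuotientGroup.mk d) → d ∈ Q := by
    intro g2 k d hk h
    rw [(QuotientGroup.eq_one_iff _).2 (Subgroup.Normal.conj_mem inferInstance k hk g2)] at h
    exact (QuotientGroup.eq_one_iff _).1 (e.map_eq_one_iff.1 h.symm)
  have hget : ∀ (g2 : Co0) (d : CC), ∃ k : Co0,
      (QuotientGroup.mk (g2 * k * g2⁻¹) : Spor.Co1) = e (QuotientGroup.mk d) := by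
    intro g2 d
    obtain ⟨k, hk⟩ := QuotientGroup.mk_surjective (e (QuotientGroup.mk d))
    exact ⟨g2⁻¹ * k * g2, by rw [← hk]; congr 1; group⟩
  -- the centralizer of `R`
  have hCR : ∀ q : Subgroup.centralizer ({zb} : Set (T ⧸ N)), (∀ r ∈ R, q * r = r * q) → q ∈ R := by
    intro q hq
    obtain ⟨d, rfl⟩ := hfs q
    rw [hmemR]
    obtain ⟨k, hk⟩ := hget g1 (d : CC)
    refine hcentral g1 k _ (UPerp.central_of_perp (hgU g1 u hg1 d k hk) fun w hw hwu => ?_) hk
    obtain ⟨b, hb⟩ := QuotientGroup.mk_surjective (ψ (g1 • (⟨w, mem_iff.2 hw⟩ : leechLattice)))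
    have hbx : b * x = x * b := by
      refine commute_of_bev hM hψ hb.symm hx ?_
      rw [← hg1, ← UPerp.ap_coe, ← UPerp.ap_coe]
      exact UPerp.bev_ap hw UPerp.isL_U hwu
    let b' : D := ⟨(b : CC), hcomB b hbx⟩
    have h1 := hq (f b') ⟨b', b.2, rfl⟩
    rw [← map_mul, ← map_mul, eq_comm, hfe] at h1
    have h2 := act hψ hk hb.symm
    rw [← mul_smul, inv_mul_cancel_right, mul_smul] at h2
    have hv2 : val (cj (d : CC) b) = val b ∨ val (cj (d : CC) b) = val b * val x := by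
      change ((d : CC) : G) * val b = val b * ((d : CC) : G) ∨
        ((d : CC) : G) * val b = val b * ((d : CC) : G) * val x at h1
      rcases h1 with h | h
      · left; rw [val_cj, h, mul_inv_cancel_right]
      · right
        rw [val_cj, h, mul_assoc (val b), (hD _).1 d.2]
        group
    rcases hv2 with h | h
    · left
      rw [val_injective h, hb, psi_eq_iff hψ, ← UPerp.ap_coe, ← UPerp.ap_coe, ← UPerp.ap_coe] at h2
      have h3 := h2.ap (UPerp.ap_isL g1 hw) g1⁻¹
      rw [UPerp.ap_inv' g1 (UPerp.ap_isL k hw), UPerp.ap_inv' g1 hw] at h3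
      obtain ⟨r, hr, er⟩ := h3
      exact ⟨r, hr, by rw [sub_zero, er]⟩
    · right
      rw [show cj (d : CC) b = b * x from val_injective (h.trans (val_mul b x).symm), QuotientGroup.mk_mul, hb,
        ← hx, ← hψ.1, psi_eq_iff hψ, AddSubgroup.coe_add, ← hg1, ← UPerp.ap_coe, ← UPerp.ap_coe,
        ← UPerp.ap_coe, ← UPerp.ap_coe] at h2
      have h3 := h2.ap (isL_add (UPerp.ap_isL g1 hw) (UPerp.ap_isL g1 UPerp.isL_U)) g1⁻¹
      rw [UPerp.ap_inv' g1 (UPerp.ap_isL k hw),
        UPerp.ap_add _ (UPerp.ap_isL g1 hw) (UPerp.ap_isL g1 UPerp.isL_U),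
        UPerp.ap_inv' g1 hw, UPerp.ap_inv' g1 UPerp.isL_U] at h3
      obtain ⟨r, hr, er⟩ := h3
      exact ⟨r, hr, by rw [← er]; abel⟩
  -- the largest normal 2-subgroup
  have hO2 : Cfsg.pCore 2 ↥(Subgroup.centralizer ({zb} : Set (T ⧸ N))) = R := by
    refine le_antisymm ?_ (le_sSup ⟨hRn, hRp⟩)
    haveI := CfsgLib.HallGen.pCore_normal' (G := ↥(Subgroup.centralizer ({zb} : Set (T ⧸ N)))) 2
    set P := Cfsg.pCore 2 ↥(Subgroup.centralizer ({zb} : Set (T ⧸ N))) with hP
    have hPp : IsPGroup 2 P := CfsgLib.HallGen.isPGroup_pCore 2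
    intro q hq
    obtain ⟨d, rfl⟩ := hfs q
    rw [hmemR]
    let K : Subgroup Co0 :=
      { carrier := {k | ∃ a ∈ P.comap f, (QuotientGroup.mk (g1 * k * g1⁻¹) : Spor.Co1) = e (QuotientGroup.mk (a : CC))}
        one_mem' := ⟨1, one_mem _, by simp⟩
        mul_mem' := fun {k l} ⟨a, ha, hka⟩ ⟨b, hb, hlb⟩ => ⟨a * b, mul_mem ha hb, by
          rw [show g1 * (k * l) * g1⁻¹ = (g1 * k * g1⁻¹) * (g1 * l * g1⁻¹) by group, QuotientGroup.mk_mul,
            hka, hlb, Subgroup.coe_mul, QuotientGroup.mk_mul, map_mul]⟩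
        inv_mem' := fun {k} ⟨a, ha, hka⟩ => ⟨a⁻¹, inv_mem ha, by
          rw [show g1 * k⁻¹ * g1⁻¹ = (g1 * k * g1⁻¹)⁻¹ by group, QuotientGroup.mk_inv, hka,
            InvMemClass.coe_inv, QuotientGroup.mk_inv, map_inv]⟩ }
    haveI : Finite ↥Co0 := Nat.finite_of_card_ne_zero (by rw [Conway.card_Co0]; norm_num)
    have hKp : IsPGroup 2 K := by
      rintro ⟨k, a, ha, hka⟩
      obtain ⟨n, hn'⟩ := hPp ⟨f a, ha⟩
      have h1 : f (a ^ (2 ^ n)) = 1 := by rw [map_pow]; exact congrArg Subtype.val hn'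
      have h2 : ((a ^ (2 ^ n) : D) : CC) ∈ Q := hker h1
      have h3 : k ^ (2 ^ n) ∈ Subgroup.center ↥Co0 := by
        have h4 : (QuotientGroup.mk (g1 * k ^ (2 ^ n) * g1⁻¹) : Spor.Co1) = 1 := by
          rw [← conj_pow, QuotientGroup.mk_pow, hka, ← map_pow, ← QuotientGroup.mk_pow, ← SubmonoidClass.coe_pow,
            (QuotientGroup.eq_one_iff _).2 h2, map_one]
        have h5 := Subgroup.Normal.conj_mem inferInstance _ ((QuotientGroup.eq_one_iff _).1 h4) g1⁻¹
        rwa [show g1⁻¹ * (g1 * k ^ (2 ^ n) * g1⁻¹) * g1⁻¹⁻¹ = k ^ (2 ^ n) by group] at h5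
      have h6 : (⟨k ^ (2 ^ n), h3⟩ : Subgroup.center ↥Co0) ^ 2 = 1 := by
        have h8 := pow_card_eq_one' (G := Subgroup.center ↥Co0) (x := ⟨k ^ (2 ^ n), h3⟩)
        rwa [Conway.card_center] at h8
      have h7 := congrArg Subtype.val h6
      simp only [Subgroup.coe_pow, Subgroup.coe_one] at h7
      exact ⟨n + 1, Subtype.ext (by rw [Subgroup.coe_pow, Subgroup.coe_one, pow_succ, pow_mul]; exact h7)⟩
    obtain ⟨n, hn'⟩ := IsPGroup.iff_card.1 hKp
    have hKc := UPerp.stab_two_core K hn' (fun k ⟨a, ha, hka⟩ => hgU g1 u hg1 a k hka)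
      (fun g0 hg0 k ⟨a, ha, hka⟩ => by
        obtain ⟨b, hb⟩ := hlift g1 u hg1 g0 (Subtype.ext (by rw [← UPerp.ap_coe]; exact hg0))
        refine ⟨b * a * b⁻¹, Subgroup.Normal.conj_mem inferInstance a ha b, ?_⟩
        rw [show g1 * (g0 * k * g0⁻¹) * g1⁻¹ = (g1 * g0 * g1⁻¹) * (g1 * k * g1⁻¹) * (g1 * g0 * g1⁻¹)⁻¹ by group,
          QuotientGroup.mk_mul, QuotientGroup.mk_mul, QuotientGroup.mk_inv, hb, hka, Subgroup.coe_mul,
          Subgroup.coe_mul, InvMemClass.coe_inv, QuotientGroup.mk_mul, QuotientGroup.mk_mul,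
          QuotientGroup.mk_inv, map_mul, map_mul, map_inv])
    obtain ⟨k, hk⟩ := hget g1 (d : CC)
    exact hcentral g1 k _ (hKc ⟨d, hq, hk⟩) hk
  have hF : generalizedFittingSubgroup (Subgroup.centralizer ({zb} : Set (T ⧸ N))) = R := by
    rw [CfsgLib.Components.gFitting_eq_pCore_of_charP (p := 2) ?_, hO2]
    rw [hO2]
    intro q hq
    exact hCR q fun r hr => (Subgroup.mem_centralizer_iff.1 hq r hr).symm
  -- a further conjugate
  have hnwc : ∃ h : T ⧸ N, (∃ hq : h * zb * h⁻¹ ∈ Subgroup.centralizer ({zb} : Set (T ⧸ N)),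
      (⟨h * zb * h⁻¹, hq⟩ : Subgroup.centralizer ({zb} : Set (T ⧸ N))) ∈ R) ∧ h * zb * h⁻¹ ≠ zb := by
    obtain ⟨g, y, hgx, hgz, hyz⟩ := exists_conj_fix hM hψ hx hn
    have hgT : g ∈ T := Subgroup.mem_centralizer_singleton_iff.2 hgx
    have hyx : y * x = x * y := by
      refine val_injective ?_
      rw [val_mul, val_mul, ← hgz]
      have hgi : g⁻¹ * val x = val x * g⁻¹ := by
        calc g⁻¹ * val x = g⁻¹ * (val x * g) * g⁻¹ := by group
          _ = val x * g⁻¹ := by rw [← hgx]; group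
      calc g * z * g⁻¹ * val x = g * (z * val x) * g⁻¹ := by rw [mul_assoc, hgi]; group
        _ = g * val x * z * g⁻¹ := by rw [← val_comm x]; group
        _ = val x * (g * z * g⁻¹) := by rw [hgx]; group
    let d : D := ⟨(y : CC), hcomB y hyx⟩
    have he : (QuotientGroup.mk (⟨g, hgT⟩ : T) : T ⧸ N) * zb * (QuotientGroup.mk (⟨g, hgT⟩ : T))⁻¹ = (f d).1 := by
      rw [← QuotientGroup.mk_inv, ← QuotientGroup.mk_mul, ← QuotientGroup.mk_mul]
      congr 1
      exact Subtype.ext hgz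
    refine ⟨QuotientGroup.mk ⟨g, hgT⟩, ?_, ?_⟩
    · have hq' : (QuotientGroup.mk (⟨g, hgT⟩ : T) : T ⧸ N) * zb * (QuotientGroup.mk (⟨g, hgT⟩ : T))⁻¹ ∈
          Subgroup.centralizer ({zb} : Set (T ⧸ N)) := he ▸ (f d).2
      refine ⟨hq', ?_⟩
      have : (⟨_, hq'⟩ : Subgroup.centralizer ({zb} : Set (T ⧸ N))) = f d := Subtype.ext he
      rw [this, hmemR]
      exact y.2
    · rw [he]
      show (QuotientGroup.mk (⟨_, hDT d⟩ : T) : T ⧸ N) ≠ QuotientGroup.mk zT
      rw [Ne, eq_comm, hmkeq]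
      show ¬ (val y = z ∨ val y = z * val x)
      rw [not_or]
      refine ⟨hyz, fun h => hncz ?_⟩
      rw [val_comm x, ← h, ← hgz]
      exact isConj_iff.2 ⟨g, rfl⟩
  have hzb2 : orderOf zb = 2 := by
    refine orderOf_eq_prime ?_ fun h => ?_
    · rw [sq, ← QuotientGroup.mk_mul, ← QuotientGroup.mk_one]
      congr 1
      exact Subtype.ext hzz
    · rw [← QuotientGroup.mk_one, eq_comm, hmkeq] at h
      rcases h with h | h
      · exact hz1 h
      · exact hxz (h.trans (one_mul _)).symm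
  -- the second Conway group
  obtain ⟨g3, hg3⟩ : ∃ g3 : Co0, g3 • Spor.leechU = v :=
    Conway.exists_smul_of_rel (Conway.orbit32 Spor.leechU.2 (by decide +kernel)) (Conway.orbit32 v.2 hn)
  let ι : Spor.Co2 →* Co0 := Subgroup.inclusion inf_le_left
  have hιU : ∀ k : Spor.Co2, ι k • Spor.leechU = Spor.leechU := fun k => k.2.2
  choose L hL using fun k : Spor.Co2 => hlift g3 Spor.leechU hg3 (ι k) (hιU k)
  have huniq : ∀ (a b : D), (QuotientGroup.mk (a : CC) : CC ⧸ Q) = QuotientGroup.mk (b : CC) →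
      (QuotientGroup.mk (f a) : Subgroup.centralizer ({zb} : Set (T ⧸ N)) ⧸ R) = QuotientGroup.mk (f b) := by
    intro a b h
    rw [QuotientGroup.eq, ← map_inv, ← map_mul, hmemR]
    exact QuotientGroup.eq.1 h
  let Φ : Spor.Co2 →* Subgroup.centralizer ({zb} : Set (T ⧸ N)) ⧸ R :=
    MonoidHom.mk' (fun k => QuotientGroup.mk (f (L k))) fun k l => by
      rw [← QuotientGroup.mk_mul, ← map_mul]
      refine huniq _ _ (e.injective ?_)
      rw [Subgroup.coe_mul, QuotientGroup.mk_mul (N := Q), map_mul e, ← hL, ← hL, ← hL,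
        ← QuotientGroup.mk_mul, map_mul]
      congr 1
      group
  have hΦ : Function.Bijective Φ := by
    constructor
    · rw [injective_iff_map_eq_one]
      intro k hk
      have h1 : ((L k : D) : CC) ∈ Q := (hmemR _).1 ((QuotientGroup.eq_one_iff _).1 hk)
      have h2 := hL k
      rw [(QuotientGroup.eq_one_iff _).2 h1, map_one, QuotientGroup.eq_one_iff] at h2
      have h3 := Subgroup.Normal.conj_mem inferInstance _ h2 g3⁻¹
      rw [show g3⁻¹ * (g3 * ι k * g3⁻¹) * g3⁻¹⁻¹ = ι k by group] at h3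
      have h4 : ι k ∈ (Subgroup.center ↥Co0 : Set ↥Co0) := h3
      rw [Conway.center_eq] at h4
      rcases h4 with h4 | h4
      · exact Subgroup.inclusion_injective inf_le_left (h4.trans (map_one ι).symm)
      · exfalso
        have h5 := hιU k
        rw [show ι k = Conway.negElt from h4, Conway.negElt_smul] at h5
        have h6 := congrFun (congrArg Subtype.val h5) none
        simp [Spor.leechU, Spor.vecU] at h6
    · intro q
      obtain ⟨p, rfl⟩ := QuotientGroup.mk_surjective q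
      obtain ⟨d, rfl⟩ := hfs p
      obtain ⟨k, hk⟩ := hget g3 (d : CC)
      obtain ⟨r, hr, er⟩ := hgU g3 Spor.leechU hg3 d k hk
      have hnU : sqNorm (Spor.leechU : Vec) = 32 := by decide +kernel
      have hLU := mem_iff.1 Spor.leechU.2
      have hcase := (short_congr (v := ap k (Spor.leechU : Vec)) hLU hr
        (by rw [UPerp.ap_norm k hLU, hnU]; norm_num) (by rw [hnU]; norm_num) (by rw [two_smul]; exact er)).2
        (by rw [UPerp.ap_norm k hLU, hnU]; norm_num)
      have hfix : ∃ k' : Co0, k' • Spor.leechU = Spor.leechU ∧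
          (QuotientGroup.mk (g3 * k' * g3⁻¹) : Spor.Co1) = e (QuotientGroup.mk (d : CC)) := by
        rcases hcase with h | h
        · exact ⟨k, Subtype.ext (by rw [← UPerp.ap_coe]; exact h.symm), hk⟩
        · refine ⟨Conway.negElt * k, Subtype.ext ?_, ?_⟩
          · rw [mul_smul, Conway.negElt_smul, AddSubgroup.coe_neg, ← UPerp.ap_coe]; exact h.symm
          · have hc : Conway.negElt ∈ Subgroup.center ↥Co0 := by
              have : Conway.negElt ∈ (Subgroup.center ↥Co0 : Set ↥Co0) := by rw [Conway.center_eq]; exact Or.inr rfl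
              exact this
            rw [← hk, show g3 * (Conway.negElt * k) * g3⁻¹ = g3 * Conway.negElt * g3⁻¹ * (g3 * k * g3⁻¹) by group,
              QuotientGroup.mk_mul, (QuotientGroup.eq_one_iff _).2 (Subgroup.Normal.conj_mem inferInstance _ hc g3),
              one_mul]
      obtain ⟨k', hk', hk'd⟩ := hfix
      refine ⟨⟨k'.1, k'.2, hk'⟩, huniq _ _ (e.injective ?_)⟩
      rw [← hL]
      exact hk'd
  let e' := (MulEquiv.ofBijective Φ hΦ).symm
  -- the module
  have hperp : ∀ w : leechPerpU, ∃ b : R, ∃ q : Q, ψ (g3 • (w : leechLattice)) = QuotientGroup.mk q ∧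
      ∃ hq : (q : CC) ∈ D, (b : Subgroup.centralizer ({zb} : Set (T ⧸ N))) = f ⟨(q : CC), hq⟩ := by
    intro w
    obtain ⟨q, hq⟩ := QuotientGroup.mk_surjective (ψ (g3 • (w : leechLattice)))
    have hqx : q * x = x * q := by
      refine commute_of_bev hM hψ hq.symm hx ?_
      rw [← hg3, ← UPerp.ap_coe, ← UPerp.ap_coe]
      exact UPerp.bev_ap (mem_iff.1 (w : leechLattice).2) (mem_iff.1 Spor.leechU.2) w.2
    exact ⟨⟨f ⟨(q : CC), hcomB q hqx⟩, ⟨(q : CC), hcomB q hqx⟩, q.2, rfl⟩, q, hq.symm, hcomB q hqx, rfl⟩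
  choose P q hq hqD hPq using hperp
  let ψ' : leechPerpU → R ⧸ Subgroup.center R := fun w => QuotientGroup.mk (P w)
  -- independence of the lift
  have hwd : ∀ (a b : D) (ha : (a : CC) ∈ Q) (hb : (b : CC) ∈ Q) (ra rb : R),
      (ra : Subgroup.centralizer ({zb} : Set (T ⧸ N))) = f a → (rb : Subgroup.centralizer ({zb} : Set (T ⧸ N))) = f b →
      (QuotientGroup.mk (⟨(a : CC), ha⟩ : Q) : Q ⧸ Subgroup.center Q) = QuotientGroup.mk ⟨(b : CC), hb⟩ →
      (QuotientGroup.mk ra : R ⧸ Subgroup.center R) = QuotientGroup.mk rb := by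
    intro a b ha hb ra rb hra hrb h
    rw [QuotientGroup.eq]
    rcases mk_eq_cases hM hψ h with h' | h'
    · have : ra = rb := Subtype.ext (by rw [hra, hrb]; congr 1; exact (Subtype.ext (Subtype.ext h') : b = a).symm)
      rw [this, inv_mul_cancel]
      exact one_mem _
    · have : rb = ra * zR := Subtype.ext (by
        show (rb : Subgroup.centralizer ({zb} : Set (T ⧸ N))) = ra * f zd
        rw [hra, hrb, ← map_mul]
        congr 1
        exact Subtype.ext (Subtype.ext (h'.trans (congrArg (val (⟨(a : CC), ha⟩ : Q) * ·) hcz.symm))))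
      rw [this, inv_mul_cancel_left]
      exact hzRc
  refine ⟨zb, R, hRn, ⟨hzb2, hF, hES, hcardR.trans (by norm_num), hnwc⟩, e', ψ', ?_, ?_, ?_, ?_⟩
  · intro a b
    have hsum : ψ (g3 • ((a + b : leechPerpU) : leechLattice)) = QuotientGroup.mk (q a * q b) := by
      rw [AddSubgroup.coe_add, show g3 • ((a : leechLattice) + b) = g3 • (a : leechLattice) + g3 • (b : leechLattice) from
        g3.2.1 _ _, hψ.1, hq, hq, QuotientGroup.mk_mul]
    rw [hq] at hsum
    show (QuotientGroup.mk (P (a + b)) : R ⧸ Subgroup.center R) = QuotientGroup.mk (P a) * QuotientGroup.mk (P b)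
    rw [← QuotientGroup.mk_mul]
    exact hwd ⟨_, hqD (a + b)⟩ (⟨_, hqD a⟩ * ⟨_, hqD b⟩) (q (a + b)).2 (mul_mem (q a).2 (q b).2) _ _
      (hPq _) (by rw [Subgroup.coe_mul, hPq, hPq, map_mul]) hsum
  · intro r
    obtain ⟨⟨_, b, hb, rfl⟩, rfl⟩ := QuotientGroup.mk_surjective r
    obtain ⟨v', hv'⟩ := hψ.2.1 (QuotientGroup.mk (⟨(b : CC), hb⟩ : Q))
    have hwperp : g3⁻¹ • v' ∈ leechPerpU := by
      have h1 := bev_of_commute hM hψ hv' hx (hBcom b hb)
      show (16 : ℤ) ∣ dotInt ((g3⁻¹ • v' : leechLattice) : Vec) (Spor.leechU : Vec)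
      have h2 := UPerp.bev_ap (g := g3⁻¹) (mem_iff.1 v'.2) (mem_iff.1 v.2) h1
      rwa [UPerp.ap_coe, UPerp.ap_coe, show g3⁻¹ • v = Spor.leechU by rw [← hg3, inv_smul_smul]] at h2
    refine ⟨⟨_, hwperp⟩, hwd ⟨_, hqD _⟩ b (q _).2 hb _ _ (hPq _) rfl ?_⟩
    rw [← hv', show (⟨((q ⟨_, hwperp⟩ : Q) : CC), (q ⟨_, hwperp⟩).2⟩ : Q) = q ⟨_, hwperp⟩ from rfl, ← hq]
    exact congrArg ψ (smul_inv_smul g3 v')
  · intro w
    show (QuotientGroup.mk (P w) : R ⧸ Subgroup.center R) = 1 ↔ _
    rw [QuotientGroup.eq_one_iff]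
    have key : ∀ (w' : leechLattice) (w'' : leechLattice), ψ (g3 • w') = ψ (g3 • w'') ↔ ∃ r, w' = w'' + (r + r) := by
      intro w' w''
      rw [psi_eq_iff hψ]
      constructor
      · rintro ⟨r, hr, er⟩
        refine ⟨g3⁻¹ • (⟨r, mem_iff.2 hr⟩ : leechLattice), ?_⟩
        have h1 : g3 • w' = g3 • w'' + (⟨r, mem_iff.2 hr⟩ + ⟨r, mem_iff.2 hr⟩) := Subtype.ext (by
          rw [AddSubgroup.coe_add, AddSubgroup.coe_add, ← er]; abel)
        have h2 := congrArg (Conway.linOf g3⁻¹) h1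
        simp only [map_add, linOf_eq_smul, inv_smul_smul] at h2
        exact h2
      · rintro ⟨r, rfl⟩
        refine ⟨((g3 • r : leechLattice) : Vec), mem_iff.1 (SetLike.coe_mem _), ?_⟩
        rw [← linOf_eq_smul, map_add, map_add, AddSubgroup.coe_add, AddSubgroup.coe_add]
        simp only [linOf_eq_smul]
        abel
    have h0 : g3 • (0 : leechLattice) = 0 := (Conway.linOf g3).map_zero
    constructor
    · intro hw
      have h1 := hcenR ⟨_, hqD w⟩ (q w).2 fun b' hb' => by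
        have := congrArg Subtype.val (Subgroup.mem_center_iff.1 hw ⟨f b', b', hb', rfl⟩)
        rw [Subgroup.coe_mul, Subgroup.coe_mul, hPq] at this
        exact this.symm
      obtain ⟨a1, ha1, a2, ha2, he⟩ := Subgroup.mem_sup_of_normal_left.1 h1
      have hv0 := hq w
      rw [show q w = a1 * a2 from he.symm, QuotientGroup.mk_mul, (QuotientGroup.eq_one_iff a1).2 ha1, one_mul] at hv0
      obtain ⟨n, rfl⟩ := Subgroup.mem_zpowers_iff.1 ha2
      rcases Int.even_or_odd n with ⟨j, hj⟩ | ⟨j, hj⟩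
      · rw [hj, ← two_mul, zpow_mul, zpow_two, ← sq, hx2, one_zpow, QuotientGroup.mk_one, ← psi_zero hψ, ← h0,
          key] at hv0
        obtain ⟨r, hr⟩ := hv0
        exact Or.inl ⟨r, by rw [hr, zero_add]⟩
      · rw [hj, zpow_add, zpow_mul, zpow_two, ← sq, hx2, one_zpow, one_mul, zpow_one, ← hx, ← hg3, key] at hv0
        exact Or.inr hv0
    · intro hw
      have h2 : (QuotientGroup.mk (P w) : R ⧸ Subgroup.center R) = QuotientGroup.mk (1 : R) := by
        rcases hw with ⟨r, hr⟩ | ⟨r, hr⟩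
        · refine hwd ⟨_, hqD w⟩ 1 (q w).2 (one_mem _) _ _ (hPq w) (map_one f).symm ?_
          show (QuotientGroup.mk (q w) : Q ⧸ Subgroup.center Q) = QuotientGroup.mk 1
          rw [← hq, QuotientGroup.mk_one, ← psi_zero hψ, ← h0, key]
          exact ⟨r, by rw [hr, zero_add]⟩
        · refine hwd ⟨_, hqD w⟩ ⟨(x : CC), hxD⟩ (q w).2 x.2 _ _ (hPq w) ?_ ?_
          · show (1 : Subgroup.centralizer ({zb} : Set (T ⧸ N))) = f ⟨(x : CC), hxD⟩
            rw [← map_one f, hfe, OneMemClass.coe_one, OneMemClass.coe_one, one_mul]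
            exact Or.inr rfl
          · show (QuotientGroup.mk (q w) : Q ⧸ Subgroup.center Q) = QuotientGroup.mk x
            rw [← hq, ← hx, ← hg3, key]
            exact ⟨r, hr⟩
      rwa [QuotientGroup.mk_one, QuotientGroup.eq_one_iff] at h2
  · intro h k hk a b hab qa hqa
    have h1 : (QuotientGroup.mk h : Subgroup.centralizer ({zb} : Set (T ⧸ N)) ⧸ R) = QuotientGroup.mk (f (L k)) := by
      rw [← hk]
      exact ((MulEquiv.ofBijective Φ hΦ).apply_symm_apply _).symm
    let r0 : R := ⟨(f (L k))⁻¹ * h, QuotientGroup.eq.1 h1.symm⟩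
    let cR : R → R := fun r => ⟨f (L k) * r * (f (L k))⁻¹, hRn.conj_mem _ r.2 _⟩
    have hfix : ∀ r : R, r ∈ Subgroup.center R → cR r = r := by
      intro r hr
      refine Subtype.ext ?_
      rcases hcenter r hr with h' | h' <;> rw [h']
      · show f (L k) * 1 * (f (L k))⁻¹ = 1
        rw [mul_one, mul_inv_cancel]
      · show f (L k) * f zd * (f (L k))⁻¹ = f zd
        rw [mul_inv_eq_iff_eq_mul, ← map_mul, ← map_mul]
        congr 1
        refine Subtype.ext (Subtype.ext ?_)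
        show (((L k : D) : CC) : G) * val c = val c * (((L k : D) : CC) : G)
        rw [hcz]
        exact Subgroup.mem_centralizer_singleton_iff.1 ((L k : D) : CC).2
    have hcm : ∀ r s' : R, (QuotientGroup.mk (r * s' * r⁻¹) : R ⧸ Subgroup.center R) = QuotientGroup.mk s' := by
      intro r s'
      rw [eq_comm, QuotientGroup.eq]
      have h' := IsExtraspecial.comm_mem hES s'⁻¹ r
      rwa [commutatorElement_def, inv_inv, show s'⁻¹ * r * s' * r⁻¹ = s'⁻¹ * (r * s' * r⁻¹) by group] at h'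
    have hsplit : (⟨h * qa * h⁻¹, hRn.conj_mem _ qa.2 h⟩ : R) = cR (r0 * qa * r0⁻¹) := Subtype.ext (by
      show h * qa * h⁻¹ = f (L k) * ((f (L k))⁻¹ * h * qa * ((f (L k))⁻¹ * h)⁻¹) * (f (L k))⁻¹
      group)
    have hcongr : ∀ r s' : R, (QuotientGroup.mk r : R ⧸ Subgroup.center R) = QuotientGroup.mk s' →
        (QuotientGroup.mk (cR r) : R ⧸ Subgroup.center R) = QuotientGroup.mk (cR s') := by
      intro r s' h'
      rw [QuotientGroup.eq] at h' ⊢
      have h'' : (cR r)⁻¹ * cR s' = cR (r⁻¹ * s') := Subtype.ext (by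
        simp only [cR, Subgroup.coe_mul, InvMemClass.coe_inv]; group)
      rw [h'', hfix _ h']
      exact h'
    show (QuotientGroup.mk (P b) : R ⧸ Subgroup.center R) = QuotientGroup.mk _
    rw [hsplit, hcongr _ _ ((hcm r0 qa).trans hqa.symm)]
    refine hwd ⟨_, hqD b⟩ (L k * ⟨_, hqD a⟩ * (L k)⁻¹) (q b).2
      ((inferInstance : Q.Normal).conj_mem _ (q a).2 _) _ _ (hPq b) ?_ ?_
    · show f (L k) * (P a : Subgroup.centralizer ({zb} : Set (T ⧸ N))) * (f (L k))⁻¹ = _
      rw [hPq, map_mul, map_mul, map_inv]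
    · show (QuotientGroup.mk (q b) : Q ⧸ Subgroup.center Q) = QuotientGroup.mk (cj ((L k : D) : CC) (q a))
      rw [← hq, ← act hψ (hL k) (hq a), ← mul_smul, inv_mul_cancel_right, mul_smul]
      exact congrArg (fun w => ψ (g3 • w)) hab.symm

end Baby

end CfsgLib.ThreeTrans.MonsterType
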