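import Cfsg.Agent.Lib.ThreeTrans.MonsterType
import Cfsg.Agent.Lib.ThreeTrans.MonoStab

/-!
Groups of Monster type: two commuting conjugates of `z`, one in the `Q` of the other (owner: lead).
-/

set_option autoImplicit false

namespace CfsgLib.ThreeTrans.MonsterType

open Cfsg CfsgLib.PGroups CfsgLib.Sporadic CfsgLib.ThreeTrans.Leech
open CfsgLib.ThreeTrans.Leech.UPerp (Cong Bev ap)
open CfsgLib.Sporadic.Conway (eightVec eightVec_mem norm_eight crossStab baseElt)
open scoped commutatorElement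

variable {G : Type*} [Group G] [Finite G] {z : G} {Q : Subgroup (Subgroup.centralizer ({z} : Set G))}
  [Q.Normal] {e : (Subgroup.centralizer ({z} : Set G)) ⧸ Q ≃* Spor.Co1} {ψ : leechLattice → Q ⧸ Subgroup.center Q}
  (hM : IsExtraspecialCentralizerSetting z Q 12) (hψ : IsLeechModTwoIso Q e ψ)

include hM hψ in
theorem commute_of_bev {v w : leechLattice} {a b : Q} (ha : ψ v = QuotientGroup.mk a)
    (hb : ψ w = QuotientGroup.mk b) (h : Bev (v : Vec) (w : Vec)) : a * b = b * a := by
  classical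
  have hE := hM.2.2.1
  have hsum : ψ (v + w) = QuotientGroup.mk (a * b) := by rw [hψ.1, ha, hb, QuotientGroup.mk_mul]
  have hb' : ∀ {u : leechLattice} {c : Q}, ψ u = QuotientGroup.mk c →
      Cfsg.Agent.S5408.bit (c ^ 2) = normForm (u : Vec) := by
    intro u c hc
    have h1 := sq_one_iff hM hψ hc
    have h2 : normForm (u : Vec) = 0 ∨ normForm (u : Vec) = 1 := by
      generalize normForm (u : Vec) = t; revert t; decide
    rw [Cfsg.Agent.S5408.bit]
    by_cases hc2 : c ^ 2 = 1
    · rw [if_pos hc2, h1.1 hc2]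
    · rcases h2 with h2 | h2
      · exact absurd (h1.2 h2) hc2
      · rw [if_neg hc2, h2]
  have key := Cfsg.Agent.S5408.bit_sq_mul hE a b
  rw [hb' hsum, hb' ha, hb' hb] at key
  rw [← commutatorElement_eq_one_iff_mul_comm]
  by_contra hne
  simp only [Cfsg.Agent.S5408.bit, if_neg hne, normForm, AddSubgroup.coe_add] at key
  have hv := mem_iff.1 v.2
  have hw := mem_iff.1 w.2
  have h1 := norm_dvd hv; have h2 := norm_dvd hw; have h3 := norm_dvd (isL_add hv hw)
  have h8 := UPerp.eight_dvd_dot hv hw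
  rw [← Int.cast_one (R := ZMod 2), ← Int.cast_add, ← Int.cast_add,
    ZMod.intCast_eq_intCast_iff_dvd_sub] at key
  rw [UPerp.norm_add'] at h3 key
  unfold Bev at h
  omega

variable {g : G} {x : Q}

/-- The intersection of the conjugate subgroup with the centralizer of `z`. -/
def inter (Q : Subgroup (Subgroup.centralizer ({z} : Set G))) (g : G) :
    Subgroup (Subgroup.centralizer ({z} : Set G)) :=
  ((Q.map (Subgroup.centralizer ({z} : Set G)).subtype).map (MulAut.conj g).toMonoidHom).subgroupOf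
    (Subgroup.centralizer ({z} : Set G))

theorem mem_inter (a : Subgroup.centralizer ({z} : Set G)) :
    a ∈ inter Q g ↔ ∃ y : Q, g * val y * g⁻¹ = (a : G) := by
  rw [inter, Subgroup.mem_subgroupOf, Subgroup.mem_map]
  constructor
  · rintro ⟨_, ⟨y, hy, rfl⟩, h⟩; exact ⟨⟨y, hy⟩, h⟩
  · rintro ⟨y, hy⟩; exact ⟨_, ⟨(y : Subgroup.centralizer ({z} : Set G)), y.2, rfl⟩, hy⟩

theorem inter_comm (hg : g * z * g⁻¹ = val x) {a : Subgroup.centralizer ({z} : Set G)} (ha : a ∈ inter Q g) :
    (a : G) * val x = val x * (a : G) := by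
  obtain ⟨y, hy⟩ := (mem_inter a).1 ha
  rw [← hy, ← hg]
  calc g * val y * g⁻¹ * (g * z * g⁻¹) = g * (val y * z) * g⁻¹ := by group
    _ = g * z * g⁻¹ * (g * val y * g⁻¹) := by rw [val_comm]; group

theorem inter_conj (hg : g * z * g⁻¹ = val x) {h : Subgroup.centralizer ({z} : Set G)}
    (hh : (h : G) * val x = val x * (h : G)) {a : Subgroup.centralizer ({z} : Set G)} (ha : a ∈ inter Q g) :
    h * a * h⁻¹ ∈ inter Q g := by
  obtain ⟨y, hy⟩ := (mem_inter a).1 ha
  have hk : g⁻¹ * (h : G) * g ∈ Subgroup.centralizer ({z} : Set G) := by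
    refine Subgroup.mem_centralizer_singleton_iff.2 ?_
    rw [← hg] at hh
    calc g⁻¹ * (h : G) * g * z = g⁻¹ * ((h : G) * (g * z * g⁻¹)) * g := by group
      _ = z * (g⁻¹ * (h : G) * g) := by rw [hh]; group
  refine (mem_inter _).2 ⟨cj ⟨_, hk⟩ y, ?_⟩
  rw [val_cj, Subgroup.coe_mul, Subgroup.coe_mul, InvMemClass.coe_inv, ← hy]
  group

include hM in
theorem inter_pow (a : Subgroup.centralizer ({z} : Set G)) (ha : a ∈ inter Q g) : a ^ 4 = 1 := by
  obtain ⟨y, hy⟩ := (mem_inter a).1 ha
  haveI : Fact (Nat.Prime 2) := ⟨Nat.prime_two⟩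
  refine Subtype.ext ?_
  rw [Subgroup.coe_pow, ← hy, conj_pow]
  have h4 := IsExtraspecial.pow_sq hM.2.2.1 y
  have h4' : (val y) ^ 4 = 1 := by
    show (((y ^ 4 : Q) : Subgroup.centralizer ({z} : Set G)) : G) = 1
    rw [show y ^ 4 = 1 from h4]; rfl
  rw [h4', mul_one, mul_inv_cancel, Subgroup.coe_one]

/-- The map from lattice automorphisms, seen from the class of a vector. -/
noncomputable def proj (e : (Subgroup.centralizer ({z} : Set G)) ⧸ Q ≃* Spor.Co1) (g1 : Co0) :
    Co0 →* (Subgroup.centralizer ({z} : Set G)) ⧸ Q :=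
  (e.symm.toMonoidHom.comp (QuotientGroup.mk' (Subgroup.center Co0))).comp (MulAut.conj g1).toMonoidHom

theorem proj_apply (g1 k : Co0) :
    e (proj e g1 k) = (QuotientGroup.mk (g1 * k * g1⁻¹) : Spor.Co1) := by
  simp [proj]

theorem proj_surjective (g1 : Co0) : Function.Surjective (proj e g1) := fun q => by
  obtain ⟨k, hk⟩ := QuotientGroup.mk_surjective (e q)
  refine ⟨g1⁻¹ * k * g1, e.injective ?_⟩
  rw [proj_apply, show g1 * (g1⁻¹ * k * g1) * g1⁻¹ = k by group, hk]

theorem proj_ker (g1 : Co0) {k : Co0} : proj e g1 k = 1 ↔ k ∈ Subgroup.center Co0 := by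
  rw [← e.map_eq_one_iff, proj_apply, QuotientGroup.eq_one_iff]
  constructor <;> intro h
  · have := Subgroup.Normal.conj_mem inferInstance _ h g1⁻¹
    simpa [mul_assoc] using this
  · exact Subgroup.Normal.conj_mem inferInstance _ h g1

/-- The data of a pair. -/
structure Pair (z : G) (Q : Subgroup (Subgroup.centralizer ({z} : Set G))) [Q.Normal]
    (ψ : leechLattice → Q ⧸ Subgroup.center Q) (g : G) (x : Q) (g1 : Co0) : Prop where
  conj : g * z * g⁻¹ = val x
  nc : x ∉ Subgroup.center Q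
  lift : ψ (g1 • baseElt) = QuotientGroup.mk x

include hM hψ in
theorem exists_pair (hg : g * z * g⁻¹ = val x) (hx : val x ≠ z) : ∃ g1 : Co0, Pair z Q ψ g x g1 := by
  obtain ⟨v, hv, hvx⟩ := (conj_iff hM hψ x).1 ⟨isConj_iff.2 ⟨g, hg⟩, hx⟩
  have hb : sqNorm ((baseElt : leechLattice) : Vec) = 64 := norm_eight none
  obtain ⟨g1, hg1⟩ := Conway.exists_smul_of_rel (Conway.orbit64 baseElt.2 hb) (Conway.orbit64 v.2 hv)
  exact ⟨g1, hg, not_center_of_short hψ hvx (by omega) (by omega), by rw [hg1]; exact hvx⟩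

variable {g1 : Co0} (hP : Pair z Q ψ g x g1)

include hM hψ hP in
theorem ne_z : val x ≠ z ∧ val x ≠ 1 := by
  obtain ⟨c, hc, hcz⟩ := z_mem hM hψ
  exact ⟨fun h => hP.nc (by rwa [val_injective (h.trans hcz.symm)]),
    fun h => hP.nc (by rw [val_injective (h.trans val_one.symm)]; exact one_mem _)⟩

include hψ hP in
theorem stab_of_comm {a : Subgroup.centralizer ({z} : Set G)} (ha : (a : G) * val x = val x * (a : G))
    {k : Co0} (hk : proj e g1 k = QuotientGroup.mk a) : k ∈ crossStab := by
  have h0 : (QuotientGroup.mk (g1 * k * g1⁻¹) : Spor.Co1) = e (QuotientGroup.mk a) := by rw [← hk, proj_apply]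
  have h1 := act hψ h0 hP.lift
  rw [show cj a x = x from val_injective (by rw [val_cj, ha, mul_inv_cancel_right]), ← hP.lift,
    ← mul_smul, inv_mul_cancel_right, psi_eq_iff hψ, ← UPerp.ap_coe, ← UPerp.ap_coe] at h1
  have hL := mem_iff.1 (eightVec_mem none)
  change Cong (ap (g1 * k) (eightVec none)) (ap g1 (eightVec none)) at h1
  rw [MonoStab.mem_crossStab_iff]
  have h2 := h1.ap (UPerp.ap_isL g1 hL) g1⁻¹
  rwa [← UPerp.ap_mul _ _ hL, inv_mul_cancel_left, UPerp.ap_inv' g1 hL] at h2

include hM hψ hP in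
theorem comm_of_stab {k : Co0} (hk : k ∈ crossStab) :
    ∃ a : Subgroup.centralizer ({z} : Set G), (a : G) * val x = val x * (a : G) ∧
      proj e g1 k = QuotientGroup.mk a := by
  obtain ⟨h, hh⟩ := exists_lift e (g1 * k * g1⁻¹)
  have hproj : proj e g1 k = QuotientGroup.mk h := e.injective (by rw [proj_apply, hh])
  have h1 := act hψ hh hP.lift
  have hL := mem_iff.1 (eightVec_mem none)
  have h2 : ψ ((g1 * k * g1⁻¹) • (g1 • baseElt)) = QuotientGroup.mk x := by
    rw [← hP.lift, ← mul_smul, inv_mul_cancel_right, psi_eq_iff hψ, ← UPerp.ap_coe, ← UPerp.ap_coe,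
      UPerp.ap_mul _ _ (mem_iff.1 baseElt.2)]
    exact ((MonoStab.mem_crossStab_iff).1 hk).ap hL g1
  rw [h2] at h1
  rcases mk_eq_cases hM hψ h1 with h3 | h3 <;> rw [val_cj] at h3
  · exact ⟨h, mul_inv_eq_iff_eq_mul.1 h3, hproj⟩
  obtain ⟨q, hq⟩ := swap hM hψ hP.nc
  have hzz : z * z = 1 := by rw [← sq, ← hM.1]; exact pow_orderOf_eq_one z
  refine ⟨(q : Subgroup.centralizer ({z} : Set G)) * h, mul_inv_eq_iff_eq_mul.1 ?_, ?_⟩
  · rw [Subgroup.coe_mul]
    change val q * (h : G) * val x * (val q * (h : G))⁻¹ = val x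
    calc val q * (h : G) * val x * (val q * (h : G))⁻¹
        = val q * ((h : G) * val x * (h : G)⁻¹) * (val q)⁻¹ := by group
      _ = val q * val x * (val q)⁻¹ * (val q * z * (val q)⁻¹) := by rw [h3]; group
      _ = val x * z * z := by rw [hq, val_comm q, mul_inv_cancel_right]
      _ = val x := by rw [mul_assoc, hzz, mul_one]
  · rw [hproj, QuotientGroup.mk_mul, (QuotientGroup.eq_one_iff (q : Subgroup.centralizer ({z} : Set G))).2 q.2,
      one_mul]

include hM hψ hP in
theorem image_le_signs :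
    (inter Q g).map (QuotientGroup.mk' Q) ≤ MonoStab.signs.map (proj e g1) := by
  haveI : Fact (Nat.Prime 2) := ⟨Nat.prime_two⟩
  let R : Subgroup Co0 := ((inter Q g).map (QuotientGroup.mk' Q)).comap (proj e g1)
  have hmem : ∀ r : Co0, r ∈ R ↔ ∃ a ∈ inter Q g, proj e g1 r = QuotientGroup.mk a := by
    intro r
    simp only [R, Subgroup.mem_comap, Subgroup.mem_map]
    exact ⟨fun ⟨a, ha, h⟩ => ⟨a, ha, h.symm⟩, fun ⟨a, ha, h⟩ => ⟨a, ha, h.symm⟩⟩
  have hR : IsPGroup 2 R := by
    rintro ⟨r, hr⟩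
    obtain ⟨a, ha, h⟩ := (hmem r).1 hr
    refine ⟨3, Subtype.ext ?_⟩
    rw [Subgroup.coe_pow, Subgroup.coe_one]
    have h4 : r ^ 4 ∈ Subgroup.center ↥Co0 := by
      rw [← proj_ker (e := e) g1, map_pow, h, ← QuotientGroup.mk_pow, inter_pow hM a ha, QuotientGroup.mk_one]
    have h2 : (⟨r ^ 4, h4⟩ : Subgroup.center ↥Co0) ^ 2 = 1 := by
      rw [← Conway.card_center]; exact pow_card_eq_one'
    have h8 := congrArg Subtype.val h2
    simp only [Subgroup.coe_pow, Subgroup.coe_one] at h8
    rwa [show 2 ^ 3 = 4 * 2 from rfl, pow_mul]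
  have hle := MonoStab.le_signs R (fun r hr => by
      obtain ⟨a, ha, h⟩ := (hmem r).1 hr
      exact stab_of_comm hψ hP (inter_comm hP.conj ha) h) hR
    (fun k hk r hr => by
      obtain ⟨a, ha, h⟩ := (hmem r).1 hr
      obtain ⟨b, hb, hkb⟩ := comm_of_stab hM hψ hP hk
      refine (hmem _).2 ⟨b * a * b⁻¹, inter_conj hP.conj hb ha, ?_⟩
      rw [map_mul, map_mul, map_inv, h, hkb]; rfl)
  rintro _ ⟨a, ha, rfl⟩
  obtain ⟨r, hr⟩ := proj_surjective (e := e) g1 (QuotientGroup.mk a)
  exact ⟨r, hle ((hmem r).2 ⟨a, ha, hr⟩), hr⟩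

include hM hψ hP in
theorem z_mem_inter :
    (⟨z, Subgroup.mem_centralizer_singleton_iff.2 rfl⟩ : Subgroup.centralizer ({z} : Set G)) ∈ inter Q g := by
  classical
  by_contra hz
  have hE := hM.2.2.1
  haveI : Fact (Nat.Prime 2) := ⟨Nat.prime_two⟩
  obtain ⟨hsz, hs1⟩ := ne_z hM hψ hP
  obtain ⟨c, hc, hcz⟩ := z_mem hM hψ
  have hzA : (c : Subgroup.centralizer ({z} : Set G)) ∉ inter Q g := fun h => hz (by
    rwa [show (c : Subgroup.centralizer ({z} : Set G)) = ⟨z, Subgroup.mem_centralizer_singleton_iff.2 rfl⟩ from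
      Subtype.ext hcz] at h)
  have hsA : (x : Subgroup.centralizer ({z} : Set G)) ∈ inter Q g :=
    (mem_inter _).2 ⟨c, by rw [hcz]; exact hP.conj⟩
  have hnorm : ∀ b : Q, b * x = x * b → ∀ a ∈ inter Q g,
      (b : Subgroup.centralizer ({z} : Set G)) * a * (b : Subgroup.centralizer ({z} : Set G))⁻¹ ∈ inter Q g :=
    fun b hb a ha => inter_conj hP.conj (by
      show val b * val x = val x * val b
      rw [← val_mul, hb, val_mul]) ha
  -- the members in `Q` commute with the centralizer of `x` in `Q`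
  have hAQ : ∀ a : Q, (a : Subgroup.centralizer ({z} : Set G)) ∈ inter Q g → val a = 1 ∨ val a = val x := by
    intro a ha
    have hcom : ∀ b : Q, b * x = x * b → b * a = a * b := by
      intro b hb
      rw [← commutatorElement_eq_one_iff_mul_comm]
      have h1 : ((⁅b, a⁆ : Q) : Subgroup.centralizer ({z} : Set G)) ∈ inter Q g := by
        simp only [commutatorElement_def, Subgroup.coe_mul, InvMemClass.coe_inv]
        exact mul_mem (hnorm b hb _ ha) (inv_mem ha)
      rcases center_cases hM hψ (IsExtraspecial.comm_mem hE b a) with h | h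
      · exact val_injective (h.trans val_one.symm)
      · exfalso
        rw [val_injective (h.trans hcz.symm)] at h1
        exact hzA h1
    let A0 : Subgroup Q := Subgroup.center Q ⊔ Subgroup.zpowers x
    have haA : a ∈ A0 := by
      rw [← IsExtraspecial.centralizer_centralizer hE (A := A0) le_sup_left]
      refine Subgroup.mem_centralizer_iff.2 fun b hb => hcom b ?_
      exact ((Subgroup.mem_centralizer_iff.1 hb) x (Subgroup.mem_sup_right (Subgroup.mem_zpowers x))).symm
    obtain ⟨c', hc', y, hy, rfl⟩ := Subgroup.mem_sup_of_normal_left.1 haA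
    obtain ⟨n, rfl⟩ := Subgroup.mem_zpowers_iff.1 hy
    have hyA : ((x ^ n : Q) : Subgroup.centralizer ({z} : Set G)) ∈ inter Q g := by
      rw [SubgroupClass.coe_zpow]; exact zpow_mem hsA n
    have hcA : (c' : Subgroup.centralizer ({z} : Set G)) ∈ inter Q g := by
      have := mul_mem ha (inv_mem hyA)
      rwa [Subgroup.coe_mul, mul_inv_cancel_right] at this
    have hc1 : c' = 1 := by
      rcases center_cases hM hψ hc' with h | h
      · exact val_injective (h.trans val_one.symm)
      · exact absurd (by rwa [val_injective (h.trans hcz.symm)] at hcA) hzA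
    subst hc1
    rw [one_mul]
    have hx2 : x ^ 2 = 1 := by
      refine val_injective ?_
      rw [show val (x ^ 2) = val x ^ 2 from rfl, ← hP.conj, conj_pow,
        show z ^ 2 = 1 by rw [← hM.1]; exact pow_orderOf_eq_one z, mul_one, mul_inv_cancel, val_one]
    rcases Int.even_or_odd n with ⟨j, hj⟩ | ⟨j, hj⟩
    · left
      rw [hj, ← two_mul, zpow_mul, zpow_two, ← sq, hx2, one_zpow, val_one]
    · right
      rw [hj, zpow_add, zpow_mul, zpow_two, ← sq, hx2, one_zpow, one_mul, zpow_one]
  -- so everything lies in `Q`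
  have hall : ∀ a ∈ inter Q g, a ∈ Q := by
    intro a ha
    obtain ⟨k, hk, hka⟩ := image_le_signs hM hψ hP ⟨a, ha, rfl⟩
    have hk0 : k ∈ Subgroup.center Co0 := by
      refine MonoStab.sign_central hk fun o ho => ?_
      have hoL := isL_octVec ho.1
      let w : leechLattice := ⟨octVec o, mem_iff.2 hoL⟩
      obtain ⟨b, hb'⟩ := QuotientGroup.mk_surjective (ψ (g1 • w))
      have hb : ψ (g1 • w) = QuotientGroup.mk b := hb'.symm
      have hL := mem_iff.1 (eightVec_mem none)
      have hbx : b * x = x * b := by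
        refine commute_of_bev hM hψ hb hP.lift ?_
        rw [← UPerp.ap_coe, ← UPerp.ap_coe]
        refine UPerp.bev_ap hoL hL ?_
        show (16 : ℤ) ∣ dotInt (octVec o) (eightVec none)
        rw [← Conway.pair_self, UPerp.dot_pair]
        simp only [octVec]; split_ifs <;> norm_num
      have h0 : (QuotientGroup.mk (g1 * k * g1⁻¹) : Spor.Co1) = e (QuotientGroup.mk a) := by
        rw [← proj_apply (e := e), hka]; rfl
      have h1 := act hψ h0 hb
      have hc' : ((cj a b * b⁻¹ : Q) : Subgroup.centralizer ({z} : Set G)) ∈ inter Q g := by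
        have : ((cj a b * b⁻¹ : Q) : Subgroup.centralizer ({z} : Set G)) =
            a * ((b : Subgroup.centralizer ({z} : Set G)) * a⁻¹ * (b : Subgroup.centralizer ({z} : Set G))⁻¹) := by
          simp only [cj, Subgroup.coe_mul, InvMemClass.coe_inv]; group
        rw [this]
        exact mul_mem ha (hnorm b hbx _ (inv_mem ha))
      rw [← mul_smul, inv_mul_cancel_right, mul_smul,
        show cj a b = cj a b * b⁻¹ * b by rw [inv_mul_cancel_right], QuotientGroup.mk_mul, ← hb] at h1
      rcases hAQ _ hc' with h | h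
      · left
        rw [val_injective (h.trans val_one.symm), QuotientGroup.mk_one, one_mul, psi_eq_iff hψ] at h1
        simp only [← UPerp.ap_coe] at h1
        have h2 := h1.ap (UPerp.ap_isL g1 (mem_iff.1 w.2)) g1⁻¹
        rw [UPerp.ap_inv' g1 (UPerp.ap_isL k (mem_iff.1 w.2)), UPerp.ap_inv' g1 (mem_iff.1 w.2)] at h2
        exact h2
      · right
        rw [val_injective h, ← hP.lift, ← hψ.1, psi_eq_iff hψ, AddSubgroup.coe_add] at h1
        simp only [← UPerp.ap_coe] at h1
        have h2 := h1.ap (isL_add (UPerp.ap_isL g1 (mem_iff.1 baseElt.2)) (UPerp.ap_isL g1 (mem_iff.1 w.2))) g1⁻¹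
        rw [UPerp.ap_inv' g1 (UPerp.ap_isL k (mem_iff.1 w.2)),
          UPerp.ap_add _ (UPerp.ap_isL g1 (mem_iff.1 baseElt.2)) (UPerp.ap_isL g1 (mem_iff.1 w.2)),
          UPerp.ap_inv' g1 (mem_iff.1 baseElt.2), UPerp.ap_inv' g1 (mem_iff.1 w.2)] at h2
        obtain ⟨u, hu, eu⟩ := h2
        exact ⟨u, hu, by rw [← eu]; simp only [Conway.baseElt]; abel⟩
    rw [← QuotientGroup.eq_one_iff]
    exact hka.symm.trans ((proj_ker g1).2 hk0)
  have hzs : z * val x = val x * z := (val_comm x).symm
  have htC : g⁻¹ * z * g ∈ Subgroup.centralizer ({z} : Set G) := by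
    refine Subgroup.mem_centralizer_singleton_iff.2 ?_
    rw [← hP.conj] at hzs
    calc g⁻¹ * z * g * z = g⁻¹ * (z * (g * z * g⁻¹)) * g := by group
      _ = z * (g⁻¹ * z * g) := by rw [hzs]; group
  have hzz : z * z = 1 := by rw [← sq, ← hM.1]; exact pow_orderOf_eq_one z
  refine card_small_bound hM htC (by
    rw [show g⁻¹ * z * g * (g⁻¹ * z * g) = g⁻¹ * (z * z) * g by group, hzz]; group) ?_
  have hto : ∀ y : {y : Q // cj ⟨_, htC⟩ y = y}, g * val y.1 * g⁻¹ ∈ ({1, val x} : Finset G) := by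
    rintro ⟨y, hy⟩
    have h1 : g⁻¹ * z * g * val y * (g⁻¹ * z * g)⁻¹ = val y := congrArg val hy
    have hC : g * val y * g⁻¹ ∈ Subgroup.centralizer ({z} : Set G) := by
      refine Subgroup.mem_centralizer_singleton_iff.2 ?_
      rw [mul_inv_eq_iff_eq_mul] at h1
      calc g * val y * g⁻¹ * z = g * (val y * (g⁻¹ * z * g)) * g⁻¹ := by group
        _ = z * (g * val y * g⁻¹) := by rw [← h1]; group
    have hm : (⟨_, hC⟩ : Subgroup.centralizer ({z} : Set G)) ∈ inter Q g := (mem_inter _).2 ⟨y, rfl⟩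
    simpa [val] using hAQ ⟨_, hall _ hm⟩ hm
  refine (Nat.card_le_card_of_injective (fun y => (⟨_, hto y⟩ : ({1, val x} : Finset G))) fun a b h => ?_).trans ?_
  · have h' := congrArg Subtype.val h
    simp only [mul_left_inj, mul_right_inj] at h'
    exact Subtype.ext (val_injective h')
  · rw [Nat.card_eq_fintype_card, Fintype.card_coe]
    exact Finset.card_le_two.trans (by norm_num)

include hM hψ hP in
/-- The orders of the intersection and of its image. -/
theorem counts : Nat.card ↥(inter Q g ⊓ Q) = 2 ^ 13 ∧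
    Nat.card ↥((inter Q g).map (QuotientGroup.mk' Q)) = 2 ^ 11 ∧
    (inter Q g).map (QuotientGroup.mk' Q) = MonoStab.signs.map (proj e g1) := by
  classical
  have hE := hM.2.2.1
  haveI : Fact (Nat.Prime 2) := ⟨Nat.prime_two⟩
  obtain ⟨hsz, hs1⟩ := ne_z hM hψ hP
  obtain ⟨c, hc, hcz⟩ := z_mem hM hψ
  obtain ⟨y0, hy0⟩ := (mem_inter _).1 (z_mem_inter hM hψ hP)
  change g * val y0 * g⁻¹ = z at hy0
  have hy0c : y0 ∉ Subgroup.center Q := by
    intro h
    have hz1 : z ≠ 1 := fun h' => by
      have h2 := hM.1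
      rw [h', orderOf_one] at h2
      omega
    rcases center_cases hM hψ h with h' | h' <;> rw [h'] at hy0
    · exact hz1 (by rw [← hy0]; group)
    · exact hsz (hP.conj.symm.trans hy0)
  -- the order of the intersection with the centralizer
  have hA24 : Nat.card ↥(inter Q g) = 2 ^ 24 := by
    have hcard : Nat.card ↥(Subgroup.centralizer ({y0} : Set Q)) = 2 ^ 24 := by
      have := Subgroup.card_mul_index (Subgroup.centralizer ({y0} : Set Q))
      rw [IsExtraspecial.index_centralizer_singleton hE hy0c, hM.2.2.2.1] at this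
      norm_num at this ⊢
      omega
    rw [← hcard]
    have hto : ∀ y : Subgroup.centralizer ({y0} : Set Q),
        g * val y.1 * g⁻¹ ∈ Subgroup.centralizer ({z} : Set G) := fun y => by
      refine Subgroup.mem_centralizer_singleton_iff.2 ?_
      have h1 : val y.1 * val y0 = val y0 * val y.1 := by
        rw [← val_mul, Subgroup.mem_centralizer_singleton_iff.1 y.2, val_mul]
      calc g * val y.1 * g⁻¹ * z = g * val y.1 * g⁻¹ * (g * val y0 * g⁻¹) := by rw [hy0]
        _ = g * (val y.1 * val y0) * g⁻¹ := by group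
        _ = g * val y0 * g⁻¹ * (g * val y.1 * g⁻¹) := by rw [h1]; group
        _ = z * (g * val y.1 * g⁻¹) := by rw [hy0]
    refine (Nat.card_eq_of_bijective (fun y => (⟨⟨_, hto y⟩, (mem_inter _).2 ⟨y.1, rfl⟩⟩ : ↥(inter Q g)))
      ⟨fun a b h => ?_, fun a => ?_⟩).symm
    · have h' := congrArg (fun w : ↥(inter Q g) => ((w : Subgroup.centralizer ({z} : Set G)) : G)) h
      simp only [mul_left_inj, mul_right_inj] at h'
      exact Subtype.ext (val_injective h')
    · obtain ⟨y, hy⟩ := (mem_inter a.1).1 a.2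
      refine ⟨⟨y, Subgroup.mem_centralizer_singleton_iff.2 (val_injective ?_)⟩, Subtype.ext (Subtype.ext hy)⟩
      have h1 := Subgroup.mem_centralizer_singleton_iff.1 a.1.2
      rw [val_mul, val_mul]
      calc val y * val y0 = g⁻¹ * (g * val y * g⁻¹ * (g * val y0 * g⁻¹)) * g := by group
        _ = g⁻¹ * ((g * val y0 * g⁻¹) * (g * val y * g⁻¹)) * g := by rw [hy, hy0, h1]
        _ = val y0 * val y := by group
  -- the part in `Q`
  have hM' : ∀ a b : Q, (a : Subgroup.centralizer ({z} : Set G)) ∈ inter Q g →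
      (b : Subgroup.centralizer ({z} : Set G)) ∈ inter Q g → a * b = b * a := by
    intro a b ha hb
    rw [← commutatorElement_eq_one_iff_mul_comm]
    obtain ⟨ya, hya⟩ := (mem_inter _).1 ha
    obtain ⟨yb, hyb⟩ := (mem_inter _).1 hb
    have e1 : val ⁅a, b⁆ = g * val ⁅ya, yb⁆ * g⁻¹ := by
      simp only [commutatorElement_def, val, Subgroup.coe_mul, InvMemClass.coe_inv]
      simp only [val] at hya hyb
      rw [← hya, ← hyb]; group
    rcases center_cases hM hψ (IsExtraspecial.comm_mem hE a b) with h | h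
    · exact val_injective (h.trans val_one.symm)
    · exfalso
      rcases center_cases hM hψ (IsExtraspecial.comm_mem hE ya yb) with h' | h' <;> rw [h', h] at e1
      · rw [mul_one, mul_inv_cancel] at e1
        have h2 := hM.1
        rw [e1, orderOf_one] at h2
        omega
      · exact hsz (hP.conj.symm.trans e1.symm)
  let M : Subgroup Q := (inter Q g).subgroupOf Q
  have hMc : Subgroup.center Q ≤ M := by
    intro w hw
    have hz := z_mem_inter hM hψ hP
    show (w : Subgroup.centralizer ({z} : Set G)) ∈ inter Q g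
    rcases center_cases hM hψ hw with h | h
    · rw [show (w : Subgroup.centralizer ({z} : Set G)) = 1 from Subtype.ext h]; exact one_mem _
    · rwa [show (w : Subgroup.centralizer ({z} : Set G)) = ⟨z, Subgroup.mem_centralizer_singleton_iff.2 rfl⟩ from
        Subtype.ext h]
  have hMcard : Nat.card M = Nat.card ↥(inter Q g ⊓ Q) := by
    show Nat.card ↥((inter Q g).subgroupOf Q) = _
    rw [← Subgroup.inf_subgroupOf_right]
    exact Nat.card_congr (Subgroup.subgroupOfEquivOfLe inf_le_right).toEquiv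
  have h13 : Nat.card ↥(inter Q g ⊓ Q) ≤ 2 ^ 13 := by
    have h1 := IsExtraspecial.card_centralizer_mul_card hE hMc
    have h2 : Nat.card M ≤ Nat.card ↥(Subgroup.centralizer (M : Set Q)) :=
      Subgroup.card_le_of_le fun a ha => Subgroup.mem_centralizer_iff.2 fun b hb => hM' b a hb ha
    have h3 := Nat.mul_le_mul_right (Nat.card M) h2
    rw [h1, hM.2.2.2.1, hMcard] at h3
    by_contra hlt
    push Not at hlt
    have h4 := Nat.mul_le_mul hlt hlt
    norm_num at h3 h4
    omega
  -- the sign changes modulo the centre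
  haveI : Finite ↥Co0 := Nat.finite_of_card_ne_zero (by rw [Conway.card_Co0]; norm_num)
  have h11 : Nat.card ↥(MonoStab.signs.map (proj e g1)) ≤ 2 ^ 11 := by
    have h1 := Subgroup.card_mul_index ((proj e g1).comp MonoStab.signs.subtype).ker
    rw [Subgroup.index_ker, MonoidHom.range_comp, Subgroup.range_subtype] at h1
    have h2 : 2 ≤ Nat.card ↥((proj e g1).comp MonoStab.signs.subtype).ker := by
      rw [← Conway.card_center]
      exact Nat.card_le_card_of_injective (fun w : Subgroup.center ↥Co0 =>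
        (⟨⟨w, MonoStab.center_le_signs w.2⟩, (proj_ker g1).2 w.2⟩ : ((proj e g1).comp MonoStab.signs.subtype).ker))
        fun a b h => Subtype.ext (congrArg (fun w : ((proj e g1).comp MonoStab.signs.subtype).ker => (w.1.1 : ↥Co0)) h)
    have h3 := MonoStab.card_signs_le
    have h4 := Nat.mul_le_mul_right (Nat.card ↥(MonoStab.signs.map (proj e g1))) h2
    rw [h1] at h4
    omega
  have hle := image_le_signs hM hψ hP
  have h11' := (Subgroup.card_le_of_le hle).trans h11
  have hsplit : Nat.card ↥((inter Q g).map (QuotientGroup.mk' Q)) * Nat.card ↥(inter Q g ⊓ Q) = 2 ^ 24 := by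
    have h1 := Subgroup.card_mul_index ((QuotientGroup.mk' Q).comp (inter Q g).subtype).ker
    rw [Subgroup.index_ker, MonoidHom.range_comp, Subgroup.range_subtype, hA24, mul_comm] at h1
    rw [← h1]
    congr 1
    have hker : ((QuotientGroup.mk' Q).comp (inter Q g).subtype).ker = Q.subgroupOf (inter Q g) := by
      ext a
      rw [MonoidHom.mem_ker, MonoidHom.comp_apply, QuotientGroup.mk'_apply, QuotientGroup.eq_one_iff,
        Subgroup.mem_subgroupOf]
      rfl
    rw [hker, ← Subgroup.inf_subgroupOf_left]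
    exact (Nat.card_congr (Subgroup.subgroupOfEquivOfLe inf_le_left).toEquiv).symm
  have e13 : Nat.card ↥(inter Q g ⊓ Q) = 2 ^ 13 := by
    refine le_antisymm h13 ?_
    have := Nat.mul_le_mul_right (Nat.card ↥(inter Q g ⊓ Q)) h11'
    rw [hsplit] at this
    norm_num at this ⊢
    omega
  have e11 : Nat.card ↥((inter Q g).map (QuotientGroup.mk' Q)) = 2 ^ 11 := by
    rw [e13] at hsplit
    norm_num at hsplit ⊢
    omega
  exact ⟨e13, e11, Subgroup.eq_of_le_of_card_ge hle (h11.trans e11.ge)⟩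

end CfsgLib.ThreeTrans.MonsterType
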