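import Cfsg.Prelude.Def_MonsterType
import Cfsg.Agent.S5408
import Cfsg.Agent.Lib.ThreeTrans.LeechUPerp
import Cfsg.Agent.Lib.Sporadic.LeechClasses
import Cfsg.Agent.Lib.Sporadic.ConwayOrder

/-!
Groups of Monster type: the classes of `Q` under the centralizer of `z` (owner: lead).
-/

set_option autoImplicit false

namespace CfsgLib.ThreeTrans.MonsterType

open Cfsg CfsgLib.PGroups CfsgLib.Sporadic CfsgLib.ThreeTrans.Leech
open CfsgLib.ThreeTrans.Leech.UPerp (Cong InK InvX Bev U ap)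
open scoped commutatorElement

variable {G : Type*} [Group G] [Finite G] {z : G} {Q : Subgroup (Subgroup.centralizer ({z} : Set G))}
  [Q.Normal]

/-- An element of `Q` in `G`. -/
def val (x : Q) : G := ((x : Subgroup.centralizer ({z} : Set G)) : G)

theorem val_injective : Function.Injective (val (z := z) (Q := Q)) :=
  fun _ _ h => Subtype.ext (Subtype.ext h)

theorem val_mul (x y : Q) : val (x * y) = val x * val y := rfl

theorem val_one : val (1 : Q) = 1 := rfl

theorem val_comm (x : Q) : val x * z = z * val x :=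
  Subgroup.mem_centralizer_singleton_iff.1 (x : Subgroup.centralizer ({z} : Set G)).2

section

variable {e : (Subgroup.centralizer ({z} : Set G)) ⧸ Q ≃* Spor.Co1} {ψ : leechLattice → Q ⧸ Subgroup.center Q}
  (hM : IsExtraspecialCentralizerSetting z Q 12) (hψ : IsLeechModTwoIso Q e ψ)

include hψ in
theorem psi_zero : ψ 0 = 1 := (hψ.2.2.1 0).2 ⟨0, (add_zero _).symm⟩

include hψ in
theorem psi_eq_iff (v w : leechLattice) : ψ v = ψ w ↔ Cong (v : Vec) (w : Vec) := by
  have h : ψ (v - w) * ψ w = ψ v := by rw [← hψ.1, sub_add_cancel]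
  rw [← h, mul_eq_right, hψ.2.2.1]
  constructor
  · rintro ⟨u, hu⟩
    exact ⟨u, mem_iff.1 u.2, by rw [← AddSubgroup.coe_sub, hu, AddSubgroup.coe_add]⟩
  · rintro ⟨u, hu, eu⟩
    exact ⟨⟨u, mem_iff.2 hu⟩, Subtype.ext (by rw [AddSubgroup.coe_sub, eu, AddSubgroup.coe_add])⟩

include hψ in
theorem psi_eq_one_iff (v : leechLattice) : ψ v = 1 ↔ Cong (v : Vec) 0 := by
  rw [← psi_zero hψ, psi_eq_iff hψ]; rfl

theorem exists_lift (e : (Subgroup.centralizer ({z} : Set G)) ⧸ Q ≃* Spor.Co1) (g : Co0) :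
    ∃ h : Subgroup.centralizer ({z} : Set G), (QuotientGroup.mk g : Spor.Co1) = e (QuotientGroup.mk h) := by
  obtain ⟨h, hh⟩ := QuotientGroup.mk_surjective (e.symm (QuotientGroup.mk g))
  exact ⟨h, by rw [hh, MulEquiv.apply_symm_apply]⟩

/-- The conjugate of an element of `Q`. -/
def cj (h : Subgroup.centralizer ({z} : Set G)) (x : Q) : Q :=
  ⟨h * x * h⁻¹, (inferInstance : Q.Normal).conj_mem _ x.2 h⟩

theorem val_cj (h : Subgroup.centralizer ({z} : Set G)) (x : Q) :
    val (cj h x) = (h : G) * val x * (h : G)⁻¹ := rfl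

include hψ in
theorem act {h : Subgroup.centralizer ({z} : Set G)} {g : Co0}
    (hh : (QuotientGroup.mk g : Spor.Co1) = e (QuotientGroup.mk h)) {v : leechLattice} {x : Q}
    (hx : ψ v = QuotientGroup.mk x) : ψ (g • v) = QuotientGroup.mk (cj h x) :=
  hψ.2.2.2 h g hh v x hx

include hM hψ in
theorem sq_one_iff {v : leechLattice} {x : Q} (hx : ψ v = QuotientGroup.mk x) :
    x ^ 2 = 1 ↔ normForm (v : Vec) = 0 := by
  classical
  obtain ⟨-, -, hE, -, -⟩ := hM
  obtain ⟨hψm, hψs, hψk, hψe⟩ := hψ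
  let R : leechLattice → ZMod 2 := fun v => Cfsg.Agent.S5408.sqBit (ψ v)
  have hR : ∀ v (q : Q), ψ v = QuotientGroup.mk q → R v = Cfsg.Agent.S5408.bit (q ^ 2) := fun v q h => by
    simp only [R, h, Cfsg.Agent.S5408.sqBit_mk hE]
  have hcoset : ∀ v w : leechLattice, R (v + (w + w)) = R v := fun v w => by
    simp only [R, hψm v (w + w), (hψk (w + w)).2 ⟨w, rfl⟩, mul_one]
  have hquad : ∀ u v w : leechLattice,
      R (u + v + w) + R u + R v + R w = R (u + v) + R (u + w) + R (v + w) := by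
    intro u v w
    obtain ⟨a, ha⟩ := QuotientGroup.mk_surjective (ψ u)
    obtain ⟨b, hb⟩ := QuotientGroup.mk_surjective (ψ v)
    obtain ⟨c, hc⟩ := QuotientGroup.mk_surjective (ψ w)
    simp only [R, hψm, ← ha, ← hb, ← hc, ← QuotientGroup.mk_mul, Cfsg.Agent.S5408.sqBit_mk hE]
    exact Cfsg.Agent.S5408.bit_sq_cubic hE a b c
  have hinv : ∀ (g : Co0) (v : leechLattice), R (g • v) = R v := by
    intro g v
    obtain ⟨h, hh⟩ := exists_lift e g
    obtain ⟨q, hq⟩ := QuotientGroup.mk_surjective (ψ v)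
    rw [hR v q hq.symm, hR _ _ (hψe h g hh v q hq.symm), Cfsg.Agent.S5408.bit, Cfsg.Agent.S5408.bit]
    congr 1
    rw [eq_iff_iff, Subtype.ext_iff, Subtype.ext_iff (a1 := q ^ 2)]
    simp [conj_pow]
  have hne : ∃ v, R v ≠ 0 := by
    by_contra hc
    push Not at hc
    haveI : Fact (Nat.Prime 2) := ⟨Nat.prime_two⟩
    have h1 : ∀ y : Q, y ^ 2 = 1 := fun y => by
      obtain ⟨v, hv⟩ := hψs (QuotientGroup.mk y)
      exact Cfsg.Agent.S5408.sq_eq_one_of_sqBit hE (hv ▸ hc v)
    exact IsExtraspecial.not_comm hE ⟨⟨fun a b => Cfsg.Agent.S5408.comm_sq h1 a b⟩⟩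
  have e2 : R v = normForm (v : Vec) := form_unique R hcoset hquad hinv hne v
  rw [← e2, hR v x hx, Cfsg.Agent.S5408.bit]
  by_cases h : x ^ 2 = 1 <;> simp [h]

include hM hψ in
theorem bev_of_commute {v w : leechLattice} {a b : Q} (ha : ψ v = QuotientGroup.mk a)
    (hb : ψ w = QuotientGroup.mk b) (hab : a * b = b * a) : Bev (v : Vec) (w : Vec) := by
  classical
  have hE := hM.2.2.1
  have hsum : ψ (v + w) = QuotientGroup.mk (a * b) := by rw [hψ.1, ha, hb, QuotientGroup.mk_mul]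
  have hb' : ∀ {u : leechLattice} {c : Q}, ψ u = QuotientGroup.mk c →
      Cfsg.Agent.S5408.bit (c ^ 2) = normForm (u : Vec) := by
    intro u c hc
    have h1 := sq_one_iff hM hψ hc
    have h2 : normForm (u : Vec) = 0 ∨ normForm (u : Vec) = 1 := by
      generalize normForm (u : Vec) = t; revert t; decide
    rw [Cfsg.Agent.S5408.bit]
    by_cases h : c ^ 2 = 1
    · rw [if_pos h, h1.1 h]
    · rcases h2 with h2 | h2
      · exact absurd (h1.2 h2) h
      · rw [if_neg h, h2]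
  have key := Cfsg.Agent.S5408.bit_sq_mul hE a b
  rw [hb' hsum, hb' ha, hb' hb, commutatorElement_eq_one_iff_mul_comm.2 hab] at key
  simp only [Cfsg.Agent.S5408.bit, if_true, add_zero, normForm, AddSubgroup.coe_add] at key
  have hv := mem_iff.1 v.2
  have hw := mem_iff.1 w.2
  have h1 := norm_dvd hv; have h2 := norm_dvd hw; have h3 := norm_dvd (isL_add hv hw)
  have h8 := UPerp.eight_dvd_dot hv hw
  rw [← Int.cast_add, ZMod.intCast_eq_intCast_iff_dvd_sub] at key
  rw [UPerp.norm_add'] at h3 key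
  unfold Bev
  omega

include hM hψ in
theorem mem_of_centralizes {h : Subgroup.centralizer ({z} : Set G)} (hh : ∀ x : Q, cj h x = x) : h ∈ Q := by
  obtain ⟨g, hg⟩ := QuotientGroup.mk_surjective (e (QuotientGroup.mk h))
  have hc : g ∈ Subgroup.center ↥Co0 := by
    refine Leech.faithful g fun v => ?_
    obtain ⟨x, hx⟩ := QuotientGroup.mk_surjective (ψ v)
    have h1 := act hψ hg hx.symm
    rw [hh, hx, psi_eq_iff hψ] at h1
    obtain ⟨u, hu, eu⟩ := h1
    exact ⟨⟨u, mem_iff.2 hu⟩, by rw [eu, two_smul]⟩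
  rw [← QuotientGroup.eq_one_iff] at hc ⊢
  exact e.injective (by rw [← hg, hc, map_one])

include hM hψ in
theorem z_mem : ∃ c : Q, c ∈ Subgroup.center Q ∧ val c = z := by
  have hzC : z ∈ Subgroup.centralizer ({z} : Set G) := Subgroup.mem_centralizer_singleton_iff.2 rfl
  have hz : (⟨z, hzC⟩ : Subgroup.centralizer ({z} : Set G)) ∈ Q := mem_of_centralizes hM hψ fun x => by
    refine val_injective ?_
    rw [val_cj, ← val_comm x, mul_inv_cancel_right]
  refine ⟨⟨_, hz⟩, Subgroup.mem_center_iff.2 fun x => val_injective ?_, rfl⟩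
  exact val_comm x

include hM hψ in
theorem center_cases {x : Q} (hx : x ∈ Subgroup.center Q) : val x = 1 ∨ val x = z := by
  obtain ⟨c, hc, hcz⟩ := z_mem hM hψ
  obtain ⟨y, -, hy⟩ := (Nat.card_eq_two_iff' (1 : Subgroup.center Q)).1 (IsExtraspecial.card_center hM.2.2.1)
  by_cases h1 : x = 1
  · exact Or.inl (by rw [h1, val_one])
  have hne : c ≠ 1 := fun h => by
    have h2 := hM.1
    rw [← hcz, h, val_one, orderOf_one] at h2
    omega
  have e1 := hy ⟨x, hx⟩ fun h => h1 (congrArg Subtype.val h)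
  have e2 := hy ⟨c, hc⟩ fun h => hne (congrArg Subtype.val h)
  exact Or.inr (by rw [show x = c from congrArg Subtype.val (e1.trans e2.symm), hcz])

include hM hψ in
theorem mk_eq_cases {a b : Q} (h : (QuotientGroup.mk a : Q ⧸ Subgroup.center Q) = QuotientGroup.mk b) :
    val b = val a ∨ val b = val a * z := by
  rw [QuotientGroup.eq] at h
  have e : val b = val a * val (a⁻¹ * b) := by rw [← val_mul, mul_inv_cancel_left]
  rcases center_cases hM hψ h with h' | h'
  · exact Or.inl (by rw [e, h', mul_one])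
  · exact Or.inr (by rw [e, h'])

include hM hψ in
/-- An element off the centre is conjugate in `Q` to its product with `z`. -/
theorem swap {x : Q} (hx : x ∉ Subgroup.center Q) : ∃ q : Q, val q * val x * (val q)⁻¹ = val x * z := by
  rw [Subgroup.mem_center_iff] at hx
  push Not at hx
  obtain ⟨q, hq⟩ := hx
  refine ⟨q, ?_⟩
  have hm : (QuotientGroup.mk x : Q ⧸ Subgroup.center Q) = QuotientGroup.mk (q * x * q⁻¹) := by
    rw [QuotientGroup.eq]
    have h1 := IsExtraspecial.comm_mem hM.2.2.1 x⁻¹ q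
    rwa [commutatorElement_def, inv_inv, show x⁻¹ * q * x * q⁻¹ = x⁻¹ * (q * x * q⁻¹) by group] at h1
  rcases mk_eq_cases hM hψ hm with h | h
  · exact absurd (by rw [← mul_inv_eq_iff_eq_mul]; exact val_injective h) hq
  · exact h

include hM hψ in
theorem conj_of_orbit {v w : leechLattice} {x y : Q} (hx : ψ v = QuotientGroup.mk x)
    (hy : ψ w = QuotientGroup.mk y) (hxc : x ∉ Subgroup.center Q) (g : Co0) (hg : g • v = w) :
    ∃ h ∈ Subgroup.centralizer ({z} : Set G), h * val x * h⁻¹ = val y := by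
  obtain ⟨h, hh⟩ := exists_lift e g
  have h1 := act hψ hh hx
  rw [hg, hy] at h1
  rcases mk_eq_cases hM hψ h1 with h2 | h2
  · exact ⟨h, h.2, by rw [← h2, val_cj]⟩
  obtain ⟨q, hq⟩ := swap hM hψ hxc
  refine ⟨(h * (q : Subgroup.centralizer ({z} : Set G)) : Subgroup.centralizer ({z} : Set G)), SetLike.coe_mem _, ?_⟩
  have hzh : (h : G) * z = z * (h : G) := Subgroup.mem_centralizer_singleton_iff.1 h.2
  have hzz : z * z = 1 := by rw [← sq, ← hM.1]; exact pow_orderOf_eq_one z
  rw [Subgroup.coe_mul, show (h : G) * ((q : Subgroup.centralizer ({z} : Set G)) : G) * val x *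
    ((h : G) * ((q : Subgroup.centralizer ({z} : Set G)) : G))⁻¹ = (h : G) * (val q * val x * (val q)⁻¹) * (h : G)⁻¹ by
      simp only [val]; group, hq]
  have e1 : val y * z = (h : G) * val x * (h : G)⁻¹ := by rw [← val_cj, h2]
  calc (h : G) * (val x * z) * (h : G)⁻¹ = (h : G) * val x * (h : G)⁻¹ * ((h : G) * z) * (h : G)⁻¹ := by group
    _ = val y * z * (z * (h : G)) * (h : G)⁻¹ := by rw [← e1, hzh]
    _ = val y * (z * z) := by group
    _ = val y := by rw [hzz, mul_one]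

include hψ in
theorem not_center_of_short {v : leechLattice} {x : Q} (hx : ψ v = QuotientGroup.mk x)
    (h1 : 0 < sqNorm (v : Vec)) (h2 : sqNorm (v : Vec) ≤ 64) : x ∉ Subgroup.center Q := fun hc => by
  rw [(QuotientGroup.eq_one_iff x).2 hc, psi_eq_one_iff hψ] at hx
  obtain ⟨u, hu, eu⟩ := hx
  have := (short_congr (v := (v : Vec)) (w := 0) isL_zero hu h2 (by simp [sqNorm])
    (by rw [two_smul]; exact eu)).1
  rw [show sqNorm (0 : Vec) = 0 by simp [sqNorm]] at this
  omega

include hM hψ in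
/-- An involution of `Q` off the centre lies over a vector of one of the two lengths. -/
theorem exists_rep {x : Q} (h2 : x ^ 2 = 1) (h1 : val x ≠ 1) (hz : val x ≠ z) :
    ∃ v : leechLattice, (sqNorm (v : Vec) = 32 ∨ sqNorm (v : Vec) = 64) ∧ ψ v = QuotientGroup.mk x := by
  obtain ⟨v0, hv0⟩ := hψ.2.1 (QuotientGroup.mk x)
  obtain ⟨y, hy, hyn, u, hu, eu⟩ := Lattice.exists_short_rep v0.2
  have hv : ψ ⟨y, hy⟩ = QuotientGroup.mk x := by
    rw [← hv0, psi_eq_iff hψ]
    exact UPerp.Cong.symm ⟨u, mem_iff.1 hu, by rw [eu, two_smul]⟩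
  have hy0 : y ≠ 0 := by
    intro h0
    subst h0
    have hc : x ∈ Subgroup.center Q := by
      rw [← QuotientGroup.eq_one_iff, ← hv]; exact psi_zero hψ
    rcases center_cases hM hψ hc with h | h
    exacts [h1 h, hz h]
  have hge := norm_ge (mem_iff.1 hy) hy0
  have hd := norm_dvd (mem_iff.1 hy)
  have hq := (sq_one_iff hM hψ hv).1 h2
  rw [normForm, ZMod.intCast_zmod_eq_zero_iff_dvd] at hq
  refine ⟨⟨y, hy⟩, ?_, hv⟩
  show sqNorm y = 32 ∨ sqNorm y = 64
  change (2 : ℤ) ∣ sqNorm y / 16 at hq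
  omega

end

/-! ### conjugates of `z` -/

section

variable {e : (Subgroup.centralizer ({z} : Set G)) ⧸ Q ≃* Spor.Co1} {ψ : leechLattice → Q ⧸ Subgroup.center Q}
  (hM : IsExtraspecialCentralizerSetting z Q 12) (hψ : IsLeechModTwoIso Q e ψ)

include hM hψ in
/-- Involutions over vectors of one length are conjugate in the centralizer. -/
theorem conj_same {v w : leechLattice} {x y : Q} (hx : ψ v = QuotientGroup.mk x) (hy : ψ w = QuotientGroup.mk y)
    (hn : sqNorm (v : Vec) = sqNorm (w : Vec)) (hv : sqNorm (v : Vec) = 32 ∨ sqNorm (v : Vec) = 64) :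
    ∃ h ∈ Subgroup.centralizer ({z} : Set G), h * val x * h⁻¹ = val y := by
  have hxc := not_center_of_short hψ hx (by omega) (by omega)
  obtain ⟨g, hg⟩ : ∃ g : Co0, g • v = w := by
    rcases hv with h | h
    · exact Conway.exists_smul_of_rel (Conway.orbit32 v.2 h) (Conway.orbit32 w.2 (hn ▸ h))
    · exact Conway.exists_smul_of_rel (Conway.orbit64 v.2 h) (Conway.orbit64 w.2 (hn ▸ h))
  exact conj_of_orbit hM hψ hx hy hxc g hg

include hM in
theorem card_small_bound {t : G} (htC : t ∈ Subgroup.centralizer ({z} : Set G)) (ht2 : t * t = 1)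
    (h : Nat.card {x : Q // cj ⟨t, htC⟩ x = x} ≤ 4) : False := by
  classical
  have hE := hM.2.2.1
  haveI : Fact (Nat.Prime 2) := ⟨Nat.prime_two⟩
  set T : Subgroup.centralizer ({z} : Set G) := ⟨t, htC⟩ with hT
  have hTT : T * T = 1 := Subtype.ext ht2
  have hTi : T⁻¹ = T := inv_eq_of_mul_eq_one_right hTT
  have hq2 : ∀ a : Q ⧸ Subgroup.center Q, a ^ 2 = 1 := fun a => by
    induction a using QuotientGroup.induction_on with
    | _ x => rw [← QuotientGroup.mk_pow, QuotientGroup.eq_one_iff]; exact IsExtraspecial.pow_mem_center hE x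
  have hcm : ∀ a b : Q ⧸ Subgroup.center Q, a * b = b * a := Cfsg.Agent.S5408.comm_sq hq2
  have hcmul : ∀ x y : Q, cj T (x * y) = cj T x * cj T y := fun x y => Subtype.ext (by
    simp only [cj, Subgroup.coe_mul]; group)
  have hcinv : ∀ x : Q, cj T x⁻¹ = (cj T x)⁻¹ := fun x => Subtype.ext (by
    simp only [cj, InvMemClass.coe_inv]; group)
  have hcc : ∀ x : Q, cj T (cj T x) = x := fun x => Subtype.ext (by
    show T * (T * (x : Subgroup.centralizer ({z} : Set G)) * T⁻¹) * T⁻¹ = _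
    rw [hTi, ← mul_assoc, ← mul_assoc, hTT, one_mul, mul_assoc, hTT, mul_one])
  have hqi : ∀ a : Q ⧸ Subgroup.center Q, a⁻¹ = a := fun a =>
    inv_eq_of_mul_eq_one_right (by rw [← sq]; exact hq2 a)
  -- the commutator with the involution, modulo the centre
  let f : Q →* Q ⧸ Subgroup.center Q := MonoidHom.mk' (fun x => QuotientGroup.mk (cj T x * x⁻¹)) fun x y => by
    simp only [hcmul, QuotientGroup.mk_mul, QuotientGroup.mk_inv, hqi]
    exact Commute.mul_mul_mul_comm (hcm _ _) _ _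
  haveI : Fintype Q := Fintype.ofFinite _
  have hF : (Finset.univ.filter fun x : Q => cj T x = x).card ≤ 4 := by
    rw [← Fintype.card_subtype, ← Nat.card_eq_fintype_card]; exact h
  have hK : (Finset.univ.filter fun x : Q => f x = 1).card ≤ 8 := by
    by_cases hex : ∃ x0, f x0 = 1 ∧ cj T x0 ≠ x0
    · obtain ⟨x0, hx0, hx0'⟩ := hex
      refine le_trans (Finset.card_le_card (t := (Finset.univ.filter fun x : Q => cj T x = x) ∪
        (Finset.univ.filter fun x : Q => cj T x = x).image (· * x0)) fun x hx => ?_) ?_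
      · simp only [Finset.mem_filter, Finset.mem_univ, true_and, Finset.mem_union, Finset.mem_image] at hx ⊢
        by_cases hfix : cj T x = x
        · exact Or.inl hfix
        refine Or.inr ⟨x * x0⁻¹, ?_, inv_mul_cancel_right x x0⟩
        obtain ⟨c, -, hc⟩ := (Nat.card_eq_two_iff' (1 : Subgroup.center Q)).1 (IsExtraspecial.card_center hE)
        have h1 : cj T x * x⁻¹ ∈ Subgroup.center Q := (QuotientGroup.eq_one_iff _).1 hx
        have h2 : cj T x0 * x0⁻¹ ∈ Subgroup.center Q := (QuotientGroup.eq_one_iff _).1 hx0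
        have e1 := hc ⟨_, h1⟩ fun he => hfix (mul_inv_eq_one.1 (congrArg Subtype.val he))
        have e2 := hc ⟨_, h2⟩ fun he => hx0' (mul_inv_eq_one.1 (congrArg Subtype.val he))
        have e3 : cj T x * x⁻¹ = cj T x0 * x0⁻¹ := congrArg Subtype.val (e1.trans e2.symm)
        have hc3 := Subgroup.mem_center_iff.1 h2 (x * x0⁻¹)
        rw [hcmul, hcinv, mul_inv_eq_iff_eq_mul.1 e3]
        calc cj T x0 * x0⁻¹ * x * (cj T x0)⁻¹
            = cj T x0 * x0⁻¹ * (x * x0⁻¹) * (cj T x0 * x0⁻¹)⁻¹ := by group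
          _ = x * x0⁻¹ := by rw [← hc3, mul_inv_cancel_right]
      · exact le_trans (Finset.card_union_le _ _) (by
          have := Finset.card_image_le (s := Finset.univ.filter fun x : Q => cj T x = x) (f := (· * x0))
          omega)
    · push Not at hex
      refine le_trans (Finset.card_le_card fun x hx => ?_) (hF.trans (by norm_num))
      simp only [Finset.mem_filter, Finset.mem_univ, true_and] at hx ⊢
      exact hex x hx
  have hker : Nat.card f.ker ≤ 8 := by
    rw [Nat.card_eq_fintype_card, Fintype.card_subtype]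
    simpa only [MonoidHom.mem_ker] using hK
  have hle : f.range ≤ f.ker.map (QuotientGroup.mk' (Subgroup.center Q)) := by
    rintro _ ⟨x, rfl⟩
    refine ⟨cj T x * x⁻¹, ?_, rfl⟩
    show f (cj T x * x⁻¹) = 1
    have hfx : f (cj T x) = f x := by
      show (QuotientGroup.mk (cj T (cj T x) * (cj T x)⁻¹) : Q ⧸ Subgroup.center Q) = QuotientGroup.mk (cj T x * x⁻¹)
      rw [hcc, show x * (cj T x)⁻¹ = (cj T x * x⁻¹)⁻¹ by rw [mul_inv_rev, inv_inv], QuotientGroup.mk_inv, hqi]
    rw [map_mul, map_inv, hfx, mul_inv_cancel]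
  have hran : Nat.card f.range ≤ 8 :=
    (Subgroup.card_le_of_le hle).trans (le_trans (Nat.le_of_dvd Nat.card_pos (Subgroup.card_map_dvd _ _)) hker)
  have hmul := f.ker.card_mul_index
  rw [Subgroup.index_ker, hM.2.2.2.1] at hmul
  have := Nat.mul_le_mul hker hran
  rw [hmul] at this
  norm_num at this

end

section

variable {e : (Subgroup.centralizer ({z} : Set G)) ⧸ Q ≃* Spor.Co1} {ψ : leechLattice → Q ⧸ Subgroup.center Q}
  (hM : IsExtraspecialCentralizerSetting z Q 12) (hψ : IsLeechModTwoIso Q e ψ)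

include hM hψ in
/-- An involution over a short vector is not a conjugate of `z`. -/
theorem not_conj32 {v0 : leechLattice} {x0 : Q} (hx0 : ψ v0 = QuotientGroup.mk x0)
    (hn : sqNorm (v0 : Vec) = 32) : ¬ IsConj z (val x0) := by
  classical
  intro hconj
  have hE := hM.2.2.1
  haveI : Fact (Nat.Prime 2) := ⟨Nat.prime_two⟩
  let u : leechLattice := ⟨U, mem_iff.2 UPerp.isL_U⟩
  have hnu : sqNorm (u : Vec) = 32 := UPerp.bev_pair12.2.2.1
  obtain ⟨x, hx'⟩ := QuotientGroup.mk_surjective (ψ u)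
  have hx : ψ u = QuotientGroup.mk x := hx'.symm
  obtain ⟨h0, -, e0⟩ := conj_same hM hψ hx0 hx (hn.trans hnu.symm) (Or.inl hn)
  obtain ⟨g, hg⟩ := isConj_iff.1 (hconj.trans (isConj_iff.2 ⟨h0, e0⟩))
  set s := val x with hs
  have hxc : x ∉ Subgroup.center Q := not_center_of_short hψ hx (by omega) (by omega)
  obtain ⟨c, hc, hcz⟩ := z_mem hM hψ
  have hsz : s ≠ z := fun h => hxc (by rwa [val_injective (h.trans hcz.symm)])
  have hs1 : s ≠ 1 := fun h => hxc (by rw [val_injective (h.trans val_one.symm)]; exact one_mem _)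
  have hzz : z * z = 1 := by rw [← sq, ← hM.1]; exact pow_orderOf_eq_one z
  let CC := Subgroup.centralizer ({z} : Set G)
  let A : Subgroup CC := ((Q.map CC.subtype).map (MulAut.conj g).toMonoidHom).subgroupOf CC
  have hA : ∀ a : CC, a ∈ A ↔ ∃ y : Q, g * val y * g⁻¹ = (a : G) := by
    intro a
    rw [Subgroup.mem_subgroupOf, Subgroup.mem_map]
    constructor
    · rintro ⟨_, ⟨y, hy, rfl⟩, h⟩; exact ⟨⟨y, hy⟩, h⟩
    · rintro ⟨y, hy⟩; exact ⟨_, ⟨(y : CC), y.2, rfl⟩, hy⟩
  have hAs : ∀ a ∈ A, (a : G) * s = s * (a : G) := by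
    intro a ha
    obtain ⟨y, hy⟩ := (hA a).1 ha
    rw [← hy, ← hg]
    calc g * val y * g⁻¹ * (g * z * g⁻¹) = g * (val y * z) * g⁻¹ := by group
      _ = g * z * g⁻¹ * (g * val y * g⁻¹) := by rw [val_comm]; group
  have hA4 : ∀ a ∈ A, a ^ 4 = 1 := by
    intro a ha
    obtain ⟨y, hy⟩ := (hA a).1 ha
    refine Subtype.ext ?_
    rw [Subgroup.coe_pow, ← hy, conj_pow]
    have h4 := IsExtraspecial.pow_sq hE y
    have h4' : (val y) ^ 4 = 1 := by
      show (((y ^ 4 : Q) : CC) : G) = 1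
      rw [show y ^ 4 = 1 from h4]; rfl
    rw [h4', mul_one, mul_inv_cancel, Subgroup.coe_one]
  have hAn : ∀ h : CC, (h : G) * s = s * (h : G) → ∀ a ∈ A, h * a * h⁻¹ ∈ A := by
    intro h hh a ha
    obtain ⟨y, hy⟩ := (hA a).1 ha
    have hk : g⁻¹ * (h : G) * g ∈ CC := by
      refine Subgroup.mem_centralizer_singleton_iff.2 ?_
      rw [← hg] at hh
      calc g⁻¹ * (h : G) * g * z = g⁻¹ * ((h : G) * (g * z * g⁻¹)) * g := by group
        _ = z * (g⁻¹ * (h : G) * g) := by rw [hh]; group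
    refine (hA _).2 ⟨cj ⟨_, hk⟩ y, ?_⟩
    rw [val_cj, Subgroup.coe_mul, Subgroup.coe_mul, InvMemClass.coe_inv, ← hy]
    group
  have hlift : ∀ g0 : Co0, ap g0 U = U →
      ∃ h : CC, (QuotientGroup.mk g0 : Spor.Co1) = e (QuotientGroup.mk h) ∧ (h : G) * s = s * (h : G) := by
    intro g0 hg0
    obtain ⟨h, hh⟩ := exists_lift e g0
    have h1 := act hψ hh hx
    have hu : g0 • u = u := Subtype.ext (by rw [← UPerp.ap_coe]; exact hg0)
    rw [hu, hx] at h1
    rcases mk_eq_cases hM hψ h1 with h2 | h2 <;> rw [val_cj] at h2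
    · exact ⟨h, hh, mul_inv_eq_iff_eq_mul.1 h2⟩
    obtain ⟨q, hq⟩ := swap hM hψ hxc
    refine ⟨(q : CC) * h, ?_, mul_inv_eq_iff_eq_mul.1 ?_⟩
    · rw [hh, QuotientGroup.mk_mul, (QuotientGroup.eq_one_iff (q : CC)).2 q.2, one_mul]
    rw [Subgroup.coe_mul]
    change val q * (h : G) * s * (val q * (h : G))⁻¹ = s
    calc val q * (h : G) * s * (val q * (h : G))⁻¹
        = val q * ((h : G) * val x * (h : G)⁻¹) * (val q)⁻¹ := by rw [hs]; group
      _ = val q * val x * (val q)⁻¹ * (val q * z * (val q)⁻¹) := by rw [h2]; group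
      _ = s * z * z := by rw [hq, val_comm q, mul_inv_cancel_right]
      _ = s := by rw [mul_assoc, hzz, mul_one]
  -- the image in the Conway group
  have hAQ : ∀ a ∈ A, a ∈ Q := by
    let R : Subgroup Co0 := ((A.map (QuotientGroup.mk' Q)).map e.toMonoidHom).comap
      (QuotientGroup.mk' (Subgroup.center ↥Co0))
    have hmem : ∀ r : Co0, r ∈ R ↔ ∃ a ∈ A, (QuotientGroup.mk r : Spor.Co1) = e (QuotientGroup.mk a) := by
      intro r
      simp only [R, Subgroup.mem_comap, Subgroup.mem_map]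
      constructor
      · rintro ⟨_, ⟨a, ha, rfl⟩, h⟩; exact ⟨a, ha, h.symm⟩
      · rintro ⟨a, ha, h⟩; exact ⟨_, ⟨a, ha, rfl⟩, h.symm⟩
    haveI : Finite ↥Co0 := Nat.finite_of_card_ne_zero (by rw [Conway.card_Co0]; norm_num)
    have hR : IsPGroup 2 R := by
      rintro ⟨r, hr⟩
      obtain ⟨a, ha, h⟩ := (hmem r).1 hr
      refine ⟨3, Subtype.ext ?_⟩
      rw [Subgroup.coe_pow, Subgroup.coe_one]
      have h4 : r ^ 4 ∈ Subgroup.center ↥Co0 := by
        rw [← QuotientGroup.eq_one_iff, QuotientGroup.mk_pow, h, ← map_pow, ← QuotientGroup.mk_pow, hA4 a ha,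
          QuotientGroup.mk_one, map_one]
      have h2 : (⟨r ^ 4, h4⟩ : Subgroup.center ↥Co0) ^ 2 = 1 := by
        rw [← Conway.card_center]; exact pow_card_eq_one'
      have h8 := congrArg Subtype.val h2
      simp only [Subgroup.coe_pow, Subgroup.coe_one] at h8
      rwa [show 2 ^ 3 = 4 * 2 from rfl, pow_mul]
    obtain ⟨n, hn'⟩ := IsPGroup.iff_card.1 hR
    have hcen := UPerp.stab_two_core R hn' (fun r hr => by
      obtain ⟨a, ha, h⟩ := (hmem r).1 hr
      have h1 := act hψ h hx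
      have h2 : cj a x = x := val_injective (by
        rw [val_cj, ← hs, hAs a ha, mul_inv_cancel_right])
      rw [h2, ← hx, psi_eq_iff hψ, ← UPerp.ap_coe] at h1
      exact h1) (fun g0 hg0 r hr => by
      obtain ⟨a, ha, h⟩ := (hmem r).1 hr
      obtain ⟨k, hk, hks⟩ := hlift g0 hg0
      refine (hmem _).2 ⟨k * a * k⁻¹, hAn k hks a ha, ?_⟩
      rw [QuotientGroup.mk_mul, QuotientGroup.mk_mul, QuotientGroup.mk_inv, QuotientGroup.mk_mul,
        QuotientGroup.mk_mul, QuotientGroup.mk_inv, map_mul, map_mul, map_inv, hk, h])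
    intro a ha
    obtain ⟨r, hr⟩ := QuotientGroup.mk_surjective (e (QuotientGroup.mk a))
    have h1 := hcen ((hmem r).2 ⟨a, ha, hr⟩)
    rw [← QuotientGroup.eq_one_iff, hr] at h1
    rw [← QuotientGroup.eq_one_iff]
    exact e.injective (h1.trans (map_one e).symm)
  -- commutativity
  have hAc : ∀ a b : Q, (a : CC) ∈ A → (b : CC) ∈ A → a * b = b * a := by
    intro a b ha hb
    rw [← commutatorElement_eq_one_iff_mul_comm]
    obtain ⟨ya, hya⟩ := (hA _).1 ha
    obtain ⟨yb, hyb⟩ := (hA _).1 hb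
    have e1 : val ⁅a, b⁆ = g * val ⁅ya, yb⁆ * g⁻¹ := by
      simp only [commutatorElement_def, val, Subgroup.coe_mul, InvMemClass.coe_inv]
      simp only [val] at hya hyb
      rw [← hya, ← hyb]; group
    rcases center_cases hM hψ (IsExtraspecial.comm_mem hE a b) with h | h
    · exact val_injective (h.trans val_one.symm)
    · exfalso
      rcases center_cases hM hψ (IsExtraspecial.comm_mem hE ya yb) with h' | h' <;> rw [h', h] at e1
      · rw [mul_one, mul_inv_cancel] at e1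
        have h2 := hM.1
        rw [e1, orderOf_one] at h2
        omega
      · exact hsz (hg.symm.trans e1.symm)
  have hsA : (x : CC) ∈ A := (hA _).2 ⟨c, by rw [hcz]; exact hg⟩
  -- the lattice image
  let X : AddSubgroup Vec :=
    { carrier := {w | ∃ hw : w ∈ leechLattice, ∃ y : Q, (y : CC) ∈ A ∧ ψ ⟨w, hw⟩ = QuotientGroup.mk y}
      zero_mem' := ⟨zero_mem _, 1, one_mem _, psi_zero hψ⟩
      add_mem' := fun {a b} ⟨ha, y, hy, ea⟩ ⟨hb, y', hy', eb⟩ => ⟨add_mem ha hb, y * y', mul_mem hy hy', by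
        rw [QuotientGroup.mk_mul, ← ea, ← eb, ← hψ.1]; rfl⟩
      neg_mem' := fun {a} ⟨ha, y, hy, ea⟩ => ⟨neg_mem ha, y⁻¹, inv_mem hy, by
        rw [QuotientGroup.mk_inv, ← ea]
        refine eq_inv_of_mul_eq_one_left ?_
        rw [← hψ.1, show (⟨-a, neg_mem ha⟩ : leechLattice) + ⟨a, ha⟩ = 0 from Subtype.ext (neg_add_cancel a), psi_zero hψ]⟩ }
  have hX : InvX X := InvX.of_stab (fun w hw => mem_iff.1 hw.1) (fun w ⟨hw, y, hy, ey⟩ =>
      bev_of_commute hM hψ ey hx (hAc y x hy hsA))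
    (fun w hw => ⟨mem_iff.2 (isL_add hw hw), 1, one_mem _, by
      rw [QuotientGroup.mk_one, psi_eq_one_iff hψ]; exact UPerp.cong_self_add hw⟩)
    ⟨u.2, x, hsA, hx⟩
    (fun g0 hg0 w ⟨hw, y, hy, ey⟩ => by
      obtain ⟨k, hk, hks⟩ := hlift g0 hg0
      refine ⟨mem_iff.2 (UPerp.ap_isL g0 (mem_iff.1 hw)), cj k y, hAn k hks _ hy, ?_⟩
      rw [← act hψ hk ey]
      exact congrArg ψ (Subtype.ext (UPerp.ap_coe g0 ⟨w, hw⟩)))
  have hsmall : ∀ a ∈ A, (a : G) ∈ ({1, z, s, s * z} : Finset G) := by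
    intro a ha
    let y : Q := ⟨a, hAQ a ha⟩
    obtain ⟨v, hv⟩ := hψ.2.1 (QuotientGroup.mk y)
    have hK := hX.inK_of_isotropic (fun p ⟨_, yp, hyp, ep⟩ q ⟨_, yq, hyq, eq⟩ =>
      bev_of_commute hM hψ ep eq (hAc yp yq hyp hyq)) (x := (v : Vec)) ⟨v.2, y, ha, hv⟩
    simp only [Finset.mem_insert, Finset.mem_singleton]
    rcases hK with hK | hK
    · rw [← psi_eq_one_iff hψ, hv, ← QuotientGroup.mk_one] at hK
      rcases mk_eq_cases hM hψ hK.symm with h | h
      · exact Or.inl (h.trans val_one)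
      · exact Or.inr (Or.inl (by rw [show (a : G) = val (1 : Q) * z from h, val_one, one_mul]))
    · rw [← psi_eq_iff hψ v u, hv, hx] at hK
      rcases mk_eq_cases hM hψ hK.symm with h | h
      · exact Or.inr (Or.inr (Or.inl h))
      · exact Or.inr (Or.inr (Or.inr h))
  -- too few fixed points
  have hzs : z * s = s * z := (val_comm x).symm
  have htC : g⁻¹ * z * g ∈ CC := by
    refine Subgroup.mem_centralizer_singleton_iff.2 ?_
    rw [← hg] at hzs
    calc g⁻¹ * z * g * z = g⁻¹ * (z * (g * z * g⁻¹)) * g := by group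
      _ = z * (g⁻¹ * z * g) := by rw [hzs]; group
  refine card_small_bound hM htC (by
    rw [show g⁻¹ * z * g * (g⁻¹ * z * g) = g⁻¹ * (z * z) * g by group, hzz]; group) ?_
  have hto : ∀ y : {y : Q // cj ⟨_, htC⟩ y = y}, g * val y.1 * g⁻¹ ∈ ({1, z, s, s * z} : Finset G) := by
    rintro ⟨y, hy⟩
    have h1 : g⁻¹ * z * g * val y * (g⁻¹ * z * g)⁻¹ = val y := congrArg val hy
    have hC : g * val y * g⁻¹ ∈ CC := by
      refine Subgroup.mem_centralizer_singleton_iff.2 ?_
      rw [mul_inv_eq_iff_eq_mul] at h1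
      calc g * val y * g⁻¹ * z = g * (val y * (g⁻¹ * z * g)) * g⁻¹ := by group
        _ = z * (g * val y * g⁻¹) := by rw [← h1]; group
    exact hsmall ⟨_, hC⟩ ((hA _).2 ⟨y, rfl⟩)
  refine (Nat.card_le_card_of_injective (fun y => (⟨_, hto y⟩ : ({1, z, s, s * z} : Finset G))) fun a b h => ?_).trans ?_
  · have h' := congrArg Subtype.val h
    simp only [mul_left_inj, mul_right_inj] at h'
    exact Subtype.ext (val_injective h')
  · rw [Nat.card_eq_fintype_card, Fintype.card_coe]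
    exact Finset.card_le_four

include hM hψ in
/-- The conjugates of `z` in `Q` other than `z` lie over the vectors of squared length 64. -/
theorem conj_iff (x : Q) : (IsConj z (val x) ∧ val x ≠ z) ↔
    ∃ v : leechLattice, sqNorm (v : Vec) = 64 ∧ ψ v = QuotientGroup.mk x := by
  have hrep : ∀ y : Q, IsConj z (val y) → val y ≠ z →
      ∃ v : leechLattice, sqNorm (v : Vec) = 64 ∧ ψ v = QuotientGroup.mk y := by
    intro y hy hyz
    obtain ⟨g, hg⟩ := isConj_iff.1 hy
    have hz1 : z ≠ 1 := fun h => by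
      have h2 := hM.1
      rw [h, orderOf_one] at h2
      omega
    have hzz : z ^ 2 = 1 := by rw [← hM.1]; exact pow_orderOf_eq_one z
    obtain ⟨v, hv | hv, e'⟩ := exists_rep hM hψ (x := y)
      (val_injective (by rw [show val (y ^ 2) = val y ^ 2 from rfl, ← hg, conj_pow, hzz, mul_one, mul_inv_cancel, val_one]))
      (fun h => hz1 (by rw [h] at hg; simpa using hg)) hyz
    · exact absurd hy (not_conj32 hM hψ e' hv)
    · exact ⟨v, hv, e'⟩
  refine ⟨fun h => hrep x h.1 h.2, fun ⟨v, hv, hvx⟩ => ?_⟩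
  obtain ⟨g, ⟨hC, hQ⟩, hne⟩ := hM.2.2.2.2
  let y : Q := ⟨⟨g * z * g⁻¹, hC⟩, hQ⟩
  have hy : IsConj z (val y) := isConj_iff.2 ⟨g, rfl⟩
  obtain ⟨w, hw, hwy⟩ := hrep y hy hne
  obtain ⟨h, -, hh⟩ := conj_same hM hψ hwy hvx (hw.trans hv.symm) (Or.inr hw)
  refine ⟨hy.trans (isConj_iff.2 ⟨h, hh⟩), fun he => ?_⟩
  obtain ⟨c, hc, hcz⟩ := z_mem hM hψ
  refine not_center_of_short hψ hvx (by omega) (by omega) ?_
  rwa [val_injective (he.trans hcz.symm)]

end

end CfsgLib.ThreeTrans.MonsterType
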