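import Cfsg.Agent.Lib.ThreeTrans.RootInv
import Cfsg.Prelude.Def_QuasithinSetup

/-!
Consequences for the graph of odd products and for normal subgroups.
-/

set_option autoImplicit false

namespace CfsgLib.ThreeTrans.RootInv

open Cfsg
open scoped commutatorElement

variable {G : Type*} [Group G] [Finite G]

/-- Outside `O₂`, an involution has odd product with one of its conjugates. -/
theorem exists_odd_conj {v : G} (hv : v * v = 1) (hO : v ∉ pCore 2 G) :
    ∃ g : G, v * (g * v * g⁻¹) ≠ 1 ∧ Odd (orderOf (v * (g * v * g⁻¹))) := by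
  obtain ⟨r, hr1, hro, hr⟩ := CfsgLib.LocalEvenB.exists_odd_inverted hv hO
  have hro' := hro
  obtain ⟨k, hk⟩ := hro
  rw [inv_eq_of_mul_eq_one_right hv] at hr
  set g := r ^ (k + 1) with hg
  have hg2 : g * g = r := by
    rw [hg, ← pow_add, show k + 1 + (k + 1) = orderOf r + 1 by omega, pow_succ, pow_orderOf_eq_one,
      one_mul]
  have hug : g⁻¹ * v = v * g := by
    have h1 : v * g * v = g⁻¹ := by
      rw [hg, ← inv_pow, ← hr]
      have := conj_pow (a := v) (b := r) (i := k + 1)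
      rw [inv_eq_of_mul_eq_one_right hv] at this
      exact this.symm
    rw [← h1, mul_assoc, hv, mul_one]
  have hprod : v * (g⁻¹ * v * g⁻¹⁻¹) = r := by
    rw [hug, inv_inv, mul_assoc v g g, hg2, ← mul_assoc, hv, one_mul]
  exact ⟨g⁻¹, by rw [hprod]; exact hr1, by rw [hprod]; exact hro'⟩

variable {D : Set G}

/-- The connection by odd products. -/
abbrev Reach (D : Set G) : G → G → Prop := Relation.ReflTransGen (OddAdj D)

variable (hD : IsRootInvolutionSet D)
include hD

theorem adj_of_mem {a b : G} (ha : a ∈ D) (h : b ∈ oddPartners D a) : OddAdj D a b :=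
  ⟨ha, h.1, h.2.1.symm, h.2.2⟩

theorem adj_symm {a b : G} (h : OddAdj D a b) : OddAdj D b a :=
  ⟨h.2.1, h.1, h.2.2.1.symm, by rw [orderOf_symm hD h.1 h.2.1]; exact h.2.2.2⟩

theorem reach_symm {a b : G} (h : Reach D a b) : Reach D b a := by
  induction h with
  | refl => exact Relation.ReflTransGen.refl
  | tail _ h2 ih => exact Relation.ReflTransGen.head (adj_symm hD h2) ih

theorem component_eq {a b : G} (h : Reach D a b) :
    elemComponentOf (OddAdj D) D a = elemComponentOf (OddAdj D) D b := by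
  ext z
  exact ⟨fun hz => ⟨hz.1, (reach_symm hD h).trans hz.2⟩, fun hz => ⟨hz.1, h.trans hz.2⟩⟩

theorem isolated_iff {a : G} : IsIsolatedElem (OddAdj D) D a ↔ a ∈ D ∧ oddPartners D a = ∅ := by
  constructor
  · rintro ⟨ha, h⟩
    exact ⟨ha, Set.eq_empty_iff_forall_notMem.2 fun b hb => (h b).1 (adj_of_mem hD ha hb)⟩
  · rintro ⟨ha, h⟩
    refine ⟨ha, fun b => ⟨fun hab => ?_, fun hba => ?_⟩⟩
    · exact Set.eq_empty_iff_forall_notMem.1 h b ⟨hab.2.1, hab.2.2.1.symm, hab.2.2.2⟩
    · have hab := adj_symm hD hba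
      exact Set.eq_empty_iff_forall_notMem.1 h b ⟨hab.2.1, hab.2.2.1.symm, hab.2.2.2⟩

theorem exists_partner {a : G} (ha : a ∈ D) (h : ¬ IsIsolatedElem (OddAdj D) D a) :
    ∃ x, x ∈ oddPartners D a := by
  by_contra hcon
  exact h ((isolated_iff hD).2 ⟨ha, Set.eq_empty_iff_forall_notMem.2 fun x hx => hcon ⟨x, hx⟩⟩)

theorem exists_partner_of_component {a : G} (ha : a ∈ D)
    (h : ∃ a' ∈ elemComponentOf (OddAdj D) D a, a' ≠ a) : ¬ IsIsolatedElem (OddAdj D) D a := by
  obtain ⟨a', ⟨-, hr⟩, hne⟩ := h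
  rcases hr.cases_head with h | ⟨c, hc, -⟩
  · exact absurd h.symm hne
  · exact fun hi => (hi.2 c).1 hc

/-- A triple member that is not isolated is connected to one of the others. -/
theorem reach_other {a b : G} (h : Tri D a b) (hi : ¬ IsIsolatedElem (OddAdj D) D (a * b)) :
    Reach D (a * b) a ∨ Reach D (a * b) b := by
  obtain ⟨x, hx⟩ := exists_partner hD h.2.2.2 hi
  have h1 := adj_of_mem hD h.2.2.2 hx
  rcases T1 hD h hx with h2 | h2
  · exact Or.inl ((Relation.ReflTransGen.single h1).tail (adj_symm hD (adj_of_mem hD h.1 h2)))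
  · exact Or.inr ((Relation.ReflTransGen.single h1).tail (adj_symm hD (adj_of_mem hD h.2.1 h2)))

theorem reach_of_tri {a b : G} (h : Tri D a b) (ha : ¬ IsIsolatedElem (OddAdj D) D a)
    (hb : ¬ IsIsolatedElem (OddAdj D) D b) : Reach D a b := by
  have h1 := Tri.third hD (Tri.symm hD h)
  have h2 := Tri.third hD h
  have e1 : b * (b * a) = a := cancel hD h.2.1 a
  have e2 : a * (a * b) = b := cancel hD h.1 b
  have r1 := reach_other hD h1 (by rw [e1]; exact ha)
  have r2 := reach_other hD h2 (by rw [e2]; exact hb)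
  rw [e1] at r1
  rw [e2] at r2
  rcases r1 with r1 | r1
  · exact r1
  rcases r2 with r2 | r2
  · exact reach_symm hD r2
  rw [← h.2.2.1] at r1
  exact r1.trans (reach_symm hD r2)

theorem isolated_mem_pCore {w : G} (hw : IsIsolatedElem (OddAdj D) D w) : w ∈ pCore 2 G := by
  by_contra hO
  obtain ⟨g, hne, ho⟩ := exists_odd_conj (sq_one hD hw.1) hO
  refine Set.eq_empty_iff_forall_notMem.1 ((isolated_iff hD).1 hw).2 _
    ⟨hD.conj_mem w hw.1 g, fun e => hne ?_, ho⟩
  rw [e, sq_one hD hw.1]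

theorem isolated_of_mem_pCore {d : G} (hd : d ∈ D) (hO : d ∈ pCore 2 G) :
    IsIsolatedElem (OddAdj D) D d := by
  refine (isolated_iff hD).2 ⟨hd, Set.eq_empty_iff_forall_notMem.2 fun e he => ?_⟩
  have hmem : (d * e) ^ 2 ∈ pCore 2 G := by
    rw [show (d * e) ^ 2 = d * (e * d * e⁻¹) by rw [sq, inv_eq hD he.1]; simp only [mul_assoc]]
    exact mul_mem hO ((inferInstance : (pCore 2 G).Normal).conj_mem d hO e)
  obtain ⟨k, hk⟩ := (CfsgLib.Core.isPGroup_pCore 2 G) ⟨_, hmem⟩
  have hk' : ((d * e) ^ 2) ^ 2 ^ k = 1 := congrArg Subtype.val hk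
  exact pow_two_ne hD hd he (eq_one_of_odd_of_pow (he.2.2.of_dvd_nat (orderOf_pow_dvd 2)) hk')

theorem mem_odd_iff {d y : G} (hd : d ∈ D) :
    y ∈ oddPartners D d ↔ y ∈ D ∧ y ∉ commutingMembers D d ∪ fourPartners D d := by
  constructor
  · intro h
    refine ⟨h.1, ?_⟩
    rintro (⟨-, hc⟩ | ⟨-, h4⟩)
    · exact not_odd_of_comm hD hd h.1 hc.symm h
    · have := h.2.2; rw [h4] at this; exact absurd this (by decide)
  · rintro ⟨hy, h⟩
    by_contra ho
    by_cases hc : d * y = y * d
    · exact h (Or.inl ⟨hy, hc.symm⟩)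
    · exact h (Or.inr ⟨hy, (four hD hd hy hc ho).1⟩)

theorem four_subset {d e : G} (hd : d ∈ D) (he : e ∈ D)
    (h : commutingMembers D d = commutingMembers D e) :
    commutingMembers D d ∪ fourPartners D d ⊆ commutingMembers D e ∪ fourPartners D e := by
  rintro x (hx | ⟨hx, h4⟩)
  · exact Or.inl (h ▸ hx)
  by_cases hc : e * x = x * e
  · exact Or.inl ⟨hx, hc.symm⟩
  refine Or.inr ⟨hx, (four hD he hx hc fun ho => ?_).1⟩
  obtain ⟨htri, -, -, -⟩ := tri_four hD hd hx h4
  have hfe : (d * x) ^ 2 ∈ commutingMembers D e := h ▸ ⟨htri.2.1, htri.2.2.1.symm⟩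
  have h4' : orderOf (x * d) = 4 := by rw [orderOf_symm hD hd hx]; exact h4
  obtain ⟨htri', -, -, -⟩ := tri_four hD hx hd h4'
  rw [(tri_four hD hd hx h4).2.2.2] at htri'
  exact (T2 hD (Tri.symm hD htri') hfe.2).1 (mem_odd_symm hD he ho)

theorem same_class_iff (hc : IsConnectedSet (OddAdj D) D) {d e : G} (hd : d ∈ D) (he : e ∈ D) :
    commutingMembers D d = commutingMembers D e ↔
      commutingMembers D d ∪ fourPartners D d = commutingMembers D e ∪ fourPartners D e := by
  refine ⟨fun h => (four_subset hD hd he h).antisymm (four_subset hD he hd h.symm), fun h => ?_⟩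
  refine commuting_eq_of_sameOdd hD hc hd he (Set.ext fun y => ?_)
  rw [mem_odd_iff hD hd, mem_odd_iff hD he, h]

/-- A member of a triple outside the class of another gives a product of order three. -/
theorem exists_order_three (hc : IsConnectedSet (OddAdj D) D) {a b : G} (h : Tri D a b)
    (hne : oddPartners D a ≠ oddPartners D b) :
    ∃ x, orderOf (b * x) = 4 ∧ x ∈ D ∧ orderOf (a * x) = 3 := by
  obtain ⟨f, hf4, hf2, hbf⟩ := exists_root hD hc h hne
  have ha := h.1
  have hb := h.2.1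
  have hfD := hbf.2.1
  have hne' : oddPartners D b ≠ oddPartners D f := fun e => by
    have hC := commuting_eq_of_sameOdd hD hc hb hfD e
    have h1 : a ∈ commutingMembers D f := hC ▸ ⟨ha, h.2.2.1⟩
    have h2 := orderOf_dvd_of_pow_eq_one (sq_eq_one_of_comm hD ha hfD h1.2)
    rw [hf4] at h2
    exact absurd (Nat.le_of_dvd two_pos h2) (by norm_num)
  obtain ⟨x, hx4, hx2, hfx⟩ := exists_root hD hc hbf hne'
  have hxD := hfx.2.1
  refine ⟨x, hx4, hxD, ?_⟩
  set r := a * x with hr
  have hri : r⁻¹ = x * a := mul_inv_rev' hD ha hxD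
  have haba : a * b * a = b := by rw [h.2.2.1, mul_assoc, sq_one hD ha, mul_one]
  have hafa : a * f * a = f * b := by
    rw [conj_left hD ha hfD (by rw [← hf4, pow_orderOf_eq_one]), hf2]
  have hxfx : x * f * x = f := by rw [← hfx.2.2.1, mul_assoc, sq_one hD hxD, mul_one]
  have hxbx : x * b * x = b * f := by rw [conj_right hD hb, hx2]
  have cbf : b * f = f * b := hbf.2.2.1
  have r1 : r * b * r⁻¹ = f := by
    calc r * b * r⁻¹ = a * (x * b * x) * a := by rw [hri, hr]; simp only [mul_assoc]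
      _ = a * b * a * (a * f * a) := by rw [hxbx]; simp only [mul_assoc, cancel hD ha]
      _ = f := by rw [haba, hafa, ← mul_assoc, cbf, mul_assoc, sq_one hD hb, mul_one]
  have r2 : r * f * r⁻¹ = f * b := by
    calc r * f * r⁻¹ = a * (x * f * x) * a := by rw [hri, hr]; simp only [mul_assoc]
      _ = f * b := by rw [hxfx, hafa]
  have r3 : r * (f * b) * r⁻¹ = b := by
    calc r * (f * b) * r⁻¹ = r * f * r⁻¹ * (r * b * r⁻¹) := by group
      _ = b := by rw [r1, r2, ← cbf, mul_assoc, sq_one hD hfD, mul_one]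
  have hp3 : r ^ 3 * b * (r ^ 3)⁻¹ = b := by
    calc r ^ 3 * b * (r ^ 3)⁻¹ = r * (r * (r * b * r⁻¹) * r⁻¹) * r⁻¹ := by
          rw [pow_succ', pow_succ', pow_one]; simp only [mul_inv_rev, mul_assoc]
      _ = b := by rw [r1, r2, r3]
  have hodd : x ∈ oddPartners D a := by
    by_contra ho
    have h4 := pow_four hD ha hxD ho
    refine Tri.ne hD hbf ?_
    calc b = r ^ 4 * b * (r ^ 4)⁻¹ := by rw [hr, h4]; simp
      _ = r * (r ^ 3 * b * (r ^ 3)⁻¹) * r⁻¹ := by group
      _ = f := by rw [hp3, r1]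
  set g := r ^ 3 with hg
  have hgb : g * b = b * g := by
    have := congrArg (· * g) hp3
    simpa [mul_assoc] using this
  have hgo : Odd (orderOf g) := hodd.2.2.of_dvd_nat (orderOf_pow_dvd 3)
  have haga : a * g * a = g⁻¹ := by
    have h1 : a * r * a⁻¹ = r⁻¹ := by
      rw [hri, inv_eq hD ha, hr]; simp only [mul_assoc, cancel hD ha]
    have := conj_pow (a := a) (b := r) (i := 3)
    rw [h1, inv_pow, inv_eq hD ha] at this
    exact this.symm
  set a' := g * a * g⁻¹ with ha'
  have hprod : a * a' = (g ^ 2)⁻¹ := by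
    calc a * a' = (a * g * a) * g⁻¹ := by rw [ha']; simp only [mul_assoc]
      _ = (g ^ 2)⁻¹ := by rw [haga, sq, mul_inv_rev]
  have hg2 : g ^ 2 = 1 := by
    by_contra hg2
    have hmem : a' ∈ oddPartners D a := by
      refine ⟨hD.conj_mem a ha g, fun e => hg2 ?_, ?_⟩
      · rw [e, sq_one hD ha] at hprod
        exact inv_eq_one.1 hprod.symm
      · rw [hprod, orderOf_inv]
        exact hgo.of_dvd_nat (orderOf_pow_dvd 2)
    refine L0 hD (Tri.symm hD h) hmem ?_
    rw [ha']
    calc b * (g * a * g⁻¹) = g * (b * a) * g⁻¹ := by rw [← mul_assoc, ← mul_assoc, ← hgb]; simp only [mul_assoc]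
      _ = g * (a * b) * g⁻¹ := by rw [h.2.2.1]
      _ = g * a * g⁻¹ * b := by
        have : b * g⁻¹ = g⁻¹ * b := (Commute.inv_left (show Commute g b from hgb)).eq.symm
        simp only [mul_assoc, this]
  have hg1 : g = 1 := eq_one_of_odd_of_pow hgo (k := 1) hg2
  exact orderOf_eq_prime (p := 3) (hp := ⟨Nat.prime_three⟩) hg1 (ne_one_of_odd hD ha hodd)

theorem eq_top_of_mem (hc : IsConnectedSet (OddAdj D) D) {N : Subgroup G} [N.Normal] {d : G}
    (hd : d ∈ D) (hN : d ∈ N) : N = ⊤ := by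
  rw [eq_top_iff, ← hD.generates, Subgroup.closure_le]
  intro e he
  obtain ⟨g, rfl⟩ := class_of_connected hD hc hd he
  exact (inferInstance : N.Normal).conj_mem d hN g

theorem exists_tri (hc : IsConnectedSet (OddAdj D) D) (hDD : (D ∩ commutingProducts D).Nonempty)
    {a : G} (ha : a ∈ D) : ∃ b, Tri D a b := by
  obtain ⟨_, hpD, u, hu, v, hv, huv, -, rfl⟩ := hDD
  obtain ⟨g, rfl⟩ := class_of_connected hD hc hu ha
  refine ⟨g * v * g⁻¹, ha, hD.conj_mem v hv g, ?_, ?_⟩
  · calc g * u * g⁻¹ * (g * v * g⁻¹) = g * (u * v) * g⁻¹ := by group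
      _ = g * v * g⁻¹ * (g * u * g⁻¹) := by rw [huv]; group
  · rw [show g * u * g⁻¹ * (g * v * g⁻¹) = g * (u * v) * g⁻¹ by group]
    exact hD.conj_mem _ hpD g

theorem perfect (hc : IsConnectedSet (OddAdj D) D) (hDD : (D ∩ commutingProducts D).Nonempty) :
    commutator G = ⊤ := by
  obtain ⟨d, hd, -⟩ := id hDD
  refine eq_top_of_mem hD hc hd ?_
  obtain ⟨b, -, hb, -, hdb⟩ := exists_tri hD hc hDD hd
  have himg : ∀ u ∈ D, Abelianization.of u = Abelianization.of d := by
    intro u hu
    obtain ⟨g, rfl⟩ := class_of_connected hD hc hd hu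
    rw [map_mul, map_mul, map_inv, mul_comm (Abelianization.of g), mul_inv_cancel_right]
  have h1 := himg _ hdb
  rw [map_mul, himg b hb, mul_eq_left] at h1
  rw [← Abelianization.ker_of G]
  exact h1

/-- A normal subgroup without members lies in the preimage of the centre of `G / O₂(G)`. -/
theorem le_twoZCore (hc : IsConnectedSet (OddAdj D) D) (hDD : (D ∩ commutingProducts D).Nonempty)
    {N : Subgroup G} [hN : N.Normal] (hdis : ∀ d ∈ D, d ∉ N) : N ≤ twoZCore G := by
  haveI : Fact (Nat.Prime 2) := ⟨Nat.prime_two⟩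
  let π := QuotientGroup.mk' N
  have hno : ∀ a ∈ D, ∀ x ∈ D, a * x ∈ N → x ∉ oddPartners D a := by
    intro a ha x hx hax ho
    obtain ⟨b, htri⟩ := exists_tri hD hc hDD ha
    have h1 := Tri.third hD (Tri.symm hD htri)
    have e1 : b * (b * a) = a := cancel hD htri.2.1 a
    have key : ∀ y ∈ D, y * a ∈ D → x ∈ oddPartners D y → False := by
      intro y hy hya hxy
      have e : π (y * x) = π (y * a) := by
        refine (QuotientGroup.mk'_eq_mk' N).2 ⟨(a * x)⁻¹, N.inv_mem hax, ?_⟩
        rw [mul_inv_rev' hD ha hx]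
        simp only [mul_assoc, cancel hD hx]
      have hsq : π (y * a) ^ 2 = 1 := by
        rw [← map_pow, sq, sq_one hD hya, map_one]
      have hod : Odd (orderOf (π (y * a))) := e ▸ hxy.2.2.of_dvd_nat (orderOf_map_dvd π _)
      exact hdis _ hya ((QuotientGroup.eq_one_iff _).1 (eq_one_of_odd_of_pow hod (k := 1) hsq))
    rcases T1 hD h1 (by rw [e1]; exact ho) with h | h
    · exact key b htri.2.1 h1.2.1 h
    · exact key (b * a) h1.2.1 (by rw [mul_assoc, sq_one hD ha, mul_one]; exact htri.2.1) h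
  have hcent : ∀ a ∈ D, ∀ n ∈ N, ⁅a, n⁆ ∈ pCore 2 G := by
    intro a ha n hn
    set K := N ⊔ Subgroup.zpowers a with hK
    have haK : a ∈ K := Subgroup.mem_sup_right (Subgroup.mem_zpowers a)
    have haO : (⟨a, haK⟩ : K) ∈ pCore 2 K := by
      by_contra hO
      obtain ⟨g, hne, hg⟩ := exists_odd_conj (v := (⟨a, haK⟩ : K)) (Subtype.ext (sq_one hD ha)) hO
      have hxD := hD.conj_mem a ha (g : G)
      refine hno a ha _ hxD ?_ ⟨hxD, fun e => hne (Subtype.ext ?_), ?_⟩
      · have hgg : π (g : G) * π a = π a * π (g : G) := by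
          have hg' : (g : G) ∈ (Subgroup.zpowers (π a)).comap π := by
            refine sup_le ?_ ((Subgroup.zpowers_le).2 ?_) g.2
            · intro m hm
              rw [Subgroup.mem_comap, show π m = 1 from (QuotientGroup.eq_one_iff m).2 hm]
              exact one_mem _
            · exact Subgroup.mem_zpowers (π a)
          obtain ⟨i, hi⟩ := Subgroup.mem_zpowers_iff.1 (Subgroup.mem_comap.1 hg')
          rw [← hi]
          exact ((Commute.refl (π a)).zpow_left i).eq
        refine (QuotientGroup.eq_one_iff _).1 ?_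
        show π (a * ((g : G) * a * (g : G)⁻¹)) = 1
        rw [map_mul, map_mul, map_mul, map_inv, hgg, mul_inv_cancel_right, ← map_mul, sq_one hD ha,
          map_one]
      · show a * ((g : G) * a * (g : G)⁻¹) = 1
        rw [e, sq_one hD ha]
      · have := orderOf_injective K.subtype Subtype.val_injective
          ((⟨a, haK⟩ : K) * (g * ⟨a, haK⟩ * g⁻¹))
        rw [← this] at hg
        exact hg
    let ι : N →* K := Subgroup.inclusion le_sup_left
    haveI : ((pCore 2 K).comap ι).Normal := Subgroup.Normal.comap inferInstance ι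
    have hle : (pCore 2 K).comap ι ≤ pCore 2 N :=
      CfsgLib.Core.le_pCore ((CfsgLib.Core.isPGroup_pCore 2 K).comap_of_injective ι
        (Subgroup.inclusion_injective _))
    have hnN : ⁅a, n⁆ ∈ N := by
      rw [commutatorElement_def]
      exact N.mul_mem (hN.conj_mem n hn a) (N.inv_mem hn)
    refine CfsgLib.Core.map_subtype_pCore_le N ⟨⟨_, hnN⟩, hle ?_, rfl⟩
    rw [Subgroup.mem_comap]
    have h1 : ι ⟨_, hnN⟩ = ⁅(⟨a, haK⟩ : K), ι ⟨n, hn⟩⁆ := rfl
    rw [h1, commutatorElement_def]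
    rw [mul_assoc, mul_assoc]
    refine mul_mem haO ?_
    rw [← mul_assoc]
    exact (inferInstance : (pCore 2 K).Normal).conj_mem _ (inv_mem haO) _
  intro n hn
  rw [twoZCore, Subgroup.mem_comap, Subgroup.mem_center_iff]
  let ρ := QuotientGroup.mk' (pCore 2 G)
  have hS : (⊤ : Subgroup G) ≤ (Subgroup.centralizer {ρ n}).comap ρ := by
    rw [← hD.generates, Subgroup.closure_le]
    intro a ha
    rw [SetLike.mem_coe, Subgroup.mem_comap, Subgroup.mem_centralizer_singleton_iff]
    have h1 : ρ ⁅a, n⁆ = 1 := (QuotientGroup.eq_one_iff _).2 (hcent a ha n hn)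
    rw [map_commutatorElement, commutatorElement_eq_one_iff_commute] at h1
    exact h1.eq
  intro q
  obtain ⟨q, rfl⟩ := QuotientGroup.mk'_surjective (pCore 2 G) q
  exact Subgroup.mem_centralizer_singleton_iff.1 (Subgroup.mem_comap.1 (hS (Subgroup.mem_top q)))

theorem isSolvable_twoZCore : Group.IsSolvable (twoZCore G) := by
  haveI : Fact (Nat.Prime 2) := ⟨Nat.prime_two⟩
  haveI := (CfsgLib.Core.isPGroup_pCore 2 G).isNilpotent
  haveI : Group.IsSolvable (pCore 2 G) := inferInstance
  haveI : Group.IsSolvable (Subgroup.center (G ⧸ pCore 2 G)) := Group.isSolvable_of_comm fun a b => by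
    apply Subtype.ext
    exact (Subgroup.mem_center_iff.1 b.2 a.1)
  let f : twoZCore G →* Subgroup.center (G ⧸ pCore 2 G) :=
    ((QuotientGroup.mk' (pCore 2 G)).comp (twoZCore G).subtype).codRestrict _ fun x => x.2
  have hle : pCore 2 G ≤ twoZCore G := fun x hx => by
    rw [twoZCore, Subgroup.mem_comap, show QuotientGroup.mk' (pCore 2 G) x = 1 from
      (QuotientGroup.eq_one_iff x).2 hx]
    exact one_mem _
  refine Group.isSolvable_of_ker_le_range (Subgroup.inclusion hle) f fun x hx => ?_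
  have h1 : (QuotientGroup.mk' (pCore 2 G)) x.1 = 1 := congrArg Subtype.val hx
  exact ⟨⟨x.1, (QuotientGroup.eq_one_iff _).1 h1⟩, rfl⟩

theorem radical_and_simple (hc : IsConnectedSet (OddAdj D) D)
    (hDD : (D ∩ commutingProducts D).Nonempty) :
    solvableRadical G = twoZCore G ∧ IsSimpleGroup (G ⧸ twoZCore G) := by
  obtain ⟨d, hd, -⟩ := id hDD
  haveI : Nontrivial G := ⟨⟨d, 1, ne_one hD hd⟩⟩
  have hns : ¬ Group.IsSolvable G := fun h =>
    (Group.IsSolvable.commutator_lt_top_of_nontrivial (G := G)).ne (perfect hD hc hDD)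
  have htop : ∀ N : Subgroup G, N.Normal → N ≤ twoZCore G ∨ N = ⊤ := fun N hN => by
    haveI := hN
    by_cases hdis : ∀ e ∈ D, e ∉ N
    · exact Or.inl (le_twoZCore hD hc hDD hdis)
    · push Not at hdis
      obtain ⟨e, he, heN⟩ := hdis
      exact Or.inr (eq_top_of_mem hD hc he heN)
  have hZ : twoZCore G ≠ ⊤ := fun e => hns (by
    haveI := isSolvable_twoZCore hD
    exact Group.isSolvable_of_surjective (f := (twoZCore G).subtype)
      fun x => ⟨⟨x, e ▸ Subgroup.mem_top x⟩, rfl⟩)
  refine ⟨le_antisymm (sSup_le fun N hN => ?_) (le_sSup ⟨inferInstance, isSolvable_twoZCore hD⟩), ?_⟩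
  · refine (htop N hN.1).resolve_right fun e => hns ?_
    haveI := hN.2
    exact Group.isSolvable_of_surjective (f := N.subtype) fun x => ⟨⟨x, e ▸ Subgroup.mem_top x⟩, rfl⟩
  · have hsur := QuotientGroup.mk'_surjective (twoZCore G)
    haveI : Nontrivial (G ⧸ twoZCore G) := QuotientGroup.nontrivial_iff.2 hZ
    refine ⟨fun M hM => ?_⟩
    rw [← Subgroup.map_comap_eq_self_of_surjective hsur M]
    rcases htop _ (hM.comap (QuotientGroup.mk' (twoZCore G))) with h | h
    · exact Or.inl ((Subgroup.map_eq_bot_iff _).2 (by rwa [QuotientGroup.ker_mk']))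
    · exact Or.inr (by rw [h]; exact Subgroup.map_top_of_surjective _ hsur)

end CfsgLib.ThreeTrans.RootInv
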