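import Cfsg.Agent.Lib.ThreeTrans.OrthTransTwo

set_option autoImplicit false

/-!
Vanishing of the first cohomology of orthogonal groups over the field with two elements on their natural
modules (owner: helper28).
-/

namespace CfsgLib.ThreeTrans.OrthFirstCohomology

open CfsgLib.Classical CfsgLib.Classical.Quad
open QuadraticMap (polar polarBilin)
open scoped Matrix

section Extension

variable {G V : Type*} [Group G] [AddCommGroup V] [DistribMulAction G V]
  {N : Subgroup G} [N.Normal] {r : G}

/-- A crossed homomorphism on a normal subgroup of index at most two is principal, if every crossed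
homomorphism of the whole group is, the module has exponent two and the subgroup fixes only zero. -/
theorem coboundary_of_extension (hr : r * r = 1) (hN : ∀ g : G, g ∈ N ∨ g * r ∈ N)
    (h2 : ∀ v : V, v + v = 0) (hfix : ∀ v : V, (∀ n ∈ N, n • v = v) → v = 0)
    (hG : ∀ F : G → V, (∀ g h, F (g * h) = F g + g • F h) → ∃ v, ∀ g, F g = g • v - v)
    (f : G → V) (hf : ∀ g ∈ N, ∀ h ∈ N, f (g * h) = f g + g • f h) :
    ∃ v, ∀ g ∈ N, f g = g • v - v := by
  classical
  have hsub : ∀ a b : V, a - b = a + b := fun a b => by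
    rw [sub_eq_iff_eq_add, add_assoc, h2, add_zero]
  have hrN : ∀ g ∈ N, r * g * r ∈ N := fun g hg => by
    simpa [inv_eq_of_mul_eq_one_right hr] using (inferInstance : N.Normal).conj_mem g hg r
  have hrr : ∀ v : V, r • r • v = v := fun v => by rw [smul_smul, hr, one_smul]
  have rr : ∀ x : G, r * (r * x) = x := fun x => by rw [← mul_assoc, hr, one_mul]
  have main : ∀ φ : G → V, (∀ g ∈ N, ∀ h ∈ N, φ (g * h) = φ g + g • φ h) → ∀ a : V, r • a = a →
      (∀ g ∈ N, r • φ (r * g * r) = φ g + g • a + a) → ∃ v, ∀ g ∈ N, φ g = g • v - v := by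
    intro φ hφ a ha hinv
    by_cases hr' : r ∈ N
    · have hall : ∀ g, g ∈ N := fun g => (hN g).elim id fun h => by
        simpa [mul_assoc, hr] using mul_mem h hr'
      obtain ⟨v, hv⟩ := hG φ fun g h => hφ g (hall g) h (hall h)
      exact ⟨v, fun g _ => hv g⟩
    let F : G → V := fun g => if g ∈ N then φ g else φ (g * r) + (g * r) • a
    have Fin' : ∀ g ∈ N, F g = φ g := fun g hg => if_pos hg
    have hout : ∀ g ∈ N, g * r ∉ N := fun g hg h => hr' (by
      simpa [← mul_assoc] using mul_mem (inv_mem hg) h)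
    have Fout : ∀ g ∈ N, F (g * r) = φ g + g • a := fun g hg => by
      show (if g * r ∈ N then _ else _) = _
      rw [if_neg (hout g hg), mul_assoc, hr, mul_one]
    have hdec : ∀ g : G, g ∈ N ∨ ∃ n ∈ N, g = n * r := fun g => (hN g).imp id fun h =>
      ⟨g * r, h, by rw [mul_assoc, hr, mul_one]⟩
    have hswap : ∀ m ∈ N, φ (r * m * r) = r • φ m + (r * m * r) • a + a := by
      intro m hm
      have := hinv _ (hrN m hm)
      rw [show r * (r * m * r) * r = m by simp [mul_assoc, hr, rr]] at this
      rw [this, show φ (r * m * r) + (r * m * r) • a + a + (r * m * r) • a + a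
        = φ (r * m * r) + ((r * m * r) • a + (r * m * r) • a) + (a + a) by abel, h2, h2, add_zero,
        add_zero]
    obtain ⟨v, hv⟩ := hG F (by
      intro g h
      rcases hdec g with hg | ⟨n, hn, rfl⟩ <;> rcases hdec h with hh | ⟨m, hm, rfl⟩
      · rw [Fin' g hg, Fin' h hh, Fin' _ (mul_mem hg hh), hφ g hg h hh]
      · rw [Fin' g hg, ← mul_assoc, Fout _ (mul_mem hg hm), Fout m hm, hφ g hg m hm, smul_add,
          smul_smul, add_assoc]
      · rw [show n * r * h = n * (r * h * r) * r by simp [mul_assoc, hr], Fout _ (mul_mem hn (hrN h hh)),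
          Fout n hn, Fin' h hh, hφ n hn _ (hrN h hh), hswap h hh, smul_add, smul_add,
          mul_smul n (r * h * r) a, mul_smul n r (φ h)]
        rw [show φ n + (n • r • φ h + n • (r * h * r) • a + n • a) + n • (r * h * r) • a
          = φ n + n • a + n • r • φ h + (n • (r * h * r) • a + n • (r * h * r) • a) by abel,
          h2, add_zero]
      · rw [show n * r * (m * r) = n * (r * m * r) by simp only [mul_assoc],
          Fin' _ (mul_mem hn (hrN m hm)), Fout n hn, Fout m hm, hφ n hn _ (hrN m hm), hswap m hm]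
        rw [smul_add, smul_add, smul_add, mul_smul n r, mul_smul n r,
          show (r * m * r) • a = r • m • a by rw [mul_smul, mul_smul, ha]]
        abel)
    exact ⟨v, fun g hg => by rw [← Fin' g hg, hv]⟩
  let d : G → V := fun g => f g + r • f (r * g * r)
  have hd : ∀ g ∈ N, ∀ h ∈ N, d (g * h) = d g + g • d h := by
    intro g hg h hh
    simp only [d]
    rw [show r * (g * h) * r = r * g * r * (r * h * r) by simp [mul_assoc, rr],
      hf g hg h hh, hf _ (hrN g hg) _ (hrN h hh), smul_add, smul_add, smul_smul,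
      show r * (r * g * r) = g * r by simp [mul_assoc, rr], mul_smul]
    abel
  obtain ⟨v, hv⟩ := main d hd 0 (smul_zero r) (fun g hg => by
    simp only [d]
    rw [show r * (r * g * r) * r = g by simp [mul_assoc, hr, rr], smul_add, hrr, smul_zero]
    abel)
  have hrv : r • v = v := by
    refine sub_eq_zero.1 (hfix _ fun g hg => ?_)
    have e := hv (r * g * r) (hrN g hg)
    simp only [d] at e
    rw [show r * (r * g * r) * r = g by simp [mul_assoc, hr, rr]] at e
    have e2 := congrArg (fun t => r • t) e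
    simp only [smul_add, hrr, smul_sub] at e2
    rw [smul_smul r (r * g * r), show r * (r * g * r) = g * r by simp [mul_assoc, rr], mul_smul] at e2
    have e3 := hv g hg
    simp only [d] at e3
    rw [add_comm, e3] at e2
    rw [smul_sub, sub_eq_sub_iff_sub_eq_sub, e2]
  exact main f hf v hrv fun g hg => by
    have e := hv g hg
    simp only [d] at e
    rw [add_assoc, ← hsub (g • v) v, ← e, ← add_assoc, h2, zero_add]

end Extension

section Orthogonal

variable {ι : Type} [Fintype ι] [DecidableEq ι] {Q : QuadraticForm (ZMod 2) (ι → ZMod 2)}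

theorem add_self' (v : ι → ZMod 2) : v + v = 0 := funext fun i => CharTwo.add_self_eq_zero (v i)

theorem refl_smul {u : ι → ZMod 2} (hu : Q u ≠ 0) (z : ι → ZMod 2) :
    (Quad.refl hu : OQ Q) • z = z + polar Q z u • u := by
  show (Quad.refl hu : (ι → ZMod 2) ≃ₗ[ZMod 2] (ι → ZMod 2)) z = _
  rw [refl_apply, OrthTransTwo.eq_one_of_ne hu, inv_one, one_mul]
  funext i
  simp [CharTwo.sub_eq_add]

theorem eq_smul_of_commuting (hQ : (polarBilin Q).Nondegenerate) (F : OQ Q → ι → ZMod 2)
    (hF : ∀ g h, F (g * h) = F g + g • F h) {u : ι → ZMod 2} (hu : Q u ≠ 0) :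
    ∃ c : ZMod 2, F (Quad.refl hu) = c • u := by
  set z := F (Quad.refl hu) with hz
  have F1 : F 1 = 0 := by
    have := hF 1 1
    rwa [mul_one, one_smul, left_eq_add] at this
  have hu0 : u ≠ 0 := fun h => hu (by rw [h, QuadraticMap.map_zero])
  have hzu : polar Q z u = 0 := by
    have := hF (Quad.refl hu) (Quad.refl hu)
    rw [refl_mul_self, F1, ← hz, refl_smul, ← add_assoc, add_self', zero_add] at this
    exact (smul_eq_zero.1 this.symm).resolve_right hu0
  have huu : polar Q u u = 0 := by
    rw [polar_self', show (2 : ZMod 2) = 0 from rfl, zero_mul]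
  have hns : ∀ v, Q v ≠ 0 → v ≠ u → polar Q v u = 0 → polar Q z v = 0 := by
    intro v hv hne hvu
    have hv0 : v ≠ 0 := fun h => hv (by rw [h, QuadraticMap.map_zero])
    have hc : (Quad.refl hu * Quad.refl hv : OQ Q) = Quad.refl hv * Quad.refl hu := by
      refine Subtype.ext (LinearEquiv.ext fun x => ?_)
      show (Quad.refl hu : OQ Q) • (Quad.refl hv : OQ Q) • x =
        (Quad.refl hv : OQ Q) • (Quad.refl hu : OQ Q) • x
      simp only [refl_smul, polar_add_left', polar_smul_left', hvu,
        QuadraticMap.polar_comm (⇑Q) u v, mul_zero, add_zero]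
      abel
    have h1 := hF (Quad.refl hu) (Quad.refl hv)
    rw [hc, hF, ← hz, refl_smul, refl_smul] at h1
    have h2 : polar Q z v • v = polar Q (F (Quad.refl hv)) u • u := by
      rw [← add_assoc, ← add_assoc, add_comm (F (Quad.refl hv)) z] at h1
      exact add_left_cancel h1
    by_contra hne0
    rw [OrthTransTwo.eq_one_of_ne hne0, one_smul] at h2
    by_cases h3 : polar Q (F (Quad.refl hv)) u = 0
    · rw [h3, zero_smul] at h2; exact hv0 h2
    · rw [OrthTransTwo.eq_one_of_ne h3, one_smul] at h2; exact hne h2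
  have hperp : ∀ w, polar Q w u = 0 → polar Q z w = 0 := by
    intro w hw
    by_cases hw0 : w = 0
    · subst hw0; rw [polar, add_zero, QuadraticMap.map_zero]; simp
    by_cases hQw : Q w = 0
    · have hQ' : Q (w + u) ≠ 0 := by rw [apply_add, hQw, hw, zero_add, add_zero]; exact hu
      have := hns (w + u) hQ' (fun h => hw0 (by simpa using h))
        (by rw [polar_add_left', hw, huu, add_zero])
      rwa [polar_add_right', hzu, add_zero] at this
    · by_cases hwu : w = u
      · rw [hwu]; exact hzu
      · exact hns w hQw hwu hw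
  obtain ⟨y, hy⟩ := not_forall.1 (mt (eq_zero_of_polar hQ (x := u)) hu0)
  have hy1 : polar Q y u = 1 := OrthTransTwo.eq_one_of_ne fun h => hy (by
    first
      | exact h
      | (rw [QuadraticMap.polar_comm]; exact h))
  refine ⟨polar Q z y, ?_⟩
  have : z + polar Q z y • u = 0 := by
    refine eq_zero_of_polar hQ fun x => ?_
    have hx := hperp (x + polar Q x u • y) (by
      rw [polar_add_left', polar_smul_left', hy1, mul_one, CharTwo.add_self_eq_zero])
    rw [polar_add_right', polar_smul_right'] at hx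
    rw [polar_add_left', polar_smul_left', QuadraticMap.polar_comm (⇑Q) u x, mul_comm, hx]
  calc z = z + (polar Q z y • u + polar Q z y • u) := by rw [add_self', add_zero]
    _ = _ := by rw [← add_assoc, this, zero_add]

/-- Every crossed homomorphism of the commutator subgroup of an orthogonal group over the field with two
elements is principal, given a dual basis of non-singular vectors reaching all of them. -/
theorem vanish {n : ℕ} (hQ : (polarBilin Q).Nondegenerate) (hR : reflGroup Q = ⊤)
    (α : Fin (n + 2) → ι → ZMod 2) (hα : ∀ i, Q (α i) ≠ 0) (hinj : Function.Injective α)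
    (hker : ∀ v, (∀ i, polar Q v (α i) = 0) → v = 0) (hcard : Fintype.card ι = n + 2)
    (lvl : (ι → ZMod 2) → ℕ)
    (hlvl : ∀ u, Q u ≠ 0 → (∃ i, u = α i) ∨ ∃ i, polar Q u (α i) ≠ 0 ∧ lvl (u + α i) < lvl u)
    (f : OQ Q → ι → ZMod 2)
    (hf : ∀ g ∈ commutator (OQ Q), ∀ h ∈ commutator (OQ Q), f (g * h) = f g + g • f h) :
    ∃ v, ∀ g ∈ commutator (OQ Q), f g = g • v - v := by
  have h0 := hα 0
  set r : OQ Q := Quad.refl h0 with hr
  have hpair : ∀ u (hu : Q u ≠ 0), (Quad.refl hu * r : OQ Q) ∈ commutator (OQ Q) := by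
    intro u hu
    obtain ⟨g, hg⟩ := OrthTransTwo.exists_conj hQ h0 hu
    have e := OrthTransTwo.refl_conj g h0
    subst hg
    rw [← e, show g * r * g⁻¹ * r = g * r * g⁻¹ * r⁻¹ by
      rw [inv_eq_of_mul_eq_one_right (refl_mul_self h0)]]
    exact Subgroup.commutator_mem_commutator (Subgroup.mem_top g) (Subgroup.mem_top r)
  refine coboundary_of_extension (refl_mul_self h0) (fun g => ?_) add_self' ?_ ?_ f hf
  · have hg : g ∈ reflGroup Q := hR ▸ Subgroup.mem_top g
    have hn : (commutator (OQ Q)).Normal := inferInstance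
    have r2 : (Quad.refl h0 * Quad.refl h0 : OQ Q) = 1 := refl_mul_self h0
    have r2' : ∀ z : OQ Q, Quad.refl h0 * (Quad.refl h0 * z) = z := fun z => by
      rw [← mul_assoc, r2, one_mul]
    have ri : (Quad.refl h0 : OQ Q)⁻¹ = Quad.refl h0 := inv_eq_of_mul_eq_one_right r2
    induction hg using Subgroup.closure_induction with
    | mem x hx => obtain ⟨u, hu, rfl⟩ := hx; exact Or.inr (hpair u hu)
    | one => exact Or.inl (one_mem _)
    | mul x y _ _ hx hy =>
      rcases hx with hx | hx <;> rcases hy with hy | hy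
      · exact Or.inl (mul_mem hx hy)
      · exact Or.inr (by rw [mul_assoc]; exact mul_mem hx hy)
      · exact Or.inr (by simpa [hr, mul_assoc, ri, r2, r2'] using mul_mem hx (hn.conj_mem y hy r))
      · exact Or.inl (by simpa [hr, mul_assoc, ri, r2, r2'] using mul_mem hx (hn.conj_mem _ hy r))
    | inv x _ hx =>
      rcases hx with hx | hx
      · exact Or.inl (inv_mem hx)
      · exact Or.inr (by simpa [hr, mul_assoc, ri, r2, r2'] using hn.conj_mem _ (inv_mem hx) r)
  · intro v hv
    have key : ∀ i, i ≠ 0 → polar Q v (α i) = 0 ∧ polar Q v (α 0) = 0 := by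
      intro i hi
      have h := hv _ (hpair _ (hα i))
      have hi0 : α i ≠ 0 := fun h => hα i (by rw [h, QuadraticMap.map_zero])
      have h00 : α 0 ≠ 0 := fun h => hα 0 (by rw [h, QuadraticMap.map_zero])
      rw [mul_smul, smul_eq_iff_eq_inv_smul, inv_eq_of_mul_eq_one_right (refl_mul_self (hα i)),
        refl_smul, refl_smul, add_right_inj] at h
      by_cases hb : polar Q v (α i) = 0
      · rw [hb, zero_smul, smul_eq_zero] at h
        exact ⟨hb, h.resolve_right h00⟩
      · rw [OrthTransTwo.eq_one_of_ne hb, one_smul] at h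
        by_cases ha : polar Q v (α 0) = 0
        · rw [ha, zero_smul] at h; exact absurd h.symm hi0
        · rw [OrthTransTwo.eq_one_of_ne ha, one_smul] at h
          exact absurd (hinj h).symm hi
    refine hker v fun i => ?_
    rcases eq_or_ne i 0 with rfl | hi
    · exact (key 1 (by simp)).2
    · exact (key i hi).1
  · intro F hF
    choose c hc using fun i => eq_smul_of_commuting hQ F hF (hα i)
    obtain ⟨w, hw⟩ : ∃ w, (fun i => polar Q w (α i)) = c := by
      have hb : Function.Bijective (fun w i => polar Q w (α i) : (ι → ZMod 2) → Fin (n + 2) → ZMod 2) := by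
        refine (Fintype.bijective_iff_injective_and_card _).2 ⟨fun a b h => ?_, by simp [hcard]⟩
        have h' : a + b = 0 := hker _ fun i => by
          rw [polar_add_left', show polar Q a (α i) = polar Q b (α i) from congrFun h i,
            CharTwo.add_self_eq_zero]
        calc a = a + (b + b) := by rw [add_self', add_zero]
          _ = b := by rw [← add_assoc, h', zero_add]
      exact hb.2 c
    refine ⟨w, ?_⟩
    let F' : OQ Q → ι → ZMod 2 := fun g => F g - (g • w - w)
    have hF' : ∀ g h, F' (g * h) = F' g + g • F' h := fun g h => by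
      simp only [F', hF, mul_smul, smul_sub]
      abel
    have hgen : ∀ i, F' (Quad.refl (hα i)) = 0 := fun i => by
      simp only [F', hc, refl_smul, ← congrFun hw i, add_sub_cancel_left, sub_self]
    have h1 : F' 1 = 0 := by
      have := hF' 1 1
      rwa [mul_one, one_smul, left_eq_add] at this
    have hall : ∀ k u, lvl u = k → ∀ hu : Q u ≠ 0, F' (Quad.refl hu) = 0 := by
      intro k
      induction k using Nat.strong_induction_on with
      | _ k ih =>
        intro u hk hu
        rcases hlvl u hu with ⟨i, rfl⟩ | ⟨i, hi, hlt⟩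
        · exact hgen i
        have hu' : Q (u + α i) ≠ 0 := by
          rw [apply_add, OrthTransTwo.eq_one_of_ne hu, OrthTransTwo.eq_one_of_ne (hα i),
            OrthTransTwo.eq_one_of_ne hi]
          decide
        have hrec := ih _ (hk ▸ hlt) _ rfl hu'
        have e : (Quad.refl hu : OQ Q) = Quad.refl (hα i) * Quad.refl hu' * Quad.refl (hα i) := by
          have e0 := OrthTransTwo.refl_conj (Quad.refl (hα i)) hu'
          rw [inv_eq_of_mul_eq_one_right (refl_mul_self (hα i))] at e0
          rw [e0]
          congr 1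
          show u = (Quad.refl (hα i) : OQ Q) • (u + α i)
          rw [refl_smul, polar_add_left', polar_self', show (2 : ZMod 2) = 0 from rfl, zero_mul,
            add_zero, OrthTransTwo.eq_one_of_ne hi, one_smul, add_assoc, add_self', add_zero]
        rw [e, hF', hF', hgen, hrec, smul_zero, smul_zero, add_zero, add_zero]
    intro g
    refine sub_eq_zero.1 (show F' g = 0 from ?_)
    have hg : g ∈ reflGroup Q := hR ▸ Subgroup.mem_top g
    induction hg using Subgroup.closure_induction with
    | mem x hx => obtain ⟨u, hu, rfl⟩ := hx; exact hall _ u rfl hu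
    | one => exact h1
    | mul x y _ _ hx hy => rw [hF', hx, hy, smul_zero, add_zero]
    | inv x _ hx =>
      have := hF' x x⁻¹
      rw [mul_inv_cancel, h1, hx, zero_add] at this
      exact (smul_eq_zero_iff_eq x).1 this.symm

/-- The matrix form of `vanish`. -/
theorem vanish_matrix {q : (ι → ZMod 2) → ZMod 2} (hq : ⇑Q = q) {n : ℕ}
    (hQ : (polarBilin Q).Nondegenerate) (hR : reflGroup Q = ⊤)
    (α : Fin (n + 2) → ι → ZMod 2) (hα : ∀ i, q (α i) ≠ 0) (hinj : Function.Injective α)
    (hker : ∀ v, (∀ i, q (v + α i) - q v - q (α i) = 0) → v = 0) (hcard : Fintype.card ι = n + 2)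
    (lvl : (ι → ZMod 2) → ℕ)
    (hlvl : ∀ u, q u ≠ 0 → (∃ i, u = α i) ∨ ∃ i, q (u + α i) - q u - q (α i) ≠ 0 ∧ lvl (u + α i) < lvl u)
    (f : ↥(Cfsg.Omega (ZMod 2) q) → ι → ZMod 2)
    (hf : ∀ g h : ↥(Cfsg.Omega (ZMod 2) q), f (g * h) = f g +
      Matrix.mulVec (((g : ↥(Cfsg.isometryGroup (ZMod 2) q)) : GL ι (ZMod 2)) : Matrix ι ι (ZMod 2)) (f h)) :
    ∃ v : ι → ZMod 2, ∀ g : ↥(Cfsg.Omega (ZMod 2) q), f g =
      Matrix.mulVec (((g : ↥(Cfsg.isometryGroup (ZMod 2) q)) : GL ι (ZMod 2)) : Matrix ι ι (ZMod 2)) v - v := by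
  classical
  subst hq
  have hmem : ∀ g, g ∈ commutator (Cfsg.isometryGroup (ZMod 2) ⇑Q) ↔
      oEquiv Q g ∈ commutator (OQ Q) := fun g => by
    have e : (commutator (Cfsg.isometryGroup (ZMod 2) ⇑Q)).map (oEquiv Q).toMonoidHom =
        commutator (OQ Q) := by
      rw [commutator_def, Subgroup.map_commutator,
        Subgroup.map_top_of_surjective _ (oEquiv Q).surjective, ← commutator_def]
    rw [← e]
    exact (Subgroup.mem_map_iff_mem (oEquiv Q).injective).symm
  let f' : OQ Q → ι → ZMod 2 := fun g =>
    if h : (oEquiv Q).symm g ∈ commutator (Cfsg.isometryGroup (ZMod 2) ⇑Q) then f ⟨_, h⟩ else 0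
  have hf' : ∀ g (h : (oEquiv Q).symm g ∈ commutator (Cfsg.isometryGroup (ZMod 2) ⇑Q)),
      f' g = f ⟨_, h⟩ := fun g h => dif_pos h
  have hm' : ∀ g, g ∈ commutator (OQ Q) → (oEquiv Q).symm g ∈ commutator (Cfsg.isometryGroup (ZMod 2) ⇑Q) :=
    fun g hg => (hmem _).2 (by rwa [MulEquiv.apply_symm_apply])
  obtain ⟨v, hv⟩ := vanish hQ hR α hα hinj hker hcard lvl hlvl f' fun g hg h hh => by
    rw [hf' _ (hm' _ (mul_mem hg hh)), hf' _ (hm' g hg), hf' _ (hm' h hh)]
    have := hf ⟨_, hm' g hg⟩ ⟨_, hm' h hh⟩
    rw [← oEquiv_apply Q ((oEquiv Q).symm g), MulEquiv.apply_symm_apply] at this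
    refine Eq.trans (congrArg f (Subtype.ext ?_)) this
    exact map_mul _ _ _
  refine ⟨v, fun g => ?_⟩
  have := hv _ ((hmem _).1 g.2)
  rw [hf' _ (by rw [MulEquiv.symm_apply_apply]; exact g.2)] at this
  rw [← oEquiv_apply]
  refine Eq.trans (congrArg f (Subtype.ext ?_)) this
  simp

end Orthogonal

end CfsgLib.ThreeTrans.OrthFirstCohomology
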