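import Cfsg.Agent.Lib.ThreeTrans.Basic
import Cfsg.Agent.Lib.ThreeTrans.Braid
import Cfsg.Agent.Lib.Core.Cores

set_option autoImplicit false

/-!
The classes `V` (same commuting members) and `W` (same other commuting members) of a set of
3-transpositions (owner: helper28).
-/

namespace CfsgLib.ThreeTrans

open Cfsg

variable {G : Type*} [Group G] {D : Set G}

/-- `v` commutes with the same members of `D` as `d`. -/
def SameV (D : Set G) (d v : G) : Prop := v ∈ D ∧ ∀ e ∈ D, Commute v e ↔ Commute d e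

/-- The other members commuting with `w` are the other members commuting with `d`. -/
def SameW (D : Set G) (d w : G) : Prop :=
  w ∈ D ∧ {y : G | y ∈ D ∧ y ≠ d ∧ Commute d y} = {y : G | y ∈ D ∧ y ≠ w ∧ Commute w y}

omit [Group G] in
theorem mem_perp_iff [Group G] {d y : G} :
    y ∈ {y : G | y ∈ D ∧ y ≠ d ∧ Commute d y} ↔ y ∈ D ∧ y ≠ d ∧ Commute d y := Iff.rfl

theorem SameV.commute {d v : G} (h : SameV D d v) (hd : d ∈ D) : Commute d v :=
  ((h.2 d hd).2 (Commute.refl d)).symm

theorem SameV.refl {d : G} (hd : d ∈ D) : SameV D d d := ⟨hd, fun _ _ => Iff.rfl⟩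

theorem SameV.symm {d v : G} (h : SameV D d v) (hd : d ∈ D) : SameV D v d := ⟨hd, fun e he => (h.2 e he).symm⟩

theorem SameV.trans {a b c : G} (h : SameV D a b) (h' : SameV D b c) : SameV D a c :=
  ⟨h'.1, fun e he => (h'.2 e he).trans (h.2 e he)⟩

theorem commute_conj_iff {g a b : G} : Commute (g * a * g⁻¹) (g * b * g⁻¹) ↔ Commute a b := by
  show g * a * g⁻¹ * (g * b * g⁻¹) = g * b * g⁻¹ * (g * a * g⁻¹) ↔ a * b = b * a
  simp only [mul_assoc, inv_mul_cancel_left, mul_right_inj]
  rw [← mul_assoc, ← mul_assoc, mul_left_inj]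

theorem conj_cancel (g x : G) : g * (g⁻¹ * x * g) * g⁻¹ = x := by group

theorem SameV.conj {d v : G} (h : SameV D d v) (hconj : ∀ g : G, ∀ d ∈ D, g * d * g⁻¹ ∈ D) (g : G) :
    SameV D (g * d * g⁻¹) (g * v * g⁻¹) := by
  refine ⟨hconj g v h.1, fun e he => ?_⟩
  rw [← conj_cancel g e, commute_conj_iff, commute_conj_iff]
  exact h.2 _ (by simpa using hconj g⁻¹ e he)

variable (hD : IsThreeTranspositionSet D) (hconj : ∀ g : G, ∀ d ∈ D, g * d * g⁻¹ ∈ D)
include hD hconj

theorem conjTwo_mem {a b x : G} (ha : a ∈ D) (hb : b ∈ D) (hx : x ∈ D) : a * b * x * b * a ∈ D := by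
  have := hconj (a * b) x hx
  simpa only [mul_inv_rev, inv_eq hD ha, inv_eq hD hb, mul_assoc] using this

omit hconj in
theorem commute_conjTwo_iff {a b x e : G} (ha : a ∈ D) (hb : b ∈ D) :
    Commute e (a * b * x * b * a) ↔ Commute (b * a * e * a * b) x := by
  have h : a * b * x * b * a = (a * b) * x * (a * b)⁻¹ := by
    simp only [mul_inv_rev, inv_eq hD ha, inv_eq hD hb, mul_assoc]
  have h' : b * a * e * a * b = (a * b)⁻¹ * e * (a * b) := by
    simp only [mul_inv_rev, inv_eq hD ha, inv_eq hD hb, mul_assoc]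
  rw [h, h']
  conv_lhs => rw [← conj_cancel (a * b) e]
  exact commute_conj_iff

/-- Moving a commuting pair along a product of two members with the same commuting members. -/
theorem commute_move {d v x e : G} (hd : d ∈ D) (hvD : v ∈ D) (hx : x ∈ D) (he : e ∈ D)
    (hve : ¬ Commute v e) (hdx : ¬ Commute d e) (hc : Commute e x)
    (htr : Commute v (e * v * x * v * e) → Commute d (e * v * x * v * e)) :
    Commute e (d * v * x * v * d) := by
  have h0 : v * e * v * e * v = e := by
    have h := braid hD hvD he hve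
    calc v * e * v * e * v = (v * e * v) * e * v := by simp only [mul_assoc]
      _ = e * v * e * e * v := by rw [h]
      _ = e := by simp only [mul_assoc, mul_self_assoc hD he, mul_self hD hvD, mul_one]
  have h1 : Commute v (e * v * x * v * e) := by
    rw [commute_conjTwo_iff hD he hvD, h0]
    exact hc
  have h2 : Commute d (e * v * x * v * e) := htr h1
  -- conjugate by `de`
  have h3 := (commute_conj_iff (g := d * e)).2 h2
  have e1 : d * e * d * (d * e)⁻¹ = e := by
    have h := braid hD hd he hdx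
    calc d * e * d * (d * e)⁻¹ = (d * e * d) * (e * d) := by
          simp only [mul_inv_rev, inv_eq hD hd, inv_eq hD he, mul_assoc]
      _ = (e * d * e) * (e * d) := by rw [h]
      _ = e := by simp only [mul_assoc, mul_self_assoc hD he, mul_self_assoc hD hd, mul_self hD hd, mul_one]
  have e2 : d * e * (e * v * x * v * e) * (d * e)⁻¹ = d * v * x * v * d := by
    simp only [mul_inv_rev, inv_eq hD hd, inv_eq hD he, mul_assoc, mul_self_assoc hD he]
  rwa [e1, e2] at h3

theorem SameV.move {d v x : G} (h : SameV D d v) (hd : d ∈ D) (hx : x ∈ D) :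
    SameV D x (d * v * x * v * d) := by
  have hv := h.1
  have key : ∀ e ∈ D, ∀ x ∈ D, Commute e x → Commute e (d * v * x * v * d) := by
    intro e he x hx hc
    by_cases hde : Commute d e
    · have hve := (h.2 e he).2 hde
      rw [commute_conjTwo_iff hD hd hv, show v * d * e * d * v = e by
        rw [mul_assoc v d e, hde.eq]; simp only [mul_assoc, mul_self_assoc hD hd]
        rw [← mul_assoc, hve.eq, mul_assoc, mul_self hD hv, mul_one]]
      exact hc
    · refine commute_move hD hconj hd hv hx he (fun hc' => hde ((h.2 e he).1 hc')) hde hc ?_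
      exact fun h1 => (h.2 _ (conjTwo_mem hD hconj he hv hx)).1 h1
  have hinvo : ∀ t, d * v * (d * v * t * v * d) * v * d = t := by
    intro t
    have e1 : d * v * (d * v) = 1 := by
      rw [← pow_two]; exact (commute_iff_sq hD hd hv).1 (h.commute hd)
    have e2 : v * d * (v * d) = 1 := by
      rw [← pow_two]; exact (commute_iff_sq hD hv hd).1 (h.commute hd).symm
    calc d * v * (d * v * t * v * d) * v * d = (d * v * (d * v)) * t * (v * d * (v * d)) := by
          simp only [mul_assoc]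
      _ = t := by rw [e1, e2, one_mul, mul_one]
  refine ⟨conjTwo_mem hD hconj hd hv hx, fun e he => ⟨fun hc => ?_, fun hc => (key e he x hx hc.symm).symm⟩⟩
  have := key e he _ (conjTwo_mem hD hconj hd hv hx) hc.symm
  rw [hinvo] at this
  exact this.symm

/-- The products of two members with the same commuting members lie in the two core. -/
theorem sameV_mul_mem_pCore {d v : G} (h : SameV D d v) (hd : d ∈ D) : d * v ∈ pCore 2 G := by
  haveI : Fact (Nat.Prime 2) := ⟨Nat.prime_two⟩
  let U : G → Subgroup G := fun x => Subgroup.closure {u | ∃ p q, SameV D x p ∧ SameV D x q ∧ u = p * q}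
  let S : Set G := {u | ∃ p q, p ∈ D ∧ SameV D p q ∧ u = p * q}
  let N : Subgroup G := Subgroup.closure S
  have hUN : ∀ x ∈ D, U x ≤ N := by
    intro x hx
    refine (Subgroup.closure_le _).2 ?_
    rintro u ⟨p, q, hp, hq, rfl⟩
    exact Subgroup.subset_closure ⟨p, q, hp.1, (hp.symm hx).trans hq, rfl⟩
  have hUp : ∀ x ∈ D, IsPGroup 2 (U x) := by
    intro x hx
    have hc : ∀ p q, SameV D x p → SameV D x q → Commute p q := fun p q hp hq =>
      ((hp.symm hx).trans hq).commute hp.1
    haveI : IsMulCommutative (U x) := Subgroup.isMulCommutative_closure (by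
      rintro _ ⟨p, q, hp, hq, rfl⟩ _ ⟨p', q', hp', hq', rfl⟩
      exact (((hc p p' hp hp').mul_right (hc p q' hp hq')).mul_left
        ((hc q p' hq hp').mul_right (hc q q' hq hq'))).eq)
    intro w
    refine ⟨1, ?_⟩
    rw [pow_one]
    apply Subtype.ext
    rw [SubgroupClass.coe_pow, OneMemClass.coe_one]
    obtain ⟨w, hw⟩ := w
    show w ^ 2 = 1
    induction hw using Subgroup.closure_induction with
    | mem u hu =>
      obtain ⟨p, q, hp, hq, rfl⟩ := hu
      exact (commute_iff_sq hD hp.1 hq.1).1 (hc p q hp hq)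
    | one => simp
    | mul y z hy hz ihy ihz =>
      rw [Commute.mul_pow (show Commute y z from
        congrArg Subtype.val (IsMulCommutative.is_comm.comm (⟨y, hy⟩ : U x) ⟨z, hz⟩)), ihy, ihz, one_mul]
    | inv y hy ih => rw [inv_pow, ih, inv_one]
  have hNn : N.Normal := by
    refine ⟨fun n hn g => ?_⟩
    have h1 : N.map (MulAut.conj g).toMonoidHom ≤ N := by
      rw [MonoidHom.map_closure, Subgroup.closure_le]
      rintro _ ⟨_, ⟨p, q, hp, hpq, rfl⟩, rfl⟩
      refine Subgroup.subset_closure ⟨g * p * g⁻¹, g * q * g⁻¹, hconj g p hp, hpq.conj hconj g, ?_⟩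
      show g * (p * q) * g⁻¹ = g * p * g⁻¹ * (g * q * g⁻¹)
      group
    exact h1 ⟨n, hn, rfl⟩
  have hnorm : ∀ u ∈ S, ∀ x ∈ D, ∀ w ∈ U x, u * w * u⁻¹ ∈ U x := by
    rintro _ ⟨p, q, hp, hpq, rfl⟩ x hx w hw
    have hmov : ∀ y, SameV D x y → SameV D x (p * q * y * (p * q)⁻¹) := by
      intro y hy
      have := hy.trans (hpq.move hD hconj hp hy.1)
      simpa only [mul_inv_rev, inv_eq hD hp, inv_eq hD hpq.1, mul_assoc] using this
    induction hw using Subgroup.closure_induction with
    | mem u hu =>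
      obtain ⟨a, b, ha, hb, rfl⟩ := hu
      exact Subgroup.subset_closure ⟨_, _, hmov a ha, hmov b hb, by group⟩
    | one => simp
    | mul y z hy hz ihy ihz =>
      rw [show p * q * (y * z) * (p * q)⁻¹ = (p * q * y * (p * q)⁻¹) * (p * q * z * (p * q)⁻¹) by group]
      exact mul_mem ihy ihz
    | inv y hy ih =>
      rw [show p * q * y⁻¹ * (p * q)⁻¹ = (p * q * y * (p * q)⁻¹)⁻¹ by group]
      exact inv_mem ih
  have hsupp : ∀ u ∈ S, ∃ x ∈ D, u ∈ U x := by
    rintro _ ⟨p, q, hp, hpq, rfl⟩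
    exact ⟨p, hp, Subgroup.subset_closure ⟨p, q, SameV.refl hp, hpq, rfl⟩⟩
  have hNp : IsPGroup 2 N := by
    have hU : ∀ x ∈ D, U x ≤ (pCore 2 N).map N.subtype := by
      intro x hx
      haveI : ((U x).subgroupOf N).Normal := by
        refine ⟨fun w hw n => ?_⟩
        rw [Subgroup.mem_subgroupOf] at hw ⊢
        have key : ∀ n ∈ N, ∀ w ∈ U x, n * w * n⁻¹ ∈ U x := by
          intro n hn
          induction hn using Subgroup.closure_induction_left with
          | one => intro w hw; simpa using hw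
          | mul_left u hu y _ ihy =>
            intro w hw
            rw [show u * y * w * (u * y)⁻¹ = u * (y * w * y⁻¹) * u⁻¹ by group]
            exact hnorm u hu x hx _ (ihy w hw)
          | inv_mul_cancel u hu y _ ihy =>
            intro w hw
            obtain ⟨p, q, hp, hpq, rfl⟩ := hu
            have hu' : (p * q)⁻¹ ∈ S :=
              ⟨q, p, hpq.1, hpq.symm hp, by rw [mul_inv_rev, inv_eq hD hp, inv_eq hD hpq.1]⟩
            rw [show (p * q)⁻¹ * y * w * ((p * q)⁻¹ * y)⁻¹ = (p * q)⁻¹ * (y * w * y⁻¹) * (p * q)⁻¹⁻¹ by group]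
            exact hnorm _ hu' x hx _ (ihy w hw)
        exact key n n.2 w hw
      intro w hw
      exact ⟨⟨w, hUN x hx hw⟩, CfsgLib.Core.le_pCore (N := (U x).subgroupOf N) ((hUp x hx).comap_of_injective N.subtype N.subtype_injective) hw, rfl⟩
    have : N ≤ (pCore 2 N).map N.subtype := by
      refine (Subgroup.closure_le _).2 fun u hu => ?_
      obtain ⟨x, hx, hux⟩ := hsupp u hu
      exact hU x hx hux
    intro w
    obtain ⟨y, hy, hyw⟩ := this w.2
    obtain ⟨k, hk⟩ := CfsgLib.Core.isPGroup_pCore 2 N ⟨y, hy⟩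
    exact ⟨k, (Subtype.ext hyw : y = w) ▸ congrArg Subtype.val hk⟩
  exact CfsgLib.Core.le_pCore hNp (Subgroup.subset_closure ⟨d, v, hd, h, rfl⟩)

end CfsgLib.ThreeTrans

namespace CfsgLib.ThreeTrans

open Cfsg

variable {G : Type*} [Group G] {D : Set G}

theorem class_conj (hD : IsThreeTranspositionClass D) : ∀ g : G, ∀ x ∈ D, g * x * g⁻¹ ∈ D := by
  obtain ⟨-, ⟨d₀, -, hDeq⟩, -⟩ := hD
  intro g x hx
  rw [hDeq] at hx ⊢
  exact hx.trans (isConj_iff.2 ⟨g, rfl⟩)

theorem class_trans (hD : IsThreeTranspositionClass D) {a b : G} (ha : a ∈ D) (hb : b ∈ D) :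
    ∃ g : G, g * a * g⁻¹ = b := by
  obtain ⟨-, ⟨d₀, -, hDeq⟩, -⟩ := hD
  rw [hDeq] at ha hb
  exact isConj_iff.1 (ha.symm.trans hb)

theorem central_of_commute_all (hgen : Subgroup.closure D = ⊤) {d : G} (h : ∀ x ∈ D, Commute d x) :
    d ∈ Subgroup.center G := by
  rw [Subgroup.mem_center_iff]
  intro g
  have hg : g ∈ Subgroup.closure D := hgen ▸ Subgroup.mem_top g
  induction hg using Subgroup.closure_induction with
  | mem t ht => exact (h t ht).symm
  | one => simp
  | mul p q _ _ hp hq => exact (Commute.mul_left hp hq : Commute (p * q) d)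
  | inv p _ hp => exact (Commute.inv_left hp : Commute p⁻¹ d)

theorem exists_not_commute (hD : IsThreeTranspositionClass D) (hD2 : ∃ a ∈ D, ∃ b ∈ D, a ≠ b) {d : G}
    (hd : d ∈ D) : ∃ x ∈ D, ¬ Commute d x := by
  by_contra h
  simp only [not_exists, not_and, not_not] at h
  have hz := Subgroup.mem_center_iff.1 (central_of_commute_all hD.2.2 h)
  obtain ⟨a, ha, b, hb, hne⟩ := hD2
  have key : ∀ x ∈ D, x = d := by
    intro x hx
    obtain ⟨g, rfl⟩ := class_trans hD hd hx
    rw [hz g, mul_inv_cancel_right]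
  exact hne ((key a ha).trans (key b hb).symm)

/-- A member congruent to `d` modulo the two core commutes with the same members as `d`. -/
theorem sameV_of_mul_mem_pCore (hD : IsThreeTranspositionSet D) {d v : G} (hd : d ∈ D) (hv : v ∈ D)
    (h : d * v ∈ pCore 2 G) : SameV D d v := by
  haveI : Fact (Nat.Prime 2) := ⟨Nat.prime_two⟩
  have hQn : (pCore 2 G).Normal := inferInstance
  have h32 : ∀ x : G, x ^ 3 = 1 → x ∈ pCore 2 G → x = 1 := by
    intro x hx hxQ
    obtain ⟨k, hk⟩ := CfsgLib.Core.isPGroup_pCore 2 G ⟨x, hxQ⟩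
    exact orderOf_eq_one_iff.1 (Nat.eq_one_of_dvd_one ((Nat.Coprime.pow_right k (by norm_num : Nat.Coprime 3 2)).gcd_eq_one ▸
      Nat.dvd_gcd (orderOf_dvd_of_pow_eq_one hx) (orderOf_dvd_of_pow_eq_one (congrArg Subtype.val hk))))
  have key : ∀ a b : G, a ∈ D → b ∈ D → a * b ∈ pCore 2 G → ∀ e ∈ D, Commute b e → Commute a e := by
    intro a b ha hb hab e he hc
    by_contra hn
    have h3 := pow_three hD he ha (fun h' => hn h'.symm)
    have hQ : (e * a) ^ 2 ∈ pCore 2 G := by
      let π := QuotientGroup.mk' (pCore 2 G)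
      have e1 : π a = π b := by
        have e0 : π (a * b) = 1 := (QuotientGroup.eq_one_iff _).2 hab
        rw [map_mul] at e0
        rw [eq_inv_of_mul_eq_one_left e0, ← map_inv, inv_eq hD hb]
      apply (QuotientGroup.eq_one_iff _).1
      show π ((e * a) ^ 2) = 1
      rw [map_pow, map_mul, e1, ← map_mul, ← map_pow, (commute_iff_sq hD he hb).1 hc.symm, map_one]
    have h2 := h32 _ (by rw [← pow_mul, mul_comm, pow_mul, h3, one_pow]) hQ
    exact hn ((commute_iff_sq hD he ha).2 h2).symm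
  have h' : v * d ∈ pCore 2 G := by
    have := inv_mem h
    rwa [mul_inv_rev, inv_eq hD hv, inv_eq hD hd] at this
  exact ⟨hv, fun e he => ⟨key d v hd hv h e he, key v d hv hd h' e he⟩⟩

theorem sameV_iff_mem_pCore (hD : IsThreeTranspositionSet D) (hconj : ∀ g : G, ∀ d ∈ D, g * d * g⁻¹ ∈ D)
    {d v : G} (hd : d ∈ D) : SameV D d v ↔ v ∈ D ∧ d⁻¹ * v ∈ pCore 2 G := by
  rw [inv_eq hD hd]
  exact ⟨fun h => ⟨h.1, sameV_mul_mem_pCore hD hconj h hd⟩, fun h => sameV_of_mul_mem_pCore hD hd h.1 h.2⟩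

theorem sameV_conj_pCore (hD : IsThreeTranspositionClass D) (hD2 : ∃ a ∈ D, ∃ b ∈ D, a ≠ b) {d v : G}
    (hd : d ∈ D) : SameV D d v ↔ ∃ g ∈ pCore 2 G, v = g * d * g⁻¹ := by
  have hconj := class_conj hD
  have hQn : (pCore 2 G).Normal := inferInstance
  constructor
  · intro h
    by_cases hvd : v = d
    · exact ⟨1, one_mem _, by rw [hvd]; group⟩
    obtain ⟨x, hx, hdx⟩ := exists_not_commute hD hD2 hd
    have hvx : ¬ Commute v x := fun hc => hdx ((h.2 x hx).1 hc)
    obtain ⟨χ, h1, h2, h3⟩ := exists_hom_perm_four (mul_self hD.1 hd) (mul_self hD.1 hx) (mul_self hD.1 h.1)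
      (h.commute hd).eq (braid hD.1 hd hx hdx) (braid hD.1 hx h.1 fun hc => hvx hc.symm)
    refine ⟨χ (Equiv.swap 0 2 * Equiv.swap 1 3), ?_, ?_⟩
    · have := hQn.conj_mem _ (sameV_mul_mem_pCore hD.1 hconj h hd) (χ (Equiv.swap 1 2))
      rw [← h1, ← h3, ← map_mul, ← map_inv, ← map_mul, ← map_mul] at this
      convert this using 2
      decide +kernel
    · rw [← h1, ← h3, ← map_inv, ← map_mul, ← map_mul]
      congr 1
      decide +kernel
  · rintro ⟨g, hg, rfl⟩
    refine (sameV_iff_mem_pCore hD.1 hconj hd).2 ⟨hconj g d hd, ?_⟩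
    rw [show d⁻¹ * (g * d * g⁻¹) = d⁻¹ * g * d⁻¹⁻¹ * g⁻¹ by group]
    exact mul_mem (hQn.conj_mem g hg d⁻¹) (inv_mem hg)

end CfsgLib.ThreeTrans
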