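import Cfsg.Prelude.Def_FischerSpaces
import Cfsg.Agent.Lib.ThreeTrans.Perp

set_option autoImplicit false

/-!
The classes `W` (same other commuting members) of a set of 3-transpositions, given that a set of
3-transpositions without distinct commuting members generates modulo the three core (owner: helper28).
-/

namespace CfsgLib.ThreeTrans

open Cfsg

universe u

/-- In a finite group generated by 3-transpositions no two of which commute, the products lie in the three core. -/
def WidthOne : Prop :=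
  ∀ (G : Type u) [Group G] [Finite G] (D : Set G), IsThreeTranspositionGroup D →
    (∀ a ∈ D, ∀ b ∈ D, Commute a b → a = b) → ∀ a ∈ D, ∀ b ∈ D, a * b ∈ pCore 3 G

variable {G : Type u} [Group G] {D : Set G}

/-- A set of members closed under its own conjugations and without commuting pairs gives a 3-group. -/
theorem isPGroup_products_of_closed [Finite G] (hW1 : WidthOne.{u}) (hD : IsThreeTranspositionSet D) {S : Set G}
    (hSD : S ⊆ D) (hS : ∀ a ∈ S, ∀ y ∈ S, a * y * a⁻¹ ∈ S)
    (hwid : ∀ a ∈ S, ∀ b ∈ S, Commute a b → a = b) :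
    IsPGroup 3 (Subgroup.closure {u : G | ∃ a ∈ S, ∃ b ∈ S, u = a * b}) := by
  set H := Subgroup.closure S with hH
  let E : Set H := {x | (x : G) ∈ S}
  have hord : ∀ x ∈ E, orderOf x = 2 := fun x hx => by rw [← Subgroup.orderOf_coe]; exact hD.1 _ (hSD hx)
  have hE : IsThreeTranspositionGroup E := by
    refine ⟨⟨hord, fun a ha b hb => ?_⟩, ?_, ?_⟩
    · rcases hD.2 _ (hSD ha) _ (hSD hb) with h | h
      · exact Or.inl (Subtype.ext h)
      · exact Or.inr (Subtype.ext h)
    · intro g
      have key : ∀ g ∈ H, ∀ y ∈ S, g * y * g⁻¹ ∈ S := by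
        intro g hg
        induction hg using Subgroup.closure_induction_left with
        | one => intro y hy; simpa using hy
        | mul_left a ha y _ ih =>
          intro z hz
          rw [show a * y * z * (a * y)⁻¹ = a * (y * z * y⁻¹) * a⁻¹ by group]
          exact hS a ha _ (ih z hz)
        | inv_mul_cancel a ha y _ ih =>
          intro z hz
          rw [inv_eq hD (hSD ha), show a * y * z * (a * y)⁻¹ = a * (y * z * y⁻¹) * a⁻¹ by group]
          exact hS a ha _ (ih z hz)
      exact fun x hx => key g g.2 x hx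
    · exact Subgroup.closure_closure_coe_preimage
  have hle : Subgroup.closure {u : G | ∃ a ∈ S, ∃ b ∈ S, u = a * b} ≤ (pCore 3 H).map H.subtype := by
    rw [Subgroup.closure_le]
    rintro _ ⟨a, ha, b, hb, rfl⟩
    refine ⟨⟨a, Subgroup.subset_closure ha⟩ * ⟨b, Subgroup.subset_closure hb⟩, ?_, rfl⟩
    refine hW1 H E hE (fun x hx y hy hc => Subtype.ext (hwid _ hx _ hy ?_)) _ ha _ hb
    exact congrArg Subtype.val hc.eq
  exact ((CfsgLib.Core.isPGroup_pCore 3 H).map H.subtype).to_le hle

/-- A subgroup generated by elements each lying in a `p`-subgroup which it normalizes is a `p`-group. -/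
theorem isPGroup_closure_of_normalized {p : ℕ} {S : Set G}
    (h : ∀ u ∈ S, ∃ U : Subgroup G, U ≤ Subgroup.closure S ∧ IsPGroup p U ∧ u ∈ U ∧
      S ⊆ Subgroup.normalizer (U : Set G)) : IsPGroup p (Subgroup.closure S) := by
  set N := Subgroup.closure S
  have hle : N ≤ (pCore p N).map N.subtype := by
    refine (Subgroup.closure_le _).2 fun u hu => ?_
    obtain ⟨U, hUN, hU, huU, hn⟩ := h u hu
    haveI : (U.subgroupOf N).Normal :=
      Subgroup.normal_subgroupOf_of_le_normalizer ((Subgroup.closure_le _).2 hn)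
    exact ⟨⟨u, hUN huU⟩, CfsgLib.Core.le_pCore (N := U.subgroupOf N)
      (hU.comap_of_injective N.subtype N.subtype_injective) huU, rfl⟩
  exact ((CfsgLib.Core.isPGroup_pCore p N).map N.subtype).to_le hle

theorem SameW.iff {d w : G} (h : SameW D d w) {y : G} (hy : y ∈ D) :
    (y ≠ d ∧ Commute d y) ↔ (y ≠ w ∧ Commute w y) := by
  have h' := (Set.ext_iff.1 h.2) y
  simp only [Set.mem_ofPred_eq, hy, true_and] at h'
  exact h'

theorem sameW_of_iff {d w : G} (hw : w ∈ D)
    (h : ∀ y ∈ D, (y ≠ d ∧ Commute d y) ↔ (y ≠ w ∧ Commute w y)) : SameW D d w :=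
  ⟨hw, Set.ext fun y => ⟨fun ⟨hy, h'⟩ => ⟨hy, (h y hy).1 h'⟩, fun ⟨hy, h'⟩ => ⟨hy, (h y hy).2 h'⟩⟩⟩

theorem SameW.refl {d : G} (hd : d ∈ D) : SameW D d d := ⟨hd, rfl⟩

theorem SameW.symm {d w : G} (h : SameW D d w) (hd : d ∈ D) : SameW D w d := ⟨hd, h.2.symm⟩

theorem SameW.trans {a b c : G} (h : SameW D a b) (h' : SameW D b c) : SameW D a c := ⟨h'.1, h.2.trans h'.2⟩

theorem SameW.conj {d w : G} (h : SameW D d w) (hconj : ∀ g : G, ∀ d ∈ D, g * d * g⁻¹ ∈ D) (g : G) :
    SameW D (g * d * g⁻¹) (g * w * g⁻¹) := by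
  refine sameW_of_iff (hconj g w h.1) fun y hy => ?_
  have hy' : g⁻¹ * y * g ∈ D := by simpa using hconj g⁻¹ y hy
  have key : ∀ t : G, (y ≠ g * t * g⁻¹ ∧ Commute (g * t * g⁻¹) y) ↔ (g⁻¹ * y * g ≠ t ∧ Commute t (g⁻¹ * y * g)) := by
    intro t
    refine and_congr (not_congr ⟨fun e => by rw [e]; group, fun e => by rw [← e]; group⟩) ?_
    conv_lhs => rw [← conj_cancel g y]
    exact commute_conj_iff
  rw [key, key]
  exact h.iff hy'

theorem SameW.not_commute {d w : G} (h : SameW D d w) (hne : w ≠ d) : ¬ Commute d w :=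
  fun hc => ((h.iff h.1).1 ⟨hne, hc⟩).1 rfl

variable (hD : IsThreeTranspositionSet D) (hconj : ∀ g : G, ∀ d ∈ D, g * d * g⁻¹ ∈ D)
include hD hconj

omit hconj in
theorem conjTwo_conjTwo {d w x : G} (hd : d ∈ D) (hw : w ∈ D) : w * d * (d * w * x * w * d) * d * w = x := by
  simp only [mul_assoc, mul_self_assoc hD hd, mul_self_assoc hD hw, mul_self hD hw, mul_one]

omit hconj in
theorem not_commute_conjTwo {d w x : G} (hd : d ∈ D) (hw : w ∈ D) (hx : x ∈ D) (hdw : ¬ Commute d w)
    (hdx : ¬ Commute d x) (hwx : ¬ Commute w x) : ¬ Commute x (d * w * x * w * d) := by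
  intro h
  rw [commute_conjTwo_iff hD hd hw] at h
  have h2 := (commute_conj_iff (g := w)).2 h
  have e1 : w * (w * d * x * d * w) * w⁻¹ = x * d * x := by
    rw [inv_eq hD hw, ← braid hD hd hx hdx]
    simp only [mul_assoc, mul_self_assoc hD hw, mul_self hD hw, mul_one]
  have e2 : w * x * w⁻¹ = x * w * x := by rw [inv_eq hD hw, braid hD hw hx hwx]
  rw [e1, e2] at h2
  have h3 := (commute_conj_iff (g := x) (a := d) (b := w)).1 (by rwa [inv_eq hD hx])
  exact hdw h3

theorem SameW.move_key {d w x e : G} (h : SameW D d w) (hd : d ∈ D) (hne : w ≠ d) (hx : x ∈ D) (he : e ∈ D)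
    (hdx : ¬ Commute d x) (hwx : ¬ Commute w x) (hex : e ≠ x) (hc : Commute x e) :
    e ≠ d * w * x * w * d ∧ Commute (d * w * x * w * d) e := by
  have hw := h.1
  refine ⟨fun he' => not_commute_conjTwo hD hd hw hx (h.not_commute hne) hdx hwx (he' ▸ hc), ?_⟩
  by_cases hde : Commute d e
  · have hed : e ≠ d := fun e' => hdx (e' ▸ hc.symm)
    have hwe := ((h.iff he).1 ⟨hed, hde⟩).2
    refine Commute.symm ((commute_conjTwo_iff hD hd hw).2 ?_)
    have : w * d * e * d * w = e := by
      rw [mul_assoc w d e, hde.eq]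
      simp only [mul_assoc, mul_self_assoc hD hd]
      rw [← mul_assoc, hwe.eq, mul_assoc, mul_self hD hw, mul_one]
    rw [this]
    exact hc.symm
  · have hew : e ≠ w := fun e' => hwx (e' ▸ hc.symm)
    have hwe : ¬ Commute w e := fun h' => hde ((h.iff he).2 ⟨hew, h'⟩).2
    refine Commute.symm (commute_move hD hconj hd hw hx he hwe hde hc.symm fun h1 => ?_)
    refine ((h.iff (conjTwo_mem hD hconj he hw hx)).2 ⟨fun hy => hex ?_, h1⟩).2
    have h0 : w * e * w * e * w = e := by
      have hb := braid hD hw he hwe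
      calc w * e * w * e * w = (w * e * w) * e * w := by simp only [mul_assoc]
        _ = e * w * e * e * w := by rw [hb]
        _ = e := by simp only [mul_assoc, mul_self_assoc hD he, mul_self hD hw, mul_one]
    calc e = w * e * w * e * w := h0.symm
      _ = w * e * (e * w * x * w * e) * e * w := by rw [hy]
      _ = x := conjTwo_conjTwo hD he hw

theorem SameW.move {d w x : G} (h : SameW D d w) (hd : d ∈ D) (hx : x ∈ D) : SameW D x (d * w * x * w * d) := by
  have hw := h.1
  by_cases hne : w = d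
  · subst hne
    rw [show w * w * x * w * w = x by simp only [mul_assoc, mul_self_assoc hD hd, mul_self hD hd, mul_one, one_mul]]
    exact SameW.refl hx
  have hdw := h.not_commute hne
  have hb := braid hD hd hw hdw
  have h3 : SameW D d (d * w * d) := by
    have := h.conj hconj d
    rwa [inv_eq hD hd, mul_self hD hd, one_mul] at this
  by_cases hxd : x = d
  · subst hxd
    rwa [show x * w * x * w * x = w from by
      rw [hb]; simp only [mul_assoc, mul_self_assoc hD hw, mul_self hD hd, mul_one]]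
  by_cases hxw : x = w
  · subst hxw
    rw [show d * x * x * x * d = d * x * d by simp only [mul_assoc, mul_self_assoc hD hx]]
    exact (h.symm hd).trans h3
  by_cases hdx : Commute d x
  · have hwx := ((h.iff hx).1 ⟨hxd, hdx⟩).2
    have : d * w * x * w * d = x := by
      rw [mul_assoc d w x, hwx.eq]
      simp only [mul_assoc, mul_self_assoc hD hw]
      rw [← mul_assoc, hdx.eq, mul_assoc, mul_self hD hd, mul_one]
    rw [this]; exact SameW.refl hx
  have hwx : ¬ Commute w x := fun h' => hdx ((h.iff hx).2 ⟨hxw, h'⟩).2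
  set x' := d * w * x * w * d with hx'def
  have hx' : x' ∈ D := conjTwo_mem hD hconj hd hw hx
  have hback : w * d * x' * d * w = x := conjTwo_conjTwo hD hd hw
  by_cases hx'd : x' = d
  · have : x = d * w * d := by
      rw [← hback, hx'd, hb]; simp only [mul_assoc, mul_self_assoc hD hd]
    rw [hx'd]
    exact (this ▸ h3).symm hd
  have hx'w : x' ≠ w := by
    intro h'
    apply hxd
    rw [← hback, h', mul_assoc (w * d) w d, show w * d * (w * d) * w = w * d * w * d * w by simp only [mul_assoc],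
      ← hb]
    simp only [mul_assoc, mul_self_assoc hD hd, mul_self hD hw, mul_one]
  have hdx' : ¬ Commute d x' := by
    intro h'
    have hwx' := ((h.iff hx').1 ⟨hx'd, h'⟩).2
    apply hdx
    have : x = x' := by
      rw [← hback, mul_assoc w d x', h'.eq]
      simp only [mul_assoc, mul_self_assoc hD hd]
      rw [← mul_assoc, hwx'.eq, mul_assoc, mul_self hD hw, mul_one]
    rwa [this]
  have hwx' : ¬ Commute w x' := fun h' => hdx' ((h.iff hx').2 ⟨hx'w, h'⟩).2
  refine sameW_of_iff hx' fun e he => ⟨fun h' => h.move_key hD hconj hd hne hx he hdx hwx h'.1 h'.2, fun h' => ?_⟩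
  have := (h.symm hd).move_key hD hconj hw (Ne.symm hne) hx' he hwx' hdx' h'.1 h'.2
  rwa [hback] at this

/-- The products of two members with the same other commuting members lie in the three core. -/
theorem sameW_mul_mem_pCore [Finite G] (hW1 : WidthOne.{u}) {d w : G} (h : SameW D d w) (hd : d ∈ D) :
    d * w ∈ pCore 3 G := by
  let S : Set G := {u | ∃ p q, p ∈ D ∧ SameW D p q ∧ u = p * q}
  let N : Subgroup G := Subgroup.closure S
  haveI hNn : N.Normal := by
    refine ⟨fun n hn g => ?_⟩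
    have h1 : N.map (MulAut.conj g).toMonoidHom ≤ N := by
      rw [MonoidHom.map_closure, Subgroup.closure_le]
      rintro _ ⟨_, ⟨p, q, hp, hpq, rfl⟩, rfl⟩
      refine Subgroup.subset_closure ⟨g * p * g⁻¹, g * q * g⁻¹, hconj g p hp, hpq.conj hconj g, ?_⟩
      show g * (p * q) * g⁻¹ = g * p * g⁻¹ * (g * q * g⁻¹)
      group
    exact h1 ⟨n, hn, rfl⟩
  have hnorm : ∀ u ∈ S, ∀ x, x ∈ D → ∀ t ∈ Subgroup.closure {v : G | ∃ a ∈ {y | SameW D x y}, ∃ b ∈ {y | SameW D x y}, v = a * b},
      u * t * u⁻¹ ∈ Subgroup.closure {v : G | ∃ a ∈ {y | SameW D x y}, ∃ b ∈ {y | SameW D x y}, v = a * b} := by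
    rintro _ ⟨p, q, hp, hpq, rfl⟩ x hx t ht
    have hmov : ∀ y, SameW D x y → SameW D x (p * q * y * (p * q)⁻¹) := by
      intro y hy
      have := hy.trans (hpq.move hD hconj hp hy.1)
      simpa only [mul_inv_rev, inv_eq hD hp, inv_eq hD hpq.1, mul_assoc] using this
    set U := Subgroup.closure {v : G | ∃ a ∈ {y | SameW D x y}, ∃ b ∈ {y | SameW D x y}, v = a * b}
    have : U.map (MulAut.conj (p * q)).toMonoidHom ≤ U := by
      rw [MonoidHom.map_closure, Subgroup.closure_le]
      rintro _ ⟨_, ⟨a, ha, b, hb, rfl⟩, rfl⟩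
      refine Subgroup.subset_closure ⟨_, hmov a ha, _, hmov b hb, ?_⟩
      show p * q * (a * b) * (p * q)⁻¹ = p * q * a * (p * q)⁻¹ * (p * q * b * (p * q)⁻¹)
      group
    exact this ⟨t, ht, rfl⟩
  have hNp : IsPGroup 3 N := by
    refine isPGroup_closure_of_normalized ?_
    rintro _ ⟨p, q, hp, hpq, rfl⟩
    refine ⟨Subgroup.closure {v : G | ∃ a ∈ {y | SameW D p y}, ∃ b ∈ {y | SameW D p y}, v = a * b}, ?_, ?_, ?_, ?_⟩
    · refine (Subgroup.closure_le _).2 ?_
      rintro _ ⟨a, ha, b, hb, rfl⟩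
      exact Subgroup.subset_closure ⟨a, b, ha.1, (ha.symm hp).trans hb, rfl⟩
    · refine isPGroup_products_of_closed hW1 hD (fun y hy => hy.1) ?_ ?_
      · intro a ha y hy
        have := ((ha.symm hp).trans hy).conj hconj a
        rw [mul_inv_cancel_right] at this
        exact ha.trans this
      · intro a ha b hb hc
        by_contra hne
        exact ((ha.symm hp).trans hb).not_commute (Ne.symm hne) hc
    · exact Subgroup.subset_closure ⟨p, SameW.refl hp, q, hpq, rfl⟩
    · intro u hu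
      have hu' : u⁻¹ ∈ S := by
        obtain ⟨a, b, ha, hab, rfl⟩ := hu
        exact ⟨b, a, hab.1, hab.symm ha, by rw [mul_inv_rev, inv_eq hD ha, inv_eq hD hab.1]⟩
      rw [SetLike.mem_coe, Subgroup.mem_normalizer_iff]
      intro t
      refine ⟨fun ht => hnorm u hu p hp t ht, fun ht => ?_⟩
      have := hnorm _ hu' p hp _ ht
      rwa [show u⁻¹ * (u * t * u⁻¹) * u⁻¹⁻¹ = t by group] at this
  exact CfsgLib.Core.le_pCore hNp (Subgroup.subset_closure ⟨d, w, hd, h, rfl⟩)

omit hconj in
/-- A member congruent to `d` modulo the three core has the same other commuting members. -/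
theorem sameW_of_mul_mem_pCore {d w : G} (hd : d ∈ D) (hw : w ∈ D) (h : d * w ∈ pCore 3 G) : SameW D d w := by
  have hQn : (pCore 3 G).Normal := inferInstance
  have h23 : ∀ x : G, x ^ 2 = 1 → x ∈ pCore 3 G → x = 1 := by
    intro x hx hxQ
    obtain ⟨k, hk⟩ := CfsgLib.Core.isPGroup_pCore 3 G ⟨x, hxQ⟩
    exact orderOf_eq_one_iff.1 (Nat.eq_one_of_dvd_one ((Nat.Coprime.pow_right k (by norm_num : Nat.Coprime 2 3)).gcd_eq_one ▸
      Nat.dvd_gcd (orderOf_dvd_of_pow_eq_one hx) (orderOf_dvd_of_pow_eq_one (congrArg Subtype.val hk))))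
  have key : ∀ a b : G, a ∈ D → b ∈ D → a * b ∈ pCore 3 G → ∀ e ∈ D, (e ≠ b ∧ Commute b e) → (e ≠ a ∧ Commute a e) := by
    rintro a b ha hb hab e he ⟨hne, hc⟩
    have he1 : e ≠ a := by
      intro e'
      subst e'
      have := h23 _ ((commute_iff_sq hD he hb).1 hc.symm) hab
      apply hne
      rw [← inv_eq hD hb]
      exact eq_inv_of_mul_eq_one_left this
    refine ⟨he1, ?_⟩
    by_contra hn
    have h3 := pow_three hD he ha fun h' => hn h'.symm
    let π := QuotientGroup.mk' (pCore 3 G)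
    have e1 : π a = π b := by
      have e0 : π (a * b) = 1 := (QuotientGroup.eq_one_iff _).2 hab
      rw [map_mul] at e0
      rw [eq_inv_of_mul_eq_one_left e0, ← map_inv, inv_eq hD hb]
    have h4 : π (e * a) = 1 := by
      have hsq : π (e * a) ^ 2 = 1 := by
        rw [map_mul, e1, ← map_mul, ← map_pow, (commute_iff_sq hD he hb).1 hc.symm, map_one]
      have hcu : π (e * a) ^ 3 = 1 := by rw [← map_pow, h3, map_one]
      rwa [_root_.pow_succ, hsq, one_mul] at hcu
    have h5 : π (e * b) = 1 := by rw [map_mul, ← e1, ← map_mul, h4]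
    apply hne
    have := h23 _ ((commute_iff_sq hD he hb).1 hc.symm) ((QuotientGroup.eq_one_iff _).1 h5)
    rw [← inv_eq hD hb]
    exact eq_inv_of_mul_eq_one_left this
  have h' : w * d ∈ pCore 3 G := by
    have := inv_mem h
    rwa [mul_inv_rev, inv_eq hD hw, inv_eq hD hd] at this
  exact sameW_of_iff hw fun e he => ⟨key w d hw hd h' e he, key d w hd hw h e he⟩

theorem sameW_iff_mem_pCore [Finite G] (hW1 : WidthOne.{u}) {d w : G} (hd : d ∈ D) :
    SameW D d w ↔ w ∈ D ∧ d⁻¹ * w ∈ pCore 3 G := by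
  rw [inv_eq hD hd]
  exact ⟨fun h => ⟨h.1, sameW_mul_mem_pCore hD hconj hW1 h hd⟩, fun h => sameW_of_mul_mem_pCore hD hd h.1 h.2⟩

theorem sameW_conj_pCore [Finite G] (hW1 : WidthOne.{u}) {d w : G} (hd : d ∈ D) :
    SameW D d w ↔ ∃ g ∈ pCore 3 G, w = g * d * g⁻¹ := by
  have hQn : (pCore 3 G).Normal := inferInstance
  constructor
  · intro h
    by_cases hwd : w = d
    · exact ⟨1, one_mem _, by rw [hwd]; group⟩
    refine ⟨d * w, sameW_mul_mem_pCore hD hconj hW1 h hd, ?_⟩
    rw [mul_inv_rev, inv_eq hD hd, inv_eq hD h.1, braid hD hd h.1 (h.not_commute hwd)]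
    simp only [mul_assoc, mul_self_assoc hD h.1, mul_self_assoc hD hd, mul_self hD hd, mul_one]
  · rintro ⟨g, hg, rfl⟩
    refine (sameW_iff_mem_pCore hD hconj hW1 hd).2 ⟨hconj g d hd, ?_⟩
    rw [show d⁻¹ * (g * d * g⁻¹) = d⁻¹ * g * d⁻¹⁻¹ * g⁻¹ by group]
    exact mul_mem (hQn.conj_mem g hg d⁻¹) (inv_mem hg)

end CfsgLib.ThreeTrans
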