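import Cfsg.Agent.Lib.ThreeTrans.WidthOneRadical
import Cfsg.Agent.Lib.ThreeTrans.FiftyFourUnitary

set_option autoImplicit false

/-!
Quotient and complement when the quotient by the 2-core has order 54 (owner: helper28).
-/

namespace CfsgLib.ThreeTrans.Radical

open Cfsg CfsgLib.ThreeTrans

theorem code_involution : ∀ p : Code54, mul54 p p = (0, 0, 0, 0) → p ≠ (0, 0, 0, 0) →
    ∃ q, mul54 (mul54 q (1, 0, 0, 0)) (inv54 q) = p := by decide +kernel

theorem involution_conj {X : Type*} [Group X] {d x y : X} (h : Gen54 d x y)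
    (hgen : Subgroup.closure ({d, x, y} : Set X) = ⊤) (hc : 54 ≤ Nat.card X) {t : X} (ht : t * t = 1)
    (ht1 : t ≠ 1) : IsConj d t := by
  obtain ⟨hinj, hsurj⟩ := h.bijective hgen hc
  obtain ⟨p, rfl⟩ := hsurj t
  have hp : mul54 p p = (0, 0, 0, 0) := hinj (by rw [← h.val54_mul, ht, Gen54.val54_zero])
  obtain ⟨q, hq⟩ := code_involution p hp (fun e => ht1 (by rw [e, Gen54.val54_zero]))
  refine isConj_iff.2 ⟨val54 d x y q, ?_⟩
  rw [← hq, ← h.val54_mul, ← h.val54_mul, Gen54.val54_gen.1]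
  congr 1
  exact (eq_inv_of_mul_eq_one_right (by rw [h.val54_mul, mul54_inv54, Gen54.val54_zero])).symm

theorem exists_complement {G : Type*} [Group G] [Finite G] {D : Set G} (hD : IsThreeTranspositionClass D)
    {d₀ x₀ y₀ : G ⧸ pCore 2 G} (h : Gen54 d₀ x₀ y₀)
    (hgen : Subgroup.closure ({d₀, x₀, y₀} : Set (G ⧸ pCore 2 G)) = ⊤)
    (hc : Nat.card (G ⧸ pCore 2 G) = 54) : ∃ K : Subgroup G, (pCore 2 G).IsComplement' K := by
  obtain ⟨hset, ⟨c, hcD, rfl⟩, hgD⟩ := hD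
  have hconj : ∀ g : G, ∀ t ∈ conjugatesOf c, g * t * g⁻¹ ∈ conjugatesOf c :=
    fun g t ht => IsConj.trans ht (isConj_iff.2 ⟨g, rfl⟩)
  have hcc : bar G c ≠ 1 := by
    intro h1
    have : (⊤ : Subgroup (G ⧸ pCore 2 G)) = ⊥ := by
      rw [← Subgroup.map_top_of_surjective (bar G) (QuotientGroup.mk'_surjective _), ← hgD,
        MonoidHom.map_closure, Subgroup.closure_eq_bot_iff]
      rintro _ ⟨t, ht, rfl⟩
      obtain ⟨g, rfl⟩ := isConj_iff.1 ht
      simpa using h1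
    rw [← Subgroup.card_top, this, Subgroup.card_bot] at hc
    omega
  have hcc2 : bar G c * bar G c = 1 := by rw [← map_mul, mul_self hset hcD, map_one]
  have hall : ∀ t : G ⧸ pCore 2 G, t * t = 1 → t ≠ 1 → ∃ s ∈ conjugatesOf c, bar G s = t := by
    intro t ht ht1
    obtain ⟨u, hu⟩ := isConj_iff.1 ((involution_conj h hgen hc.ge hcc2 hcc).symm.trans
      (involution_conj h hgen hc.ge ht ht1))
    obtain ⟨g, rfl⟩ := QuotientGroup.mk'_surjective (pCore 2 G) u
    exact ⟨g * c * g⁻¹, hconj g c hcD, by rw [map_mul, map_mul, map_inv]; exact hu⟩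
  obtain ⟨hinj, -⟩ := h.bijective hgen hc.ge
  have hne : ∀ p, p ≠ (0, 0, 0, 0) → val54 d₀ x₀ y₀ p ≠ 1 := fun p hp e =>
    hp (hinj (e.trans (Gen54.val54_zero).symm))
  obtain ⟨hvd, hvx, hvy⟩ := Gen54.val54_gen (d := d₀) (x := x₀) (y := y₀)
  have hinvol : ∀ p : Code54, mul54 p p = (0, 0, 0, 0) → p ≠ (0, 0, 0, 0) →
      ∃ s ∈ conjugatesOf c, bar G s = val54 d₀ x₀ y₀ p := fun p hp hp0 =>
    hall _ (by rw [h.val54_mul, hp, Gen54.val54_zero]) (hne p hp0)
  obtain ⟨d, hd, hdb⟩ := hinvol (1, 0, 0, 0) (by decide) (by decide)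
  obtain ⟨e, he, heb⟩ := hinvol (mul54 (1, 0, 0, 0) (0, 1, 0, 0)) (by decide) (by decide)
  obtain ⟨f, hf, hfb⟩ := hinvol (mul54 (1, 0, 0, 0) (0, 0, 1, 0)) (by decide) (by decide)
  rw [hvd] at hdb
  rw [← h.val54_mul, hvd, hvx] at heb
  rw [← h.val54_mul, hvd, hvy] at hfb
  have hd2 := mul_self hset hd
  have hd' := inv_eq hset hd
  have hne' : ∀ a ∈ conjugatesOf c, ∀ b ∈ conjugatesOf c, ∀ p, bar G (a * b) = val54 d₀ x₀ y₀ p →
      mul54 p p ≠ (0, 0, 0, 0) → (a * b) ^ 3 = 1 := by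
    intro a ha b hb p hab hp
    refine pow_three hset ha hb fun hcom => hp (hinj ?_)
    rw [← h.val54_mul, Gen54.val54_zero, ← hab, ← map_mul, ← pow_two, hcom.mul_pow, pow_two, pow_two,
      mul_self hset ha, mul_self hset hb, one_mul, map_one]
  have hde : bar G (d * e) = val54 d₀ x₀ y₀ (0, 1, 0, 0) := by
    rw [map_mul, hdb, heb, ← mul_assoc, h.sq, one_mul, hvx]
  have hdf : bar G (d * f) = val54 d₀ x₀ y₀ (0, 0, 1, 0) := by
    rw [map_mul, hdb, hfb, ← mul_assoc, h.sq, one_mul, hvy]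
  have hK : Gen54 d (d * e) (d * f) := by
    refine ⟨hd2, ?_, ?_, hne' d hd e he _ hde (by decide), hne' d hd f hf _ hdf (by decide), ?_, ?_⟩
    · rw [mul_inv_rev, inv_eq hset he, ← mul_assoc, hd2, one_mul]
    · rw [mul_inv_rev, inv_eq hset hf, ← mul_assoc, hd2, one_mul]
    · have e1 : d * e * (d * f) = (d * e * d⁻¹) * f := by rw [hd', ← mul_assoc]
      rw [e1]
      refine hne' _ (hconj d e he) f hf (mul54 (0, 1, 0, 0) (0, 0, 1, 0)) ?_ (by decide)
      rw [← e1, map_mul, hde, hdf, h.val54_mul]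
    · have e1 : d * e * (d * f)⁻¹ = d * (e * f) * d⁻¹ := by rw [mul_inv_rev, inv_eq hset hf]; group
      rw [e1, conj_pow, hne' e he f hf (mul54 (mul54 (1, 0, 0, 0) (0, 1, 0, 0)) (mul54 (1, 0, 0, 0) (0, 0, 1, 0)))
        ?_ (by decide), mul_one, mul_inv_cancel]
      rw [map_mul, heb, hfb, ← h.val54_mul, ← h.val54_mul, ← h.val54_mul, hvd, hvx, hvy]
  set K := Subgroup.closure ({d, d * e, d * f} : Set G) with hKdef
  refine ⟨K, ?_⟩
  have hmap : K.map (bar G) = ⊤ := by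
    rw [hKdef, MonoidHom.map_closure, Set.image_insert_eq, Set.image_insert_eq, Set.image_singleton,
      hdb, hde, hdf, hvx, hvy, hgen]
  have hle : Nat.card K ≤ 54 := hK.card_closure_le
  have hsurj : Function.Surjective ((bar G).comp K.subtype) := by
    intro t
    obtain ⟨k, hk, rfl⟩ := (hmap ▸ Subgroup.mem_top t : t ∈ K.map (bar G))
    exact ⟨⟨k, hk⟩, rfl⟩
  have hcardK : Nat.card K = 54 := le_antisymm hle (hc ▸ Nat.card_le_card_of_surjective _ hsurj)
  have hinjK : Function.Injective ((bar G).comp K.subtype) :=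
    ((Nat.bijective_iff_surjective_and_card _).2 ⟨hsurj, hcardK.trans hc.symm⟩).1
  refine Subgroup.isComplement'_of_card_mul_and_disjoint ?_ ?_
  · rw [hcardK, ← hc, mul_comm, ← Subgroup.card_eq_card_quotient_mul_card_subgroup]
  · rw [disjoint_iff, eq_bot_iff]
    rintro g ⟨hgQ, hgK⟩
    have := hinjK (show (bar G).comp K.subtype ⟨g, hgK⟩ = (bar G).comp K.subtype 1 by
      rw [map_one]; exact bar_eq_one.2 hgQ)
    exact congrArg Subtype.val this

end CfsgLib.ThreeTrans.Radical
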