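import Cfsg.Agent.Lib.ThreeTrans.RankOneSL2

set_option autoImplicit false

/-!
A homomorphism from `SL₂(k)` from the relations of its Bruhat normal form (owner: helper28).
-/

namespace CfsgLib.ThreeTrans.SL2Hom

open Cfsg Matrix CfsgLib.ThreeTrans.RankOneSL2
open scoped MatrixGroups

variable {k : Type*} [Field k] {G : Type*} [Group G]

/-- The element `!![0, 1; -1, 0]`. -/
def weylEl : SL(2, k) := ⟨!![0, 1; -1, 0], by simp [Matrix.det_fin_two]⟩

/-- Images of the elements of the Bruhat normal form. -/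
structure Rels (x : k → G) (n : G) (h : k → G) : Prop where
  add : ∀ s t, x (s + t) = x s * x t
  mul : ∀ u v, u ≠ 0 → v ≠ 0 → h (u * v) = h u * h v
  hx : ∀ u t, u ≠ 0 → h u * x t = x (u ^ 2 * t) * h u
  nh : ∀ u, u ≠ 0 → n * h u = h u⁻¹ * n
  nn : n * n = h (-1)
  nxn : ∀ t, t ≠ 0 → n * x t * n = x (-t⁻¹) * h (-t⁻¹) * n * x (-t⁻¹)

variable {x : k → G} {n : G} {h : k → G} [DecidableEq k]

/-- The value on a matrix. -/
noncomputable def ev (x : k → G) (n : G) (h : k → G) (a b c d : k) : G :=
  if c = 0 then x (a * b) * h a else x (a / c) * h (-c⁻¹) * n * x (d / c)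

/-- The map on `SL₂`. -/
noncomputable def evM (x : k → G) (n : G) (h : k → G) (g : SL(2, k)) : G :=
  ev x n h (g.1 0 0) (g.1 0 1) (g.1 1 0) (g.1 1 1)

theorem Rels.x_zero (R : Rels x n h) : x 0 = 1 := by
  have := R.add 0 0
  rwa [add_zero, left_eq_mul] at this

theorem Rels.h_one (R : Rels x n h) : h 1 = 1 := by
  have := R.mul 1 1 one_ne_zero one_ne_zero
  rwa [mul_one, left_eq_mul] at this

theorem det_eq (g : SL(2, k)) : g.1 0 0 * g.1 1 1 - g.1 0 1 * g.1 1 0 = 1 :=
  (Matrix.det_fin_two g.1).symm.trans g.2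

theorem evM_mul_upper (R : Rels x n h) (g : SL(2, k)) (t : k) :
    evM x n h (g * upperEl t) = evM x n h g * x t := by
  have hd := det_eq g
  have e : (g * upperEl t).1 = g.1 * !![1, t; 0, 1] := rfl
  simp only [evM, e, Matrix.mul_apply, Fin.sum_univ_two, Matrix.of_apply,
    Matrix.cons_val', Matrix.cons_val_zero, Matrix.cons_val_one, Matrix.empty_val', Matrix.cons_val_fin_one,
    mul_one, mul_zero, add_zero]
  generalize g.1 0 0 = a, g.1 0 1 = b, g.1 1 0 = c, g.1 1 1 = d at hd ⊢
  by_cases hc : c = 0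
  · subst hc
    have ha : a ≠ 0 := fun e => by rw [e] at hd; simp at hd
    simp only [ev, if_true]
    rw [mul_assoc, R.hx a t ha, ← mul_assoc, ← R.add]
    congr 2
    ring
  · simp only [ev, if_neg hc]
    rw [mul_assoc _ (x (d / c)) (x t), ← R.add]
    congr 2
    field_simp
    ring

theorem evM_mul_weyl (R : Rels x n h) (g : SL(2, k)) :
    evM x n h (g * weylEl) = evM x n h g * n := by
  have hd := det_eq g
  have e : (g * weylEl).1 = g.1 * !![0, 1; -1, 0] := rfl
  simp only [evM, e, Matrix.mul_apply, Fin.sum_univ_two, Matrix.of_apply,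
    Matrix.cons_val', Matrix.cons_val_zero, Matrix.cons_val_one, Matrix.empty_val', Matrix.cons_val_fin_one,
    mul_one, mul_zero, add_zero, zero_add, mul_neg_one]
  generalize g.1 0 0 = a, g.1 0 1 = b, g.1 1 0 = c, g.1 1 1 = d at hd ⊢
  by_cases hc : c = 0
  · subst hc
    have ha : a ≠ 0 := fun e => by rw [e] at hd; simp at hd
    have hd1 : a * d = 1 := by linear_combination hd
    have hd0 : d ≠ 0 := fun e => by rw [e] at hd1; simp at hd1
    simp only [ev, if_true, if_neg (neg_ne_zero.2 hd0), zero_div, R.x_zero, mul_one]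
    congr 3
    · field_simp
      linear_combination (-b) * hd1
    · field_simp
      linear_combination -hd1
  · simp only [ev, if_neg hc]
    by_cases hd0 : d = 0
    · subst hd0
      have hb : -b = c⁻¹ := eq_inv_of_mul_eq_one_left (by linear_combination hd)
      simp only [neg_zero, if_true, zero_div, R.x_zero, mul_one]
      rw [mul_assoc _ n n, R.nn, mul_assoc, ← R.mul _ _ (neg_ne_zero.2 (inv_ne_zero hc)) (by norm_num), hb]
      congr 2
      · rw [inv_mul_eq_div]
      · ring
    · have ht : d / c ≠ 0 := div_ne_zero hd0 hc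
      have hu : -c⁻¹ ≠ 0 := neg_ne_zero.2 (inv_ne_zero hc)
      have e := R.nxn _ ht
      rw [if_neg (neg_ne_zero.2 hd0),
        show x (a / c) * h (-c⁻¹) * n * x (d / c) * n = x (a / c) * h (-c⁻¹) * (n * x (d / c) * n) by group, e]
      simp only [← mul_assoc]
      rw [mul_assoc (x (a / c)), R.hx _ _ hu, ← mul_assoc, ← R.add, mul_assoc _ (h (-c⁻¹)), ← R.mul _ _ hu
        (neg_ne_zero.2 (inv_ne_zero ht))]
      congr 1
      · congr 1
        congr 1
        · congr 1
          field_simp
          linear_combination -hd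
        · congr 1
          field_simp
      · congr 1
        field_simp

theorem exists_hom (R : Rels x n h) :
    ∃ φ : SL(2, k) →* G, (∀ t, φ (upperEl t) = x t) ∧ φ weylEl = n ∧ ∀ g, φ g = evM x n h g := by
  have h1 : evM x n h 1 = 1 := by simp [evM, ev, R.x_zero, R.h_one]
  let T : Subgroup SL(2, k) :=
    { carrier := {s | ∀ g, evM x n h (g * s) = evM x n h g * evM x n h s}
      one_mem' := fun g => by rw [mul_one, h1, mul_one]
      mul_mem' := fun {s t} hs ht g => by rw [← mul_assoc, ht, hs, ht, mul_assoc]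
      inv_mem' := fun {s} hs g => by
        have e1 := hs (g * s⁻¹)
        have e2 := hs s⁻¹
        rw [inv_mul_cancel_right] at e1
        rw [inv_mul_cancel, h1] at e2
        rw [e1, mul_assoc, mul_eq_one_comm.1 e2.symm, mul_one] }
  have hx : ∀ t, evM x n h (upperEl t) = x t := fun t => by simpa [h1] using evM_mul_upper R 1 t
  have hn : evM x n h weylEl = n := by simpa [h1] using evM_mul_weyl R 1
  have hup : ∀ t, upperEl t ∈ T := fun t g => by rw [evM_mul_upper R, hx]
  have hw : weylEl ∈ T := fun g => by rw [evM_mul_weyl R, hn]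
  have hT : T = ⊤ := by
    rw [eq_top_iff, ← sup_eq_top]
    refine sup_le (fun g hg => ?_) (fun g hg => ?_)
    · obtain ⟨t, rfl⟩ := mem_lower.1 hg
      have e : lowerEl t * weylEl = weylEl * upperEl (-t) := by
        apply Subtype.ext
        show !![1, 0; t, 1] * !![0, 1; -1, 0] = !![0, 1; -1, 0] * !![1, -t; 0, 1]
        simp [Matrix.mul_fin_two]
      rw [eq_mul_inv_of_mul_eq e]
      exact mul_mem (mul_mem hw (hup _)) (inv_mem hw)
    · obtain ⟨t, rfl⟩ := mem_upper.1 hg
      exact hup t
  exact ⟨MonoidHom.mk' (evM x n h) fun g s => (hT ▸ Subgroup.mem_top s : s ∈ T) g, hx, hn, fun _ => rfl⟩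

end CfsgLib.ThreeTrans.SL2Hom
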