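import Cfsg.Agent.Lib.ThreeTrans.RankOneSpecial
import Cfsg.Agent.Lib.ThreeTrans.SL2Hom

set_option autoImplicit false

/-!
The subgroup `⟨a, f(a)⟩` of a special rank one group, for `A` elementary abelian (owner: helper28).
-/

namespace CfsgLib.ThreeTrans.Special

open Cfsg Subgroup CfsgLib.ThreeTrans CfsgLib.ThreeTrans.RankOneSL2 CfsgLib.ThreeTrans.SL2Hom
open scoped MatrixGroups

variable {G : Type*} [Group G] {A B : Subgroup G} {p : ℕ} [Fact p.Prime]

/-- Powers with exponents in `ZMod p`. -/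
def pz (g : G) (t : ZMod p) : G := g ^ t.val

omit [Fact p.Prime] in
theorem pz_mem {H : Subgroup G} {g : G} (hg : g ∈ H) (t : ZMod p) : pz g t ∈ H := pow_mem hg _

theorem pz_one (g : G) : pz g (1 : ZMod p) = g := by rw [pz, ZMod.val_one, pow_one]

theorem pz_zero (g : G) : pz g (0 : ZMod p) = 1 := by rw [pz, ZMod.val_zero, pow_zero]

theorem pz_add {g : G} (hg : g ^ p = 1) (s t : ZMod p) : pz g (s + t) = pz g s * pz g t := by
  rw [pz, pz, pz, ZMod.val_add, ← pow_eq_pow_mod _ hg, pow_add]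

theorem pz_mul {g : G} (hg : g ^ p = 1) (s t : ZMod p) : pz (pz g s) t = pz g (s * t) := by
  rw [pz, pz, pz, ZMod.val_mul, ← pow_eq_pow_mod _ hg, pow_mul]

theorem pz_neg {g : G} (hg : g ^ p = 1) (t : ZMod p) : pz g (-t) = (pz g t)⁻¹ :=
  eq_inv_of_mul_eq_one_left (by rw [← pz_add hg, neg_add_cancel, pz_zero])

theorem pz_eq_one {g : G} (hg : g ^ p = 1) (hg1 : g ≠ 1) {t : ZMod p} (ht : pz g t = 1) : t = 0 := by
  by_contra h0
  refine hg1 ?_
  have h := pz_mul hg t t⁻¹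
  rw [ht, mul_inv_cancel₀ h0, pz_one, pz, one_pow] at h
  exact h.symm

omit [Fact p.Prime] in
theorem pz_conj (n g : G) (t : ZMod p) : n * pz g t * n⁻¹ = pz (n * g * n⁻¹) t := by
  rw [pz, pz, conj_pow]

variable (D : Data A B) (hA : ∀ x ∈ A, x ^ p = 1) {a : G} (ha : a ∈ A) (ha1 : a ≠ 1)
include D hA ha ha1

omit [Fact p.Prime] in
theorem expB {b : G} (hb : b ∈ B) : b ^ p = 1 := by
  rw [← D.conjBy_nEl_left ha ha1, mem_conjBy] at hb
  have h := hA _ hb
  calc b ^ p = (nEl A B a * ((nEl A B a)⁻¹ * b * nEl A B a) * (nEl A B a)⁻¹) ^ p := by group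
    _ = 1 := by rw [conj_pow, h]; group

theorem pz_ne {t : ZMod p} (ht : t ≠ 0) : pz a t ≠ 1 := fun e => ht (pz_eq_one (hA a ha) ha1 e)

theorem fEl_pz {t : ZMod p} (ht : t ≠ 0) : fEl A B (pz a t) = pz (fEl A B a) t⁻¹ := by
  obtain ⟨m, hm⟩ : ∃ m, t.val = m + 1 :=
    ⟨t.val - 1, by have : t.val ≠ 0 := fun e => ht ((ZMod.val_eq_zero t).1 e); omega⟩
  have hne := pz_ne D hA ha ha1 ht
  have h := Data.fEl_pow m D ha (by rw [← hm]; exact hne)
  rw [← hm] at h
  change pz (fEl A B (pz a t)) t = fEl A B a at h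
  have hf := expB D hA ha ha1 (D.fEl_mem (pz_mem ha t) hne)
  rw [← h, pz_mul hf, mul_inv_cancel₀ ht, pz_one]

/-- `n(t) = a^t f(a^t) a^t`. -/
noncomputable abbrev NN (A B : Subgroup G) (a : G) (t : ZMod p) : G := nEl A B (pz a t)

theorem NN_eq {t : ZMod p} (ht : t ≠ 0) : NN A B a t = pz a t * pz (fEl A B a) t⁻¹ * pz a t := by
  rw [NN, nEl, fEl_pz D hA ha ha1 ht]

theorem NN_conj_a {u : ZMod p} (hu : u ≠ 0) (s : ZMod p) :
    NN A B a u * pz a s * (NN A B a u)⁻¹ = pz (fEl A B a) (s * u⁻¹ * u⁻¹) := by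
  have hy := expB D hA ha ha1 (D.fEl_mem ha ha1)
  have e : s = u * (s * u⁻¹) := by field_simp
  conv_lhs => rw [e, ← pz_mul (hA a ha), pz_conj, D.nEl_conj_self (pz_mem ha u) (pz_ne D hA ha ha1 hu),
    fEl_pz D hA ha ha1 hu, pz_mul hy]
  congr 1
  ring

theorem NN_conj_y {u : ZMod p} (hu : u ≠ 0) (s : ZMod p) :
    NN A B a u * pz (fEl A B a) s * (NN A B a u)⁻¹ = pz a (s * u * u) := by
  have hy := expB D hA ha ha1 (D.fEl_mem ha ha1)
  have e : s = u⁻¹ * (s * u) := by field_simp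
  conv_lhs => rw [e, ← pz_mul hy, ← fEl_pz D hA ha ha1 hu, pz_conj,
    D.nEl_conj_fEl (pz_mem ha u) (pz_ne D hA ha ha1 hu), pz_mul (hA a ha)]
  congr 1
  ring

theorem n_conj_a (t : ZMod p) : nEl A B a * pz a t * (nEl A B a)⁻¹ = pz (fEl A B a) t := by
  rw [pz_conj, D.nEl_conj_self ha ha1]

theorem n_conj_y (t : ZMod p) : nEl A B a * pz (fEl A B a) t * (nEl A B a)⁻¹ = pz a t := by
  rw [pz_conj, D.nEl_conj_fEl ha ha1]

theorem n_inv_conj_a (t : ZMod p) : (nEl A B a)⁻¹ * pz a t * nEl A B a = pz (fEl A B a) t := by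
  rw [← n_conj_y D hA ha ha1]; group

theorem n_inv_conj_y (t : ZMod p) : (nEl A B a)⁻¹ * pz (fEl A B a) t * nEl A B a = pz a t := by
  rw [← n_conj_a D hA ha ha1]; group

/-- `h(u) = n(u) n⁻¹`. -/
noncomputable def HH (A B : Subgroup G) (a : G) (u : ZMod p) : G := NN A B a u * (nEl A B a)⁻¹

theorem HH_conj_a {u : ZMod p} (hu : u ≠ 0) (t : ZMod p) :
    HH A B a u * pz a t * (HH A B a u)⁻¹ = pz a (u ^ 2 * t) := by
  calc HH A B a u * pz a t * (HH A B a u)⁻¹
      = NN A B a u * ((nEl A B a)⁻¹ * pz a t * nEl A B a) * (NN A B a u)⁻¹ := by simp only [HH]; group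
    _ = pz a (u ^ 2 * t) := by
      rw [n_inv_conj_a D hA ha ha1, NN_conj_y D hA ha ha1 hu]
      congr 1
      ring

theorem HH_conj_y {u : ZMod p} (hu : u ≠ 0) (t : ZMod p) :
    HH A B a u * pz (fEl A B a) t * (HH A B a u)⁻¹ = pz (fEl A B a) (u⁻¹ ^ 2 * t) := by
  calc HH A B a u * pz (fEl A B a) t * (HH A B a u)⁻¹
      = NN A B a u * ((nEl A B a)⁻¹ * pz (fEl A B a) t * nEl A B a) * (NN A B a u)⁻¹ := by simp only [HH]; group
    _ = pz (fEl A B a) (u⁻¹ ^ 2 * t) := by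
      rw [n_inv_conj_y D hA ha ha1, NN_conj_a D hA ha ha1 hu]
      congr 1
      ring

theorem HH_one : HH A B a (1 : ZMod p) = 1 := by rw [HH, NN, pz_one, mul_inv_cancel]

theorem n_mul_HH {u : ZMod p} (hu : u ≠ 0) : nEl A B a * HH A B a u = HH A B a u⁻¹ * nEl A B a := by
  have hu' := inv_ne_zero hu
  have e : nEl A B a * NN A B a u * (nEl A B a)⁻¹ = NN A B a u⁻¹ := by
    rw [NN_eq D hA ha ha1 hu]
    have hb := D.nEl_eq (pz_mem ha u⁻¹) (pz_ne D hA ha ha1 hu')
    rw [fEl_pz D hA ha ha1 hu', inv_inv] at hb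
    rw [show NN A B a u⁻¹ = _ from hb, ← n_conj_a D hA ha ha1 u, ← n_conj_y D hA ha ha1 u⁻¹]
    group
  rw [HH, HH, ← e]
  group

theorem HH_conj_NN {l m : ZMod p} (hl : l ≠ 0) (hm : m ≠ 0) :
    HH A B a l * NN A B a m * (HH A B a l)⁻¹ = NN A B a (m * l ^ 2) := by
  have hml : m * l ^ 2 ≠ 0 := mul_ne_zero hm (pow_ne_zero _ hl)
  rw [NN_eq D hA ha ha1 hm, NN_eq D hA ha ha1 hml]
  calc _ = HH A B a l * pz a m * (HH A B a l)⁻¹ * (HH A B a l * pz (fEl A B a) m⁻¹ * (HH A B a l)⁻¹) *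
        (HH A B a l * pz a m * (HH A B a l)⁻¹) := by group
    _ = _ := by
      rw [HH_conj_a D hA ha ha1 hl, HH_conj_y D hA ha ha1 hl, mul_inv, mul_comm (l ^ 2) m, ← inv_pow,
        mul_comm (l⁻¹ ^ 2)]

theorem HH_mul_sq' {l m : ZMod p} (hl : l ≠ 0) (hm : m ≠ 0) :
    HH A B a (m * l ^ 2) = HH A B a l * HH A B a m * (HH A B a l⁻¹)⁻¹ := by
  have e1 := HH_conj_NN D hA ha ha1 hl hm
  have e2 := n_mul_HH D hA ha ha1 (inv_ne_zero hl)
  rw [inv_inv] at e2
  have e3 : nEl A B a * (HH A B a l)⁻¹ * (nEl A B a)⁻¹ = (HH A B a l⁻¹)⁻¹ := by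
    have e4 : HH A B a l⁻¹ = nEl A B a * HH A B a l * (nEl A B a)⁻¹ := by
      rw [n_mul_HH D hA ha ha1 hl, mul_inv_cancel_right]
    rw [e4, mul_inv_rev, mul_inv_rev, inv_inv, mul_assoc]
  show NN A B a (m * l ^ 2) * (nEl A B a)⁻¹ = _
  rw [← e1, ← e3, show HH A B a m = NN A B a m * (nEl A B a)⁻¹ from rfl]
  group

set_option maxHeartbeats 1000000 in
theorem HH_comm {u v : ZMod p} (hu : u ≠ 0) (hv : v ≠ 0) : Commute (HH A B a u) (HH A B a v) := by
  obtain ⟨ω, hω⟩ := IsCyclic.exists_generator (α := (ZMod p)ˣ)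
  set g := HH A B a (ω : ZMod p) with hg
  have hw : (ω : ZMod p) ≠ 0 := ω.ne_zero
  -- all the elements involved centralize or scale `a` and `f a`
  have hgk : ∀ k : ℕ, ∀ t, g ^ k * pz a t * (g ^ k)⁻¹ = pz a (((ω : ZMod p) ^ k) ^ 2 * t) ∧
      g ^ k * pz (fEl A B a) t * (g ^ k)⁻¹ = pz (fEl A B a) ((((ω : ZMod p) ^ k)⁻¹) ^ 2 * t) := by
    intro k
    induction k with
    | zero =>
      intro t
      rw [pow_zero, pow_zero, inv_one, inv_one, one_pow, one_mul, one_mul, one_mul, mul_one, mul_one]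
      exact ⟨rfl, rfl⟩
    | succ k ih =>
      intro t
      constructor
      · calc g ^ (k + 1) * pz a t * (g ^ (k + 1))⁻¹ = g * (g ^ k * pz a t * (g ^ k)⁻¹) * g⁻¹ := by
              rw [pow_succ']; group
          _ = _ := by rw [(ih t).1, hg, HH_conj_a D hA ha ha1 hw]; congr 1; ring
      · calc g ^ (k + 1) * pz (fEl A B a) t * (g ^ (k + 1))⁻¹ = g * (g ^ k * pz (fEl A B a) t * (g ^ k)⁻¹) * g⁻¹ := by
              rw [pow_succ']; group
          _ = _ := by rw [(ih t).2, hg, HH_conj_y D hA ha ha1 hw]; congr 1; rw [pow_succ (ω : ZMod p) k, mul_inv]; ring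
  set C : Subgroup G := closure {a, fEl A B a} with hC
  have haC : a ∈ C := subset_closure (Set.mem_insert a {fEl A B a})
  have hyC : fEl A B a ∈ C := subset_closure (Set.mem_insert_of_mem a (Set.mem_singleton (fEl A B a)))
  have hnC : nEl A B a ∈ C := C.mul_mem (C.mul_mem haC hyC) haC
  have hHC : ∀ {w : ZMod p}, w ≠ 0 → HH A B a w ∈ C := fun {w} hw' => by
    rw [HH, NN_eq D hA ha ha1 hw']
    exact C.mul_mem (C.mul_mem (C.mul_mem (pz_mem haC _) (pz_mem hyC _)) (pz_mem haC _)) (C.inv_mem hnC)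
  have main : ∀ {w : ZMod p}, w ≠ 0 → ∃ k : ℕ, ∀ c ∈ C, Commute ((g ^ k)⁻¹ * HH A B a w) c := by
    intro w hw'
    obtain ⟨k, hk⟩ := (mem_powers_iff_mem_zpowers.2 (hω (Units.mk0 w hw')))
    have hk' : (ω : ZMod p) ^ k = w := by
      have := congrArg (fun z : (ZMod p)ˣ => (z : ZMod p)) hk
      simpa using this
    refine ⟨k, fun c hc => ?_⟩
    suffices hle : C ≤ centralizer ({(g ^ k)⁻¹ * HH A B a w} : Set G) from
      (mem_centralizer_singleton_iff.1 (hle hc)).symm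
    rw [hC, closure_le]
    rintro c (hc' | hc') <;> rw [SetLike.mem_coe, mem_centralizer_singleton_iff, hc'] <;> symm
    · have e1 := (hgk k (1 : ZMod p)).1
      have e2 := HH_conj_a D hA ha ha1 hw' 1
      rw [hk'] at e1
      rw [← e1, pz_one] at e2
      calc (g ^ k)⁻¹ * HH A B a w * a = (g ^ k)⁻¹ * (HH A B a w * a * (HH A B a w)⁻¹) * HH A B a w := by group
        _ = a * ((g ^ k)⁻¹ * HH A B a w) := by rw [e2]; group
    · have e1 := (hgk k (1 : ZMod p)).2
      have e2 := HH_conj_y D hA ha ha1 hw' 1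
      rw [hk'] at e1
      rw [← e1, pz_one] at e2
      calc (g ^ k)⁻¹ * HH A B a w * fEl A B a
          = (g ^ k)⁻¹ * (HH A B a w * fEl A B a * (HH A B a w)⁻¹) * HH A B a w := by group
        _ = fEl A B a * ((g ^ k)⁻¹ * HH A B a w) := by rw [e2]; group
  obtain ⟨i, hi⟩ := main hu
  obtain ⟨j, hj⟩ := main hv
  have hgC : g ∈ C := hHC hw
  have h1 : Commute ((g ^ i)⁻¹ * HH A B a u) (HH A B a v) := hi _ (hHC hv)
  have h2 : Commute (g ^ i) (HH A B a v) := by
    have h3 : Commute ((g ^ j)⁻¹ * HH A B a v) (g ^ i) := hj _ (pow_mem hgC _)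
    have h4 : Commute (g ^ j) (g ^ i) := Commute.pow_pow (Commute.refl g) j i
    have := h4.mul_left h3
    rw [mul_inv_cancel_left] at this
    exact this.symm
  have := h2.mul_left h1
  rwa [mul_inv_cancel_left] at this

theorem HH_mul_sq {m q : ZMod p} (hm : m ≠ 0) (hq : q ≠ 0) (hs : IsSquare q) :
    HH A B a (m * q) = HH A B a m * HH A B a q := by
  obtain ⟨l, rfl⟩ := hs
  have hl : l ≠ 0 := left_ne_zero_of_mul hq
  have h1 := HH_mul_sq' D hA ha ha1 hl one_ne_zero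
  rw [HH_one D hA ha ha1, mul_one, one_mul] at h1
  rw [← pow_two, HH_mul_sq' D hA ha ha1 hl hm, h1, (HH_comm D hA ha ha1 hl hm).eq, mul_assoc]

theorem steinberg {l m : ZMod p} (hl : l ≠ 0) (hm : m ≠ 0) (h : l + m = 1) :
    HH A B a l * HH A B a m⁻¹ = HH A B a (l * m⁻¹) := by
  set n := nEl A B a with hn
  set y := fEl A B a with hy
  have hy' := expB D hA ha ha1 (D.fEl_mem ha ha1)
  have haa := hA a ha
  have hr : m * l⁻¹ ≠ 0 := mul_ne_zero hm (inv_ne_zero hl)
  have hay : a = pz y (-1 : ZMod p) * n * pz y (-1 : ZMod p) := by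
    rw [pz_neg hy', pz_one, hn, D.nEl_eq ha ha1]; group
  have e1 : NN A B a l * NN A B a m = n * NN A B a (m * l⁻¹) := by
    rw [NN_eq D hA ha ha1 hl, NN_eq D hA ha ha1 hm]
    calc pz a l * pz y l⁻¹ * pz a l * (pz a m * pz y m⁻¹ * pz a m)
        = pz a l * pz y l⁻¹ * (pz a l * pz a m) * (pz y m⁻¹ * pz a m) := by group
      _ = pz a l * (pz y l⁻¹ * pz y (-1)) * n * (pz y (-1) * pz y m⁻¹) * pz a m := by
          rw [← pz_add haa, h, pz_one]
          nth_rw 2 [hay]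
          simp only [mul_assoc]
          rfl
      _ = pz a l * pz y (m * l⁻¹) * n * pz y (l * m⁻¹) * pz a m := by
          rw [← pz_add hy', ← pz_add hy',
            show l⁻¹ + -1 = m * l⁻¹ by field_simp; linear_combination -h,
            show -1 + m⁻¹ = l * m⁻¹ by field_simp; linear_combination -h]
      _ = pz a l * (n * pz a (m * l⁻¹)) * pz y (l * m⁻¹) * pz a m := by
          rw [← n_conj_a D hA ha ha1 (m * l⁻¹)]
          simp only [← hn, ← hy]
          group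
      _ = pz a l * n * (pz a (m * l⁻¹) * pz y (m * l⁻¹)⁻¹ * pz a (m * l⁻¹)) * (pz a (-(m * l⁻¹)) * pz a m) := by
          rw [pz_neg haa, show (m * l⁻¹)⁻¹ = l * m⁻¹ by field_simp]
          group
      _ = pz a l * (n * NN A B a (m * l⁻¹)) * pz a (-(m * l⁻¹) + m) := by
          rw [← NN_eq D hA ha ha1 hr, pz_add haa]; group
      _ = n * NN A B a (m * l⁻¹) * (pz a (m * l⁻¹ * (m * l⁻¹) * l) * pz a (-(m * l⁻¹) + m)) := by
          have e : pz a l * (n * NN A B a (m * l⁻¹)) =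
              n * NN A B a (m * l⁻¹) * pz a (m * l⁻¹ * (m * l⁻¹) * l) := by
            have := NN_conj_a D hA ha ha1 hr (m * l⁻¹ * (m * l⁻¹) * l)
            rw [show m * l⁻¹ * (m * l⁻¹) * l * (m * l⁻¹)⁻¹ * (m * l⁻¹)⁻¹ = l by field_simp] at this
            have e' := n_conj_y D hA ha ha1 l
            rw [← e', ← this]
            simp only [← hn, ← hy]
            group
          rw [e]; group
      _ = n * NN A B a (m * l⁻¹) := by
          rw [← pz_add haa, show m * l⁻¹ * (m * l⁻¹) * l + (-(m * l⁻¹) + m) = 0 by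
            field_simp
            linear_combination m * h, pz_zero, mul_one]
  have e2 : HH A B a l * HH A B a m⁻¹ * (n * n) = HH A B a (l * m⁻¹) * (n * n) := by
    have q1 := n_mul_HH D hA ha ha1 hm
    have q2 := n_mul_HH D hA ha ha1 hr
    rw [mul_inv, inv_inv, mul_comm m⁻¹] at q2
    calc HH A B a l * HH A B a m⁻¹ * (n * n) = HH A B a l * (n * HH A B a m) * n := by
          rw [hn, q1]; group
      _ = NN A B a l * NN A B a m := by show NN A B a l * n⁻¹ * (n * (NN A B a m * n⁻¹)) * n = _; group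
      _ = n * NN A B a (m * l⁻¹) := e1
      _ = n * (NN A B a (m * l⁻¹) * n⁻¹) * n := by group
      _ = HH A B a (l * m⁻¹) * (n * n) := by
          show n * HH A B a (m * l⁻¹) * n = _
          rw [hn, q2]; group
  exact mul_right_cancel e2

theorem HH_mul {u v : ZMod p} (hu : u ≠ 0) (hv : v ≠ 0) : HH A B a (u * v) = HH A B a u * HH A B a v := by
  by_cases hsv : IsSquare v
  · exact HH_mul_sq D hA ha ha1 hu hv hsv
  by_cases hsu : IsSquare u
  · rw [mul_comm, HH_mul_sq D hA ha ha1 hv hu hsu, (HH_comm D hA ha ha1 hu hv).eq]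
  obtain ⟨ω, hω⟩ := IsCyclic.exists_generator (α := (ZMod p)ˣ)
  have parity : ∀ w : ZMod p, ¬ IsSquare w → ∃ i : ℕ, w = (ω : ZMod p) ^ (2 * i + 1) := by
    intro w hw
    have hw0 : w ≠ 0 := fun e => hw (e ▸ IsSquare.zero)
    obtain ⟨k, hk⟩ := mem_powers_iff_mem_zpowers.2 (hω (Units.mk0 w hw0))
    have hk' : w = (ω : ZMod p) ^ k := by
      have := congrArg (fun z : (ZMod p)ˣ => (z : ZMod p)) hk
      simpa using this.symm
    rcases Nat.even_or_odd k with ⟨i, hi⟩ | ⟨i, hi⟩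
    · exact absurd (⟨(ω : ZMod p) ^ i, by rw [hk', hi, pow_add]⟩ : IsSquare w) hw
    · exact ⟨i, by rw [hk', hi]⟩
  obtain ⟨l, hsl, hsm⟩ : ∃ l : ZMod p, ¬ IsSquare l ∧ ¬ IsSquare (1 - l) := by
    by_contra hno
    push Not at hno
    classical
    let N := Finset.univ.filter fun x : ZMod p => ¬ IsSquare x
    let S := Finset.univ.filter fun x : ZMod p => IsSquare x ∧ x ≠ 0
    have h1 : N.card ≤ (S.erase 1).card := by
      refine Finset.card_le_card_of_injOn (fun x => 1 - x) (fun x hx => ?_) (fun x _ y _ e => by simpa using e)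
      simp only [N, Finset.coe_filter, Finset.mem_univ, true_and, Set.mem_setOf_eq] at hx
      simp only [S, Finset.mem_coe, Finset.mem_erase, Finset.mem_filter, Finset.mem_univ, true_and]
      refine ⟨fun e => hx ?_, hno x hx, fun e => hx ?_⟩
      · rw [show x = 0 by linear_combination -e]; exact IsSquare.zero
      · rw [show x = 1 by linear_combination -e]; exact IsSquare.one
    have h2 : S.card ≤ N.card := by
      refine Finset.card_le_card_of_injOn (fun x => v * x) (fun x hx => ?_) (fun x _ y _ e => mul_left_cancel₀ hv e)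
      simp only [S, Finset.coe_filter, Finset.mem_univ, true_and, Set.mem_setOf_eq] at hx
      simp only [N, Finset.mem_coe, Finset.mem_filter, Finset.mem_univ, true_and]
      intro hc
      refine hsv ?_
      have := hc.div hx.1
      rwa [mul_div_cancel_right₀ _ hx.2] at this
    have h3 : (S.erase 1).card < S.card := Finset.card_erase_lt_of_mem (by simp [S])
    omega
  set m := 1 - l with hm
  have hl : l ≠ 0 := fun e => hsl (e ▸ IsSquare.zero)
  have hm0 : m ≠ 0 := fun e => hsm (e ▸ IsSquare.zero)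
  have hlm : HH A B a (l * m) = HH A B a l * HH A B a m := by
    have e := steinberg D hA ha ha1 hl hm0 (by rw [hm]; ring)
    have q : m⁻¹ = m * (m⁻¹ * m⁻¹) := by field_simp
    have hq0 : m⁻¹ * m⁻¹ ≠ 0 := mul_ne_zero (inv_ne_zero hm0) (inv_ne_zero hm0)
    rw [q, ← mul_assoc l, HH_mul_sq D hA ha ha1 hm0 hq0 ⟨m⁻¹, rfl⟩,
      HH_mul_sq D hA ha ha1 (mul_ne_zero hl hm0) hq0 ⟨m⁻¹, rfl⟩, ← mul_assoc] at e
    exact (mul_right_cancel e).symm
  obtain ⟨i, hi⟩ := parity u hsu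
  obtain ⟨j, hj⟩ := parity v hsv
  obtain ⟨i₀, hi₀⟩ := parity l hsl
  obtain ⟨j₀, hj₀⟩ := parity m hsm
  have hw0 : (ω : ZMod p) ≠ 0 := ω.ne_zero
  have sq : ∀ i i₀ : ℕ, IsSquare ((ω : ZMod p) ^ (2 * i + 1) * ((ω : ZMod p) ^ (2 * i₀ + 1))⁻¹) :=
    fun i i₀ => ⟨(ω : ZMod p) ^ i * ((ω : ZMod p) ^ i₀)⁻¹, by field_simp; ring⟩
  set q₁ := u * l⁻¹ with hq₁
  set q₂ := v * m⁻¹ with hq₂
  have s1 : IsSquare q₁ := by rw [hq₁, hi, hi₀]; exact sq _ _
  have s2 : IsSquare q₂ := by rw [hq₂, hj, hj₀]; exact sq _ _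
  have n1 : q₁ ≠ 0 := mul_ne_zero hu (inv_ne_zero hl)
  have n2 : q₂ ≠ 0 := mul_ne_zero hv (inv_ne_zero hm0)
  have eu : u = l * q₁ := by rw [hq₁]; field_simp
  have ev' : v = m * q₂ := by rw [hq₂]; field_simp
  rw [eu, ev', show l * q₁ * (m * q₂) = l * m * (q₁ * q₂) by ring,
    HH_mul_sq D hA ha ha1 (mul_ne_zero hl hm0) (mul_ne_zero n1 n2) (s1.mul s2), hlm,
    HH_mul_sq D hA ha ha1 n1 n2 s2, HH_mul_sq D hA ha ha1 hl n1 s1, HH_mul_sq D hA ha ha1 hm0 n2 s2]
  calc _ = HH A B a l * (HH A B a m * HH A B a q₁) * HH A B a q₂ := by group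
    _ = _ := by rw [(HH_comm D hA ha ha1 hm0 n1).eq]; group

theorem rels : Rels (fun t : ZMod p => pz a t) (nEl A B a) (HH A B a) := by
  set n := nEl A B a with hn
  have hneg1 : HH A B a (-1 : ZMod p) = (n * n)⁻¹ := by
    show NN A B a (-1) * n⁻¹ = _
    rw [NN_eq D hA ha ha1 (neg_ne_zero.2 one_ne_zero), inv_neg, inv_one, pz_neg (hA a ha),
      pz_neg (expB D hA ha ha1 (D.fEl_mem ha ha1)), pz_one, pz_one]
    have : n = a * fEl A B a * a := rfl
    rw [this]; group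
  have hnn : n * n = HH A B a (-1 : ZMod p) := by
    have h := HH_mul D hA ha ha1 (neg_ne_zero.2 one_ne_zero) (neg_ne_zero.2 (one_ne_zero (α := ZMod p)))
    rw [neg_mul_neg, one_mul, HH_one D hA ha ha1] at h
    conv_lhs => rw [← inv_inv (n * n), ← hneg1]
    exact inv_eq_of_mul_eq_one_right h.symm
  refine ⟨fun s t => pz_add (hA a ha) s t, fun u v => HH_mul D hA ha ha1, fun u t hu => ?_,
    fun u hu => n_mul_HH D hA ha ha1 hu, hnn, fun t ht => ?_⟩
  · rw [← HH_conj_a D hA ha ha1 hu]; group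
  · have ht' := inv_ne_zero ht
    have ec : ∀ s : ZMod p, (n * n) * pz a s = pz a s * (n * n) := fun s => by
      calc (n * n) * pz a s = n * (n * pz a s * n⁻¹) * n⁻¹ * (n * n) := by group
        _ = pz a s * (n * n) := by rw [n_conj_a D hA ha ha1, n_conj_y D hA ha ha1]
    calc n * pz a t * n = pz (fEl A B a) t * (n * n) := by
          rw [← n_conj_a D hA ha ha1]; simp only [← hn]; group
      _ = pz a (-t⁻¹) * NN A B a t⁻¹ * (pz a (-t⁻¹) * (n * n)) := by
          rw [NN_eq D hA ha ha1 ht', inv_inv, pz_neg (hA a ha)]; group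
      _ = pz a (-t⁻¹) * (HH A B a t⁻¹ * (n * n)) * n * pz a (-t⁻¹) := by
          rw [← ec]
          show _ = pz a (-t⁻¹) * (NN A B a t⁻¹ * n⁻¹ * (n * n)) * n * pz a (-t⁻¹)
          group
      _ = _ := by rw [hnn, ← HH_mul D hA ha ha1 ht' (neg_ne_zero.2 one_ne_zero), mul_neg_one]

theorem psl_two_prime :
    Nonempty (↥(closure ({a, fEl A B a} : Set G)) ≃* SL(2, ZMod p)) ∨
      Nonempty (↥(closure ({a, fEl A B a} : Set G)) ≃* Matrix.ProjectiveSpecialLinearGroup (Fin 2) (ZMod p)) := by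
  obtain ⟨φ, hφx, hφn, hφev⟩ := exists_hom (rels D hA ha ha1)
  have hrange : φ.range = closure ({a, fEl A B a} : Set G) := by
    set C := closure ({a, fEl A B a} : Set G)
    refine le_antisymm ?_ ?_
    · have haC : a ∈ C := subset_closure (Set.mem_insert _ _)
      have hyC : fEl A B a ∈ C := subset_closure (Set.mem_insert_of_mem _ rfl)
      rintro x ⟨g, rfl⟩
      rw [hφev, evM, ev]
      have hN : ∀ {u : ZMod p}, u ≠ 0 → NN A B a u ∈ C := fun {u} hu => by
        rw [NN_eq D hA ha ha1 hu]; exact mul_mem (mul_mem (pz_mem haC _) (pz_mem hyC _)) (pz_mem haC _)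
      have hn : nEl A B a ∈ C := mul_mem (mul_mem haC hyC) haC
      have hd := det_eq g
      split_ifs with hc
      · refine mul_mem (pz_mem haC _) (mul_mem (hN fun e => ?_) (inv_mem hn))
        rw [hc, e] at hd; simp at hd
      · exact mul_mem (mul_mem (mul_mem (pz_mem haC _) (mul_mem (hN (neg_ne_zero.2 (inv_ne_zero hc))) (inv_mem hn)))
          hn) (pz_mem haC _)
    · rw [closure_le]
      rintro x (rfl | rfl)
      · exact ⟨upperEl 1, by rw [hφx]; exact pz_one x⟩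
      · refine ⟨weylEl * upperEl 1 * weylEl⁻¹, ?_⟩
        rw [map_mul, map_mul, map_inv, hφx, hφn, n_conj_a D hA ha ha1, pz_one]
  have hdiag : ∀ g ∈ φ.ker, g.1 1 0 = 0 ∧ g.1 0 1 = 0 ∧ g.1 0 0 ^ 2 = 1 ∧ g.1 1 1 = g.1 0 0 := by
    intro g hg
    rw [MonoidHom.mem_ker, hφev, evM, ev] at hg
    have hd := det_eq g
    have hAfix : ∀ {u : ZMod p}, u ≠ 0 → conjBy A (HH A B a u) = A := fun {u} hu => by
      rw [HH, ← conjBy_conjBy, D.conjBy_nEl_inv_left ha ha1]
      exact D.conjBy_nEl_right (pz_mem ha u) (pz_ne D hA ha ha1 hu)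
    by_cases hc : g.1 1 0 = 0
    · rw [if_pos hc] at hg
      have ha0 : g.1 0 0 ≠ 0 := fun e => by rw [hc, e] at hd; simp at hd
      have e : HH A B a (g.1 0 0) = pz a (-(g.1 0 0 * g.1 0 1)) := by
        rw [pz_neg (hA a ha)]; exact eq_inv_of_mul_eq_one_right hg
      have e2 := HH_conj_a D hA ha ha1 ha0 1
      rw [e, mul_one, ← pz_add (hA a ha), ← pz_neg (hA a ha), ← pz_add (hA a ha), add_neg_cancel_comm] at e2
      have hsq : g.1 0 0 ^ 2 = 1 := by
        by_contra hne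
        refine pz_ne D hA ha ha1 (sub_ne_zero.2 hne) ?_
        rw [sub_eq_add_neg, pz_add (hA a ha), ← e2, pz_neg (hA a ha), mul_inv_cancel]
      have e3 := HH_conj_y D hA ha ha1 ha0 1
      rw [inv_pow, hsq, inv_one, mul_one, e] at e3
      have hb0 : g.1 0 1 = 0 := by
        by_contra hb
        refine pz_ne D hA ha ha1 (neg_ne_zero.2 (mul_ne_zero ha0 hb)) ?_
        refine eq_one_of_commute D.pair (pz_mem ha _) (D.fEl_mem ha ha1) (D.fEl_spec ha ha1).2.1 ?_
        exact mul_inv_eq_iff_eq_mul.1 (by rw [pz_one] at e3; exact e3)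
      refine ⟨hc, hb0, hsq, ?_⟩
      rw [hc, mul_zero, sub_zero] at hd
      linear_combination (g.1 0 0) * hd - (g.1 1 1) * hsq
    · exfalso
      rw [if_neg hc] at hg
      refine D.pair.ne.symm ?_
      set P := pz a (g.1 0 0 / g.1 1 0) * HH A B a (-(g.1 1 0)⁻¹)
      have hP : conjBy A P = A := by
        rw [← conjBy_conjBy, hAfix (neg_ne_zero.2 (inv_ne_zero hc)), conjBy_of_mem (pz_mem ha _)]
      have e : nEl A B a = P⁻¹ * (pz a (g.1 1 1 / g.1 1 0))⁻¹ := by
        calc nEl A B a = P⁻¹ * (P * nEl A B a * pz a (g.1 1 1 / g.1 1 0)) * (pz a (g.1 1 1 / g.1 1 0))⁻¹ := by group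
          _ = _ := by rw [hg, mul_one]
      rw [← D.conjBy_nEl_left ha ha1, e, ← conjBy_conjBy, conjBy_of_mem (inv_mem (pz_mem ha _))]
      conv_lhs => rw [← hP, conjBy_conjBy, inv_mul_cancel, conjBy_one]
  have hscal : ∀ g ∈ φ.ker, g ∈ center SL(2, ZMod p) := by
    intro g hg
    obtain ⟨h1, h2, -, h4⟩ := hdiag g hg
    rw [mem_center_iff]
    intro x
    apply Subtype.ext
    show x.1 * g.1 = g.1 * x.1
    ext i j
    fin_cases i <;> fin_cases j <;>
      simp only [Matrix.mul_apply, Fin.sum_univ_two, Fin.zero_eta, Fin.mk_one, Fin.isValue, h1, h2, h4] <;> ring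
  let e : φ.range ≃* ↥(closure ({a, fEl A B a} : Set G)) := MulEquiv.subgroupCongr hrange
  by_cases hb : φ.ker = ⊥
  · exact Or.inl ⟨e.symm.trans (MonoidHom.ofInjective ((MonoidHom.ker_eq_bot_iff φ).1 hb)).symm⟩
  · refine Or.inr ⟨e.symm.trans ((QuotientGroup.quotientKerEquivRange φ).symm.trans
      (QuotientGroup.quotientMulEquivOfEq (le_antisymm hscal fun c hc => ?_)))⟩
    obtain ⟨g, hg, hg1⟩ := (Subgroup.bot_or_exists_ne_one φ.ker).resolve_left hb
    obtain ⟨g10, g01, gsq, g11⟩ := hdiag g hg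
    have q1 : c * upperEl 1 = upperEl 1 * c := (mem_center_iff.1 hc _).symm
    have q2 : c * weylEl = weylEl * c := (mem_center_iff.1 hc _).symm
    have q1' : c.1 * !![1, 1; 0, 1] = !![1, 1; 0, 1] * c.1 := congrArg Subtype.val q1
    have q2' : c.1 * !![0, 1; -1, 0] = !![0, 1; -1, 0] * c.1 := congrArg Subtype.val q2
    have c10 : c.1 1 0 = 0 := by simpa [Matrix.mul_apply, Fin.sum_univ_two] using congrFun (congrFun q1' 0) 0
    have c11 : c.1 1 1 = c.1 0 0 := by
      have h := congrFun (congrFun q1' 0) 1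
      simp [Matrix.mul_apply, Fin.sum_univ_two] at h
      linear_combination -h
    have c01 : c.1 0 1 = 0 := by
      have h := congrFun (congrFun q2' 0) 0
      simp [Matrix.mul_apply, Fin.sum_univ_two, c10] at h
      exact h
    have csq : c.1 0 0 ^ 2 = 1 := by
      have := det_eq c
      rw [c10, c11] at this
      linear_combination this
    rcases sq_eq_one_iff.1 csq with h1 | h1
    · have : c = 1 := by ext i j; fin_cases i <;> fin_cases j <;> simp [c10, c01, c11, h1]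
      exact this ▸ one_mem _
    · rcases sq_eq_one_iff.1 gsq with h2 | h2
      · exact absurd (by ext i j; fin_cases i <;> fin_cases j <;> simp [g10, g01, g11, h2]) hg1
      · have : c = g := by ext i j; fin_cases i <;> fin_cases j <;> simp [c10, c01, c11, h1, g10, g01, g11, h2]
        exact this ▸ hg

end CfsgLib.ThreeTrans.Special
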