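import Cfsg.Agent.Lib.ThreeTrans.RankOne

set_option autoImplicit false

/-!
Rank one groups with a quadratically acting unipotent subgroup (owner: helper28).
-/

namespace CfsgLib.ThreeTrans

open Cfsg Subgroup

variable {X : Type*} [Group X] {A B : Subgroup X} (h : IsRankOneGroup X A B)

include h

/-- A normal subgroup meeting `A` non-trivially covers the group together with `A`. -/
theorem sup_eq_top_of_normal {K : Subgroup X} [K.Normal] {c : X} (hcA : c ∈ A) (hc1 : c ≠ 1) (hcK : c ∈ K) :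
    K ⊔ A = ⊤ := by
  rcases normal_dichotomy h.2 (N := K) (fun g _ n hn => (inferInstance : K.Normal).conj_mem n hn g)
    (h.1 ▸ le_top) with hle | hle
  · exact top_le_iff.1 (h.1 ▸ hle)
  · obtain ⟨b, hb, hb1⟩ := (Subgroup.bot_or_exists_ne_one B).resolve_left (ne_bot_right h.2)
    exact absurd (eq_one_of_commute h.2 hcA hb hb1
      (Subgroup.mem_centralizer_iff.1 (hle hcK) b (mem_sup_right hb)).symm) hc1

theorem exists_conj_eq_right : ∃ y : X, conjBy A y = B := by
  obtain ⟨y, -, hy⟩ := right_mem_unipotentSubgroups h.2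
  exact ⟨y, hy.symm⟩

/-- An element of `B` is congruent to an element of `A` modulo a normal subgroup covering with `A`. -/
theorem exists_mul_of_sup {K : Subgroup X} [K.Normal] (hK : K ⊔ A = ⊤) (x : X) :
    ∃ k ∈ K, ∃ a ∈ A, x = k * a := by
  obtain ⟨k, hk, a, ha, e⟩ := (Subgroup.mem_sup_of_normal_left (s := K) (t := A)).1 (hK ▸ Subgroup.mem_top x)
  exact ⟨k, hk, a, ha, e.symm⟩

variable {N : Type*} [AddCommGroup N] [DistribMulAction X N]
  (hq : ∀ a ∈ A, ∀ a' ∈ A, ∀ n : N, a' • (a • n - n) = a • n - n)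

include hq

theorem quad_right : ∀ b ∈ B, ∀ b' ∈ B, ∀ n : N, b' • (b • n - n) = b • n - n := by
  obtain ⟨y, hy⟩ := exists_conj_eq_right h
  intro b hb b' hb' n
  rw [← hy, mem_conjBy] at hb hb'
  have := congrArg (y • ·) (hq _ hb _ hb' (y⁻¹ • n))
  simpa [smul_sub, smul_smul, mul_assoc] using this

omit h in
theorem quad_inv {a : X} (ha : a ∈ A) (n : N) : a⁻¹ • n = n + n - a • n := by
  have := congrArg (a⁻¹ • ·) (hq a ha a ha n)
  simp only [inv_smul_smul, smul_sub] at this
  calc a⁻¹ • n = n - (n - a⁻¹ • n) := (sub_sub_cancel _ _).symm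
    _ = n - (a • n - n) := by rw [this]
    _ = n + n - a • n := by abel

omit h in
theorem quad_mul_smul {a a' : X} (ha : a ∈ A) (ha' : a' ∈ A) (n : N) :
    (a' * a) • n - n = (a • n - n) + (a' • n - n) := by
  have := hq a ha a' ha' n
  rw [smul_sub, smul_smul] at this
  calc (a' * a) • n - n = ((a' * a) • n - a' • n) + (a' • n - n) := by abel
    _ = _ := by rw [this]

/-- The elements moving every vector into a given invariant subgroup. -/
theorem unipotent_elementary (hf : ∀ x : X, (∀ v : N, x • v = v) → x = 1) {a : X} (ha : a ∈ A) (ha1 : a ≠ 1)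
    {p : ℕ} (hap : a ^ p = 1) : (∀ c ∈ A, c ^ p = 1) := by
  have hpow : ∀ c ∈ A, ∀ (i : ℕ) (v : N), (c ^ i) • v - v = i • (c • v - v) := by
    intro c hc i v
    induction i with
    | zero => simp
    | succ i ih => rw [pow_succ, quad_mul_smul hq hc (pow_mem hc i), ih, succ_nsmul']
  -- `a` fixes every multiple of `p`
  have hapv : ∀ v : N, a • (p • v) = p • v := by
    intro v
    have := hpow a ha p v
    rw [hap, one_smul, sub_self, nsmul_sub, ← smul_comm a p v, eq_comm, sub_eq_zero] at this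
    exact this
  let K : Subgroup X :=
    { carrier := {x | ∀ v : N, x • (p • v) = p • v}
      one_mem' := fun v => one_smul X _
      mul_mem' := fun {x y} hx hy v => by rw [mul_smul, hy v, hx v]
      inv_mem' := fun {x} hx v => by rw [inv_smul_eq_iff, hx v] }
  haveI : K.Normal := ⟨fun k hk g v => by
    have h1 : g⁻¹ • (p • v) = p • (g⁻¹ • v) := smul_comm _ _ _
    rw [mul_smul, mul_smul, h1, hk, ← h1, smul_inv_smul]⟩
  have hK := sup_eq_top_of_normal h (K := K) ha ha1 hapv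
  have hfixB : ∀ w : N, (∀ a ∈ A, a • w = w) → (∃ v, w = p • v) → ∀ b ∈ B, b • w = w := by
    rintro w hw ⟨v, rfl⟩ b hb
    obtain ⟨k, hk, a', ha', rfl⟩ := exists_mul_of_sup h hK b
    rw [mul_smul, hw a' ha']
    exact hk v
  intro c hc
  set d := c ^ p with hd
  have hdA : d ∈ A := pow_mem hc p
  have hdX : ∀ (x : X) (v : N), x • (d • v - v) = d • v - v := by
    intro x v
    have hw : d • v - v = p • (c • v - v) := hpow c hc p v
    have hle : A ⊔ B ≤ MulAction.stabilizer X (d • v - v) := by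
      refine sup_le (fun a' ha' => ?_) (fun b hb => ?_)
      · exact MulAction.mem_stabilizer_iff.2 (hq d hdA a' ha' v)
      · refine MulAction.mem_stabilizer_iff.2 (hfixB _ (fun a' ha' => hq d hdA a' ha' v) ⟨_, hw⟩ b hb)
    exact MulAction.mem_stabilizer_iff.1 (hle (h.1 ▸ Subgroup.mem_top x))
  let M : Subgroup X :=
    { carrier := {g | ∀ (x : X) (v : N), x • (g • v - v) = g • v - v}
      one_mem' := fun x v => by simp
      mul_mem' := fun {g k} hg hk x v => by
        have e : (g * k) • v - v = (g • (k • v) - k • v) + (k • v - v) := by rw [mul_smul]; abel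
        rw [e, smul_add, hg, hk]
      inv_mem' := fun {g} hg x v => by
        have e : g⁻¹ • v - v = -(g • (g⁻¹ • v) - g⁻¹ • v) := by rw [smul_inv_smul]; abel
        rw [e, smul_neg, hg] }
  haveI : M.Normal := ⟨fun g hg t x v => by
    have e : (t * g * t⁻¹) • v - v = t • (g • (t⁻¹ • v) - t⁻¹ • v) := by
      rw [smul_sub, smul_inv_smul, mul_smul, mul_smul]
    rw [e, smul_smul, hg, hg]⟩
  by_contra hd1
  have hMA := sup_eq_top_of_normal h (K := M) hdA hd1 hdX
  obtain ⟨b, hb, hb1⟩ := (Subgroup.bot_or_exists_ne_one B).resolve_left (ne_bot_right h.2)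
  refine hd1 (eq_one_of_commute h.2 hdA hb hb1 ?_)
  have hcomm : ∀ g ∈ M, d * g = g * d := by
    intro g hg
    apply inv_mul_eq_one.1
    refine hf _ fun v => ?_
    rw [mul_smul, inv_smul_eq_iff, mul_smul, mul_smul]
    have h1 : d • (g • v - v) = g • v - v := hg d v
    have h2 : g • (d • v - v) = d • v - v := hdX g v
    rw [smul_sub, sub_eq_iff_eq_add] at h1 h2
    rw [h1, h2]
    abel
  obtain ⟨k, hk, a', ha', rfl⟩ := exists_mul_of_sup h hMA b
  have hca : d * a' = a' * d := by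
    apply inv_mul_eq_one.1
    refine hf _ fun v => ?_
    rw [mul_smul, inv_smul_eq_iff]
    have e1 := quad_mul_smul hq ha' hdA v
    have e2 := quad_mul_smul hq hdA ha' v
    exact sub_left_injective (e2.trans (by rw [add_comm]; exact e1.symm))
  rw [← mul_assoc, hcomm k hk, mul_assoc, hca, mul_assoc]

/-- A quadratically but not globally quadratically acting rank one group is special. -/
theorem special_of_quadratic (hab : HasAbelianUnipotents A B)
    (hX : ∃ x y : X, ∃ n : N, y • (x • n - n) ≠ x • n - n) : IsSpecialRankOnePair A B := by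
  refine ⟨h.2, fun a ha ha1 b hb hb1 heq => ?_⟩
  have hqB := quad_right h hq
  obtain ⟨a', ha', he⟩ : ∃ a' ∈ A, b⁻¹ * a' * b = a⁻¹ * b⁻¹ * a := by
    have : a⁻¹ * b⁻¹ * a⁻¹⁻¹ ∈ conjBy A b⁻¹ := heq ▸ conj_mem_conjBy (inv_mem hb)
    obtain ⟨a', ha', e⟩ := this
    refine ⟨a', ha', ?_⟩
    simpa using e
  suffices a' = a by rw [← this]; rw [this] at he; rw [this]; exact he
  by_contra hne
  -- the fixed points
  let D : AddSubgroup N :=
    { carrier := {n | ∀ x : X, x • n = n}
      zero_mem' := fun x => smul_zero x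
      add_mem' := fun {u v} hu hv x => by rw [smul_add, hu x, hv x]
      neg_mem' := fun {u} hu x => by rw [smul_neg, hu x] }
  have hD : ∀ w : N, (∀ a ∈ A, a • w = w) → (∀ b ∈ B, b • w = w) → w ∈ D := by
    intro w h1 h2 x
    have hle : A ⊔ B ≤ MulAction.stabilizer X w := sup_le (fun a ha => MulAction.mem_stabilizer_iff.2 (h1 a ha))
      (fun b hb => MulAction.mem_stabilizer_iff.2 (h2 b hb))
    exact MulAction.mem_stabilizer_iff.1 (hle (h.1 ▸ Subgroup.mem_top x))
  have hbinv : ∀ n : N, b⁻¹ • n = n + n - b • n := fun n => quad_inv hqB hb n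
  have hbb : ∀ n : N, b • (b • n) = b • n + b • n - n := fun n => by
    have := hqB b hb b hb n
    rw [smul_sub, sub_eq_iff_eq_add] at this
    rw [this]; abel
  -- the difference of `a` and `a'` on the translate of the fixed points of `A`
  have hkey : ∀ v : N, (∀ a ∈ A, a • v = v) →
      (a • (b • v) - b • v) - (a' • (b • v) - b • v) ∈ D := by
    intro v hv
    have e : a⁻¹ • (b⁻¹ • v) = b⁻¹ • (a' • (b • v)) := by
      have := congrArg (fun g : X => g • v) he
      simp only [mul_smul, hv a ha] at this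
      exact this.symm
    set p := a • (b • v) - b • v with hp
    set p' := a' • (b • v) - b • v with hp'
    have e2 : p - p' = (b • v - v) - (b • p' - p') := by
      rw [hbinv v, smul_sub, smul_add, hv a⁻¹ (inv_mem ha), quad_inv hq ha (b • v), hbinv,
        show a' • (b • v) = b • v + p' by rw [hp']; abel, show a • (b • v) = b • v + p by rw [hp]; abel,
        smul_add, hbb] at e
      rw [sub_eq_iff_eq_add] at e
      have e0 : p = p' + p' + v - b • p' + (b • v - (v + v)) := by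
        rw [← sub_eq_zero] at e
        rw [← sub_eq_zero, ← e]
        abel
      rw [e0]; abel
    refine hD _ (fun a₂ ha₂ => ?_) fun b₂ hb₂ => ?_
    · rw [smul_sub, hp, hp', hq a ha a₂ ha₂, hq a' ha' a₂ ha₂]
    · rw [e2, smul_sub, hqB b hb b₂ hb₂ v, hqB b hb b₂ hb₂ p']
  -- the invariant subgroup generated by the fixed points of `A`
  let U : Set N := {n | ∃ u v : N, (∀ a ∈ A, a • u = u) ∧ (∀ a ∈ A, a • v = v) ∧ n = u + b • v}
  have hU : ∀ (x : X), ∀ n ∈ U, x • n ∈ U := by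
    have hbb' : conjBy A b ≠ A := fun e =>
      hb1 (eq_one_of_mem_normalizer (RankOnePair_symm h.2) hb (conjBy_eq_self_iff.1 e))
    have hgen : A ⊔ conjBy A b = ⊤ := by
      rw [sup_of_two_unipotent h.2 (left_mem_unipotentSubgroups h.2)
        (conjBy_mem_unipotentSubgroups h.2 (left_mem_unipotentSubgroups h.2) (mem_sup_right hb)) (Ne.symm hbb'), h.1]
    have hAU : ∀ a₂ ∈ A, ∀ n ∈ U, a₂ • n ∈ U := by
      rintro a₂ ha₂ n ⟨u, v, hu, hv, rfl⟩
      refine ⟨u + (a₂ • (b • v) - b • v), v, fun a₃ ha₃ => ?_, hv, ?_⟩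
      · rw [smul_add, hu a₃ ha₃, hq a₂ ha₂ a₃ ha₃]
      · rw [smul_add, hu a₂ ha₂]; abel
    have hbU : ∀ n ∈ U, b • n ∈ U ∧ b⁻¹ • n ∈ U := by
      rintro n ⟨u, v, hu, hv, rfl⟩
      refine ⟨⟨-v, u + (v + v), fun a₂ ha₂ => by rw [smul_neg, hv a₂ ha₂],
        fun a₂ ha₂ => by rw [smul_add, smul_add, hu a₂ ha₂, hv a₂ ha₂], ?_⟩,
        ⟨u + u + v, -u, fun a₂ ha₂ => by rw [smul_add, smul_add, hu a₂ ha₂, hv a₂ ha₂],
          fun a₂ ha₂ => by rw [smul_neg, hu a₂ ha₂], ?_⟩⟩
      · rw [smul_add, hbb, smul_add, smul_add]; abel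
      · rw [smul_add, inv_smul_smul, hbinv, smul_neg]; abel
    let St : Subgroup X :=
      { carrier := {x | ∀ n ∈ U, x • n ∈ U ∧ x⁻¹ • n ∈ U}
        one_mem' := fun n hn => by simp [hn]
        mul_mem' := fun {x y} hx hy n hn => ⟨by rw [mul_smul]; exact (hx _ (hy n hn).1).1,
          by rw [mul_inv_rev, mul_smul]; exact (hy _ (hx n hn).2).2⟩
        inv_mem' := fun {x} hx n hn => ⟨(hx n hn).2, by rw [inv_inv]; exact (hx n hn).1⟩ }
    have hA : A ≤ St := fun a₂ ha₂ n hn => ⟨hAU a₂ ha₂ n hn, hAU _ (inv_mem ha₂) n hn⟩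
    have hle : A ⊔ conjBy A b ≤ St := sup_le hA (conjBy_le_of_mem hA (show b ∈ St from hbU))
    exact fun x n hn => ((hle (hgen ▸ Subgroup.mem_top x)) n hn).1
  let K : Subgroup X :=
    { carrier := {x | ∀ n ∈ U, x • n - n ∈ D}
      one_mem' := fun n _ => by rw [one_smul, sub_self]; exact zero_mem D
      mul_mem' := fun {x y} hx hy n hn => by
        have e : (x * y) • n - n = (x • (y • n) - y • n) + (y • n - n) := by rw [mul_smul]; abel
        rw [e]; exact add_mem (hx _ (hU y n hn)) (hy n hn)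
      inv_mem' := fun {x} hx n hn => by
        have e : x⁻¹ • n - n = -(x • (x⁻¹ • n) - x⁻¹ • n) := by rw [smul_inv_smul]; abel
        rw [e]; exact neg_mem (hx _ (hU _ n hn)) }
  haveI : K.Normal := ⟨fun g hg t n hn => by
    have e : (t * g * t⁻¹) • n - n = t • (g • (t⁻¹ • n) - t⁻¹ • n) := by
      rw [smul_sub, smul_inv_smul, mul_smul, mul_smul]
    have h1 := hg _ (hU t⁻¹ n hn)
    rw [e, h1 t]; exact h1⟩
  have hcA : a' * a⁻¹ ∈ A := mul_mem ha' (inv_mem ha)
  have hc1 : a' * a⁻¹ ≠ 1 := fun e => hne (mul_inv_eq_one.1 e)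
  have hcK : a' * a⁻¹ ∈ K := by
    rintro n ⟨u, v, hu, hv, rfl⟩
    rw [smul_add, hu _ hcA, add_sub_add_left_eq_sub, quad_mul_smul hq (inv_mem ha) ha',
      quad_inv hq ha (b • v)]
    have := neg_mem (hkey v hv)
    convert this using 1
    abel
  have hKA := sup_eq_top_of_normal h (K := K) hcA hc1 hcK
  -- the fixed points of `A` are fixed modulo `D`
  have hAD : ∀ v : N, (∀ a ∈ A, a • v = v) → ∀ x : X, x • v - v ∈ D := by
    intro v hv x
    obtain ⟨k, hk, a₂, ha₂, rfl⟩ := exists_mul_of_sup h hKA x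
    rw [mul_smul, hv a₂ ha₂]
    exact hk v ⟨v, 0, hv, fun a₃ _ => smul_zero a₃, by simp⟩
  let E : AddSubgroup N :=
    { carrier := {n | ∀ x : X, x • n - n ∈ D}
      zero_mem' := fun x => by rw [smul_zero, sub_zero]; exact zero_mem D
      add_mem' := fun {u v} hu hv x => by
        rw [smul_add, add_sub_add_comm]; exact add_mem (hu x) (hv x)
      neg_mem' := fun {u} hu x => by
        rw [smul_neg, ← neg_sub']; exact neg_mem (hu x) }
  have hEX : ∀ (x : X), ∀ n ∈ E, x • n ∈ E := fun x n hn y => by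
    have := add_mem (hn (y * x)) (neg_mem (hn x))
    rw [mul_smul] at this
    convert this using 1
    abel
  let M : Subgroup X :=
    { carrier := {x | ∀ n : N, x • n - n ∈ E}
      one_mem' := fun n => by rw [one_smul, sub_self]; exact zero_mem E
      mul_mem' := fun {x y} hx hy n => by
        have e : (x * y) • n - n = (x • (y • n) - y • n) + (y • n - n) := by rw [mul_smul]; abel
        rw [e]; exact add_mem (hx _) (hy n)
      inv_mem' := fun {x} hx n => by
        have e : x⁻¹ • n - n = -(x • (x⁻¹ • n) - x⁻¹ • n) := by rw [smul_inv_smul]; abel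
        rw [e]; exact neg_mem (hx _) }
  have hM : ∀ x : X, x ∈ M := by
    have hA : A ≤ M := fun a₂ ha₂ n => hAD _ fun a₃ ha₃ => hq a₂ ha₂ a₃ ha₃ n
    haveI : M.Normal := ⟨fun g hg t n => by
      have e : (t * g * t⁻¹) • n - n = t • (g • (t⁻¹ • n) - t⁻¹ • n) := by
        rw [smul_sub, smul_inv_smul, mul_smul, mul_smul]
      rw [e]; exact hEX t _ (hg _)⟩
    obtain ⟨y, hy⟩ := exists_conj_eq_right h
    have hB : B ≤ M := by
      rw [← hy]
      rintro _ ⟨a₂, ha₂, rfl⟩
      exact (inferInstance : M.Normal).conj_mem _ (hA ha₂) y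
    exact fun x => (sup_le hA hB) (h.1 ▸ Subgroup.mem_top x)
  -- the elements moving everything into the fixed points
  let L : Subgroup X :=
    { carrier := {x | ∀ n : N, x • n - n ∈ D}
      one_mem' := fun n => by rw [one_smul, sub_self]; exact zero_mem D
      mul_mem' := fun {x y} hx hy n => by
        have e : (x * y) • n - n = (x • (y • n) - y • n) + (y • n - n) := by rw [mul_smul]; abel
        rw [e]; exact add_mem (hx _) (hy n)
      inv_mem' := fun {x} hx n => by
        have e : x⁻¹ • n - n = -(x • (x⁻¹ • n) - x⁻¹ • n) := by rw [smul_inv_smul]; abel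
        rw [e]; exact neg_mem (hx _) }
  haveI : L.Normal := ⟨fun g hg t n => by
    have e : (t * g * t⁻¹) • n - n = t • (g • (t⁻¹ • n) - t⁻¹ • n) := by
      rw [smul_sub, smul_inv_smul, mul_smul, mul_smul]
    rw [e, hg _ t]; exact hg _⟩
  have hcommL : a * b * a⁻¹ * b⁻¹ ∈ L := by
    intro n
    have key : ∀ (x y : X) (m : N), (x * y) • m - (y * x) • m ∈ D := by
      intro x y m
      have h1 := hM y m x
      have h2 := hM x m y
      have := sub_mem h1 h2
      rw [smul_sub, smul_sub, smul_smul, smul_smul] at this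
      convert this using 1
      abel
    have := key a b ((b * a)⁻¹ • n)
    rw [smul_inv_smul, smul_smul, mul_inv_rev] at this
    convert this using 3
    group
  have hLA : L ⊔ A = ⊤ := by
    rcases normal_dichotomy h.2 (N := L) (fun g _ n hn => (inferInstance : L.Normal).conj_mem n hn g)
      (h.1 ▸ le_top) with hle | hle
    · exact top_le_iff.1 (h.1 ▸ hle)
    · exfalso
      refine ha1 (eq_one_of_conj_commute h.2 ha hb hb1 ?_)
      have hc : Commute (a * b * a⁻¹ * b⁻¹) b :=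
        (Subgroup.mem_centralizer_iff.1 (hle hcommL) b (mem_sup_right hb)).symm
      have := hc.mul_left (Commute.refl b)
      rwa [inv_mul_cancel_right] at this
  -- the part of `L` fixing the commutator of `A`
  let L0 : Subgroup X :=
    { carrier := {x | x ∈ L ∧ ∀ a₂ ∈ A, ∀ n : N, x • (a₂ • n - n) = a₂ • n - n}
      one_mem' := ⟨one_mem L, fun a₂ _ n => one_smul X _⟩
      mul_mem' := fun {x y} hx hy => ⟨mul_mem hx.1 hy.1, fun a₂ ha₂ n => by
        rw [mul_smul, hy.2 a₂ ha₂ n, hx.2 a₂ ha₂ n]⟩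
      inv_mem' := fun {x} hx => ⟨inv_mem hx.1, fun a₂ ha₂ n => by rw [inv_smul_eq_iff, hx.2 a₂ ha₂ n]⟩ }
  have hn0 : A ≤ normalizer (L0 : Set X) := by
    intro a₂ ha₂
    have key : ∀ a₂ ∈ A, ∀ x ∈ L0, a₂ * x * a₂⁻¹ ∈ L0 := fun a₂ ha₂ x hx =>
      ⟨(inferInstance : L.Normal).conj_mem x hx.1 a₂, fun a₃ ha₃ n => by
        rw [mul_smul, mul_smul, hq a₃ ha₃ _ (inv_mem ha₂), hx.2 a₃ ha₃, hq a₃ ha₃ a₂ ha₂]⟩
    rw [Subgroup.mem_normalizer_iff]
    refine fun x => ⟨key a₂ ha₂ x, fun hx => ?_⟩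
    have := key a₂⁻¹ (inv_mem ha₂) _ hx
    rwa [show a₂⁻¹ * (a₂ * x * a₂⁻¹) * a₂⁻¹⁻¹ = x by group] at this
  have hB0 : B ≤ L0 ⊔ A := by
    intro b₂ hb₂
    obtain ⟨k, hk, a₂, ha₂, rfl⟩ := exists_mul_of_sup h hLA b₂
    refine mul_mem (mem_sup_left ⟨hk, fun a₃ ha₃ n => ?_⟩) (mem_sup_right ha₂)
    obtain ⟨k₃, hk₃, a₄, ha₄, e⟩ : ∃ k₃ ∈ L, ∃ b₃ ∈ B, a₃ = k₃ * b₃ := by
      obtain ⟨y, hy⟩ := exists_conj_eq_right h
      have hLB : L ⊔ B = ⊤ := by
        rw [eq_top_iff]
        intro x _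
        obtain ⟨k₀, hk₀, a₀, ha₀, e⟩ := exists_mul_of_sup h hLA (y⁻¹ * x * y)
        have : x = (y * k₀ * y⁻¹) * (y * a₀ * y⁻¹) := by
          calc x = y * (y⁻¹ * x * y) * y⁻¹ := by group
            _ = _ := by rw [e]; group
        rw [this]
        exact mul_mem (mem_sup_left ((inferInstance : L.Normal).conj_mem _ hk₀ y))
          (mem_sup_right (hy ▸ conj_mem_conjBy ha₀))
      obtain ⟨k₃, hk₃, b₃, hb₃, e⟩ := (Subgroup.mem_sup_of_normal_left (s := L) (t := B)).1 (hLB ▸ Subgroup.mem_top a₃)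
      exact ⟨k₃, hk₃, b₃, hb₃, e.symm⟩
    -- `a₃ n - n` differs from `a₄ n - n` by a fixed vector
    have hd : (a₃ • n - n) - (a₄ • n - n) ∈ D := by
      rw [e, mul_smul, sub_sub_sub_cancel_right]; exact hk₃ _
    have h1 : (k * a₂) • (a₄ • n - n) = a₄ • n - n := hqB a₄ ha₄ _ hb₂ n
    have h2 := hd (k * a₂)
    rw [smul_sub, h1, sub_left_inj, mul_smul, hq a₃ ha₃ a₂ ha₂] at h2
    exact h2
  have hall : ∀ k ∈ L, ∀ a₂ ∈ A, ∀ n : N, k • (a₂ • n - n) = a₂ • n - n := by
    intro k hk a₂ ha₂ n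
    have hk' : k ∈ L0 ⊔ A := (sup_le le_sup_right hB0) (h.1 ▸ Subgroup.mem_top k)
    obtain ⟨a₃, ha₃, l, hl, e⟩ : ∃ a₃ ∈ A, ∃ l ∈ L0, k = a₃ * l := by
      rw [← SetLike.mem_coe, sup_comm, Subgroup.coe_mul_of_left_le_normalizer_right A L0 hn0] at hk'
      obtain ⟨a₃, ha₃, l, hl, e⟩ := hk'
      exact ⟨a₃, ha₃, l, hl, e.symm⟩
    rw [e, mul_smul, hl.2 a₂ ha₂ n, hq a₂ ha₂ a₃ ha₃ n]
  -- so the action is quadratic
  obtain ⟨x, y, n, hne'⟩ := hX
  apply hne'
  obtain ⟨k, hk, a₂, ha₂, rfl⟩ := exists_mul_of_sup h hLA x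
  obtain ⟨k', hk', a₃, ha₃, rfl⟩ := exists_mul_of_sup h hLA y
  have e : (k * a₂) • n - n = (k • (a₂ • n) - a₂ • n) + (a₂ • n - n) := by rw [mul_smul]; abel
  rw [e, smul_add]
  congr 1
  · exact hk (a₂ • n) _
  · rw [mul_smul, hq a₂ ha₂ a₃ ha₃, hall k' hk' a₂ ha₂]

end CfsgLib.ThreeTrans
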