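import Cfsg.Agent.Lib.ThreeTrans.RankOneSpecial
import Cfsg.Agent.Lib.ThreeTrans.RankOneSL2
import Cfsg.Agent.Lib.ThreeTrans.Braid
import Cfsg.Agent.Lib.Components.Quasisimple

set_option autoImplicit false

/-!
Special rank one groups: the cases with at most three elements and quasisimplicity (owner: helper28).
-/

namespace CfsgLib.ThreeTrans.Special

open Cfsg Subgroup CfsgLib.ThreeTrans CfsgLib.ThreeTrans.RankOneSL2
open scoped MatrixGroups commutatorElement

/-- Two elements of order three with the braid relation give an image of `SL(2,3)`. -/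
theorem exists_hom_sl23 {G : Type*} [Group G] {a b : G} (ha : a * (a * a) = 1) (hb : b * (b * b) = 1)
    (hab : a * b * a = b * a * b) :
    ∃ φ : SL(2, ZMod 3) →* G, φ (lowerEl 1) = a ∧ φ (upperEl (-1)) = b := by
  obtain ⟨n, hn⟩ : ∃ n, n = a * b * a := ⟨_, rfl⟩
  obtain ⟨z, hz⟩ : ∃ z, z = n * n := ⟨_, rfl⟩
  have nab : n * a = b * n := by
    calc n * a = (b * a * b) * a := by rw [hn, hab]
      _ = b * n := by rw [hn]; group
  have nba : n * b = a * n := by
    calc n * b = a * (b * a * b) := by rw [hn]; group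
      _ = a * n := by rw [hn, hab]
  have za : a * z = z * a := by rw [hz, ← mul_assoc, ← nba, mul_assoc, ← nab, ← mul_assoc]
  have zn : n * z = z * n := by rw [hz, mul_assoc]
  have hbn : b = a⁻¹ * n * a⁻¹ := by rw [hn]; group
  have a3 : a⁻¹ = a * a := (inv_eq_of_mul_eq_one_right ha)
  have zz : z * z = 1 := by
    have e1 : a * n * a * n⁻¹ * a * n⁻¹ = 1 := by
      rw [show a * n * a * n⁻¹ * a * n⁻¹ = a * (n * a) * n⁻¹ * a * n⁻¹ by group, nab, hbn]
      group
    have zinv : Commute z⁻¹ a := (show Commute a z from za).symm.inv_left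
    have e2 : (a * n) * (a * n) * (a * n) = z * z := by
      have q : n⁻¹ = n * z⁻¹ := by rw [hz]; group
      rw [q] at e1
      have zn' : Commute z⁻¹ n := (show Commute n z from zn).symm.inv_left
      have : a * n * a * n * a * n * (z⁻¹ * z⁻¹) = 1 := by
        calc a * n * a * n * a * n * (z⁻¹ * z⁻¹) = a * n * a * n * (a * (n * z⁻¹)) * z⁻¹ := by group
          _ = a * n * a * n * (z⁻¹ * (a * n)) * z⁻¹ := by
            rw [← mul_assoc a n, (zinv.mul_right zn').symm.eq]
          _ = a * n * a * (n * z⁻¹) * a * (n * z⁻¹) := by group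
          _ = 1 := e1
      calc (a * n) * (a * n) * (a * n) = a * n * a * n * a * n * (z⁻¹ * z⁻¹) * (z * z) := by group
        _ = z * z := by rw [this, one_mul]
    rw [← e2]
    have e3 : a * n = a⁻¹ * b * a := by
      rw [hn, a3]; group
    rw [e3]
    calc a⁻¹ * b * a * (a⁻¹ * b * a) * (a⁻¹ * b * a) = a⁻¹ * (b * (b * b)) * a := by group
      _ = 1 := by rw [hb]; group
  have za' : ∀ t, a * (z * t) = z * (a * t) := fun t => by rw [← mul_assoc, za, mul_assoc]
  have zn' : ∀ t, n * (z * t) = z * (n * t) := fun t => by rw [← mul_assoc, zn, mul_assoc]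
  have zz' : ∀ t, z * (z * t) = t := fun t => by rw [← mul_assoc, zz, one_mul]
  have a3' : ∀ t, a * (a * (a * t)) = t := fun t => by
    rw [← mul_assoc a a, ← mul_assoc, mul_assoc a a a, ha, one_mul]
  have nn : n * n = z := hz.symm
  have nn' : ∀ t, n * (n * t) = z * t := fun t => by rw [← mul_assoc, nn]
  have hna : n * (a * n) = z * (a * (a * (n * (a * a)))) := by
    calc n * (a * n) = b * n * n := by rw [← mul_assoc, nab]
      _ = b * z := by rw [mul_assoc, nn]
      _ = a⁻¹ * n * a⁻¹ * z := by rw [hbn]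
      _ = _ := by rw [a3]; simp only [mul_assoc, za, za', zn']
  have hna' : ∀ t, n * (a * (n * t)) = z * (a * (a * (n * (a * (a * t))))) := fun t => by
    rw [show n * (a * (n * t)) = n * (a * n) * t by group, hna]; simp only [mul_assoc]
  have hnb : n * (a * (a * n)) = a * (n * a) := by
    have hb2 : b * b = a * n⁻¹ * a := by
      rw [show b * b = b⁻¹ from (inv_eq_of_mul_eq_one_right hb).symm, hbn]; group
    calc n * (a * (a * n)) = n * a * (a * n) := by group
      _ = b * n * a * n := by rw [nab]; group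
      _ = b * (n * a) * n := by group
      _ = b * b * (n * n) := by rw [nab]; group
      _ = a * n⁻¹ * a * z := by rw [hb2, nn]
      _ = a * n⁻¹ * (z * a) := by rw [mul_assoc (a * n⁻¹) a z, za]
      _ = a * (n * a) := by rw [hz]; group
  have hnb' : ∀ t, n * (a * (a * (n * t))) = a * (n * (a * t)) := fun t => by
    rw [show n * (a * (a * (n * t))) = n * (a * (a * n)) * t by group, hnb]; simp only [mul_assoc]
  obtain ⟨φ, hφ⟩ := exists_hom_of_table
    (![lowerEl 1, lowerEl 1 * upperEl (-1) * lowerEl 1] : Fin 2 → SL(2, ZMod 3)) (![a, n] : Fin 2 → G)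
    (![[], [1], [1, 0], [1, 0, 0], [0], [0, 1], [0, 1, 0], [0, 1, 0, 0], [0, 0], [0, 0, 1], [0, 0, 1, 0],
      [0, 0, 1, 0, 0], [1, 1], [1, 1, 1], [1, 1, 1, 0], [1, 1, 1, 0, 0], [1, 1, 0], [1, 1, 0, 1], [1, 1, 0, 1, 0],
      [1, 1, 0, 1, 0, 0], [1, 1, 0, 0], [1, 1, 0, 0, 1], [1, 1, 0, 0, 1, 0], [1, 1, 0, 0, 1, 0, 0]] :
        Fin 24 → List (Fin 2))
    (![![4, 1], ![2, 12], ![3, 23], ![1, 6], ![8, 5], ![6, 16], ![7, 15], ![5, 10], ![0, 9], ![10, 20], ![11, 19],
      ![9, 2], ![16, 13], ![14, 0], ![15, 11], ![13, 18], ![20, 17], ![18, 4], ![19, 3], ![17, 22], ![12, 21],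
      ![22, 8], ![23, 7], ![21, 14]] : Fin 24 → Fin 2 → Fin 24)
    (by decide +kernel) (by decide +kernel)
    (by
      intro x i
      fin_cases x <;> fin_cases i <;>
        simp [mul_assoc, ha, zz, zz', za, za', zn, zn', a3', nn, nn', hna, hna', hnb, hnb'])
    0 rfl
  have h0 : φ (lowerEl 1) = a := hφ 0
  refine ⟨φ, h0, ?_⟩
  have h1 : φ (lowerEl 1 * upperEl (-1) * lowerEl 1) = n := hφ 1
  rw [map_mul, map_mul, h0, hn] at h1
  exact mul_left_cancel (mul_right_cancel h1)

section
variable {X : Type*} [Group X] {A B : Subgroup X} (D : Data A B) (htop : A ⊔ B = ⊤)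
include D htop

theorem generated {a : X} (ha : a ∈ A) (ha1 : a ≠ 1) (hp : (Nat.card A).Prime) {H : Subgroup X}
    (h1 : a ∈ H) (h2 : fEl A B a ∈ H) : H = ⊤ := by
  haveI := Fact.mk hp
  have hgen : ∀ x ∈ A, ∃ k : ℤ, a ^ k = x := fun x hx => by
    have : (⟨x, hx⟩ : A) ∈ zpowers (⟨a, ha⟩ : A) :=
      mem_zpowers_of_prime_card rfl fun e => ha1 (congrArg Subtype.val e)
    obtain ⟨k, hk⟩ := mem_zpowers_iff.1 this
    exact ⟨k, by simpa using congrArg Subtype.val hk⟩
  rw [eq_top_iff, ← htop]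
  refine sup_le (fun x hx => ?_) (fun x hx => ?_)
  · obtain ⟨k, rfl⟩ := hgen x hx
    exact zpow_mem h1 k
  · rw [← D.conjBy_nEl_left ha ha1, mem_conjBy] at hx
    obtain ⟨k, hk⟩ := hgen _ hx
    have : x = fEl A B a ^ k := by
      rw [← D.nEl_conj_self ha ha1, conj_zpow, hk]; group
    exact this ▸ zpow_mem h2 k

theorem small_two (h2 : Nat.card A = 2) : Nonempty (X ≃* SL(2, ZMod 2)) := by
  obtain ⟨a, ha, ha1⟩ := (Subgroup.bot_or_exists_ne_one A).resolve_left (ne_bot_left D.pair)
  have haa : a * a = 1 := by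
    have := congrArg Subtype.val (pow_card_eq_one' (x := (⟨a, ha⟩ : A)))
    simpa [h2, pow_two] using this
  have hbb : fEl A B a * fEl A B a = 1 := by
    rw [← D.nEl_conj_self ha ha1]
    calc _ = nEl A B a * (a * a) * (nEl A B a)⁻¹ := by group
      _ = 1 := by rw [haa]; group
  obtain ⟨φ, hφa, hφb⟩ := exists_hom_perm_three haa hbb (D.braid ha ha1).symm
  have hinj : Function.Injective φ := injective_of_perm_three φ fun e => by
    rw [map_mul, hφa, hφb] at e
    exact ha1 (eq_one_of_mem_normalizer D.pair ha (le_normalizer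
      (eq_inv_of_mul_eq_one_left e ▸ inv_mem (D.fEl_mem ha ha1))))
  have hsurj : Function.Surjective φ := MonoidHom.range_eq_top.1
    (generated D htop ha ha1 (h2 ▸ Nat.prime_two) ⟨_, hφa⟩ ⟨_, hφb⟩)
  obtain ⟨ψ, hψa, hψb⟩ := exists_hom_perm_three (G := SL(2, ZMod 2)) (a := lowerEl 1) (b := upperEl 1)
    (by decide) (by decide) (by decide)
  have hψ : Function.Injective ψ := injective_of_perm_three ψ fun e => by
    rw [map_mul, hψa, hψb] at e
    exact absurd e (by decide)
  have hψb' : Function.Bijective ψ := (Fintype.bijective_iff_injective_and_card ψ).2 ⟨hψ, by decide +kernel⟩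
  exact ⟨(MulEquiv.ofBijective φ ⟨hinj, hsurj⟩).symm.trans (MulEquiv.ofBijective ψ hψb')⟩

theorem small_three (h3 : Nat.card A = 3) : Nonempty (X ≃* SL(2, ZMod 3)) ∨
    Nonempty (X ≃* Matrix.ProjectiveSpecialLinearGroup (Fin 2) (ZMod 3)) := by
  obtain ⟨a, ha, ha1⟩ := (Subgroup.bot_or_exists_ne_one A).resolve_left (ne_bot_left D.pair)
  have haa : a * (a * a) = 1 := by
    have := congrArg Subtype.val (pow_card_eq_one' (x := (⟨a, ha⟩ : A)))
    simpa [h3, pow_succ', mul_assoc] using this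
  have hbb : fEl A B a * (fEl A B a * fEl A B a) = 1 := by
    rw [← D.nEl_conj_self ha ha1]
    calc _ = nEl A B a * (a * (a * a)) * (nEl A B a)⁻¹ := by group
      _ = 1 := by rw [haa]; group
  obtain ⟨φ, hφa, hφb⟩ := exists_hom_sl23 haa hbb (D.braid ha ha1).symm
  have hsurj : Function.Surjective φ := MonoidHom.range_eq_top.1
    (generated D htop ha ha1 (h3 ▸ Nat.prime_three) ⟨_, hφa⟩ ⟨_, hφb⟩)
  have key : ∀ g : SL(2, ZMod 3), (∀ h, g * h = h * g) ∨ ∃ h k : SL(2, ZMod 3),
      h * g * h⁻¹ * (k * g * k⁻¹) = lowerEl 1 * (upperEl (-1))⁻¹ ∨ h * (g * g) * h⁻¹ = lowerEl 1 ∨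
        h * (g * g) * h⁻¹ = (lowerEl 1)⁻¹ := by decide +kernel
  have hker : ∀ g ∈ φ.ker, g ∈ center SL(2, ZMod 3) := by
    intro g hg
    rw [MonoidHom.mem_ker] at hg
    rcases key g with hc | ⟨h, k, e | e | e⟩
    · exact mem_center_iff.2 fun x => (hc x).symm
    all_goals exfalso
    · have := congrArg φ e
      simp only [map_mul, map_inv, hg, hφa, hφb, mul_one, mul_inv_cancel] at this
      exact ha1 (eq_one_of_mem_normalizer D.pair ha
        (le_normalizer ((eq_of_mul_inv_eq_one this.symm) ▸ D.fEl_mem ha ha1)))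
    · have := congrArg φ e
      simp only [map_mul, map_inv, hg, hφa, mul_one, mul_inv_cancel] at this
      exact ha1 this.symm
    · have := congrArg φ e
      simp only [map_mul, map_inv, hg, hφa, mul_one, mul_inv_cancel] at this
      exact ha1 (inv_eq_one.1 this.symm)
  by_cases hb : φ.ker = ⊥
  · exact Or.inl ⟨(MulEquiv.ofBijective φ ⟨(MonoidHom.ker_eq_bot_iff φ).1 hb, hsurj⟩).symm⟩
  · obtain ⟨g, hg, hg1⟩ := (Subgroup.bot_or_exists_ne_one φ.ker).resolve_left hb
    have key2 : ∀ g g' : SL(2, ZMod 3), (∀ h, h * g = g * h) → (∀ h, h * g' = g' * h) → g ≠ 1 → g' ≠ 1 →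
        g = g' := by decide +kernel
    have heq : φ.ker = center SL(2, ZMod 3) := le_antisymm hker fun c hc => by
      by_cases hc1 : c = 1
      · exact hc1 ▸ one_mem _
      · exact key2 g c (mem_center_iff.1 (hker g hg)) (mem_center_iff.1 hc) hg1 hc1 ▸ hg
    exact Or.inr ⟨(QuotientGroup.quotientKerEquivOfSurjective φ hsurj).symm.trans
      (QuotientGroup.quotientMulEquivOfEq heq)⟩

theorem quasisimple (h : 3 < ENat.card A) : commutator X = ⊤ ∧ IsQuasisimple X := by
  have hc : commutator X = ⊤ := by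
    rw [eq_top_iff, ← htop, commutator_def]
    exact (D.le_commutator_sup h).trans (commutator_mono le_top le_top)
  refine ⟨hc, CfsgLib.Components.isQuasisimple_iff.2 ⟨?_, ⟨hc⟩, fun N hN hNtop => ?_⟩⟩
  · obtain ⟨a, ha, ha1⟩ := (Subgroup.bot_or_exists_ne_one A).resolve_left (ne_bot_left D.pair)
    exact ⟨⟨a, 1, ha1⟩⟩
  rcases normal_dichotomy D.pair (N := N) (fun g _ n hn => hN.conj_mem n hn g) (by rw [htop]; exact le_top)
    with h1 | h1
  · haveI := D.commA
    refine absurd (eq_top_iff.2 (hc.ge.trans ?_)) hNtop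
    exact Subgroup.Normal.commutator_le_of_self_sup_commutative_eq_top (eq_top_iff.2 (htop ▸ h1)) inferInstance
  · rwa [htop, Subgroup.coe_top, centralizer_univ] at h1

end

end CfsgLib.ThreeTrans.Special
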