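import Cfsg.Agent.Lib.ThreeTrans.RankOne
import Cfsg.Prelude.Def_Transfer

set_option autoImplicit false

/-!
Special rank one groups with abelian unipotent subgroups (owner: helper28).
-/

namespace CfsgLib.ThreeTrans.Special

open Cfsg Subgroup CfsgLib.ThreeTrans
open scoped commutatorElement

variable {G : Type*} [Group G] {A B : Subgroup G}

/-- The setting. -/
structure Data (A B : Subgroup G) : Prop where
  special : IsSpecialRankOnePair A B
  commA : IsMulCommutative A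
  commB : IsMulCommutative B

/-- `fEl A B a` is the element of `B` attached to `a`, the inverse of the one in the definition. -/
noncomputable def fEl (A B : Subgroup G) (a : G) : G :=
  Classical.epsilon fun y => y ∈ B ∧ y ≠ 1 ∧ conjBy A y = conjBy B a⁻¹

/-- The element exchanging `A` and `B`. -/
noncomputable def nEl (A B : Subgroup G) (a : G) : G := a * fEl A B a * a

namespace Data

variable (D : Data A B)
include D

theorem pair : IsRankOnePair A B := D.special.1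

theorem commuteA {a a' : G} (ha : a ∈ A) (ha' : a' ∈ A) : Commute a a' :=
  haveI := D.commA
  congrArg Subtype.val (IsMulCommutative.is_comm.comm (⟨a, ha⟩ : A) ⟨a', ha'⟩)

theorem swap : Data B A := by
  refine ⟨⟨RankOnePair_symm D.pair, fun b hb hb1 a ha ha1 he => ?_⟩, D.commB, D.commA⟩
  have h := D.special.2 a ha ha1 b hb hb1 he.symm
  calc a⁻¹ * b * a = (a⁻¹ * b⁻¹ * a)⁻¹ := by group
    _ = (b⁻¹ * a * b)⁻¹ := by rw [h]
    _ = b⁻¹ * a⁻¹ * b := by group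

theorem fEl_spec {a : G} (ha : a ∈ A) (ha1 : a ≠ 1) :
    fEl A B a ∈ B ∧ fEl A B a ≠ 1 ∧ conjBy A (fEl A B a) = conjBy B a⁻¹ := by
  obtain ⟨b, hb, hb1, he⟩ := D.pair.cond_left a ha ha1
  exact Classical.epsilon_spec (p := fun y => y ∈ B ∧ y ≠ 1 ∧ conjBy A y = conjBy B a⁻¹)
    ⟨b⁻¹, inv_mem hb, inv_ne_one.2 hb1, he⟩

theorem eq_fEl {a y : G} (ha : a ∈ A) (ha1 : a ≠ 1) (hy : y ∈ B) (he : conjBy A y = conjBy B a⁻¹) :
    y = fEl A B a :=
  unique_conjBy (RankOnePair_symm D.pair) hy (D.fEl_spec ha ha1).1 (he.trans (D.fEl_spec ha ha1).2.2.symm)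

theorem fEl_mem {a : G} (ha : a ∈ A) (ha1 : a ≠ 1) : fEl A B a ∈ B := (D.fEl_spec ha ha1).1

theorem braid {a : G} (ha : a ∈ A) (ha1 : a ≠ 1) :
    fEl A B a * a * fEl A B a = a * fEl A B a * a := by
  obtain ⟨hy, hy1, he⟩ := D.fEl_spec ha ha1
  set y := fEl A B a
  have h := D.special.2 a ha ha1 y⁻¹ (inv_mem hy) (inv_ne_one.2 hy1) (by rw [inv_inv]; exact he)
  rw [inv_inv] at h
  calc y * a * y = a * (a⁻¹ * y * a) * y := by group
    _ = a * (y * a * y⁻¹) * y := by rw [h]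
    _ = a * y * a := by group

theorem nEl_eq {a : G} (ha : a ∈ A) (ha1 : a ≠ 1) : nEl A B a = fEl A B a * a * fEl A B a :=
  (D.braid ha ha1).symm

theorem nEl_mem {a : G} (ha : a ∈ A) (ha1 : a ≠ 1) : nEl A B a ∈ A ⊔ B :=
  mul_mem (mul_mem (mem_sup_left ha) (mem_sup_right (D.fEl_mem ha ha1))) (mem_sup_left ha)

theorem conjBy_nEl_left {a : G} (ha : a ∈ A) (ha1 : a ≠ 1) : conjBy A (nEl A B a) = B := by
  rw [nEl, ← conjBy_conjBy, conjBy_of_mem ha, ← conjBy_conjBy, (D.fEl_spec ha ha1).2.2, conjBy_conjBy,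
    mul_inv_cancel, conjBy_one]

theorem nEl_conj_self {a : G} (ha : a ∈ A) (ha1 : a ≠ 1) :
    nEl A B a * a * (nEl A B a)⁻¹ = fEl A B a := by
  have hb := D.braid ha ha1
  set y := fEl A B a
  calc nEl A B a * a * (nEl A B a)⁻¹ = (a * y * a) * a * (a * y * a)⁻¹ := rfl
    _ = (y * a * y) * a * (a * y * a)⁻¹ := by rw [hb]
    _ = y := by group

theorem nEl_conj_fEl {a : G} (ha : a ∈ A) (ha1 : a ≠ 1) :
    nEl A B a * fEl A B a * (nEl A B a)⁻¹ = a := by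
  have hb := D.braid ha ha1
  set y := fEl A B a
  calc nEl A B a * y * (nEl A B a)⁻¹ = a * (y * a * y) * (a * y * a)⁻¹ := by
        show (a * y * a) * y * (a * y * a)⁻¹ = _; group
    _ = a := by rw [hb]; group

theorem conjBy_nEl_right {a : G} (ha : a ∈ A) (ha1 : a ≠ 1) : conjBy B (nEl A B a) = A := by
  refine eq_left_of_fixed D.pair ha ha1
    (conjBy_mem_unipotentSubgroups D.pair (right_mem_unipotentSubgroups D.pair) (D.nEl_mem ha ha1))
    (conjBy_of_mem ?_)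
  have := conj_mem_conjBy (g := nEl A B a) (D.fEl_mem ha ha1)
  rwa [D.nEl_conj_fEl ha ha1] at this

theorem nEl_conj_mem {a c : G} (ha : a ∈ A) (ha1 : a ≠ 1) (hc : c ∈ A) :
    nEl A B a * c * (nEl A B a)⁻¹ ∈ B := by
  have := conj_mem_conjBy (g := nEl A B a) hc
  rwa [D.conjBy_nEl_left ha ha1] at this

theorem conjBy_nEl_inv_left {a : G} (ha : a ∈ A) (ha1 : a ≠ 1) : conjBy A (nEl A B a)⁻¹ = B := by
  have h := congrArg (conjBy · (nEl A B a)⁻¹) (D.conjBy_nEl_right ha ha1)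
  simp only [conjBy_conjBy, inv_mul_cancel, conjBy_one] at h
  exact h.symm

theorem conjBy_nEl_inv_right {a : G} (ha : a ∈ A) (ha1 : a ≠ 1) : conjBy B (nEl A B a)⁻¹ = A := by
  have h := congrArg (conjBy · (nEl A B a)⁻¹) (D.conjBy_nEl_left ha ha1)
  simp only [conjBy_conjBy, inv_mul_cancel, conjBy_one] at h
  exact h.symm

theorem fEl_inv {a : G} (ha : a ∈ A) (ha1 : a ≠ 1) : fEl A B a⁻¹ = (fEl A B a)⁻¹ := by
  refine (D.eq_fEl (inv_mem ha) (inv_ne_one.2 ha1) (inv_mem (D.fEl_mem ha ha1)) ?_).symm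
  rw [inv_inv]
  apply conjBy_inj (g := fEl A B a)
  rw [conjBy_conjBy, mul_inv_cancel, conjBy_one, conjBy_conjBy]
  have e : conjBy B (nEl A B a) = A := D.conjBy_nEl_right ha ha1
  rw [D.nEl_eq ha ha1, ← conjBy_conjBy, conjBy_of_mem (D.fEl_mem ha ha1)] at e
  exact e.symm

theorem fEl_swap {a : G} (ha : a ∈ A) (ha1 : a ≠ 1) : fEl B A (fEl A B a) = a := by
  obtain ⟨hy, hy1, he⟩ := D.fEl_spec ha ha1
  refine (D.swap.eq_fEl hy hy1 ha ?_).symm
  have h := (D.fEl_spec (inv_mem ha) (inv_ne_one.2 ha1)).2.2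
  rw [D.fEl_inv ha ha1, inv_inv] at h
  exact h.symm

theorem nEl_swap {a : G} (ha : a ∈ A) (ha1 : a ≠ 1) : nEl B A (fEl A B a) = nEl A B a := by
  rw [nEl, D.fEl_swap ha ha1, D.braid ha ha1]
  rfl

theorem nEl_inv_conj_self {a : G} (ha : a ∈ A) (ha1 : a ≠ 1) :
    (nEl A B a)⁻¹ * a * nEl A B a = fEl A B a := by
  conv_lhs => rw [show a = nEl A B a * fEl A B a * (nEl A B a)⁻¹ from (D.nEl_conj_fEl ha ha1).symm]
  have e : nEl A B (nEl A B a * fEl A B a * (nEl A B a)⁻¹) = nEl A B a := by rw [D.nEl_conj_fEl ha ha1]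
  rw [e]; group

theorem fEl_injective {a a' : G} (ha : a ∈ A) (ha1 : a ≠ 1) (ha' : a' ∈ A) (ha'1 : a' ≠ 1)
    (h : fEl A B a = fEl A B a') : a = a' := by
  rw [← D.fEl_swap ha ha1, h, D.fEl_swap ha' ha'1]

theorem exists_preimage {b : G} (hb : b ∈ B) (hb1 : b ≠ 1) : ∃ a ∈ A, a ≠ 1 ∧ fEl A B a = b :=
  ⟨fEl B A b, D.swap.fEl_mem hb hb1, (D.swap.fEl_spec hb hb1).2.1, D.swap.fEl_swap hb hb1⟩

/-- The fundamental identity. -/
theorem identity {a a' w : G} (ha : a ∈ A) (ha1 : a ≠ 1) (ha' : a' ∈ A) (h1 : a * a' ≠ 1) (hw : w ∈ A)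
    (hw1 : w ≠ 1) (he : fEl A B w = (fEl A B a)⁻¹ * fEl A B (a * a')) :
    a * w ≠ 1 ∧ fEl A B (a * w) = (nEl A B a)⁻¹ * a'⁻¹ * nEl A B a := by
  set n := nEl A B a with hn
  set y := fEl A B a with hy
  have hz := (D.fEl_spec (mul_mem ha ha') h1).2.2
  have e1 : conjBy A (fEl A B (a * a')) = conjBy B (y * w⁻¹) := by
    rw [show fEl A B (a * a') = y * fEl A B w by rw [he, mul_inv_cancel_left], ← conjBy_conjBy,
      (D.fEl_spec hw hw1).2.2, conjBy_conjBy]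
  have e2 : conjBy B (n * (a * w)⁻¹) = conjBy B a'⁻¹ := by
    have h3 : n * (a * w)⁻¹ = a * (y * w⁻¹) := by
      rw [hn, nEl, ← hy, mul_inv_rev, (D.commuteA (inv_mem hw) (inv_mem ha)).eq]; group
    rw [h3, ← conjBy_conjBy, ← e1, hz, conjBy_conjBy,
      (D.commuteA ha' ha).symm.eq, mul_inv_rev]
    congr 1
    group
  have e3 : conjBy B (a * w)⁻¹ = conjBy A (n⁻¹ * a'⁻¹ * n) := by
    apply conjBy_inj (g := n)
    rw [conjBy_conjBy, e2, conjBy_conjBy, show n * (n⁻¹ * a'⁻¹ * n) = a'⁻¹ * n by group, ← conjBy_conjBy,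
      D.conjBy_nEl_left ha ha1]
  have hmem : n⁻¹ * a'⁻¹ * n ∈ B := by
    have := conj_mem_conjBy (g := n⁻¹) (inv_mem ha')
    rwa [D.conjBy_nEl_inv_left ha ha1, inv_inv] at this
  have hne : a * w ≠ 1 := by
    intro e0
    rw [e0, inv_one, conjBy_one] at e3
    refine D.pair.ne ?_
    have := congrArg (conjBy · (n⁻¹ * a'⁻¹ * n)⁻¹) e3
    rw [conjBy_conjBy, inv_mul_cancel, conjBy_one, conjBy_of_mem (inv_mem hmem)] at this
    exact this.symm
  exact ⟨hne, (D.eq_fEl (mul_mem ha hw) hne hmem e3.symm).symm⟩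

omit D in
theorem mem_diagonal {g : G} : g ∈ rankOneDiagonal A B ↔ g ∈ A ⊔ B ∧ conjBy A g = A ∧ conjBy B g = B := by
  rw [rankOneDiagonal, mem_inf, mem_inf, conjBy_eq_self_iff, conjBy_eq_self_iff, and_assoc]

theorem hua_mem {a c : G} (ha : a ∈ A) (ha1 : a ≠ 1) (hc : c ∈ A) (hc1 : c ≠ 1) :
    (nEl A B a)⁻¹ * nEl A B c ∈ rankOneDiagonal A B := by
  refine mem_diagonal.2 ⟨mul_mem (inv_mem (D.nEl_mem ha ha1)) (D.nEl_mem hc hc1), ?_, ?_⟩
  · rw [← conjBy_conjBy, D.conjBy_nEl_left hc hc1, D.conjBy_nEl_inv_right ha ha1]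
  · rw [← conjBy_conjBy, D.conjBy_nEl_right hc hc1, D.conjBy_nEl_inv_left ha ha1]

theorem hua_mem' {a c : G} (ha : a ∈ A) (ha1 : a ≠ 1) (hc : c ∈ A) (hc1 : c ≠ 1) :
    nEl A B a * (nEl A B c)⁻¹ ∈ rankOneDiagonal A B := by
  refine mem_diagonal.2 ⟨mul_mem (D.nEl_mem ha ha1) (inv_mem (D.nEl_mem hc hc1)), ?_, ?_⟩
  · rw [← conjBy_conjBy, D.conjBy_nEl_inv_left hc hc1, D.conjBy_nEl_right ha ha1]
  · rw [← conjBy_conjBy, D.conjBy_nEl_inv_right hc hc1, D.conjBy_nEl_left ha ha1]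

omit D in
theorem commutator_diagonal_le : ⁅A, rankOneDiagonal A B⁆ ≤ A :=
  commutator_le.2 fun a ha h hh => by
    have h1 : h * a⁻¹ * h⁻¹ ∈ A := by
      have := conj_mem_conjBy (g := h) (inv_mem ha)
      rwa [(mem_diagonal.1 hh).2.1] at this
    rw [commutatorElement_def, show a * h * a⁻¹ * h⁻¹ = a * (h * a⁻¹ * h⁻¹) by group]
    exact mul_mem ha h1

omit D in
theorem exists_not_mem_of_three_lt {C : Subgroup G} (h : 3 < ENat.card C) (x y z : G) :
    ∃ c ∈ C, c ≠ x ∧ c ≠ y ∧ c ≠ z := by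
  by_contra hno
  push Not at hno
  have hsub : (C : Set G) ⊆ {x, y, z} := fun c hc => by
    by_cases h1 : c = x
    · exact Or.inl h1
    by_cases h2 : c = y
    · exact Or.inr (Or.inl h2)
    exact Or.inr (Or.inr (hno c hc h1 h2))
  have h1 : ENat.card C ≤ 3 := by
    show ENat.card ↥(C : Set G) ≤ 3
    rw [ENat.card_coe_set_eq]
    refine (Set.encard_le_encard hsub).trans ((Set.encard_insert_le _ _).trans ?_)
    refine le_trans (add_le_add_left ((Set.encard_insert_le _ _).trans (add_le_add_left (Set.encard_singleton z).le _)) _) ?_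
    norm_num
  exact absurd h (not_lt.2 h1)

/-- A non-trivial subgroup of `A` modulo which the diagonal subgroup acts trivially is `A`. -/
theorem eq_of_trivial_mod {A₀ : Subgroup G} (hle : A₀ ≤ A) 
    (htriv : ⁅A, rankOneDiagonal A B⁆ ≤ A₀) {a' : G} (ha'0 : a' ∈ A₀) (ha'1 : a' ≠ 1) : A ≤ A₀ := by
  have ha' : a' ∈ A := hle ha'0
  intro a ha
  by_cases ha1 : a = 1
  · rw [ha1]; exact one_mem _
  by_cases h1 : a * a' = 1
  · rw [eq_inv_of_mul_eq_one_left h1]; exact inv_mem ha'0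
  set y := fEl A B a
  set z := fEl A B (a * a')
  have hw0 : y⁻¹ * z ≠ 1 := by
    intro e
    exact ha'1 (mul_eq_left.1 (D.fEl_injective ha ha1 (mul_mem ha ha') h1 (inv_mul_eq_one.1 e)).symm)
  obtain ⟨w, hw, hw1, he⟩ :=
    D.exists_preimage (mul_mem (inv_mem (D.fEl_mem ha ha1)) (D.fEl_mem (mul_mem ha ha') h1)) hw0
  obtain ⟨haw, hid⟩ := D.identity ha ha1 ha' h1 hw hw1 he
  -- everything is taken modulo `A₀` through the action of `n`
  set n := nEl A B a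
  let φ : G → G := fun g => n⁻¹ * g * n
  have hmod : ∀ {c : G}, c ∈ A → c ≠ 1 → ∃ e ∈ A₀, fEl A B c = φ (c * e) := by
    intro c hc hc1
    set h := n * (nEl A B c)⁻¹ with hh
    have hH : h ∈ rankOneDiagonal A B := D.hua_mem' ha ha1 hc hc1
    refine ⟨⁅c⁻¹, h⁆, htriv (commutator_mem_commutator (inv_mem hc) hH), ?_⟩
    have e1 : c * ⁅c⁻¹, h⁆ = h * c * h⁻¹ := by rw [commutatorElement_def]; group
    show fEl A B c = n⁻¹ * (c * ⁅c⁻¹, h⁆) * n
    rw [e1, hh, ← D.nEl_inv_conj_self hc hc1]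
    group
  obtain ⟨e₁, he₁, q₁⟩ := hmod (mul_mem ha hw) haw
  obtain ⟨e₂, he₂, q₂⟩ := hmod hw hw1
  obtain ⟨e₃, he₃, q₃⟩ := hmod ha ha1
  obtain ⟨e₄, he₄, q₄⟩ := hmod (mul_mem ha ha') h1
  have hφ : ∀ {g k : G}, φ g = φ k → g = k := fun {g k} e => mul_left_cancel (mul_right_cancel e)
  have hx1 : a * w * e₁ = a'⁻¹ := hφ (q₁.symm.trans hid)
  have hx2 : w * e₂ = (a * e₃)⁻¹ * (a * a' * e₄) := by
    refine hφ ?_
    rw [← q₂, he, q₃, q₄]
    show (n⁻¹ * (a * e₃) * n)⁻¹ * (n⁻¹ * (a * a' * e₄) * n) = n⁻¹ * ((a * e₃)⁻¹ * (a * a' * e₄)) * n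
    group
  have hwA₀ : w ∈ A₀ := by
    have : w = e₃⁻¹ * a' * e₄ * e₂⁻¹ := by
      rw [eq_mul_inv_iff_mul_eq, hx2]; group
    rw [this]
    exact mul_mem (mul_mem (mul_mem (inv_mem he₃) ha'0) he₄) (inv_mem he₂)
  have : a = a'⁻¹ * (w * e₁)⁻¹ := by rw [eq_mul_inv_iff_mul_eq, ← hx1]; group
  rw [this]
  exact mul_mem (inv_mem ha'0) (inv_mem (mul_mem hwA₀ he₁))

theorem diagonal_not_trivial (h : 3 < ENat.card A) : ⁅A, rankOneDiagonal A B⁆ ≠ ⊥ := by
  intro hbot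
  obtain ⟨a', ha', ha'1⟩ := (Subgroup.bot_or_exists_ne_one A).resolve_left (ne_bot_left D.pair)
  -- with a trivial action every element lies in `{1, a'⁻¹, a'⁻²}`
  obtain ⟨a, ha, ha1, h1', h2⟩ := exists_not_mem_of_three_lt h 1 a'⁻¹ (a'⁻¹ * a'⁻¹)
  have h1 : a * a' ≠ 1 := fun e => h1' (eq_inv_of_mul_eq_one_left e)
  set y := fEl A B a
  set z := fEl A B (a * a')
  have hw0 : y⁻¹ * z ≠ 1 := by
    intro e
    exact ha'1 (mul_eq_left.1 (D.fEl_injective ha ha1 (mul_mem ha ha') h1 (inv_mul_eq_one.1 e)).symm)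
  obtain ⟨w, hw, hw1, he⟩ :=
    D.exists_preimage (mul_mem (inv_mem (D.fEl_mem ha ha1)) (D.fEl_mem (mul_mem ha ha') h1)) hw0
  obtain ⟨haw, hid⟩ := D.identity ha ha1 ha' h1 hw hw1 he
  set n := nEl A B a
  have hmod : ∀ {c : G}, c ∈ A → c ≠ 1 → fEl A B c = n⁻¹ * c * n := by
    intro c hc hc1
    have hH : n * (nEl A B c)⁻¹ ∈ rankOneDiagonal A B := D.hua_mem' ha ha1 hc hc1
    have e0 : Commute c (n * (nEl A B c)⁻¹) :=
      commutatorElement_eq_one_iff_commute.1 (mem_bot.1 (hbot ▸ commutator_mem_commutator hc hH))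
    calc fEl A B c = (nEl A B c)⁻¹ * c * nEl A B c := (D.nEl_inv_conj_self hc hc1).symm
      _ = n⁻¹ * ((n * (nEl A B c)⁻¹) * c * (n * (nEl A B c)⁻¹)⁻¹) * n := by group
      _ = n⁻¹ * c * n := by rw [e0.symm.eq, mul_inv_cancel_right]
  rw [hmod (mul_mem ha hw) haw] at hid
  have hx1 : a * w = a'⁻¹ := mul_left_cancel (mul_right_cancel hid)
  rw [hmod hw hw1, hmod ha ha1, hmod (mul_mem ha ha') h1] at he
  have hx2 : w = a' := by
    refine mul_left_cancel (mul_right_cancel (he.trans ?_) : n⁻¹ * w = n⁻¹ * a')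
    group
  rw [hx2] at hx1
  exact h2 (calc a = (a * a') * a'⁻¹ := by group
    _ = a'⁻¹ * a'⁻¹ := by rw [hx1])

theorem commutator_diagonal_eq (h : 3 < ENat.card A) : ⁅A, rankOneDiagonal A B⁆ = A := by
  refine le_antisymm commutator_diagonal_le ?_
  obtain ⟨a', ha', ha'1⟩ := (Subgroup.bot_or_exists_ne_one _).resolve_left (D.diagonal_not_trivial h)
  exact D.eq_of_trivial_mod commutator_diagonal_le le_rfl ha' ha'1

theorem le_commutator_sup (h : 3 < ENat.card A) : A ⊔ B ≤ ⁅A ⊔ B, A ⊔ B⁆ := by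
  have hA : A ≤ ⁅A ⊔ B, A ⊔ B⁆ := by
    conv_lhs => rw [← D.commutator_diagonal_eq h]
    exact commutator_mono le_sup_left (inf_le_left.trans inf_le_left)
  refine sup_le hA ?_
  obtain ⟨a, ha, ha1⟩ := (Subgroup.bot_or_exists_ne_one A).resolve_left (ne_bot_left D.pair)
  refine (D.conjBy_nEl_left ha ha1).ge.trans ((conjBy_mono hA _).trans ?_)
  have hm : conjBy (A ⊔ B) (nEl A B a) ≤ A ⊔ B := conjBy_le_of_mem le_rfl (D.nEl_mem ha ha1)
  show (⁅A ⊔ B, A ⊔ B⁆ : Subgroup G).map _ ≤ _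
  rw [map_commutator]
  exact commutator_mono hm hm

omit D in
/-- Division: `f(a ^ (m+1)) ^ (m+1) = f(a)`. -/
theorem fEl_pow : ∀ (m : ℕ) {A B : Subgroup G}, Data A B → ∀ {a : G}, a ∈ A → a ^ (m + 1) ≠ 1 →
    fEl A B (a ^ (m + 1)) ^ (m + 1) = fEl A B a := by
  intro m
  induction m with
  | zero => intro A B _ a _ _; rw [zero_add, pow_one, pow_one]
  | succ m ih =>
    intro A B D a ha hk1
    set k := m + 1 with hk
    have ha1 : a ≠ 1 := fun e => hk1 (by rw [e, one_pow])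
    set n := nEl A B a with hn
    have hnk : n⁻¹ * a ^ k * n = fEl A B a ^ k := by
      have h := conj_pow (i := k) (a := n⁻¹) (b := a)
      rw [inv_inv] at h
      rw [← h, D.nEl_inv_conj_self ha ha1]
    by_cases hak : a ^ k = 1
    · have e : a ^ (k + 1) = a := by rw [pow_succ, hak, one_mul]
      rw [e, pow_succ, ← hnk, hak]
      group
    have h1 : a * a ^ k ≠ 1 := by rw [← pow_succ']; exact hk1
    set y := fEl A B a
    set z := fEl A B (a * a ^ k) with hz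
    have hw0 : y⁻¹ * z ≠ 1 := by
      intro e
      exact hak (mul_eq_left.1 (D.fEl_injective ha ha1 (mul_mem ha (pow_mem ha k)) h1 (inv_mul_eq_one.1 e)).symm)
    obtain ⟨w, hw, hw1, he⟩ :=
      D.exists_preimage (mul_mem (inv_mem (D.fEl_mem ha ha1)) (D.fEl_mem (mul_mem ha (pow_mem ha k)) h1)) hw0
    obtain ⟨haw, hid⟩ := D.identity ha ha1 (pow_mem ha k) h1 hw hw1 he
    have hyk : y⁻¹ ^ k ≠ 1 := by
      rw [inv_pow, inv_ne_one, ← hnk]
      intro e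
      exact hak (by
        calc a ^ k = n * (n⁻¹ * a ^ k * n) * n⁻¹ := by group
          _ = 1 := by rw [e, mul_one, mul_inv_cancel])
    have hid' : fEl A B (a * w) = y⁻¹ ^ k := by rw [hid, inv_pow, ← hnk]; group; rfl
    have hg := ih D.swap (inv_mem (D.fEl_mem ha ha1)) hyk
    rw [← hid', D.fEl_swap (mul_mem ha hw) haw, ← D.fEl_inv ha ha1, D.fEl_swap (inv_mem ha) (inv_ne_one.2 ha1)] at hg
    have hwk : w ^ k = (a ^ (k + 1))⁻¹ := by
      rw [(D.commuteA ha hw).mul_pow] at hg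
      rw [show a ^ (k + 1) = a * a ^ k from pow_succ' a k, mul_inv_rev, ← hg]
      have hc : Commute (a ^ k)⁻¹ (a ^ k * w ^ k) :=
        D.commuteA (inv_mem (pow_mem ha k)) (mul_mem (pow_mem ha k) (pow_mem hw k))
      rw [hc.eq]
      rw [((D.commuteA (pow_mem ha k) (pow_mem hw k))).eq, mul_inv_cancel_right]
    have hwk1 : w ^ k ≠ 1 := by rw [hwk]; exact inv_ne_one.2 hk1
    have hf := ih D hw hwk1
    rw [hwk, D.fEl_inv (pow_mem ha (k + 1)) hk1, he, inv_pow, ← pow_succ'] at hf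
    set F := fEl A B (a ^ (k + 1))
    have hcomm : Commute F y := by
      have := D.commB
      exact congrArg Subtype.val (IsMulCommutative.is_comm.comm
        (⟨F, D.fEl_mem (pow_mem ha (k + 1)) hk1⟩ : B) ⟨y, D.fEl_mem ha ha1⟩)
    calc F ^ (k + 1) = F * ((F ^ k)⁻¹)⁻¹ := by rw [inv_inv, pow_succ']
      _ = F * (y⁻¹ * F)⁻¹ := by rw [hf]
      _ = y := by group

/-- `A` is elementary abelian, or torsion free and divisible. -/
theorem elementary_or_divisible :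
    (∃ p : ℕ, p.Prime ∧ IsElementaryAbelian p A) ∨
    ((∀ a ∈ A, a ≠ 1 → ¬ IsOfFinOrder a) ∧ ∀ a ∈ A, ∀ n : ℕ, 0 < n → ∃ c ∈ A, c ^ n = a) := by
  by_cases htor : ∀ a ∈ A, a ≠ 1 → ¬ IsOfFinOrder a
  · refine Or.inr ⟨htor, fun c hc n hn => ?_⟩
    by_cases hc1 : c = 1
    · exact ⟨1, one_mem _, by rw [hc1, one_pow]⟩
    obtain ⟨m, rfl⟩ : ∃ m, n = m + 1 := ⟨n - 1, by omega⟩
    have hb := D.fEl_mem hc hc1
    have hb1 : fEl A B c ^ (m + 1) ≠ 1 := by
      intro e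
      have h := D.nEl_conj_fEl hc hc1
      have h2 : IsOfFinOrder c := by
        rw [← h, isOfFinOrder_iff_pow_eq_one]
        exact ⟨m + 1, Nat.succ_pos m, by rw [conj_pow, e, mul_one, mul_inv_cancel]⟩
      exact htor c hc hc1 h2
    refine ⟨fEl B A (fEl A B c ^ (m + 1)), D.swap.fEl_mem (pow_mem hb _) hb1, ?_⟩
    rw [fEl_pow m D.swap hb hb1, D.fEl_swap hc hc1]
  · push Not at htor
    obtain ⟨a₀, ha₀, ha₀1, hfin⟩ := htor
    set p := (orderOf a₀).minFac with hp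
    have hpp : p.Prime := Nat.minFac_prime (by rwa [Ne, orderOf_eq_one_iff])
    obtain ⟨k, hk⟩ := Nat.minFac_dvd (orderOf a₀)
    set a := a₀ ^ k with hadef
    have hk0 : 0 < k := Nat.pos_of_ne_zero fun e => hfin.orderOf_pos.ne' (by rw [hk, e, mul_zero])
    have ha : a ∈ A := pow_mem ha₀ k
    have ha1 : a ≠ 1 := fun e => by
      have h1 := orderOf_dvd_of_pow_eq_one e
      rw [hk] at h1
      have h2 := Nat.le_of_dvd hk0 h1
      have h3 : 2 * k ≤ (orderOf a₀).minFac * k := Nat.mul_le_mul_right k hpp.two_le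
      omega
    have hap : a ^ p = 1 := by rw [hadef, ← pow_mul, mul_comm, ← hk, pow_orderOf_eq_one]
    refine Or.inl ⟨p, hpp, D.commA, fun c hc => ?_⟩
    by_contra hcp
    obtain ⟨m, hm⟩ : ∃ m, p = m + 1 := ⟨p - 1, by have := hpp.pos; omega⟩
    have e1 : (a * c) ^ p = c ^ p := by rw [(D.commuteA ha hc).mul_pow, hap, one_mul]
    have h1 : fEl A B c = fEl A B (a * c) := by
      rw [← fEl_pow m D hc (hm ▸ hcp), ← fEl_pow m D (mul_mem ha hc) (hm ▸ e1.symm ▸ hcp), ← hm, e1]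
    exact ha1 (mul_eq_right.1 (D.fEl_injective hc (fun e => hcp (by rw [e, one_pow])) (mul_mem ha hc)
      (fun e => hcp (by rw [← e1, e, one_pow])) h1).symm)

end Data

end CfsgLib.ThreeTrans.Special
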