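import Cfsg.Agent.Lib.ThreeTrans.RootIncomparable

set_option autoImplicit false

/-!
Chains of two commutator cases generate nilpotent groups (owner: helper28).
-/

namespace CfsgLib.ThreeTrans.Root

open Cfsg Subgroup CfsgLib.ThreeTrans
open scoped commutatorElement

variable {G : Type*} [Group G]

/-- Commutators of generators bound the commutator of the generated groups. -/
theorem commutator_closure_le {s t : Set G} {N : Subgroup G}
    (hs : ∀ g ∈ s, g ∈ normalizer (N : Set G)) (ht : ∀ g ∈ t, g ∈ normalizer (N : Set G))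
    (h : ∀ x ∈ s, ∀ y ∈ t, ⁅x, y⁆ ∈ N) : ⁅closure s, closure t⁆ ≤ N := by
  have hsn : closure s ≤ normalizer (N : Set G) := (closure_le _).2 hs
  have htn : closure t ≤ normalizer (N : Set G) := (closure_le _).2 ht
  have h1 : ∀ x ∈ s, ∀ y ∈ closure t, ⁅x, y⁆ ∈ N := by
    intro x hx y hy
    induction hy using Subgroup.closure_induction with
    | mem y hy => exact h x hx y hy
    | one => rw [commutatorElement_one_right]; exact one_mem N
    | mul y z hy _ ihy ihz =>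
      rw [show ⁅x, y * z⁆ = ⁅x, y⁆ * (y * ⁅x, z⁆ * y⁻¹) by simp only [commutatorElement_def]; group]
      exact mul_mem ihy ((mem_normalizer_iff.1 (htn hy) _).1 ihz)
    | inv y hy ihy =>
      rw [show ⁅x, y⁻¹⁆ = y⁻¹ * ⁅x, y⁆⁻¹ * y⁻¹⁻¹ by simp only [commutatorElement_def]; group]
      exact (mem_normalizer_iff.1 (htn (inv_mem hy)) _).1 (inv_mem ihy)
  refine commutator_le.2 fun x hx y hy => ?_
  induction hx using Subgroup.closure_induction with
  | mem x hx => exact h1 x hx y hy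
  | one => rw [commutatorElement_one_left]; exact one_mem N
  | mul x z hx _ ihx ihz =>
    rw [show ⁅x * z, y⁆ = (x * ⁅z, y⁆ * x⁻¹) * ⁅x, y⁆ by simp only [commutatorElement_def]; group]
    exact mul_mem ((mem_normalizer_iff.1 (hsn hx) _).1 ihz) ihx
  | inv x hx ihx =>
    rw [show ⁅x⁻¹, y⁆ = x⁻¹ * ⁅x, y⁆⁻¹ * x⁻¹⁻¹ by simp only [commutatorElement_def]; group]
    exact (mem_normalizer_iff.1 (hsn (inv_mem hx)) _).1 (inv_mem ihx)

theorem commutator_sup_le {P Q U V N : Subgroup G} (hP : P ≤ normalizer (N : Set G))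
    (hQ : Q ≤ normalizer (N : Set G)) (hU : U ≤ normalizer (N : Set G)) (hV : V ≤ normalizer (N : Set G))
    (h1 : ⁅P, U⁆ ≤ N) (h2 : ⁅P, V⁆ ≤ N) (h3 : ⁅Q, U⁆ ≤ N) (h4 : ⁅Q, V⁆ ≤ N) : ⁅P ⊔ Q, U ⊔ V⁆ ≤ N := by
  rw [Subgroup.sup_eq_closure, Subgroup.sup_eq_closure]
  refine commutator_closure_le (fun g hg => hg.elim (fun h => hP h) (fun h => hQ h))
    (fun g hg => hg.elim (fun h => hU h) (fun h => hV h)) ?_
  rintro x (hx | hx) y (hy | hy)
  exacts [h1 (commutator_mem_commutator hx hy), h2 (commutator_mem_commutator hx hy),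
    h3 (commutator_mem_commutator hx hy), h4 (commutator_mem_commutator hx hy)]

theorem le_normalizer_of_commutator_le {P N : Subgroup G} (h : ⁅N, P⁆ ≤ N) : P ≤ normalizer (N : Set G) := by
  intro p hp
  rw [mem_normalizer_iff]
  have h1 : ∀ q ∈ P, ∀ x ∈ N, q * x * q⁻¹ ∈ N := fun q hq x hx => by
    rw [show q * x * q⁻¹ = ⁅x, q⁆⁻¹ * x by rw [commutatorElement_def]; group]
    exact mul_mem (inv_mem (h (commutator_mem_commutator hx hq))) hx
  refine fun x => ⟨h1 p hp x, fun hx => ?_⟩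
  have := h1 p⁻¹ (inv_mem hp) _ hx
  simpa [mul_assoc] using this

theorem le_normalizer_of_commute {P N : Subgroup G} (h : P ≤ centralizer (N : Set G)) :
    P ≤ normalizer (N : Set G) :=
  h.trans (centralizer_le_normalizer (N : Set G))

/-- Nilpotency from a central series given inside the ambient group. -/
theorem nilpotent_of_series {R : Subgroup G} (K : ℕ → Subgroup G) (n : ℕ) (h0 : K 0 = ⊥) (hn : R ≤ K n)
    (hc : ∀ i, ⁅K (i + 1), R⁆ ≤ K i) : Group.IsNilpotent R := by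
  refine (Subgroup.nilpotent_iff_finite_ascending_central_series _).2 ⟨n, fun i => (K i).subgroupOf R, ⟨?_, ?_⟩, ?_⟩
  · show (K 0).subgroupOf R = ⊥
    rw [h0, bot_subgroupOf]
  · intro x i hx g
    exact hc i (commutator_mem_commutator hx g.2)
  · exact eq_top_iff.2 fun x _ => hn x.2

section Chain

variable {S : Set (Subgroup G)} (hS : IsRootSubgroupSet S) {A B C : Subgroup G}
  (hA : A ∈ S) (hB : B ∈ S) (hC : C ∈ S) (hAB : ⁅A, B⁆ ∈ S) (hBC : ⁅B, C⁆ ∈ S) (hAC : ⁅A, C⁆ = ⊥)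
include hS hA hB hC hAB hBC hAC

theorem case_AF : ⁅A, ⁅B, C⁆⁆ = ⊥ ∨ RootCommutatorCase S A ⁅B, C⁆ := by
  rcases hS.pair A hA _ hBC with h | h | h
  · exact Or.inl h
  swap
  · exact Or.inr h
  exfalso
  set E := ⁅A, B⁆
  set F := ⁅B, C⁆ with hFdef
  have hcA := rootCase_of_mem hS hA hB hAB
  have hcB := rootCase_of_mem hS hB hC hBC
  -- the line `A ⊔ E` gives `⁅E, F⁆ ∈ S`
  have hAF := h
  have hline : E ∈ linePartners S A := commutator_linePartner hS hA hBC hAF hB hAB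
  -- exclude a rank one pair `(C, E)`
  have hCA : ∀ c ∈ C, ∀ a ∈ A, Commute c a := fun c hc a ha => (commute_of_commutator_eq_bot hAC ha hc).symm
  have hCF : ∀ c ∈ C, ∀ f ∈ F, Commute c f := fun c hc f hf => (hcB.2.1 f hf c (mem_sup_right hc)).symm
  have hBfix : ∀ x ∈ B, conjBy F x = F := fun x hx => conjBy_eq_self_iff.2
    (mem_normalizer_of_commute fun f hf => (hcB.2.1 f hf x (mem_sup_left hx)).symm)
  rcases hS.pair C hC E hAB with hCE | hCE | hCE
  case inr.inl =>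
    obtain ⟨W, hW, -, -, hcase, -⟩ := exists_commutator_in_line hS hA hBC hAF hline ⟨C, hC, RankOnePair_symm hCE⟩
    rw [membersIn_eq hS hA hBC hAF hB hAB] at hW
    rcases hW with ⟨x, hx, rfl⟩ | rfl
    · have hr' : IsRankOnePair (conjBy A x) F := by
        have := conjBy_rankOne hAF x
        rwa [hBfix x hx] at this
      exact not_central_of_rankOne hr' fun u hu v hv => hcase.2.1 u hu v (mem_sup_right hv)
    have hEA : ⁅A, E⁆ = ⊥ := hline.1.2.2
    have hE : E ∈ membersIn S (A ⊔ E) := ⟨hAB, le_sup_right⟩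
    have hpl := plane_of_line hS hA hBC hAF hline hE hEA ⟨C, hC, RankOnePair_symm hCE⟩ hcase
    have hBC' : ⁅C, B⁆ = F := commutator_comm C B
    have hline' : F ∈ linePartners S C := hBC' ▸ commutator_linePartner hS hC hAB hCE hB (hBC'.symm ▸ hBC)
    have hpl' := plane_of_line hS hC hAB hCE hline' (⟨hBC, le_sup_right⟩ : F ∈ membersIn S (C ⊔ F))
      hline'.1.2.2 ⟨A, hA, RankOnePair_symm hAF⟩ (rootCase_of_mem hS hBC hAB (by rw [commutator_comm]; exact hcase.1))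
    -- conjugating `(C, E)` to `(C, ⁅E, F⁆)`
    have horb : ⁅E, F⁆ ∈ {W | ∃ x ∈ F ⊔ A, W = conjBy E x} := by
      rw [hpl.orbit_of_A hS]; exact Or.inr rfl
    obtain ⟨x, hx, e⟩ := horb
    have hxC : conjBy C x = C := by
      refine conjBy_eq_self_iff.2 (mem_normalizer_of_commute fun c hc => ?_)
      have hle : F ⊔ A ≤ centralizer ({c} : Set G) := sup_le
        (fun f hf => mem_centralizer_singleton_iff.2 (hCF c hc f hf).symm)
        (fun a ha => mem_centralizer_singleton_iff.2 (hCA c hc a ha).symm)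
      exact mem_centralizer_singleton_iff.1 (hle hx)
    have hr' : IsRankOnePair C ⁅E, F⁆ := by
      have := conjBy_rankOne hCE x
      rwa [hxC, ← e] at this
    have hLC : ⁅C, ⁅E, F⁆⁆ ∈ S := by
      rw [commutator_comm, commutator_comm E F, hpl'.eqA]
      exact hBC
    exact not_central_of_rankOne hr' fun u hu v hv =>
      (rootCase_of_mem hS hC hpl.memC hLC).2.1 u hu v (mem_sup_right hv)
  all_goals
    obtain ⟨a, ha, ha1⟩ := (Subgroup.bot_or_exists_ne_one A).resolve_left (ne_bot_left hAF)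
    obtain ⟨b, hb, hb1⟩ := (Subgroup.bot_or_exists_ne_one B).resolve_left (hS.ne_bot B hB)
    obtain ⟨c, hc, hf1⟩ : ∃ c ∈ C, b * c * b⁻¹ * c⁻¹ ≠ 1 := by
      by_contra hno
      push Not at hno
      refine hS.ne_bot F hBC ?_
      rw [hFdef, ← hcB.2.2.1 b hb hb1, closure_eq_bot_iff]
      rintro _ ⟨c', hc', rfl⟩
      exact hno c' hc'
    have hf : b * c * b⁻¹ * c⁻¹ ∈ F := commutator_mem_commutator hb hc
    -- `E` commutes with its conjugate under `c`
    have hEc : ∀ y ∈ E, ∀ y' ∈ E, Commute (c * y * c⁻¹) y' := by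
      intro y hy y' hy'
      have := hS.commutative E hAB
      have hyy : Commute y y' := congrArg Subtype.val (IsMulCommutative.is_comm.comm (⟨y, hy⟩ : E) ⟨y', hy'⟩)
      first
        | (rw [show c * y = y * c from commute_of_commutator_eq_bot hCE hc hy, mul_inv_cancel_right]; exact hyy)
        | (rw [show c * y * c⁻¹ = ⁅c, y⁆ * y by rw [commutatorElement_def]; group]
           exact Commute.mul_left (hCE.2.1 _ (commutator_mem_commutator hc hy) y' (mem_sup_right hy')) hyy)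
    have hEm : ∀ x ∈ A, ⁅x⁻¹, b⁻¹⁆ ∈ E := fun x hx => commutator_mem_commutator (inv_mem hx) (inv_mem hb)
    set e₁ := ⁅a⁻¹, b⁻¹⁆ with he₁def
    have he₁ : e₁ ∈ E := hEm a ha
    have hae : Commute a e₁ := (hcA.2.1 e₁ he₁ a (mem_sup_left ha)).symm
    have hace : Commute (c * e₁ * c⁻¹) a := by
      have h1 : Commute (c * e₁ * c⁻¹) (c * a * c⁻¹) := hae.symm.map (MulAut.conj c).toMonoidHom
      rwa [(hCA c hc a ha).eq, mul_inv_cancel_right] at h1
    have e1 : a = b * (a * e₁) * b⁻¹ := by rw [he₁def, commutatorElement_def]; group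
    have e2 : (b * c * b⁻¹ * c⁻¹) * a * (b * c * b⁻¹ * c⁻¹)⁻¹ = b * (a * (c * e₁ * c⁻¹)) * b⁻¹ := by
      have q : c⁻¹ * a * c = a := by rw [mul_assoc, ← (hCA c hc a ha).eq, inv_mul_cancel_left]
      calc (b * c * b⁻¹ * c⁻¹) * a * (b * c * b⁻¹ * c⁻¹)⁻¹ = b * c * (b⁻¹ * (c⁻¹ * a * c) * b) * c⁻¹ * b⁻¹ := by group
        _ = b * ((c * a * c⁻¹) * (c * e₁ * c⁻¹)) * b⁻¹ := by rw [q, he₁def, commutatorElement_def]; group
        _ = _ := by rw [(hCA c hc a ha).eq, mul_inv_cancel_right]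
    refine hf1 (eq_one_of_conj_commute (RankOnePair_symm hAF) hf ha ha1 ?_)
    rw [e2]
    nth_rw 2 [e1]
    nth_rw 3 [e1]
    exact (((Commute.refl a).mul_right hae).mul_left (hace.mul_right (hEc e₁ he₁ e₁ he₁))).map (MulAut.conj b).toMonoidHom

omit hS hA hB hC in
theorem swap_hyps : ⁅C, B⁆ ∈ S ∧ ⁅B, A⁆ ∈ S ∧ ⁅C, A⁆ = ⊥ := by
  refine ⟨?_, ?_, ?_⟩ <;> rw [commutator_comm] <;> assumption

theorem facts {b : G} (hb : b ∈ B) (hb1 : b ≠ 1) :
    (⁅A, conjBy A b⁻¹⁆ = ⊥ ∧ ⁅C, conjBy C b⁻¹⁆ = ⊥ ∧ ⁅conjBy C b⁻¹, conjBy A b⁻¹⁆ = ⊥) ∧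
      (conjBy A b⁻¹ ≤ A ⊔ ⁅A, B⁆ ∧ conjBy C b⁻¹ ≤ C ⊔ ⁅B, C⁆ ∧
        ⁅A, B⁆ ≤ A ⊔ conjBy A b⁻¹ ∧ ⁅B, C⁆ ≤ conjBy C b⁻¹ ⊔ C) ∧
      ⁅A, conjBy C b⁻¹⁆ = ⁅A, ⁅B, C⁆⁆ ∧ A ≤ centralizer ((⁅A, ⁅B, C⁆⁆ : Subgroup G) : Set G) ∧
      C ≤ centralizer ((⁅A, ⁅B, C⁆⁆ : Subgroup G) : Set G) ∧
      ⁅B, C⁆ ≤ centralizer ((⁅A, ⁅B, C⁆⁆ : Subgroup G) : Set G) ∧
      ⁅A, B⁆ ≤ centralizer ((⁅A, ⁅B, C⁆⁆ : Subgroup G) : Set G) := by
  have hcA := rootCase_of_mem hS hA hB hAB
  have hcB := rootCase_of_mem hS hB hC hBC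
  set A' := conjBy A b⁻¹ with hA'def
  set C' := conjBy C b⁻¹ with hC'def
  set E := ⁅A, B⁆ with hEdef
  set F := ⁅B, C⁆ with hFdef
  set Z := ⁅A, F⁆ with hZdef
  have hb' : b⁻¹ ∈ B := inv_mem hb
  have hA' : A' ≤ A ⊔ E := by
    rintro _ ⟨a, ha, rfl⟩
    show b⁻¹ * a * b⁻¹⁻¹ ∈ A ⊔ E
    rw [show b⁻¹ * a * b⁻¹⁻¹ = a * ⁅a⁻¹, b⁻¹⁆ by rw [commutatorElement_def]; group]
    exact mul_mem (mem_sup_left ha) (mem_sup_right (commutator_mem_commutator (inv_mem ha) hb'))
  have hC' : C' ≤ C ⊔ F := by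
    rintro _ ⟨c, hc, rfl⟩
    show b⁻¹ * c * b⁻¹⁻¹ ∈ C ⊔ F
    rw [show b⁻¹ * c * b⁻¹⁻¹ = ⁅b⁻¹, c⁆ * c by rw [commutatorElement_def]; group]
    exact mul_mem (mem_sup_right (commutator_mem_commutator hb' hc)) (mem_sup_left hc)
  have hE : E ≤ A ⊔ A' := by
    rw [hEdef, ← hcA.2.2.2 b⁻¹ hb' (inv_ne_one.2 hb1), closure_le]
    rintro _ ⟨a, ha, rfl⟩
    show a * b⁻¹ * a⁻¹ * b⁻¹⁻¹ ∈ A ⊔ A'
    rw [show a * b⁻¹ * a⁻¹ * b⁻¹⁻¹ = a * (b⁻¹ * a⁻¹ * b⁻¹⁻¹) by group]
    exact mul_mem (mem_sup_left ha) (mem_sup_right (conj_mem_conjBy (inv_mem ha)))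
  have hF : F ≤ C' ⊔ C := by
    rw [hFdef, ← hcB.2.2.1 b⁻¹ hb' (inv_ne_one.2 hb1), closure_le]
    rintro _ ⟨c, hc, rfl⟩
    exact mul_mem (mem_sup_left (conj_mem_conjBy hc)) (mem_sup_right (inv_mem hc))
  have hAselfc : A ≤ centralizer (A : Set G) := commutator_eq_bot_iff_le_centralizer.1 (commute_self hS hA)
  have hAA' : ⁅A, A'⁆ = ⊥ := by
    rw [commutator_comm, commutator_eq_bot_iff_le_centralizer]
    exact hA'.trans (sup_le hAselfc fun e he => mem_centralizer_iff.2 fun x hx =>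
      (hcA.2.1 e he x (mem_sup_left hx)).symm)
  have hCC' : ⁅C, C'⁆ = ⊥ := by
    rw [commutator_comm, commutator_eq_bot_iff_le_centralizer]
    exact hC'.trans (sup_le (commutator_eq_bot_iff_le_centralizer.1 (commute_self hS hC))
      fun e he => mem_centralizer_iff.2 fun x hx => (hcB.2.1 e he x (mem_sup_right hx)).symm)
  have hC'A' : ⁅C', A'⁆ = ⊥ := commute_conjBy (by rw [commutator_comm]; exact hAC) _
  have hAF : A ≤ centralizer (Z : Set G) ∧ F ≤ centralizer (Z : Set G) := by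
    rcases case_AF hS hA hB hC hAB hBC hAC with h | h
    · have hz : ∀ P : Subgroup G, P ≤ centralizer (Z : Set G) := fun P x _ =>
        mem_centralizer_iff.2 fun g hg => by
          have : g ∈ (⊥ : Subgroup G) := h ▸ hg
          rw [mem_bot.1 this, one_mul, mul_one]
      exact ⟨hz A, hz F⟩
    · exact ⟨fun x hx => mem_centralizer_iff.2 fun g hg => h.2.1 g hg x (mem_sup_left hx),
        fun x hx => mem_centralizer_iff.2 fun g hg => h.2.1 g hg x (mem_sup_right hx)⟩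
  have hZle : ∀ {D : Subgroup G}, A ≤ D → F ≤ D → Z ≤ D := fun {D} h1 h2 =>
    (commutator_mono h1 h2).trans (commutator_le_self D)
  have hCZ : C ≤ centralizer (Z : Set G) := by
    rw [← commutator_eq_bot_iff_le_centralizer, commutator_comm, commutator_eq_bot_iff_le_centralizer]
    exact hZle (commutator_eq_bot_iff_le_centralizer.1 hAC) fun f hf =>
      mem_centralizer_iff.2 fun x hx => (hcB.2.1 f hf x (mem_sup_right hx)).symm
  have hnAC : ∀ P ≤ A ⊔ C', P ≤ normalizer ((A ⊔ C' : Subgroup G) : Set G) := fun P hP => hP.trans le_normalizer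
  have hCn : C ≤ normalizer ((A ⊔ C' : Subgroup G) : Set G) := by
    refine le_normalizer_of_commute (commutator_eq_bot_iff_le_centralizer.1 ?_)
    rw [commutator_comm, commutator_eq_bot_iff_le_centralizer]
    exact sup_le (commutator_eq_bot_iff_le_centralizer.1 hAC)
      (commutator_eq_bot_iff_le_centralizer.1 (by rw [commutator_comm]; exact hCC'))
  have hZX : Z ≤ A ⊔ C' := by
    refine (commutator_mono (le_refl A) hF).trans ?_
    have h := commutator_sup_le (P := A) (Q := A) (U := C') (V := C) (hnAC A le_sup_left) (hnAC A le_sup_left)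
      (hnAC C' le_sup_right) hCn ((commutator_mono le_sup_left le_sup_right).trans (commutator_le_self _))
      (hAC.trans_le bot_le) ((commutator_mono le_sup_left le_sup_right).trans (commutator_le_self _))
      (hAC.trans_le bot_le)
    rwa [sup_idem] at h
  have hEZ : E ≤ centralizer (Z : Set G) := by
    refine hE.trans (sup_le hAF.1 ?_)
    rw [← commutator_eq_bot_iff_le_centralizer, commutator_comm, commutator_eq_bot_iff_le_centralizer]
    exact hZX.trans (sup_le (commutator_eq_bot_iff_le_centralizer.1 hAA')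
      (commutator_eq_bot_iff_le_centralizer.1 hC'A'))
  refine ⟨⟨hAA', hCC', hC'A'⟩, ⟨hA', hC', hE, hF⟩, le_antisymm ?_ ?_, hAF.1, hCZ, hAF.2, hEZ⟩
  · refine (commutator_mono (le_refl A) hC').trans ?_
    have h := commutator_sup_le (N := Z) (P := A) (Q := A) (U := C) (V := F) (le_normalizer_of_commute hAF.1)
      (le_normalizer_of_commute hAF.1) (le_normalizer_of_commute hCZ) (le_normalizer_of_commute hAF.2)
      (hAC.trans_le bot_le) le_rfl (hAC.trans_le bot_le) le_rfl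
    rwa [sup_idem] at h
  · refine (commutator_mono (le_refl A) hF).trans ?_
    have hX : ⁅A, C'⁆ ≤ Z := by
      refine (commutator_mono (le_refl A) hC').trans ?_
      have h := commutator_sup_le (N := Z) (P := A) (Q := A) (U := C) (V := F) (le_normalizer_of_commute hAF.1)
        (le_normalizer_of_commute hAF.1) (le_normalizer_of_commute hCZ) (le_normalizer_of_commute hAF.2)
        (hAC.trans_le bot_le) le_rfl (hAC.trans_le bot_le) le_rfl
      rwa [sup_idem] at h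
    have hcen : ∀ P : Subgroup G, P ≤ centralizer (Z : Set G) → P ≤ normalizer ((⁅A, C'⁆ : Subgroup G) : Set G) :=
      fun P hP => le_normalizer_of_commute (hP.trans (centralizer_le hX))
    have hC'Z : C' ≤ centralizer (Z : Set G) := hC'.trans (sup_le hCZ hAF.2)
    have h := commutator_sup_le (N := ⁅A, C'⁆) (P := A) (Q := A) (U := C') (V := C) (hcen A hAF.1)
      (hcen A hAF.1) (hcen C' hC'Z) (hcen C hCZ) le_rfl (hAC.trans_le bot_le) le_rfl (hAC.trans_le bot_le)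
    rwa [sup_idem] at h

theorem class_two {b : G} (hb : b ∈ B) (hb1 : b ≠ 1) :
    (IsMulCommutative ↥(A ⊔ conjBy C b⁻¹) ↔ ⁅A, ⁅B, C⁆⁆ = ⊥) ∧
      ⁅⁅A ⊔ conjBy C b⁻¹, A ⊔ conjBy C b⁻¹⁆, A ⊔ conjBy C b⁻¹⁆ = ⊥ := by
  obtain ⟨-, ⟨-, hC', -, -⟩, hX, pA, pC, pF, -⟩ := facts hS hA hB hC hAB hBC hAC hb hb1
  set C' := conjBy C b⁻¹
  set Z := ⁅A, ⁅B, C⁆⁆
  have pX : A ⊔ C' ≤ centralizer (Z : Set G) := sup_le pA (hC'.trans (sup_le pC pF))
  have pn : A ⊔ C' ≤ normalizer (Z : Set G) := le_normalizer_of_commute pX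
  have hle : ⁅A ⊔ C', A ⊔ C'⁆ ≤ Z :=
    commutator_sup_le (le_sup_left.trans pn) (le_sup_right.trans pn) (le_sup_left.trans pn) (le_sup_right.trans pn)
      ((commute_self hS hA).trans_le bot_le) hX.le (by rw [commutator_comm]; exact hX.le)
      ((commute_self hS (hS.conj_mem C hC _)).trans_le bot_le)
  refine ⟨⟨fun hcomm => ?_, fun h => ?_⟩, ?_⟩
  · rw [eq_bot_iff, ← hX]
    have := hcomm
    exact (commutator_mono le_sup_left le_sup_right).trans
      (commutator_eq_bot_iff_le_centralizer.2 (le_centralizer (A ⊔ C'))).le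
  · have h2 : A ⊔ C' ≤ centralizer ((A ⊔ C' : Subgroup G) : Set G) :=
      commutator_eq_bot_iff_le_centralizer.1 (eq_bot_iff.2 (hle.trans h.le))
    exact ⟨⟨fun x y => Subtype.ext (mem_centralizer_iff.1 (h2 y.2) x x.2)⟩⟩
  · refine eq_bot_iff.2 ((commutator_mono hle le_rfl).trans ?_)
    rw [commutator_comm, commutator_eq_bot_iff_le_centralizer.2 pX]

theorem chain {b : G} (hb : b ∈ B) (hb1 : b ≠ 1) :
    ((IsMulCommutative ↥(A ⊔ conjBy C b⁻¹) ∧ IsMulCommutative ↥(conjBy A b⁻¹ ⊔ C)) ∨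
      ((¬ IsMulCommutative ↥(A ⊔ conjBy C b⁻¹) ∧
          ⁅⁅A ⊔ conjBy C b⁻¹, A ⊔ conjBy C b⁻¹⁆, A ⊔ conjBy C b⁻¹⁆ = ⊥) ∧
        (¬ IsMulCommutative ↥(conjBy A b⁻¹ ⊔ C) ∧
          ⁅⁅conjBy A b⁻¹ ⊔ C, conjBy A b⁻¹ ⊔ C⁆, conjBy A b⁻¹ ⊔ C⁆ = ⊥))) ∧
    ⁅A ⊔ conjBy C b⁻¹, conjBy A b⁻¹ ⊔ C⁆ = ⊥ ∧
    (∀ r ∈ A ⊔ B ⊔ C, conjBy ((A ⊔ conjBy C b⁻¹) ⊔ (conjBy A b⁻¹ ⊔ C)) r =
      (A ⊔ conjBy C b⁻¹) ⊔ (conjBy A b⁻¹ ⊔ C)) ∧
    ((A ⊔ conjBy C b⁻¹) ⊔ (conjBy A b⁻¹ ⊔ C)) ⊔ B = A ⊔ B ⊔ C ∧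
    Group.IsNilpotent ↥(A ⊔ B ⊔ C) := by
  obtain ⟨hCB, hBA, hCA⟩ := swap_hyps hAB hBC hAC
  obtain ⟨⟨hAA', hCC', hC'A'⟩, ⟨hA', hC', hE, hF⟩, hX, pA, pC, pF, pE⟩ := facts hS hA hB hC hAB hBC hAC hb hb1
  obtain ⟨-, -, hX', qC, qA, qE, qF⟩ := facts hS hC hB hA hCB hBA hCA hb hb1
  rw [commutator_comm B A] at hX' qA qC qE qF
  rw [commutator_comm C B] at qF
  set A' := conjBy A b⁻¹ with hA'def
  set C' := conjBy C b⁻¹ with hC'def
  set E := ⁅A, B⁆ with hEdef
  set F := ⁅B, C⁆ with hFdef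
  set Z₁ := ⁅A, F⁆ with hZ₁def
  set Z₂ := ⁅C, E⁆ with hZ₂def
  have hcA := rootCase_of_mem hS hA hB hAB
  have hcB := rootCase_of_mem hS hB hC hBC
  -- the second group is a conjugate of one of the first kind
  have hY : A' ⊔ C = conjBy (A ⊔ conjBy C b⁻¹⁻¹) b⁻¹ := by
    show _ = (A ⊔ conjBy C b⁻¹⁻¹).map _
    rw [Subgroup.map_sup]
    show _ = A' ⊔ conjBy (conjBy C b⁻¹⁻¹) b⁻¹
    rw [conjBy_conjBy, mul_inv_cancel, conjBy_one]
  obtain ⟨x1, x2⟩ := class_two hS hA hB hC hAB hBC hAC hb hb1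
  obtain ⟨y1, y2⟩ := class_two hS hA hB hC hAB hBC hAC (inv_mem hb) (inv_ne_one.2 hb1)
  have y1' : IsMulCommutative ↥(A' ⊔ C) ↔ ⁅A, F⁆ = ⊥ := by
    rw [hY, ← y1]
    let φ := (A ⊔ conjBy C b⁻¹⁻¹).equivMapOfInjective (MulAut.conj b⁻¹).toMonoidHom (MulAut.conj b⁻¹).injective
    exact ⟨fun h => ⟨⟨fun u v => φ.injective (by rw [map_mul, map_mul]; exact h.is_comm.comm _ _)⟩⟩,
      fun h => ⟨⟨fun u v => φ.symm.injective (by rw [map_mul, map_mul]; exact h.is_comm.comm _ _)⟩⟩⟩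
  have y2' : ⁅⁅A' ⊔ C, A' ⊔ C⁆, A' ⊔ C⁆ = ⊥ := by
    rw [hY, commutator_conjBy, commutator_conjBy, y2]
    exact Subgroup.map_bot _
  refine ⟨?_, ?_, ?_⟩
  · by_cases hz : ⁅A, F⁆ = ⊥
    · exact Or.inl ⟨x1.2 hz, y1'.2 hz⟩
    · exact Or.inr ⟨⟨fun h => hz (x1.1 h), x2⟩, fun h => hz (y1'.1 h), y2'⟩
  · refine eq_bot_iff.2 (commutator_sup_le (N := ⊥) ?_ ?_ ?_ ?_ hAA'.le hAC.le hC'A'.le
      (by rw [commutator_comm]; exact hCC'.le))
    all_goals exact fun x _ => by rw [normalizer_eq_top]; exact mem_top x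
  set R := A ⊔ B ⊔ C with hR
  have hAR : A ≤ R := le_sup_left.trans le_sup_left
  have hBR : B ≤ R := le_sup_right.trans le_sup_left
  have hCR : C ≤ R := le_sup_right
  have hER : E ≤ R := (commutator_mono hAR hBR).trans (commutator_le_self R)
  have hFR : F ≤ R := (commutator_mono hBR hCR).trans (commutator_le_self R)
  -- the series
  set Z₀ := ⁅E, F⁆ with hZ₀def
  set Z := Z₁ ⊔ Z₂ with hZdef
  have centE : ∀ {P Q : Subgroup G}, P ≤ centralizer (Q : Set G) → ⁅Q, P⁆ = ⊥ := fun {P Q} h => by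
    rw [commutator_comm]; exact commutator_eq_bot_iff_le_centralizer.2 h
  have hZc : ∀ P : Subgroup G, P ≤ centralizer (Z₁ : Set G) → P ≤ centralizer (Z₂ : Set G) →
      P ≤ centralizer (Z : Set G) := fun P h1 h2 => by
    rw [← commutator_eq_bot_iff_le_centralizer, commutator_comm, commutator_eq_bot_iff_le_centralizer, hZdef]
    exact sup_le (commutator_eq_bot_iff_le_centralizer.1 (centE h1))
      (commutator_eq_bot_iff_le_centralizer.1 (centE h2))
  have cA := hZc A pA qA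
  have cC := hZc C pC qC
  have cE := hZc E pE qE
  have cF := hZc F pF qF
  have hBE : B ≤ centralizer (E : Set G) := fun x hx => mem_centralizer_iff.2 fun e he => hcA.2.1 e he x (mem_sup_right hx)
  have hBF : B ≤ centralizer (F : Set G) := fun x hx => mem_centralizer_iff.2 fun e he => hcB.2.1 e he x (mem_sup_left hx)
  have hAE : A ≤ centralizer (E : Set G) := fun x hx => mem_centralizer_iff.2 fun e he => hcA.2.1 e he x (mem_sup_left hx)
  have hCF : C ≤ centralizer (F : Set G) := fun x hx => mem_centralizer_iff.2 fun e he => hcB.2.1 e he x (mem_sup_right hx)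
  have hEFZ : Z₀ ≤ Z := by
    have cA' : A' ≤ centralizer (Z : Set G) := hA'.trans (sup_le cA cE)
    have cC' : C' ≤ centralizer (Z : Set G) := hC'.trans (sup_le cC cF)
    refine (commutator_mono hE hF).trans (commutator_sup_le (le_normalizer_of_commute cA)
      (le_normalizer_of_commute cA') (le_normalizer_of_commute cC') (le_normalizer_of_commute cC)
      (hX.trans_le le_sup_left) (hAC.trans_le bot_le) (by rw [commutator_comm]; exact hC'A'.trans_le bot_le) ?_)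
    refine (commutator_mono hA' (le_refl C)).trans ?_
    have h := commutator_sup_le (N := Z) (P := A) (Q := E) (U := C) (V := C) (le_normalizer_of_commute cA)
      (le_normalizer_of_commute cE) (le_normalizer_of_commute cC) (le_normalizer_of_commute cC)
      (hAC.trans_le bot_le) (hAC.trans_le bot_le) ((commutator_comm E C).trans_le le_sup_right)
      ((commutator_comm E C).trans_le le_sup_right)
    rwa [sup_idem] at h
  have hB0 : B ≤ centralizer (Z₀ : Set G) := by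
    rw [← commutator_eq_bot_iff_le_centralizer, commutator_comm, commutator_eq_bot_iff_le_centralizer]
    exact ((commutator_mono (commutator_eq_bot_iff_le_centralizer.1 (centE hBE))
      (commutator_eq_bot_iff_le_centralizer.1 (centE hBF))).trans (commutator_le_self _))
  have hR0 : R ≤ centralizer (Z₀ : Set G) :=
    sup_le (sup_le (cA.trans (centralizer_le hEFZ)) hB0) (cC.trans (centralizer_le hEFZ))
  have hR0n : R ≤ normalizer (Z₀ : Set G) := le_normalizer_of_commute hR0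
  have hZB : ⁅Z, B⁆ ≤ Z₀ := by
    have strong : ∀ {P Q W : Subgroup G}, ⁅P, Q⁆ ≤ Z → P ≤ centralizer (Z : Set G) → Q ≤ centralizer (Z : Set G) →
        W ≤ centralizer (Z : Set G) → P ≤ R → Q ≤ R → W ≤ R → B ≤ centralizer (Q : Set G) →
        (∀ a ∈ P, ∀ x ∈ B, ∃ w ∈ W, x * a * x⁻¹ = a * w) → ⁅W, Q⁆ ≤ Z₀ → ⁅⁅P, Q⁆, B⁆ ≤ Z₀ := by
      intro P Q W hPQ hP hQ hW hPR hQR hWR hBQ hPx hWQ
      rw [← Subgroup.closure_eq B]
      have hgen : (⁅P, Q⁆ : Subgroup G) = closure {g | ∃ p ∈ P, ∃ q ∈ Q, ⁅p, q⁆ = g} := commutator_def P Q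
      rw [hgen]
      refine commutator_closure_le ?_ (fun g hg => hR0n (hBR hg)) ?_
      · rintro _ ⟨p, hp, q, hq, rfl⟩
        exact hR0n ((commutator_mono hPR hQR).trans (commutator_le_self R) (commutator_mem_commutator hp hq))
      rintro _ ⟨p, hp, q, hq, rfl⟩ x hx
      obtain ⟨w, hw, e⟩ := hPx p hp x hx
      have eq1 : x * ⁅p, q⁆ * x⁻¹ = ⁅p * w, q⁆ := by
        have : x * q * x⁻¹ = q := by rw [← mem_centralizer_iff.1 (hBQ hx) q hq, mul_inv_cancel_right]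
        rw [show x * ⁅p, q⁆ * x⁻¹ = ⁅x * p * x⁻¹, x * q * x⁻¹⁆ by simp only [commutatorElement_def]; group, e, this]
      have hw0 : ⁅w, q⁆ ∈ Z₀ := hWQ (commutator_mem_commutator hw hq)
      have eq2 : ⁅p * w, q⁆ = ⁅w, q⁆ * ⁅p, q⁆ := by
        rw [show ⁅p * w, q⁆ = p * ⁅w, q⁆ * p⁻¹ * ⁅p, q⁆ by simp only [commutatorElement_def]; group,
          ← mem_centralizer_iff.1 (hR0 (hPR hp)) _ hw0, mul_inv_cancel_right]
      rw [show ⁅⁅p, q⁆, x⁆ = ⁅p, q⁆ * (x * ⁅p, q⁆ * x⁻¹)⁻¹ by simp only [commutatorElement_def]; group, eq1, eq2,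
        mul_inv_rev, mul_inv_cancel_left]
      exact inv_mem hw0
    have s1 : ⁅Z₁, B⁆ ≤ Z₀ := strong (P := A) (Q := F) (W := E) le_sup_left cA cF cE hAR hFR hER hBF
      (fun a ha x hx => ⟨⁅a⁻¹, x⁆, commutator_mem_commutator (inv_mem ha) hx, by rw [commutatorElement_def]; group⟩)
      le_rfl
    have s2 : ⁅Z₂, B⁆ ≤ Z₀ := strong (P := C) (Q := E) (W := F) le_sup_right cC cE cF hCR hER hFR hBE
      (fun a ha x hx => ⟨⁅a⁻¹, x⁆, by rw [hFdef, commutator_comm]; exact commutator_mem_commutator (inv_mem ha) hx,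
        by rw [commutatorElement_def]; group⟩)
      (commutator_comm F E).le
    have hn : ∀ {P : Subgroup G}, P ≤ R → P ≤ normalizer (Z₀ : Set G) := fun h => h.trans hR0n
    have hZR : ∀ {P Q : Subgroup G}, P ≤ R → Q ≤ R → ⁅P, Q⁆ ≤ R := fun h h' =>
      (commutator_mono h h').trans (commutator_le_self R)
    have h := commutator_sup_le (P := Z₁) (Q := Z₂) (U := B) (V := B) (hn (hZR hAR hFR)) (hn (hZR hCR hER)) (hn hBR)
      (hn hBR) s1 s1 s2 s2
    rwa [sup_idem] at h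
  have hZR : Z ≤ R := sup_le ((commutator_mono hAR hFR).trans (commutator_le_self R))
    ((commutator_mono hCR hER).trans (commutator_le_self R))
  have lower : ∀ {K M : Subgroup G}, R ≤ normalizer (M : Set G) → K ≤ normalizer (M : Set G) →
      ⁅K, A⁆ ≤ M → ⁅K, B⁆ ≤ M → ⁅K, C⁆ ≤ M → ⁅K, R⁆ ≤ M := by
    intro K M hn hK h1 h2 h3
    have nK : K ≤ normalizer (M : Set G) := hK
    have h12 := commutator_sup_le (P := K) (Q := K) nK nK (hAR.trans hn) (hBR.trans hn) h1 h2 h1 h2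
    have h := commutator_sup_le (P := K) (Q := K) nK nK (sup_le (hAR.trans hn) (hBR.trans hn)) (hCR.trans hn)
      ((commutator_mono (le_sup_left (b := K)) le_rfl).trans h12) h3
      ((commutator_mono (le_sup_left (b := K)) le_rfl).trans h12) h3
    rwa [sup_idem] at h
  have hZRc : ⁅Z, R⁆ ≤ Z₀ := lower hR0n (hZR.trans hR0n) ((centE cA).trans_le bot_le) hZB ((centE cC).trans_le bot_le)
  have hRZn : R ≤ normalizer (Z : Set G) := le_normalizer_of_commutator_le (hZRc.trans hEFZ)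
  set K₃ := Z ⊔ (E ⊔ F) with hK₃
  have hEFR : E ⊔ F ≤ R := sup_le hER hFR
  have hK₃R : K₃ ≤ R := sup_le hZR hEFR
  have hEFc : ⁅E ⊔ F, R⁆ ≤ Z := by
    refine lower hRZn (hEFR.trans hRZn) ?_ ?_ ?_
    · have h := commutator_sup_le (P := E) (Q := F) (U := A) (V := A) (hER.trans hRZn) (hFR.trans hRZn) (hAR.trans hRZn)
        (hAR.trans hRZn) ((centE hAE).trans_le bot_le) ((centE hAE).trans_le bot_le)
        ((commutator_comm F A).trans_le le_sup_left) ((commutator_comm F A).trans_le le_sup_left)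
      rwa [sup_idem] at h
    · have h := commutator_sup_le (P := E) (Q := F) (U := B) (V := B) (hER.trans hRZn) (hFR.trans hRZn) (hBR.trans hRZn)
        (hBR.trans hRZn) ((centE hBE).trans_le bot_le) ((centE hBE).trans_le bot_le)
        ((centE hBF).trans_le bot_le) ((centE hBF).trans_le bot_le)
      rwa [sup_idem] at h
    · have h := commutator_sup_le (P := E) (Q := F) (U := C) (V := C) (hER.trans hRZn) (hFR.trans hRZn) (hCR.trans hRZn)
        (hCR.trans hRZn) ((commutator_comm E C).trans_le le_sup_right) ((commutator_comm E C).trans_le le_sup_right)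
        ((centE hCF).trans_le bot_le) ((centE hCF).trans_le bot_le)
      rwa [sup_idem] at h
  have hK₃c : ⁅K₃, R⁆ ≤ Z := by
    have h := commutator_sup_le (P := Z) (Q := E ⊔ F) (U := R) (V := R) (hZR.trans hRZn) (hEFR.trans hRZn) hRZn hRZn
      (hZRc.trans hEFZ) (hZRc.trans hEFZ) hEFc hEFc
    rwa [sup_idem] at h
  have hRK₃n : R ≤ normalizer (K₃ : Set G) := le_normalizer_of_commutator_le (hK₃c.trans le_sup_left)
  set K₄ := K₃ ⊔ (A ⊔ C) with hK₄
  have hACR : A ⊔ C ≤ R := sup_le hAR hCR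
  have hACc : ⁅A ⊔ C, R⁆ ≤ K₃ := by
    have hE3 : E ≤ K₃ := le_sup_left.trans le_sup_right
    have hF3 : F ≤ K₃ := le_sup_right.trans le_sup_right
    have e1 : ⁅A, A⁆ ≤ K₃ := (commute_self hS hA).trans_le bot_le
    have e2 : ⁅C, C⁆ ≤ K₃ := (commute_self hS hC).trans_le bot_le
    have e3 : ⁅A, C⁆ ≤ K₃ := hAC.trans_le bot_le
    have e4 : ⁅C, A⁆ ≤ K₃ := hCA.trans_le bot_le
    have e5 : ⁅C, B⁆ ≤ K₃ := (commutator_comm C B).trans_le hF3
    refine lower hRK₃n (hACR.trans hRK₃n) ?_ ?_ ?_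
    · have h := commutator_sup_le (P := A) (Q := C) (U := A) (V := A) (hAR.trans hRK₃n) (hCR.trans hRK₃n) (hAR.trans hRK₃n)
        (hAR.trans hRK₃n) e1 e1 e4 e4
      rwa [sup_idem] at h
    · have h := commutator_sup_le (P := A) (Q := C) (U := B) (V := B) (hAR.trans hRK₃n) (hCR.trans hRK₃n) (hBR.trans hRK₃n)
        (hBR.trans hRK₃n) hE3 hE3 e5 e5
      rwa [sup_idem] at h
    · have h := commutator_sup_le (P := A) (Q := C) (U := C) (V := C) (hAR.trans hRK₃n) (hCR.trans hRK₃n) (hCR.trans hRK₃n)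
        (hCR.trans hRK₃n) e3 e3 e2 e2
      rwa [sup_idem] at h
  have hK₄c : ⁅K₄, R⁆ ≤ K₃ := by
    have h := commutator_sup_le (P := K₃) (Q := A ⊔ C) (U := R) (V := R) (hK₃R.trans hRK₃n) (hACR.trans hRK₃n) hRK₃n hRK₃n
      (hK₃c.trans le_sup_left) (hK₃c.trans le_sup_left) hACc hACc
    rwa [sup_idem] at h
  have hRK₄n : R ≤ normalizer (K₄ : Set G) := le_normalizer_of_commutator_le (hK₄c.trans le_sup_left)
  have hK₄A : A ≤ K₄ := le_sup_left.trans le_sup_right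
  have hK₄C : C ≤ K₄ := le_sup_right.trans le_sup_right
  have hRR : ⁅R, R⁆ ≤ K₄ := by
    have hK₄R : K₄ ≤ R := sup_le hK₃R hACR
    refine lower hRK₄n hRK₄n ?_ ?_ ?_
    · rw [commutator_comm]; exact ((commutator_mono hK₄A le_rfl).trans hK₄c).trans le_sup_left
    · have hA4 : ⁅A, B⁆ ≤ K₄ := ((le_sup_left.trans le_sup_right : E ≤ K₃)).trans le_sup_left
      have hC4 : ⁅C, B⁆ ≤ K₄ := (commutator_comm C B).trans_le (((le_sup_right.trans le_sup_right : F ≤ K₃)).trans le_sup_left)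
      have hB4 : ⁅B, B⁆ ≤ K₄ := (commute_self hS hB).trans_le bot_le
      have n : ∀ {P : Subgroup G}, P ≤ R → P ≤ normalizer (K₄ : Set G) := fun h => h.trans hRK₄n
      have h1 := commutator_sup_le (P := A) (Q := B) (U := B) (V := B) (n hAR) (n hBR) (n hBR) (n hBR) hA4 hA4 hB4 hB4
      have h2 := commutator_sup_le (P := A ⊔ B) (Q := C) (U := B) (V := B) (n (sup_le hAR hBR)) (n hCR) (n hBR) (n hBR)
        ((commutator_mono le_rfl (le_sup_left (b := B))).trans h1) ((commutator_mono le_rfl (le_sup_left (b := B))).trans h1) hC4 hC4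
      rwa [sup_idem] at h2
    · rw [commutator_comm]; exact ((commutator_mono hK₄C le_rfl).trans hK₄c).trans le_sup_left
  -- the join of the two groups is `K₄`
  have hW : A ⊔ C' ⊔ (A' ⊔ C) = K₄ := by
    set W := A ⊔ C' ⊔ (A' ⊔ C) with hWdef
    have wA : A ≤ W := le_sup_left.trans le_sup_left
    have wC : C ≤ W := le_sup_right.trans le_sup_right
    have wE : E ≤ W := hE.trans (sup_le wA (le_sup_left.trans le_sup_right))
    have wF : F ≤ W := hF.trans (sup_le (le_sup_right.trans le_sup_left) wC)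
    refine le_antisymm (sup_le (sup_le hK₄A ?_) (sup_le ?_ hK₄C)) ?_
    · exact hC'.trans (sup_le hK₄C ((le_sup_right.trans le_sup_right : F ≤ K₃).trans le_sup_left))
    · exact hA'.trans (sup_le hK₄A ((le_sup_left.trans le_sup_right : E ≤ K₃).trans le_sup_left))
    · exact sup_le (sup_le (sup_le ((commutator_mono wA wF).trans (commutator_le_self W))
        ((commutator_mono wC wE).trans (commutator_le_self W))) (sup_le wE wF)) (sup_le wA wC)
  refine ⟨fun r hr => ?_, ?_, ?_⟩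
  · rw [hW]; exact conjBy_eq_self_iff.2 (hRK₄n hr)
  · rw [hW]
    exact le_antisymm (sup_le (sup_le hK₃R hACR) hBR) (sup_le (sup_le (hK₄A.trans le_sup_left) le_sup_right) (hK₄C.trans le_sup_left))
  let Ks : ℕ → Subgroup G := fun i => match i with
    | 0 => ⊥
    | 1 => Z₀
    | 2 => Z
    | 3 => K₃
    | 4 => K₄
    | _ => R
  refine nilpotent_of_series Ks 5 rfl le_rfl fun i => ?_
  match i with
  | 0 => exact (centE hR0).le
  | 1 => exact hZRc
  | 2 => exact hK₃c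
  | 3 => exact hK₄c
  | 4 => exact hRR
  | n + 5 => exact commutator_le_self R

end Chain

end CfsgLib.ThreeTrans.Root
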