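import Cfsg.Agent.Lib.ThreeTrans.RootSets

set_option autoImplicit false

/-!
Components of the graph of rank one pairs of a set of abstract root subgroups (owner: helper28).
-/

namespace CfsgLib.ThreeTrans.Root

open Cfsg Subgroup CfsgLib.ThreeTrans
open scoped commutatorElement

variable {G : Type*} [Group G]

theorem conjBy_rankOne {A B : Subgroup G} (h : IsRankOnePair A B) (g : G) :
    IsRankOnePair (conjBy A g) (conjBy B g) := by
  have hcond : ∀ C D : Subgroup G, RankOneCondition C D → RankOneCondition (conjBy C g) (conjBy D g) := by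
    rintro C D hCD _ ⟨c, hc, rfl⟩ hc1
    obtain ⟨d, hd, hd1, he⟩ := hCD c hc fun e => hc1 (by rw [e, map_one])
    refine ⟨g * d * g⁻¹, conj_mem_conjBy hd, fun e => hd1 (conj_eq_one_iff.1 e), ?_⟩
    show conjBy (conjBy C g) (g * d * g⁻¹)⁻¹ = conjBy (conjBy D g) (g * c * g⁻¹)⁻¹
    rw [conjBy_conjBy, conjBy_conjBy, show (g * d * g⁻¹)⁻¹ * g = g * d⁻¹ by group,
      show (g * c * g⁻¹)⁻¹ * g = g * c⁻¹ by group, ← conjBy_conjBy, he, conjBy_conjBy]
  have hnil : ∀ C : Subgroup G, Group.IsNilpotent C → Group.IsNilpotent (conjBy C g) := fun C hC =>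
    Group.nilpotent_of_mulEquiv (C.equivMapOfInjective _ (MulAut.conj g).injective)
  exact ⟨fun e => h.ne (conjBy_inj e), hnil A h.nilpotent_left, hnil B h.nilpotent_right,
    hcond A B h.cond_left, hcond B A h.cond_right⟩

variable {S : Set (Subgroup G)} (hS : IsRootSubgroupSet S)
include hS

/-- A third member of a line through `A` forms a rank one pair with the partner of `A`. -/
theorem third_rankOne {A B P E : Subgroup G} (hA : A ∈ S) (hB : B ∈ S) (hP : P ∈ S) (hE : E ∈ S)
    (hAB : ⁅A, B⁆ = ⊥) (hAP : IsRankOnePair A P) (hBP : ¬ IsRankOnePair B P) {a b : G} (ha : a ∈ A) (ha1 : a ≠ 1)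
    (hb : b ∈ B) (hb1 : b ≠ 1) (habE : a * b ∈ E) : IsRankOnePair E P := by
  haveI := hS.commutative P hP
  have hab : Commute a b := commute_of_commutator_eq_bot hAB ha hb
  obtain ⟨p, hp, hp1⟩ := (Subgroup.bot_or_exists_ne_one P).resolve_left (hS.ne_bot P hP)
  rcases hS.pair B hB P hP with hc | hr | hcc
  · exfalso
    have hz : ∀ x ∈ A ⊔ P, b * x = x * b := by
      intro x hx
      have hle : A ⊔ P ≤ centralizer ({b} : Set G) := by
        refine sup_le (fun y hy => ?_) (fun y hy => ?_) <;> rw [mem_centralizer_singleton_iff]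
        · exact commute_of_commutator_eq_bot hAB hy hb
        · exact (commute_of_commutator_eq_bot hc hb hy).symm
      exact (mem_centralizer_singleton_iff.1 (hle hx)).symm
    exact hb1 (central_translate hS hA hP hAP hE hz ha ha1 (by rw [← hab.eq]; exact habE)).2
  · exact absurd hr hBP
  -- the commutator case
  suffices hne : ¬ ∀ q ∈ P, Commute ⁅a * b, p⁆ q by
    rcases hS.pair E hE P hP with h | h | h
    · exact absurd (fun q _ => by
        rw [commutatorElement_eq_one_iff_commute.2 (commute_of_commutator_eq_bot h habE hp)]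
        exact Commute.one_left q) hne
    · exact h
    · exact absurd (fun q hq => h.2.1 _ (commutator_mem_commutator habE hp) q (mem_sup_right hq)) hne
  intro hcom
  set f := ⁅b, p⁆ with hf
  have hfF : f ∈ ⁅B, P⁆ := commutator_mem_commutator hb hp
  have hfP : ∀ q ∈ P, Commute f q := fun q hq => hcc.2.1 f hfF q (mem_sup_right hq)
  have hpq : ∀ q ∈ P, Commute p q := fun q hq =>
    congrArg Subtype.val (IsMulCommutative.is_comm.comm (⟨p, hp⟩ : P) ⟨q, hq⟩)
  set u := a * (f * p) * a⁻¹ with hu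
  have hu1 : ∀ q ∈ P, Commute u q := by
    intro q hq
    have e : u = ⁅a * b, p⁆ * p := by rw [hu, hf]; simp only [commutatorElement_def]; group
    rw [e]
    exact (hcom q hq).mul_left (hpq q hq)
  have hu2 : ∀ q ∈ P, Commute u (a * q * a⁻¹) := by
    intro q hq
    have := ((hfP q hq).mul_left (hpq q hq)).map (MulAut.conj a).toMonoidHom
    exact this
  have hPa : conjBy P a ∈ unipotentSubgroups A P :=
    conjBy_mem_unipotentSubgroups hAP (right_mem_unipotentSubgroups hAP) (mem_sup_left ha)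
  have hne : P ≠ conjBy P a := fun e => ha1 (eq_one_of_mem_normalizer hAP ha (conjBy_eq_self_iff.1 e.symm))
  have hX : A ⊔ P ≤ centralizer ({u} : Set G) := by
    rw [← sup_of_two_unipotent hAP (right_mem_unipotentSubgroups hAP) hPa hne]
    refine sup_le (fun q hq => ?_) ?_
    · exact mem_centralizer_singleton_iff.2 (hu1 q hq).symm.eq
    · rintro _ ⟨q, hq, rfl⟩
      exact mem_centralizer_singleton_iff.2 (hu2 q hq).symm.eq
  have hz : ∀ x ∈ P ⊔ A, (f * p) * x = x * (f * p) := by
    intro x hx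
    rw [sup_comm] at hx
    have hm : Commute u (a * x * a⁻¹) := (mem_centralizer_singleton_iff.1
      (hX (mul_mem (mul_mem (mem_sup_left ha) hx) (inv_mem (mem_sup_left ha))))).symm
    have := hm.map (MulAut.conj a⁻¹).toMonoidHom
    simpa [hu, mul_assoc] using this.eq
  obtain ⟨hFP, -⟩ := central_translate hS hP hA (RankOnePair_symm hAP) hcc.1 hz (inv_mem hp) (inv_ne_one.2 hp1)
    (by rw [mul_inv_cancel_right]; exact hfF)
  have hC : ⁅P, B⁆ ∈ S := by rw [commutator_comm]; exact hcc.1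
  exact ne_commutator hS hP hB hC (by rw [commutator_comm]; exact hFP.symm)

omit hS in
theorem fadj_symm {A B : Subgroup G} (h : FAdj S A B) : FAdj S B A := ⟨h.2.1, h.1, RankOnePair_symm h.2.2⟩

omit hS in
theorem reach_symm {A B : Subgroup G} (h : Relation.ReflTransGen (FAdj S) A B) :
    Relation.ReflTransGen (FAdj S) B A := by
  induction h with
  | refl => exact .refl
  | tail _ h ih => exact ih.head (fadj_symm h)

omit hS in
theorem component_eq_of_reach {A B : Subgroup G} (h : Relation.ReflTransGen (FAdj S) A B) :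
    componentOf (FAdj S) S A = componentOf (FAdj S) S B :=
  Set.ext fun _ => and_congr_right fun _ => ⟨fun hx => (reach_symm h).trans hx, fun hx => h.trans hx⟩

omit hS in
theorem exists_partner_of_component {A A' : Subgroup G} (h : A' ∈ componentOf (FAdj S) S A) (hne : A' ≠ A) :
    ∃ P ∈ S, IsRankOnePair A P := by
  rcases h.2.cases_head with e | ⟨P, hP, -⟩
  · exact absurd e.symm hne
  · exact ⟨P, hP.2.1, hP.2.2⟩

/-- Line partners with rank one partners lie in one component. -/
theorem reach_of_linePartner {A B : Subgroup G} (hA : A ∈ S) (hB : B ∈ linePartners S A)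
    (hA' : ∃ P ∈ S, IsRankOnePair A P) (hB' : ∃ Q ∈ S, IsRankOnePair B Q) :
    Relation.ReflTransGen (FAdj S) A B := by
  obtain ⟨⟨hBS, hne, hAB⟩, hpart⟩ := hB
  obtain ⟨P, hP, hAP⟩ := hA'
  obtain ⟨Q, hQ, hBQ⟩ := hB'
  by_cases hBP : IsRankOnePair B P
  · exact (Relation.ReflTransGen.single ⟨hA, hP, hAP⟩).tail ⟨hP, hBS, RankOnePair_symm hBP⟩
  by_cases hAQ : IsRankOnePair A Q
  · exact (Relation.ReflTransGen.single ⟨hA, hQ, hAQ⟩).tail ⟨hQ, hBS, RankOnePair_symm hBQ⟩
  obtain ⟨a, ha, ha1⟩ := (Subgroup.bot_or_exists_ne_one A).resolve_left (hS.ne_bot A hA)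
  obtain ⟨b, hb, hb1⟩ := (Subgroup.bot_or_exists_ne_one B).resolve_left (hS.ne_bot B hBS)
  have hab : a * b ≠ 1 := by
    intro e
    have : a ∈ B := by rw [eq_inv_of_mul_eq_one_left e]; exact inv_mem hb
    exact hne (trivial_intersection hS hA hP hAP hBS ha1 ha this)
  obtain ⟨E, hE, hEmem⟩ := hpart.2.1 (a * b) (mul_mem (mem_sup_left ha) (mem_sup_right hb)) hab
  have h1 := third_rankOne hS hA hBS hP hE.1 hAB hAP hBP ha ha1 hb hb1 hEmem
  have h2 := third_rankOne hS hBS hA hQ hE.1 (by rw [commutator_comm]; exact hAB) hBQ hAQ hb hb1 ha ha1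
    (by rw [← (commute_of_commutator_eq_bot hAB ha hb : a * b = b * a)]; exact hEmem)
  exact (((Relation.ReflTransGen.single ⟨hA, hP, hAP⟩).tail ⟨hP, hE.1, RankOnePair_symm h1⟩).tail
    ⟨hE.1, hQ, h2⟩).tail ⟨hQ, hBS, RankOnePair_symm hBQ⟩

omit hS in
theorem exists_conj_of_reach {A B : Subgroup G} (h : Relation.ReflTransGen (FAdj S) A B) :
    ∃ g : G, B = conjBy A g := by
  induction h with
  | refl => exact ⟨1, (conjBy_one A).symm⟩
  | tail _ h ih =>
    obtain ⟨g, rfl⟩ := ih
    obtain ⟨y, -, e⟩ := right_mem_unipotentSubgroups h.2.2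
    exact ⟨y * g, by rw [e, conjBy_conjBy]⟩

theorem reach_conj {A B : Subgroup G} (h : Relation.ReflTransGen (FAdj S) A B) (g : G) :
    Relation.ReflTransGen (FAdj S) (conjBy A g) (conjBy B g) :=
  h.lift (conjBy · g) fun C D hCD =>
    ⟨hS.conj_mem C hCD.1 g, hS.conj_mem D hCD.2.1 g, conjBy_rankOne hCD.2.2 g⟩

/-- With a single class and a rank one pair, the graph is connected. -/
theorem connected_of_class (hcls : IsConjClassOfSubgroups S) (hF : ∃ A ∈ S, ∃ P ∈ S, IsRankOnePair A P) :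
    IsConnectedFamily (FAdj S) S := by
  obtain ⟨A, hA, P, hP, hAP⟩ := hF
  have hall : ∀ B ∈ S, ∃ Q ∈ S, IsRankOnePair B Q := by
    intro B hB
    obtain ⟨g, rfl⟩ := hcls.2 A hA B hB
    exact ⟨conjBy P g, hS.conj_mem P hP g, conjBy_rankOne hAP g⟩
  let N : Subgroup G :=
    { carrier := {g | Relation.ReflTransGen (FAdj S) A (conjBy A g)}
      one_mem' := by show Relation.ReflTransGen _ _ _; rw [conjBy_one]
      mul_mem' := by
        intro g h hg hh
        have := reach_conj hS hh g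
        rw [conjBy_conjBy] at this
        exact Relation.ReflTransGen.trans hg this
      inv_mem' := by
        intro g hg
        have := reach_conj hS (reach_symm hg) g⁻¹
        rwa [conjBy_conjBy, inv_mul_cancel, conjBy_one] at this }
  have hN : N = ⊤ := by
    rw [eq_top_iff, ← hS.generates]
    refine iSup₂_le fun E hE e he => ?_
    show Relation.ReflTransGen (FAdj S) A (conjBy A e)
    rcases hS.pair A hA E hE with h | h | h
    · have : conjBy A e = A := conjBy_eq_self_iff.2 (mem_normalizer_of_commute fun x hx =>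
        (commute_of_commutator_eq_bot h hx he).symm)
      rw [this]
    · have h2 := conjBy_rankOne h e
      rw [conjBy_of_mem he] at h2
      exact (Relation.ReflTransGen.single ⟨hA, hE, h⟩).tail ⟨hE, hS.conj_mem A hA e, RankOnePair_symm h2⟩
    by_cases hAe : conjBy A e = A
    · rw [hAe]
    refine reach_of_linePartner hS hA ?_ ⟨P, hP, hAP⟩ (hall _ (hS.conj_mem A hA e))
    have hmem := membersIn_eq hS hA hP hAP hE h.1
    have hAeA : conjBy A e ≤ A ⊔ ⁅A, E⁆ := (hmem.ge (Or.inl ⟨e, he, rfl⟩)).2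
    have hsup : A ⊔ conjBy A e = A ⊔ ⁅A, E⁆ := by
      refine le_antisymm (sup_le le_sup_left hAeA) (sup_le le_sup_left ?_)
      have he1 : e ≠ 1 := fun e0 => hAe (by rw [e0, conjBy_one])
      rw [← h.2.2.2 e he he1, closure_le]
      rintro _ ⟨a, ha, rfl⟩
      show a * e * a⁻¹ * e⁻¹ ∈ _
      rw [show a * e * a⁻¹ * e⁻¹ = a * (e * a⁻¹ * e⁻¹) by group]
      exact mul_mem (mem_sup_left ha) (mem_sup_right (conj_mem_conjBy (inv_mem ha)))
    refine ⟨⟨hS.conj_mem A hA e, hAe, ?_⟩, by rw [hsup]; exact partition hS hA hP hAP hE h.1⟩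
    haveI := hS.commutative A hA
    refine commutator_eq_bot_iff_le_centralizer.2 fun a ha => mem_centralizer_iff.2 fun x hx => ?_
    obtain ⟨a', ha', c, hc, rfl⟩ := exists_factor hS hA hP hAP hE h.1 (hAeA hx)
    have h1 : Commute a' a := congrArg Subtype.val (IsMulCommutative.is_comm.comm (⟨a', ha'⟩ : A) ⟨a, ha⟩)
    exact ((h1.mul_left (central hS hA hE h.1 hc (mem_sup_left ha)))).eq
  intro B hB C hC
  obtain ⟨g, rfl⟩ := hcls.2 A hA B hB
  obtain ⟨k, rfl⟩ := hcls.2 A hA C hC
  exact (reach_symm (hN ▸ Subgroup.mem_top g : g ∈ N)).trans (hN ▸ Subgroup.mem_top k : k ∈ N)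

theorem connected_iff (h2 : ∃ A ∈ S, ∃ B ∈ S, A ≠ B) :
    IsConnectedFamily (FAdj S) S ↔
      (IsConjClassOfSubgroups S ∧ ∃ A ∈ S, ¬ IsIsolatedIn (FAdj S) S A) := by
  obtain ⟨A, hA, B, hB, hne⟩ := h2
  constructor
  · intro hc
    refine ⟨⟨⟨A, hA⟩, fun C hC D hD => exists_conj_of_reach (hc C hC D hD)⟩, A, hA, fun hiso => ?_⟩
    obtain ⟨P, hP, hAP⟩ := exists_partner_of_component (A' := B) ⟨hB, hc A hA B hB⟩ (Ne.symm hne)
    exact (isolated_iff hA).1 hiso P hP hAP
  · rintro ⟨hcls, C, hC, hniso⟩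
    obtain ⟨P, hP, hCP⟩ := exists_partner hniso hC
    exact connected_of_class hS hcls ⟨C, hC, P, hP, hCP⟩

/-- The images of a connected set of root subgroups. -/
theorem image {H : Type*} [Group H] (hc : IsConnectedFamily (FAdj S) S) (f : G →* H)
    (hf : Function.Surjective f) :
    (IsRootSubgroupSet ((fun A : Subgroup G => A.map f) '' S) ∧
      IsConnectedFamily (FAdj ((fun A : Subgroup G => A.map f) '' S)) ((fun A : Subgroup G => A.map f) '' S)) ∨
    ∃ A ∈ S, A.map f = ⊤ := by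
  set T := (fun A : Subgroup G => A.map f) '' S with hT
  have hgen : (⨆ A ∈ T, A) = ⊤ := by
    rw [hT, iSup_image, ← Subgroup.map_top_of_surjective f hf, ← hS.generates, Subgroup.map_iSup]
    simp only [Subgroup.map_iSup]
  have hconj : ∀ (A : Subgroup G) (g : G), (conjBy A g).map f = conjBy (A.map f) (f g) := by
    intro A g
    show (A.map _).map f = (A.map f).map _
    rw [Subgroup.map_map, Subgroup.map_map]
    congr 1
    ext x
    simp
  by_cases hbot : ∃ A ∈ S, A.map f = ⊥
  · right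
    obtain ⟨A, hA, hAb⟩ := hbot
    refine ⟨A, hA, ?_⟩
    rw [hAb, ← hgen, eq_comm, eq_bot_iff]
    refine iSup₂_le ?_
    rintro _ ⟨B, hB, rfl⟩
    obtain ⟨g, rfl⟩ := exists_conj_of_reach (hc A hA B hB)
    show (conjBy A g).map f ≤ ⊥
    rw [hconj, hAb]
    show (⊥ : Subgroup H).map _ ≤ ⊥
    rw [Subgroup.map_bot]
  left
  push Not at hbot
  have hnil : ∀ A ∈ S, Group.IsNilpotent (A.map f) := fun A hA => by
    haveI := hS.commutative A hA
    haveI : Group.IsNilpotent A :=
      letI : CommGroup A := { (inferInstance : Group A) with mul_comm := fun a b => IsMulCommutative.is_comm.comm a b }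
      CommGroup.isNilpotent
    exact Group.nilpotent_of_surjective (f.subgroupMap A) (f.subgroupMap_surjective A)
  have hcond : ∀ A ∈ S, ∀ B ∈ S, RankOneCondition A B → A.map f ≠ B.map f →
      RankOneCondition (A.map f) (B.map f) := by
    rintro A hA B hB hAB hne _ ⟨a, ha, rfl⟩ ha1
    obtain ⟨b, hb, -, he⟩ := hAB a ha fun e => ha1 (by rw [e, map_one])
    have he' : conjBy (A.map f) (f b)⁻¹ = conjBy (B.map f) (f a)⁻¹ := by
      rw [← map_inv, ← map_inv, ← hconj, ← hconj, he]
    refine ⟨f b, ⟨b, hb, rfl⟩, fun h1 => hne ?_, he'⟩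
    rw [h1, inv_one, conjBy_one] at he'
    have := congrArg (conjBy · (f a)) he'
    rwa [conjBy_of_mem (mem_map_of_mem f ha), conjBy_conjBy, mul_inv_cancel, conjBy_one] at this
  have hr1 : ∀ A ∈ S, ∀ B ∈ S, IsRankOnePair A B → A.map f ≠ B.map f → IsRankOnePair (A.map f) (B.map f) :=
    fun A hA B hB h hne => ⟨hne, hnil A hA, hnil B hB, hcond A hA B hB h.cond_left hne,
      hcond B hB A hA h.cond_right (Ne.symm hne)⟩
  refine ⟨⟨?_, ?_, hgen, ?_, ?_⟩, ?_⟩
  · rintro _ ⟨A, hA, rfl⟩
    haveI := hS.commutative A hA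
    refine ⟨⟨?_⟩⟩
    rintro ⟨_, x, hx, rfl⟩ ⟨_, y, hy, rfl⟩
    refine Subtype.ext ?_
    show f x * f y = f y * f x
    rw [← map_mul, ← map_mul]
    exact congrArg (fun t : A => f t) (IsMulCommutative.is_comm.comm (⟨x, hx⟩ : A) ⟨y, hy⟩)
  · rintro _ ⟨A, hA, rfl⟩
    exact hbot A hA
  · rintro _ ⟨A, hA, rfl⟩ h
    obtain ⟨g, rfl⟩ := hf h
    exact ⟨conjBy A g, hS.conj_mem A hA g, hconj A g⟩
  · rintro _ ⟨A, hA, rfl⟩ _ ⟨B, hB, rfl⟩
    rcases hS.pair A hA B hB with h | h | ⟨hC, hcen, hl, hr⟩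
    · left; rw [← map_commutator, h, Subgroup.map_bot]
    · by_cases heq : A.map f = B.map f
      · left
        haveI := hS.commutative A hA
        show ⁅A.map f, B.map f⁆ = ⊥
        rw [← heq, ← map_commutator, commutator_eq_bot_iff_le_centralizer.2 (fun x hx => mem_centralizer_iff.2
          fun y hy => congrArg Subtype.val (IsMulCommutative.is_comm.comm (⟨y, hy⟩ : A) ⟨x, hx⟩)), Subgroup.map_bot]
      · exact Or.inr (Or.inl (hr1 A hA B hB h heq))
    · refine Or.inr (Or.inr ⟨?_, ?_, ?_, ?_⟩)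
      · exact ⟨⁅A, B⁆, hC, map_commutator A B f⟩
      · intro c hc x hx
        rw [← map_commutator] at hc
        rw [← Subgroup.map_sup] at hx
        obtain ⟨c, hc', rfl⟩ := hc
        obtain ⟨x, hx', rfl⟩ := hx
        rw [← map_mul, ← map_mul, hcen c hc' x hx']
      · rintro _ ⟨a, ha, rfl⟩ ha1
        rw [← map_commutator, ← hl a ha (fun e => ha1 (by rw [e, map_one])), MonoidHom.map_closure,
          Set.image_image, coe_map, Set.image_image]
        simp
      · rintro _ ⟨b, hb, rfl⟩ hb1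
        rw [← map_commutator, ← hr b hb (fun e => hb1 (by rw [e, map_one])), MonoidHom.map_closure,
          Set.image_image, coe_map, Set.image_image]
        simp
  · rintro _ ⟨A, hA, rfl⟩ _ ⟨B, hB, rfl⟩
    have hAB := hc A hA B hB
    clear hB
    induction hAB with
    | refl => exact .refl
    | @tail C D _ hCD ih =>
      by_cases heq : C.map f = D.map f
      · dsimp only at ih ⊢; rw [← heq]; exact ih
      · exact ih.tail ⟨⟨C, hCD.1, rfl⟩, ⟨D, hCD.2.1, rfl⟩, hr1 C hCD.1 D hCD.2.1 hCD.2.2 heq⟩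

end CfsgLib.ThreeTrans.Root
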