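import Cfsg.Agent.Lib.ThreeTrans.RootLine

set_option autoImplicit false

/-!
The sets of commuting members and of rank one partners are incomparable (owner: helper28).
-/

namespace CfsgLib.ThreeTrans.Root

open Cfsg Subgroup CfsgLib.ThreeTrans
open scoped commutatorElement

variable {G : Type*} [Group G] {S : Set (Subgroup G)}

theorem mem_centralizing {X D : Subgroup G} : D ∈ centralizingMembers S X ↔ D ∈ S ∧ ⁅X, D⁆ = ⊥ := by
  rw [commutator_comm, commutator_eq_bot_iff_le_centralizer]; rfl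

theorem commutator_conjBy (X Y : Subgroup G) (g : G) : ⁅conjBy X g, conjBy Y g⁆ = conjBy ⁅X, Y⁆ g :=
  (map_commutator X Y _).symm

theorem commute_conjBy {X Y : Subgroup G} (h : ⁅X, Y⁆ = ⊥) (g : G) : ⁅conjBy X g, conjBy Y g⁆ = ⊥ := by
  rw [commutator_conjBy, h]; exact Subgroup.map_bot _

theorem commute_conjBy_iff {X Y : Subgroup G} (g : G) : ⁅conjBy X g, conjBy Y g⁆ = ⊥ ↔ ⁅X, Y⁆ = ⊥ := by
  refine ⟨fun h => ?_, fun h => commute_conjBy h g⟩
  have := commute_conjBy h g⁻¹
  rwa [conjBy_conjBy, conjBy_conjBy, inv_mul_cancel, conjBy_one, conjBy_one] at this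

variable (hS : IsRootSubgroupSet S)
include hS

theorem centralizing_mono {X Y : Subgroup G} (h : centralizingMembers S X ⊆ centralizingMembers S Y) (g : G) :
    centralizingMembers S (conjBy X g) ⊆ centralizingMembers S (conjBy Y g) := by
  intro D hD
  rw [mem_centralizing] at hD ⊢
  have h2 : conjBy (conjBy D g⁻¹) g = D := by rw [conjBy_conjBy, mul_inv_cancel, conjBy_one]
  have h3 : conjBy D g⁻¹ ∈ centralizingMembers S X :=
    mem_centralizing.2 ⟨hS.conj_mem D hD.1 _, (commute_conjBy_iff g).1 (by rw [h2]; exact hD.2)⟩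
  refine ⟨hD.1, ?_⟩
  rw [← h2]
  exact commute_conjBy (mem_centralizing.1 (h h3)).2 g

theorem commute_self {X : Subgroup G} (hX : X ∈ S) : ⁅X, X⁆ = ⊥ := by
  have := hS.commutative X hX
  exact commutator_eq_bot_iff_le_centralizer.2 (le_centralizer X)

/-- Members with nested commuting sets and a common rank one partner have the same commuting members. -/
theorem centralizing_eq {A C P : Subgroup G} (hA : A ∈ S) (hP : P ∈ S) (hAP : IsRankOnePair A P)
    (hCP : IsRankOnePair C P) (hsub : centralizingMembers S A ⊆ centralizingMembers S C) :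
    centralizingMembers S A = centralizingMembers S C := by
  have hAC : ⁅A, C⁆ = ⊥ := by
    rw [commutator_comm]
    exact (mem_centralizing.1 (hsub (mem_centralizing.2 ⟨hA, commute_self hS hA⟩))).2
  have hac : ∀ a ∈ A, ∀ c ∈ C, Commute a c := fun a ha c hc => commute_of_commutator_eq_bot hAC ha hc
  obtain ⟨a, ha, ha1⟩ := (Subgroup.bot_or_exists_ne_one A).resolve_left (ne_bot_left hAP)
  have step : ∀ a ∈ A, a ≠ 1 → ∃ p, ∃ c ∈ C, conjBy A (a * p) = P ∧ conjBy C (a * p) = conjBy P (a * c) ∧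
      centralizingMembers S P ⊆ centralizingMembers S (conjBy P (a * c)) := by
    intro a ha ha1
    obtain ⟨p, hp, hp1, he⟩ := hAP.cond_left a ha ha1
    obtain ⟨c, hc, -, hce⟩ := hCP.cond_right p hp hp1
    have e1 : conjBy A (a * p⁻¹) = P := by
      rw [← conjBy_conjBy, he, conjBy_conjBy, mul_inv_cancel, conjBy_one]
    have e2 : conjBy C (a * p⁻¹) = conjBy P (a * c⁻¹) := by
      rw [← conjBy_conjBy, ← hce, conjBy_conjBy]
    refine ⟨p⁻¹, c⁻¹, inv_mem hc, e1, e2, ?_⟩
    have h := centralizing_mono hS hsub (a * p⁻¹)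
    rwa [e1, e2] at h
  have trans' : ∀ u v : G, centralizingMembers S P ⊆ centralizingMembers S (conjBy P u) →
      centralizingMembers S P ⊆ centralizingMembers S (conjBy P v) →
      centralizingMembers S P ⊆ centralizingMembers S (conjBy P (u * v)) := by
    intro u v hu hv
    have h := centralizing_mono hS hv u
    rw [conjBy_conjBy] at h
    exact hu.trans h
  obtain ⟨p, c, hc, e1, e2, hu⟩ := step a ha ha1
  obtain ⟨-, c', hc', -, -, hu'⟩ := step a⁻¹ (inv_mem ha) (inv_ne_one.2 ha1)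
  have hcc : c * c' = 1 := by
    have h := trans' _ _ hu hu'
    rw [show a * c * (a⁻¹ * c') = c * c' by
      rw [(hac a ha c hc).eq, mul_assoc, mul_inv_cancel_left]] at h
    have h1 := (mem_centralizing.1 (h (mem_centralizing.2 ⟨hP, commute_self hS hP⟩))).2
    obtain ⟨x, hx, hx1⟩ := (Subgroup.bot_or_exists_ne_one P).resolve_left (ne_bot_left (RankOnePair_symm hAP))
    exact eq_one_of_conj_commute hCP (mul_mem hc hc') hx hx1
      (commute_of_commutator_eq_bot h1 (conj_mem_conjBy hx) hx)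
  have hinv : a⁻¹ * c' = (a * c)⁻¹ := by
    rw [eq_inv_of_mul_eq_one_right hcc, mul_inv_rev]
    exact ((hac a ha c hc).inv_inv).eq
  rw [hinv] at hu'
  have h2 := centralizing_mono hS hu' (a * c)
  rw [conjBy_conjBy, mul_inv_cancel, conjBy_one] at h2
  have h3 := centralizing_mono hS h2 (a * p)⁻¹
  rw [← e2, conjBy_conjBy, inv_mul_cancel, conjBy_one] at h3
  refine Set.Subset.antisymm hsub (h3.trans (le_of_eq ?_))
  rw [← e1, conjBy_conjBy, inv_mul_cancel, conjBy_one]

theorem eq_rankOnePartners {A C : Subgroup G} (hd : IsDegenerateRootSet S) (hA : A ∈ S) (hC : C ∈ S) :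
    rankOnePartners S A ⊆ rankOnePartners S C ↔ centralizingMembers S C ⊆ centralizingMembers S A := by
  have hiff : ∀ X ∈ S, ∀ D, D ∈ rankOnePartners S X ↔ D ∈ S ∧ D ∉ centralizingMembers S X := by
    intro X hX D
    constructor
    · exact fun h => ⟨h.1, fun hc => not_commute_of_rankOne h.2 (mem_centralizing.1 hc).2⟩
    · rintro ⟨hD, hc⟩
      rcases hS.pair X hX D hD with hb | hr | hcc
      · exact absurd (mem_centralizing.2 ⟨hD, hb⟩) hc
      · exact ⟨hD, hr⟩
      · exact absurd hcc (hd X hX D hD)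
  constructor
  · intro h D hD
    by_contra hn
    exact ((hiff C hC D).1 (h ((hiff A hA D).2 ⟨hD.1, hn⟩))).2 hD
  · intro h D hD
    rw [hiff A hA] at hD
    rw [hiff C hC]
    exact ⟨hD.1, fun hc => hD.2 (h hc)⟩

theorem centralizing_eq_degenerate (hcls : IsConjClassOfSubgroups S) (hd : IsDegenerateRootSet S) {A C : Subgroup G} (hA : A ∈ S) (hC : C ∈ S)
    (hsub : centralizingMembers S A ⊆ centralizingMembers S C) :
    centralizingMembers S A = centralizingMembers S C := by
  refine Set.Subset.antisymm hsub fun D hD => ?_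
  by_contra hn
  -- `D` is then a rank one partner of `A`, so some member is a partner of `C`
  by_cases hP : ∃ P ∈ S, IsRankOnePair C P
  · obtain ⟨P, hP', hCP⟩ := hP
    have hPA : IsRankOnePair A P := by
      rcases hS.pair A hA P hP' with hb | hr | hcc
      · exact absurd (mem_centralizing.1 (hsub (mem_centralizing.2 ⟨hP', hb⟩))).2 (not_commute_of_rankOne hCP)
      · exact hr
      · exact absurd hcc (hd A hA P hP')
    rw [centralizing_eq hS hA hP' hPA hCP hsub] at hn
    exact hn hD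
  · obtain ⟨g, rfl⟩ := hcls.2 C hC A hA
    rcases hS.pair _ hA D hD.1 with hb | hr | hcc
    · exact hn (mem_centralizing.2 ⟨hD.1, hb⟩)
    · refine hP ⟨conjBy D g⁻¹, hS.conj_mem D hD.1 _, ?_⟩
      have := conjBy_rankOne hr g⁻¹
      rwa [conjBy_conjBy, inv_mul_cancel, conjBy_one] at this
    · exact hd _ hA D hD.1 hcc

/-- The plane completing a member `⁅D, A⁆`. -/
theorem exists_completion (hF : ∀ X ∈ S, ∃ P ∈ S, IsRankOnePair X P) {D A : Subgroup G} (hD : D ∈ S) (hA : A ∈ S)
    (hE : ⁅D, A⁆ ∈ S) : ∃ M, Plane S D A ⁅D, A⁆ M := by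
  obtain ⟨R, hR, hDR⟩ := hF D hD
  obtain ⟨Q, hQ, hEQ⟩ := hF _ hE
  set E := ⁅D, A⁆ with hEdef
  have hline : D ∈ linePartners S E := linePartner hS hD hR hDR hA hE
  obtain ⟨F, hFm, hne, -, hcase, -⟩ := exists_commutator_in_line hS hE hQ hEQ hline ⟨R, hR, hDR⟩
  rw [sup_comm, hEdef, membersIn_eq hS hD hR hDR hA hE] at hFm
  rcases hFm with ⟨a, ha, rfl⟩ | rfl
  · have hEa : conjBy E a⁻¹ = E := conjBy_eq_self_iff.2 (mem_normalizer_of_commute fun e he =>
      ((central hS hD hA hE he (mem_sup_right (inv_mem ha))).symm).eq)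
    have hEQ' : IsRankOnePair E (conjBy Q a⁻¹) := by
      have := conjBy_rankOne hEQ a⁻¹
      rwa [hEa] at this
    have hC' : ⁅D, conjBy Q a⁻¹⁆ ∈ S := by
      have h1 := hS.conj_mem _ hcase.1 a⁻¹
      rwa [← commutator_conjBy, conjBy_conjBy, inv_mul_cancel, conjBy_one] at h1
    have hpl := plane_of_pair hS hE (hS.conj_mem Q hQ _) hEQ' hD (commutator_comm E D ▸ hline.1.2.2) ⟨R, hR, hDR⟩ hC'
      fun e he d hd he1 hd1 => by
        have h1 : e * d ≠ 1 := fun e0 => hline.1.2.1 (trivial_intersection hS hE hQ hEQ hD he1 he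
          (by rw [eq_inv_of_mul_eq_one_left e0]; exact inv_mem hd))
        obtain ⟨W, hW, hWm⟩ := hline.2.2.1 (e * d) (mul_mem (mem_sup_left he) (mem_sup_right hd)) h1
        exact ⟨W, hW.1, hWm⟩
    exact ⟨⁅D, conjBy Q a⁻¹⁆, hD, hA, hE, hpl.memC, rfl, (commutator_comm _ _).trans hpl.eqA⟩
  · exact absurd rfl hne

/-- A member commuting with `A` and with all members commuting with `A` has all rank one partners of `A`. -/
theorem partners_subset (hN : NonDeg S) {A C : Subgroup G} (hA : A ∈ S) (hC : C ∈ S) (hne : A ≠ C)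
    (hsub : centralizingMembers S A ⊆ centralizingMembers S C) :
    rankOnePartners S A ⊆ rankOnePartners S C := by
  rintro B ⟨hB, hAB⟩
  have hF : ∀ X ∈ S, ∃ P ∈ S, IsRankOnePair X P := fun X hX => hN.partner hS hX
  have hCcomm : ∀ D ∈ S, ⁅A, D⁆ = ⊥ → ∀ c ∈ C, ∀ d ∈ D, Commute c d := fun D hD h c hc d hd =>
    commute_of_commutator_eq_bot (mem_centralizing.1 (hsub (mem_centralizing.2 ⟨hD, h⟩))).2 hc hd
  have hCA : ⁅C, A⁆ = ⊥ := (mem_centralizing.1 (hsub (mem_centralizing.2 ⟨hA, commute_self hS hA⟩))).2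
  have hAC : ⁅A, C⁆ = ⊥ := by rw [commutator_comm]; exact hCA
  rcases hS.pair C hC B hB with hb | hr | hcc
  · exfalso
    obtain ⟨P, hP, hCP⟩ := hF C hC
    have hcen : (⊤ : Subgroup G) ≤ centralizer (C : Set G) := by
      rw [← hN.generated hS hA hB hAB, sup_le_iff]
      refine ⟨iSup₂_le fun E hE => ?_, ?_⟩
      · exact fun e he => mem_centralizer_iff.2 fun c hc => (hCcomm E hE.1.1 hE.1.2.2 c hc e he).eq
      · rw [← commutator_eq_bot_iff_le_centralizer, commutator_comm]
        exact hb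
    refine not_commute_of_rankOne hCP ?_
    rw [commutator_comm, commutator_eq_bot_iff_le_centralizer]
    exact le_top.trans hcen
  · exact ⟨hB, hr⟩
  exfalso
  obtain ⟨hLS, hz⟩ := backStep hS hA hB hAB hC hAC hcc.1
  set K := ⁅C, B⁆ with hKdef
  set L := ⁅K, A⁆ with hLdef
  have hKS : K ∈ S := hcc.1
  have hAK : ⁅A, K⁆ ∈ S := by rw [commutator_comm]; exact hLS
  obtain ⟨M₁, hpl₁⟩ := exists_completion hS hF hA hKS hAK
  have hLdef' : ⁅A, K⁆ = L := commutator_comm A K
  rw [hLdef'] at hpl₁ hAK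
  -- `M` on the line `A ⊔ M₁`, in the commutator case with `B`
  obtain ⟨P₁, hP₁, hMP₁⟩ := hF M₁ hpl₁.memD
  have hM₁L : ⁅M₁, L⁆ = A := (commutator_comm M₁ L).trans hpl₁.eqA
  have hAline : M₁ ∈ linePartners S A := by
    have := linePartner hS hpl₁.memD hP₁ hMP₁ hpl₁.memC (hM₁L.symm ▸ hA)
    rwa [hM₁L] at this
  obtain ⟨M, hMm, hMA, hMcom, hMcase, -⟩ := exists_commutator_in_line hS hA hB hAB hAline ⟨P₁, hP₁, hMP₁⟩
  have hLA : ∀ l ∈ L, ∀ a ∈ A, Commute l a := fun l hl a ha =>
    hpl₁.commute_C hS hl (mem_sup_left ha)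
  obtain ⟨l₀, hl₀, rfl⟩ : ∃ l ∈ L, conjBy M₁ l = M := by
    have h := hMm
    rw [sup_comm, ← hM₁L, membersIn_eq hS hpl₁.memD hP₁ hMP₁ hpl₁.memC (hM₁L.symm ▸ hA)] at h
    rcases h with ⟨l, hl, e⟩ | e
    · exact ⟨l, hl, e⟩
    · exact absurd (hM₁L ▸ e) hMA
  set M := conjBy M₁ l₀ with hMdef
  have hMS : M ∈ S := hMm.1
  have hLM : ⁅L, M⁆ = A := by
    have e1 : conjBy L l₀ = L := conjBy_of_mem hl₀
    have e2 : conjBy A l₀ = A := conjBy_eq_self_iff.2 (mem_normalizer_of_commute fun a ha => (hLA l₀ hl₀ a ha).eq)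
    rw [← e1, hMdef, commutator_conjBy, hpl₁.eqA, e2]
  have hpl₂ := plane_of_line hS hA hB hAB hAline hMm hMcom (hF M hMS) hMcase
  have hAK₂ : ⁅A, ⁅M, B⁆⁆ = M := (commutator_comm _ _).trans hpl₂.eqA
  -- only `M` on that line is in the commutator case with `B`
  have huniq : ∀ M' ∈ membersIn S (A ⊔ M), RootCommutatorCase S M' B → M' = M := by
    intro M' hM' hcase'
    have hAK₂' : ⁅A, ⁅M, B⁆⁆ ∈ S := by rw [hAK₂]; exact hMS
    rw [← hAK₂, membersIn_eq hS hA hB hAB hpl₂.memC hAK₂'] at hM'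
    rcases hM' with ⟨k, hk, rfl⟩ | e
    · exfalso
      have hBk : conjBy B k = B := conjBy_eq_self_iff.2 (mem_normalizer_of_commute fun y hy =>
        hMcase.2.1 k hk y (mem_sup_right hy))
      have hr' : IsRankOnePair (conjBy A k) B := by
        have := conjBy_rankOne hAB k
        rwa [hBk] at this
      exact not_central_of_rankOne hr' fun c hc y hy => hcase'.2.1 c hc y (mem_sup_right hy)
    · exact e.trans hAK₂
  -- the central element `c * l`
  obtain ⟨a, ha, ha1⟩ := (Subgroup.bot_or_exists_ne_one A).resolve_left (ne_bot_left hAB)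
  obtain ⟨b, hb, hb1, he⟩ := hAB.cond_left a ha ha1
  obtain ⟨c, hc, hc1⟩ := (Subgroup.bot_or_exists_ne_one C).resolve_left (hS.ne_bot C hC)
  obtain ⟨P, hP, hCP⟩ := hF C hC
  set k := ⁅c⁻¹, b⁻¹⁆ with hkdef
  set l := ⁅a, k⁆ with hldef
  have hk : k ∈ K := commutator_mem_commutator (inv_mem hc) (inv_mem hb)
  have hl : l ∈ L := by rw [hLdef, commutator_comm]; exact commutator_mem_commutator ha hk
  have hk1 : k ≠ 1 := fun e => hb1 (inv_eq_one.1 (injective_commutator hS hC hP hCP hB hcc.1 (inv_mem hc)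
    (inv_ne_one.2 hc1) (inv_mem hb) (commutatorElement_eq_one_iff_commute.1 e)))
  have hl1 : l ≠ 1 := fun e => hk1 (injective_commutator hS hA hB hAB hKS (hLdef'.symm ▸ hAK) ha ha1 hk
    (commutatorElement_eq_one_iff_commute.1 e))
  have hzc := hz a ha b hb ha1 he c hc
  set z := c * l with hzdef
  have hzB : conjBy B z = B := conjBy_eq_self_iff.2 (mem_normalizer_of_commute fun y hy => hzc y (mem_sup_right hy))
  have hMlS : conjBy M l ∈ S := hS.conj_mem M hMS l
  have hlA : conjBy A l = A := conjBy_eq_self_iff.2 (mem_normalizer_of_commute fun x hx => (hLA l hl x hx).eq)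
  have hAMl : ⁅A, conjBy M l⁆ = ⊥ := by
    have := commute_conjBy hMcom l
    rwa [hlA] at this
  have hCfix : conjBy (conjBy M l) c = conjBy M l := conjBy_eq_self_iff.2
    (mem_normalizer_of_commute fun m hm => (hCcomm _ hMlS hAMl c hc m hm).eq)
  have hcase' : RootCommutatorCase S (conjBy M l) B := by
    refine rootCase_of_mem hS hMlS hB ?_
    have h1 := hS.conj_mem _ hMcase.1 z
    rwa [← commutator_conjBy, hzB, hzdef, ← conjBy_conjBy, hCfix] at h1
  have hMl : conjBy M l = M := by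
    refine huniq _ ⟨hMlS, ?_⟩ hcase'
    rintro _ ⟨m, hm, rfl⟩
    show l * m * l⁻¹ ∈ A ⊔ M
    rw [show l * m * l⁻¹ = ⁅l, m⁆ * m by rw [commutatorElement_def]; group]
    exact mul_mem (mem_sup_left (hLM ▸ commutator_mem_commutator hl hm)) (mem_sup_right hm)
  obtain ⟨Q, hQ, hMQ⟩ := hF M hMS
  obtain ⟨m, hm, hm1⟩ := (Subgroup.bot_or_exists_ne_one M).resolve_left (hS.ne_bot M hMS)
  refine hl1 (injective_commutator hS hMS hQ hMQ hpl₁.memC
    (by rw [commutator_comm, hLM]; exact hA) hm hm1 hl ?_)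
  refine (commutatorElement_eq_one_iff_commute.1 ?_).symm
  by_contra hne1
  refine hMA (trivial_intersection hS hA hB hAB hMS hne1 (hLM ▸ commutator_mem_commutator hl hm) ?_)
  rw [commutatorElement_def]
  have h1 : l * m * l⁻¹ ∈ conjBy M l := conj_mem_conjBy hm
  rw [hMl] at h1
  exact mul_mem h1 (inv_mem hm)

/-- If `C` has all rank one partners of `A` then they commute and `A` commutes with the members commuting with `C`. -/
theorem commute_of_partners_subset (hN : NonDeg S) {A C : Subgroup G} (hA : A ∈ S) (hC : C ∈ S)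
    (hsub : rankOnePartners S A ⊆ rankOnePartners S C) :
    ⁅A, C⁆ = ⊥ ∧ centralizingMembers S C ⊆ centralizingMembers S A := by
  have hF : ∀ X ∈ S, ∃ P ∈ S, IsRankOnePair X P := fun X hX => hN.partner hS hX
  have hAC : ⁅A, C⁆ = ⊥ := by
    rcases hS.pair A hA C hC with hb | hr | hcc
    · exact hb
    · exact absurd rfl (hsub ⟨hC, hr⟩).2.ne
    exfalso
    obtain ⟨M, hpl⟩ := exists_completion hS hF hC hA (by rw [commutator_comm]; exact hcc.1)
    refine not_commute_of_rankOne (hsub ⟨hpl.memD, hpl.rankOne hS⟩).2 ?_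
    exact commutator_eq_bot_iff_le_centralizer.2 fun c hc => mem_centralizer_iff.2 fun m hm =>
      (hpl.commute_A hS hc (mem_sup_right hm)).symm.eq
  refine ⟨hAC, fun D hD => ?_⟩
  rw [mem_centralizing] at hD
  refine mem_centralizing.2 ⟨hD.1, ?_⟩
  rcases hS.pair A hA D hD.1 with hb | hr | hcc
  · exact hb
  · exact absurd hD.2 (not_commute_of_rankOne (hsub ⟨hD.1, hr⟩).2)
  exfalso
  -- the line `M ⊔ D` has a member in the commutator case with `C`
  obtain ⟨M, hpl⟩ := exists_completion hS hF hD.1 hA (by rw [commutator_comm]; exact hcc.1)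
  set E := ⁅D, A⁆ with hEdef
  have hMS := hpl.memD
  have hMC : IsRankOnePair M C := RankOnePair_symm (hsub ⟨hMS, hpl.rankOne hS⟩).2
  have hME : ⁅M, E⁆ = D := (commutator_comm M E).trans hpl.eqA
  have hline : D ∈ linePartners S M := by
    have := commutator_linePartner hS hMS hC hMC hpl.memC (hME.symm ▸ hD.1)
    rwa [hME] at this
  obtain ⟨F, hFm, -, -, hcase, -⟩ := exists_commutator_in_line hS hMS hC hMC hline (hF D hD.1)
  rw [← hME, membersIn_eq hS hMS hC hMC hpl.memC (hME.symm ▸ hD.1)] at hFm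
  rcases hFm with ⟨e, he, rfl⟩ | rfl
  · have hCe : conjBy C e = C := conjBy_eq_self_iff.2 (mem_normalizer_of_commute fun c hc => by
      have h1 : ⁅C, E⁆ = ⊥ := by
        have hle : A ⊔ D ≤ centralizer (C : Set G) := sup_le
          (commutator_eq_bot_iff_le_centralizer.1 hAC)
          (commutator_eq_bot_iff_le_centralizer.1 (by rw [commutator_comm]; exact hD.2))
        rw [commutator_comm, commutator_eq_bot_iff_le_centralizer]
        refine le_trans ?_ hle
        exact (commutator_mono (le_sup_right (a := A) (b := D)) (le_sup_left (a := A) (b := D))).trans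
          (commutator_le_self _)
      exact (commute_of_commutator_eq_bot h1 hc he).symm)
    have hr' : IsRankOnePair (conjBy M e) C := by
      have := conjBy_rankOne hMC e
      rwa [hCe] at this
    exact not_central_of_rankOne hr' fun x hx y hy => hcase.2.1 x hx y (mem_sup_right hy)
  · rw [hME] at hcase
    exact hS.ne_bot _ hcase.1 (by rw [commutator_comm]; exact hD.2)

theorem incomparable (hcls : IsConjClassOfSubgroups S) (hdn : IsDegenerateRootSet S ∨ IsNondegenerateRootSet S)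
    {A C : Subgroup G} (hA : A ∈ S) (hC : C ∈ S) (hne : A ≠ C) :
    (centralizingMembers S A ⊆ centralizingMembers S C → centralizingMembers S A = centralizingMembers S C) ∧
      (rankOnePartners S A ⊆ rankOnePartners S C →
        ⁅A, C⁆ = ⊥ ∧ rankOnePartners S A = rankOnePartners S C) := by
  rcases hdn with hd | hnd
  · refine ⟨centralizing_eq_degenerate hS hcls hd hA hC, fun h => ?_⟩
    have he := centralizing_eq_degenerate hS hcls hd hC hA ((eq_rankOnePartners hS hd hA hC).1 h)
    exact ⟨(mem_centralizing.1 (he ▸ mem_centralizing.2 ⟨hC, commute_self hS hC⟩ :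
      C ∈ centralizingMembers S A)).2, Set.Subset.antisymm h ((eq_rankOnePartners hS hd hC hA).2 he.ge)⟩
  have hN := nonDeg_of hcls hnd
  have main : ∀ X ∈ S, ∀ Y ∈ S, X ≠ Y → centralizingMembers S X ⊆ centralizingMembers S Y →
      centralizingMembers S X = centralizingMembers S Y := by
    intro X hX Y hY hne h
    obtain ⟨P, hP, hXP⟩ := hN.partner hS hX
    exact centralizing_eq hS hX hP hXP (partners_subset hS hN hX hY hne h ⟨hP, hXP⟩).2 h
  refine ⟨main A hA C hC hne, fun h => ?_⟩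
  obtain ⟨h1, h2⟩ := commute_of_partners_subset hS hN hA hC h
  have he := main C hC A hA hne.symm h2
  exact ⟨h1, Set.Subset.antisymm h (partners_subset hS hN hC hA hne.symm h2)⟩

end CfsgLib.ThreeTrans.Root
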