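import Cfsg.Prelude
import Cfsg.Agent.Lib.Core.Cores
import Cfsg.Agent.Lib.LocalEvenB.BaerSuzuki

/-!
Triples of root involutions `a, b, ab` and the members with product of odd order.
-/

set_option autoImplicit false

namespace CfsgLib.ThreeTrans.RootInv

open Cfsg

variable {G : Type*} [Group G] [Finite G] {D : Set G}

/-- Two commuting members whose product is a member. -/
def Tri (D : Set G) (a b : G) : Prop := a ∈ D ∧ b ∈ D ∧ a * b = b * a ∧ a * b ∈ D

theorem eq_one_of_odd_of_pow {r : G} (ho : Odd (orderOf r)) {k : ℕ} (h : r ^ 2 ^ k = 1) : r = 1 := by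
  obtain ⟨i, -, hi⟩ := (Nat.dvd_prime_pow Nat.prime_two).1 (orderOf_dvd_of_pow_eq_one h)
  rcases Nat.eq_zero_or_pos i with rfl | hpos
  · exact orderOf_eq_one_iff.1 (by simpa using hi)
  · rw [hi, Nat.odd_pow_iff hpos.ne'] at ho
    exact absurd ho (by decide)

theorem eq_one_of_commute {r z : G} (ho : Odd (orderOf (r * z))) (hc : Commute z r)
    (hz : z * z = 1) (hr : Odd (orderOf r)) : z = 1 := by
  by_contra hz1
  have hz2 : orderOf z = 2 := orderOf_eq_prime (by rw [sq, hz]) hz1
  rw [hc.symm.orderOf_mul_eq_mul_orderOf_of_coprime (by rw [hz2]; exact hr.coprime_two_right), hz2,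
    mul_comm] at ho
  exact absurd ho (Nat.not_odd_iff_even.2 (even_two_mul _))

variable (hD : IsRootInvolutionSet D)
include hD

theorem sq_one {a : G} (ha : a ∈ D) : a * a = 1 := by
  rw [← sq, ← hD.orderOf_eq a ha, pow_orderOf_eq_one]

theorem cancel {a : G} (ha : a ∈ D) (x : G) : a * (a * x) = x := by
  rw [← mul_assoc, sq_one hD ha, one_mul]

theorem inv_eq {a : G} (ha : a ∈ D) : a⁻¹ = a := inv_eq_of_mul_eq_one_right (sq_one hD ha)

theorem conj {a d : G} (ha : a ∈ D) (hd : d ∈ D) : a * d * a ∈ D := by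
  simpa [inv_eq hD ha] using hD.conj_mem d hd a

theorem ne_one {a : G} (ha : a ∈ D) : a ≠ 1 := fun h => by
  have := hD.orderOf_eq a ha; rw [h, orderOf_one] at this; omega

theorem mul_inv_rev' {a b : G} (ha : a ∈ D) (hb : b ∈ D) : (a * b)⁻¹ = b * a := by
  rw [mul_inv_rev, inv_eq hD ha, inv_eq hD hb]

theorem orderOf_symm {a b : G} (ha : a ∈ D) (hb : b ∈ D) : orderOf (b * a) = orderOf (a * b) := by
  rw [← mul_inv_rev' hD ha hb, orderOf_inv]

theorem mem_odd_symm {a b : G} (ha : a ∈ D) (h : b ∈ oddPartners D a) : a ∈ oddPartners D b :=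
  ⟨ha, h.2.1.symm, by rw [orderOf_symm hD ha h.1]; exact h.2.2⟩

theorem ne_one_of_odd {a b : G} (ha : a ∈ D) (h : b ∈ oddPartners D a) : a * b ≠ 1 := fun e =>
  h.2.1 (by rw [eq_inv_of_mul_eq_one_right e, inv_eq hD ha])

theorem pow_four_ne {a b : G} (ha : a ∈ D) (h : b ∈ oddPartners D a) : (a * b) ^ 4 ≠ 1 := fun e =>
  ne_one_of_odd hD ha h (eq_one_of_odd_of_pow h.2.2 (k := 2) e)

theorem pow_two_ne {a b : G} (ha : a ∈ D) (h : b ∈ oddPartners D a) : (a * b) ^ 2 ≠ 1 := fun e =>
  ne_one_of_odd hD ha h (eq_one_of_odd_of_pow h.2.2 (k := 1) e)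

theorem sq_eq_one_of_comm {a b : G} (ha : a ∈ D) (hb : b ∈ D) (h : a * b = b * a) :
    (a * b) ^ 2 = 1 := by
  rw [sq]
  nth_rewrite 2 [h]
  rw [mul_assoc, cancel hD hb, sq_one hD ha]

theorem not_odd_of_comm {a b : G} (ha : a ∈ D) (hb : b ∈ D) (h : a * b = b * a) :
    b ∉ oddPartners D a := fun ho => pow_two_ne hD ha ho (sq_eq_one_of_comm hD ha hb h)

theorem not_odd_self (a : G) : a ∉ oddPartners D a := fun h => h.2.1 rfl

theorem four {a b : G} (ha : a ∈ D) (hb : b ∈ D) (hn : a * b ≠ b * a) (ho : b ∉ oddPartners D a) :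
    orderOf (a * b) = 4 ∧ (a * b) ^ 2 ∈ D :=
  ((hD.pair a ha b hb).resolve_left hn).resolve_left fun h =>
    ho ⟨hb, fun e => hn (by rw [e]), h⟩

theorem pow_four {a b : G} (ha : a ∈ D) (hb : b ∈ D) (ho : b ∉ oddPartners D a) :
    (a * b) ^ 4 = 1 := by
  by_cases hc : a * b = b * a
  · rw [show (4 : ℕ) = 2 * 2 from rfl, pow_mul, sq_eq_one_of_comm hD ha hb hc, one_pow]
  · rw [← (four hD ha hb hc ho).1, pow_orderOf_eq_one]

theorem sq_symm {a b : G} (ha : a ∈ D) (hb : b ∈ D) (h : (a * b) ^ 4 = 1) :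
    (b * a) ^ 2 = (a * b) ^ 2 := by
  rw [← mul_inv_rev' hD ha hb, inv_pow, inv_eq_iff_mul_eq_one, ← pow_add]
  exact h

theorem conj_right {a b : G} (ha : a ∈ D) : b * a * b = a * (a * b) ^ 2 := by
  rw [sq, mul_assoc a b, cancel hD ha, mul_assoc]

theorem sq_comm_right {a b : G} (ha : a ∈ D) (hb : b ∈ D) (h : (a * b) ^ 4 = 1) :
    (a * b) ^ 2 * b = b * (a * b) ^ 2 := by
  conv_rhs => rw [← sq_symm hD ha hb h]
  simp only [sq, mul_assoc, sq_one hD hb, mul_one, cancel hD hb]

theorem sq_comm_left {a b : G} (ha : a ∈ D) (hb : b ∈ D) (h : (a * b) ^ 4 = 1) :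
    (a * b) ^ 2 * a = a * (a * b) ^ 2 := by
  conv_lhs => rw [← sq_symm hD ha hb h]
  simp only [sq, mul_assoc, sq_one hD ha, mul_one, cancel hD ha]

theorem conj_left {a b : G} (ha : a ∈ D) (hb : b ∈ D) (h : (a * b) ^ 4 = 1) :
    a * b * a = b * (a * b) ^ 2 := by
  rw [conj_right hD hb, sq_symm hD ha hb h]

/-- The triple made by a product of order four. -/
theorem tri_four {a b : G} (ha : a ∈ D) (hb : b ∈ D) (h : orderOf (a * b) = 4) :
    Tri D a ((a * b) ^ 2) ∧ a * (a * b) ^ 2 = b * a * b ∧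
      (a * b) ^ 2 * b = b * (a * b) ^ 2 ∧ (b * a) ^ 2 = (a * b) ^ 2 := by
  have h4 : (a * b) ^ 4 = 1 := by rw [← h, pow_orderOf_eq_one]
  have hc : (a * b) ^ 2 ∈ D := by
    rcases hD.pair a ha b hb with h' | h' | h'
    · have h2 := orderOf_dvd_of_pow_eq_one (sq_eq_one_of_comm hD ha hb h')
      rw [h] at h2
      exact absurd (Nat.le_of_dvd (by norm_num) h2) (by norm_num)
    · rw [h] at h'; exact absurd h' (by decide)
    · exact h'.2
  exact ⟨⟨ha, hc, (sq_comm_left hD ha hb h4).symm, by rw [← conj_right hD ha]; exact conj hD hb ha⟩,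
    (conj_right hD ha).symm, sq_comm_right hD ha hb h4, sq_symm hD ha hb h4⟩

theorem Tri.symm {a b : G} (h : Tri D a b) : Tri D b a :=
  ⟨h.2.1, h.1, h.2.2.1.symm, h.2.2.1 ▸ h.2.2.2⟩

theorem Tri.third {a b : G} (h : Tri D a b) : Tri D a (a * b) := by
  obtain ⟨ha, hb, hc, hab⟩ := h
  exact ⟨ha, hab, by rw [mul_assoc, hc], by rw [cancel hD ha]; exact hb⟩

theorem Tri.ne {a b : G} (h : Tri D a b) : a ≠ b := fun e => by
  have h1 := ne_one hD h.2.2.2
  rw [← e] at h1
  exact h1 (sq_one hD h.1)

/-- A member commuting with both ends of an odd pair gives no triple with them. -/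
theorem L0 {a y z : G} (h : Tri D a y) (hz : z ∈ oddPartners D y) (hc : a * z = z * a) : False := by
  obtain ⟨ha, hy, hay, hayD⟩ := h
  have hn : y * z ≠ 1 := ne_one_of_odd hD hy hz
  have hco : Commute a (y * z) := Commute.mul_right hay hc
  have ho : orderOf (a * y * z) = 2 * orderOf (y * z) := by
    rw [mul_assoc, hco.orderOf_mul_eq_mul_orderOf_of_coprime
      (by rw [hD.orderOf_eq a ha]; exact hz.2.2.coprime_two_left), hD.orderOf_eq a ha]
  rcases hD.pair (a * y) hayD z hz.1 with hcom | hodd | ⟨h4, -⟩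
  · have h2 := orderOf_dvd_of_pow_eq_one (sq_eq_one_of_comm hD hayD hz.1 hcom)
    rw [ho] at h2
    have h1 : orderOf (y * z) = 1 := by
      have := Nat.le_of_dvd (by norm_num) h2
      have := orderOf_pos (y * z)
      omega
    exact hn (orderOf_eq_one_iff.1 h1)
  · rw [ho] at hodd
    exact Nat.not_odd_iff_even.2 (even_two_mul _) hodd
  · obtain ⟨m, hm⟩ := hz.2.2
    omega

/-- A member commuting with one member of a triple has no odd product with the others. -/
theorem T2 {a b z : G} (h : Tri D a b) (hz : a * z = z * a) :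
    z ∉ oddPartners D b ∧ z ∉ oddPartners D (a * b) :=
  ⟨fun ho => L0 hD h ho hz, fun ho => L0 hD (Tri.third hD h) ho hz⟩

/-- An odd partner of the third member of a triple is an odd partner of one of the others. -/
theorem T1 {a b x : G} (h : Tri D a b) (hx : x ∈ oddPartners D (a * b)) :
    x ∈ oddPartners D a ∨ x ∈ oddPartners D b := by
  by_contra hcon
  push Not at hcon
  obtain ⟨hxa, hxb⟩ := hcon
  have hxD := hx.1
  have habD := h.2.2.2
  have aux : ∀ a b : G, Tri D a b → x ∈ oddPartners D (a * b) → x ∉ oddPartners D a →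
      x ∉ oddPartners D b → ((a * x) ^ 2) ∈ D ∧
      ((a * x) ^ 2) ∉ oddPartners D b ∧ (b * x) ^ 2 ∈ D ∧ (a * x) ^ 2 * b ≠ b * (a * x) ^ 2 := by
    intro a b h hx hxa hxb
    have hh := h
    obtain ⟨ha, hb, hab, habD⟩ := hh
    have hnc : a * x ≠ x * a := fun e => (T2 hD (z := x) h e).2 hx
    have hnc' : b * x ≠ x * b := fun e => (T2 hD (z := x) (Tri.symm hD h) e).2 (hab ▸ hx)
    obtain ⟨h4, heD⟩ := four hD ha hxD hnc hxa
    obtain ⟨h4', he'D⟩ := four hD hb hxD hnc' hxb
    have p : (a * x) ^ 4 = 1 := by rw [← h4, pow_orderOf_eq_one]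
    have p' : (b * x) ^ 4 = 1 := by rw [← h4', pow_orderOf_eq_one]
    set e := (a * x) ^ 2 with he
    set e' := (b * x) ^ 2 with he'
    have cea : a * e = e * a := (sq_comm_left hD ha hxD p).symm
    refine ⟨heD, fun ho => L0 hD ⟨ha, hb, hab, habD⟩ ho cea, he'D, fun ceb => ?_⟩
    -- `e` would commute with `a * b * x`
    have cex : e * x = x * e := sq_comm_right hD ha hxD p
    have hxc : x * (a * b) * x = a * e * (b * e') := by
      rw [← conj_right hD ha, ← conj_right hD hb]
      simp only [mul_assoc, cancel hD hxD]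
    have hu : (a * b * x) ^ 2 = e * e' := by
      calc (a * b * x) ^ 2 = a * b * (x * (a * b) * x) := by rw [sq]; simp only [mul_assoc]
        _ = b * (a * (a * e * (b * e'))) := by rw [hxc, hab]; simp only [mul_assoc]
        _ = b * (e * b) * e' := by simp only [mul_assoc, cancel hD ha]
        _ = e * e' := by rw [ceb, cancel hD hb]
    have cec : Commute e (a * b * x) := (Commute.mul_right (show Commute e a from cea.symm)
      (show Commute e b from ceb)).mul_right cex
    have c1 : Commute e (e * e') := hu ▸ cec.pow_right 2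
    have cee : Commute e e' := by
      have := mul_left_cancel (c1.eq.trans (mul_assoc e e' e))
      exact this
    refine pow_four_ne hD habD hx ?_
    rw [show (4 : ℕ) = 2 * 2 from rfl, pow_mul, hu, cee.mul_pow, he, he', ← pow_mul, ← pow_mul, p, p',
      one_mul]
  have hh := h
  obtain ⟨ha, hb, hab, -⟩ := hh
  obtain ⟨heD, hbe, he'D, hne⟩ := aux a b h hx hxa hxb
  obtain ⟨-, hae', -, -⟩ := aux b a (Tri.symm hD h) (hab ▸ hx) hxb hxa
  have p : (a * x) ^ 4 = 1 := pow_four hD ha hxD hxa
  have p' : (b * x) ^ 4 = 1 := pow_four hD hb hxD hxb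
  set e := (a * x) ^ 2 with he
  set e' := (b * x) ^ 2 with he'
  have q : (b * e) ^ 4 = 1 := pow_four hD hb heD hbe
  have q' : (a * e') ^ 4 = 1 := pow_four hD ha he'D hae'
  set f := (b * e) ^ 2 with hf
  set f' := (a * e') ^ 2 with hf'
  have cea : Commute a e := (sq_comm_left hD ha hxD p).symm
  have ceb' : Commute b e' := (sq_comm_left hD hb hxD p').symm
  have cef : Commute f e := sq_comm_right hD hb heD q
  have cbf : Commute b f := (sq_comm_left hD hb heD q).symm
  have caf : Commute a f := (Commute.mul_right (show Commute a b from hab) cea).pow_right 2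
  have caf' : Commute a f' := (sq_comm_left hD ha he'D q').symm
  have hbeb : b * e * b = e * f := conj_left hD hb heD q
  set c := a * b with hc
  have hxc : x * c * x = a * e * (b * e') := by
    rw [hc, ← conj_right hD ha, ← conj_right hD hb]
    simp only [mul_assoc, cancel hD hxD]
  have hu : (c * x) ^ 2 = e * f * e' := by
    calc (c * x) ^ 2 = c * (x * c * x) := by rw [sq]; simp only [mul_assoc]
      _ = b * (a * (a * e * (b * e'))) := by rw [hxc, hab]; simp only [mul_assoc]
      _ = b * e * b * e' := by simp only [mul_assoc, cancel hD ha]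
      _ = e * f * e' := by rw [hbeb]
  have hcec : c * e * c = e * f := by
    calc c * e * c = b * (a * e) * (a * b) := by
          show a * b * e * (a * b) = _
          nth_rewrite 1 [show a * b = b * a from hab]; simp only [mul_assoc]
      _ = b * e * b := by rw [cea.eq]; simp only [mul_assoc, cancel hD ha]
      _ = e * f := hbeb
  have hcfc : c * f * c = f := by
    rw [((Commute.mul_left caf cbf : Commute (a * b) f)).eq, mul_assoc, sq_one hD habD, mul_one]
  have hce'c : c * e' * c = e' * f' := by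
    rw [← conj_left hD ha he'D q']
    nth_rewrite 2 [hab]
    calc a * b * e' * (b * a) = a * (b * e' * b) * a := by simp only [mul_assoc]
      _ = a * e' * a := by rw [ceb'.eq, mul_assoc e' b b, sq_one hD hb, mul_one]
  have hu1 : c * (e * f * e') * c = e * e' * f' := by
    calc c * (e * f * e') * c = c * e * c * (c * f * c) * (c * e' * c) := by
          simp only [mul_assoc, cancel hD habD]
      _ = e * f * f * (e' * f') := by rw [hcec, hcfc, hce'c]
      _ = e * e' * f' := by
          rw [mul_assoc e f f, hf, ← pow_add]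
          rw [show (b * e) ^ (2 + 2) = 1 from q]
          simp only [mul_one, mul_assoc]
  have hu2 : c * (e * f * e') * c = e' * e * f := by
    calc c * (e * f * e') * c = c * (c * x) ^ 2 * c := by rw [hu]
      _ = ((c * x) ^ 2)⁻¹ := by
          rw [← inv_pow, mul_inv_rev' hD habD hxD, sq, sq]
          simp only [mul_assoc, cancel hD habD]
      _ = e' * e * f := by
          rw [hu, mul_inv_rev, mul_inv_rev, inv_eq hD heD, inv_eq hD he'D,
            inv_eq_of_mul_eq_one_right (show f * f = 1 by rw [hf, ← pow_add]; exact q), cef.eq,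
            mul_assoc]
  have hf'eq : f' = (e' * e) ^ 2 * f := by
    have h0 := hu2.symm.trans hu1
    calc f' = e' * (e * (e * e' * f')) := by simp only [mul_assoc, cancel hD heD, cancel hD he'D]
      _ = (e' * e) ^ 2 * f := by rw [← h0, sq]; simp only [mul_assoc]
  have c2 : Commute a ((e' * e) ^ 2) := by
    have h1 : (e' * e) ^ 2 = f' * f⁻¹ := by rw [hf'eq, mul_inv_cancel_right]
    rw [h1]
    exact caf'.mul_right caf.inv_right
  have hodd : Odd (orderOf (e' * e)) := by
    have ho : Odd (orderOf ((c * x) ^ 2)) := hx.2.2.of_dvd_nat (orderOf_pow_dvd 2)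
    have h1 : (c * x) ^ 2 = b * (e * e') * b := by
      rw [hu, ← hbeb]; simp only [mul_assoc, ceb'.eq]
    rw [h1] at ho
    have hb1 : b * (e * e') * b = b * (e * e') * b⁻¹ := by rw [inv_eq hD hb]
    rw [hb1, ← MulAut.conj_apply, MulEquiv.orderOf_eq, ← orderOf_inv, mul_inv_rev' hD heD he'D] at ho
    exact ho
  have c3 : Commute a (e' * e) := by
    obtain ⟨k, hk⟩ := hodd
    have h1 : e' * e = ((e' * e) ^ 2) ^ (k + 1) := by
      rw [← pow_mul, show 2 * (k + 1) = orderOf (e' * e) + 1 by omega, pow_succ, pow_orderOf_eq_one,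
        one_mul]
    rw [h1]
    exact c2.pow_right _
  have c4 : Commute a e' := by
    have := c3.mul_right cea
    rwa [mul_assoc, sq_one hD heD, mul_one] at this
  have p2 : f' = 1 := sq_eq_one_of_comm hD ha he'D c4
  obtain ⟨-, -, -, hne'⟩ := aux b a (Tri.symm hD h) (hab ▸ hx) hxb hxa
  exact hne' c4.symm

theorem class_of_connected (hc : IsConnectedSet (OddAdj D) D) {a b : G} (ha : a ∈ D) (hb : b ∈ D) :
    ∃ g : G, g * a * g⁻¹ = b := by
  induction hc a ha b hb with
  | refl => exact ⟨1, by simp⟩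
  | @tail u v _ huv ih =>
    obtain ⟨huD, hvD, -, k, hk⟩ := huv
    obtain ⟨g, hg⟩ := ih huD
    refine ⟨(v * u) ^ (k + 1) * g, ?_⟩
    have hconj : u * ((v * u) ^ (k + 1))⁻¹ = (v * u) ^ (k + 1) * u := by
      rw [← inv_pow, mul_inv_rev' hD hvD huD]
      generalize k + 1 = m
      induction m with
      | zero => simp
      | succ m ihm =>
        rw [pow_succ (u * v), ← mul_assoc, ihm, pow_succ (v * u)]
        simp only [mul_assoc, cancel hD huD, sq_one hD huD, mul_one]
    calc (v * u) ^ (k + 1) * g * a * ((v * u) ^ (k + 1) * g)⁻¹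
        = (v * u) ^ (k + 1) * (g * a * g⁻¹) * ((v * u) ^ (k + 1))⁻¹ := by group
      _ = (v * u) ^ (2 * k + 1 + 1) * u := by
          rw [hg, mul_assoc, hconj, ← mul_assoc, ← pow_add]; congr 2; omega
      _ = v := by
          have hord : orderOf (v * u) = 2 * k + 1 := by rw [orderOf_symm hD huD hvD]; exact hk
          rw [pow_succ, ← hord, pow_orderOf_eq_one, one_mul, mul_assoc, sq_one hD huD, mul_one]

theorem odd_conj {x y : G} (h : y ∈ oddPartners D x) (g : G) :
    g * y * g⁻¹ ∈ oddPartners D (g * x * g⁻¹) := by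
  refine ⟨hD.conj_mem y h.1 g, fun e => h.2.1 (mul_left_cancel (mul_right_cancel e)), ?_⟩
  rw [show g * x * g⁻¹ * (g * y * g⁻¹) = g * (x * y) * g⁻¹ by group, ← MulAut.conj_apply,
    MulEquiv.orderOf_eq]
  exact h.2.2

theorem oddPartners_conj (x g : G) :
    oddPartners D (g * x * g⁻¹) = (fun y => g * y * g⁻¹) '' oddPartners D x := by
  ext y
  constructor
  · intro h
    refine ⟨g⁻¹ * y * g, ?_, by group⟩
    have := odd_conj hD h g⁻¹
    rwa [show g⁻¹ * (g * x * g⁻¹) * g⁻¹⁻¹ = x by group, inv_inv] at this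
  · rintro ⟨z, hz, rfl⟩
    exact odd_conj hD hz g

theorem oddPartners_eq_of_subset (hc : IsConnectedSet (OddAdj D) D) {a b : G} (ha : a ∈ D) (hb : b ∈ D)
    (h : oddPartners D a ⊆ oddPartners D b) : oddPartners D a = oddPartners D b := by
  obtain ⟨g, rfl⟩ := class_of_connected hD hc ha hb
  refine Set.eq_of_subset_of_ncard_le h ?_ (Set.toFinite _)
  rw [oddPartners_conj hD a g]
  exact Set.ncard_image_le (Set.toFinite _)

/-- The members `b` forming a triple with `a` with `b * x` of order four. -/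
def MoveSet (D : Set G) (a x : G) : Set G := {b | Tri D a b ∧ b * x ≠ x * b ∧ x ∉ oddPartners D b}

theorem move_mem {a b x : G} (hx : x ∈ oddPartners D a) (hb : b ∈ MoveSet D a x) :
    (b * x) ^ 2 ∈ MoveSet D x a := by
  obtain ⟨hab, hn, ho⟩ := hb
  obtain ⟨h4, hfD⟩ := four hD hab.2.1 hx.1 hn ho
  obtain ⟨-, he, hcx, hsym⟩ := tri_four hD hab.2.1 hx.1 h4
  have h4' : orderOf (x * b) = 4 := by rw [orderOf_symm hD hab.2.1 hx.1]; exact h4
  have hxf : Tri D x ((b * x) ^ 2) := by
    have := (tri_four hD hx.1 hab.2.1 h4').1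
    rwa [hsym] at this
  refine ⟨hxf, fun e => ?_, fun e => ?_⟩
  · exact (T2 hD (Tri.symm hD hxf) e).1 (mem_odd_symm hD hab.1 hx)
  · have hbf : b * (b * x) ^ 2 = (b * x) ^ 2 * b := (tri_four hD hab.2.1 hx.1 h4).1.2.2.1
    exact (T2 hD (Tri.symm hD hab) hbf).1 (mem_odd_symm hD hfD e)

theorem move_injective {a b b' x : G} (hx : x ∈ oddPartners D a) (hb : b ∈ MoveSet D a x)
    (hb' : b' ∈ MoveSet D a x) (h : (b * x) ^ 2 = (b' * x) ^ 2) : b = b' := by
  have odd_q : ∀ {b : G}, b ∈ MoveSet D a x → x ∈ oddPartners D (a * b) := by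
    rintro b ⟨hab, -, ho⟩
    have htri : Tri D (a * b) b :=
      ⟨hab.2.2.2, hab.2.1,
        (Commute.mul_left (show Commute a b from hab.2.2.1) (Commute.refl b)).eq,
        by rw [mul_assoc, sq_one hD hab.2.1, mul_one]; exact hab.1⟩
    exact (T1 hD htri (by rw [mul_assoc, sq_one hD hab.2.1, mul_one]; exact hx)).resolve_right ho
  have hq := (odd_q hb).2.2
  have hq' := (odd_q hb').2.2
  obtain ⟨⟨ha, hbD, hab, -⟩, hn, ho⟩ := hb
  obtain ⟨⟨-, hb'D, hab', -⟩, hn', ho'⟩ := hb'
  have hxD := hx.1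
  have p : (b * x) ^ 4 = 1 := pow_four hD hbD hxD ho
  have p' : (b' * x) ^ 4 = 1 := pow_four hD hb'D hxD ho'
  set f := (b * x) ^ 2 with hf
  have cfb : Commute f b := sq_comm_left hD hbD hxD p
  have cfb' : Commute f b' := by rw [h]; exact sq_comm_left hD hb'D hxD p'
  have hff : f * f = 1 := by rw [hf, ← pow_add]; exact p
  set z := b * b' with hz
  have czx : Commute z x := by
    show z * x = x * z
    have h1 : x * z * x = z := by
      calc x * z * x = x * b * x * (x * b' * x) := by rw [hz]; simp only [mul_assoc, cancel hD hxD]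
        _ = b * f * (b' * f) := by rw [conj_right hD hbD, conj_right hD hb'D, ← h]
        _ = z * (f * f) := by rw [hz]; simp only [mul_assoc]; rw [← mul_assoc f b', cfb'.eq, mul_assoc]
        _ = z := by rw [hff, mul_one]
    calc z * x = x * z * x * x := by rw [h1]
      _ = x * z := by rw [mul_assoc, sq_one hD hxD, mul_one]
  have cza : Commute z a :=
    Commute.mul_left (show Commute b a from hab.symm) (show Commute b' a from hab'.symm)
  set q := a * b * x with hqdef
  have hzi : z⁻¹ = b' * b := mul_inv_rev' hD hbD hb'D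
  have hzq : z * q = q * z⁻¹ := by
    calc z * q = a * (z * b) * x := by rw [hqdef, ← mul_assoc, ← mul_assoc, cza.eq]; simp only [mul_assoc]
      _ = a * b * (z⁻¹ * x) := by rw [hzi, hz]; simp only [mul_assoc]
      _ = q * z⁻¹ := by rw [czx.inv_left.eq, hqdef]; simp only [mul_assoc]
  have hzq2 : Commute z (q ^ 2) := by
    have h1 : z⁻¹ * q = q * z := by
      have := congrArg (fun t => z⁻¹ * t * z) hzq
      simpa [mul_assoc] using this.symm
    show z * q ^ 2 = q ^ 2 * z
    rw [sq, ← mul_assoc, hzq, mul_assoc, h1, ← mul_assoc]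
  have hzq1 : Commute z q := by
    obtain ⟨k, hk⟩ := hq
    have h1 : q = (q ^ 2) ^ (k + 1) := by
      rw [← pow_mul, show 2 * (k + 1) = orderOf q + 1 by omega, pow_succ, pow_orderOf_eq_one,
        one_mul]
    rw [h1]
    exact hzq2.pow_right _
  have hz2 : z * z = 1 := by
    have h1 : q * z = q * z⁻¹ := by rw [← hzq, hzq1.eq]
    have h2 := mul_left_cancel h1
    nth_rewrite 1 [h2]
    exact inv_mul_cancel z
  have hqz : q * z = a * b' * x := by
    rw [hqdef, mul_assoc (a * b) x z, ← czx.eq, hz]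
    simp only [mul_assoc, cancel hD hbD]
  have hz1 := eq_one_of_commute (hqz ▸ hq') hzq1 hz2 hq
  have hbb : b * b' = 1 := hz1
  rw [eq_inv_of_mul_eq_one_left hbb, inv_eq hD hb'D]

/-- A triple member with different odd partners is a square `(a * f) ^ 2`. -/
theorem exists_root (hc : IsConnectedSet (OddAdj D) D) {a b : G} (h : Tri D a b)
    (hne : oddPartners D a ≠ oddPartners D b) :
    ∃ f, orderOf (a * f) = 4 ∧ (a * f) ^ 2 = b ∧ Tri D b f := by
  obtain ⟨x, hxa, hxb⟩ : ∃ x, x ∈ oddPartners D a ∧ x ∉ oddPartners D b := by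
    by_contra hcon
    push Not at hcon
    exact hne (oddPartners_eq_of_subset hD hc h.1 h.2.1 hcon)
  have hax := mem_odd_symm hD h.1 hxa
  have hbmem : b ∈ MoveSet D a x :=
    ⟨h, fun e => (T2 hD (Tri.symm hD h) e).1 hxa, fun e => hxb e⟩
  let F : MoveSet D a x → MoveSet D x a := fun u => ⟨(u.1 * x) ^ 2, move_mem hD hxa u.2⟩
  let K : MoveSet D x a → MoveSet D a x := fun u => ⟨(u.1 * a) ^ 2, move_mem hD hax u.2⟩
  have hFi : Function.Injective F := fun u v e =>
    Subtype.ext (move_injective hD hxa u.2 v.2 (congrArg Subtype.val e))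
  have hKi : Function.Injective K := fun u v e =>
    Subtype.ext (move_injective hD hax u.2 v.2 (congrArg Subtype.val e))
  obtain ⟨u, hu⟩ := (Finite.injective_iff_surjective.1 (hKi.comp hFi)) ⟨b, hbmem⟩
  obtain ⟨htri, hn, ho⟩ := (F u).2
  have h4 := (four hD htri.2.1 h.1 hn ho).1
  have hb' : ((F u).1 * a) ^ 2 = b := congrArg Subtype.val hu
  refine ⟨(F u).1, by rw [orderOf_symm hD htri.2.1 h.1]; exact h4, ?_, ?_⟩
  · rw [(tri_four hD htri.2.1 h.1 h4).2.2.2]; exact hb'
  · have := (tri_four hD htri.2.1 h.1 h4).1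
    rw [hb'] at this
    exact Tri.symm hD this

open scoped commutatorElement in
/-- Members with the same odd partners commute. -/
theorem commute_of_sameOdd (hc : IsConnectedSet (OddAdj D) D) {d e : G} (hd : d ∈ D) (he : e ∈ D)
    (h : oddPartners D d = oddPartners D e) : d * e = e * d := by
  classical
  haveI : Fact (Nat.Prime 2) := ⟨Nat.prime_two⟩
  set E := {u | u ∈ D ∧ oddPartners D u = oddPartners D d} with hE
  have hno : ∀ u ∈ E, ∀ v ∈ E, v ∉ oddPartners D u := fun u hu v hv ho => by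
    rw [hu.2, ← hv.2] at ho
    exact not_odd_self hD v ho
  have hconjE : ∀ u ∈ E, ∀ v ∈ E, u * v * u⁻¹ ∈ E := fun u hu v hv => by
    refine ⟨hD.conj_mem v hv.1 u, ?_⟩
    rw [oddPartners_conj hD, hv.2, ← hu.2, ← oddPartners_conj hD, mul_inv_cancel_right]
  set U := Subgroup.closure E with hU
  have hEU : E ⊆ (U : Set G) := Subgroup.subset_closure
  have hinvE : ∀ x ∈ U, ∀ v ∈ E, x * v * x⁻¹ ∈ E := by
    intro x hx
    induction hx using Subgroup.closure_induction_left with
    | one => intro v hv; simpa using hv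
    | mul_left u hu y _ ih =>
      intro v hv
      rw [show u * y * v * (u * y)⁻¹ = u * (y * v * y⁻¹) * u⁻¹ by group]
      exact hconjE u hu _ (ih v hv)
    | inv_mul_cancel u hu y _ ih =>
      intro v hv
      rw [inv_eq hD hu.1, show u * y * v * (u * y)⁻¹ = u * (y * v * y⁻¹) * u⁻¹ by group]
      exact hconjE u hu _ (ih v hv)
  have hp : IsPGroup 2 U := by
    have hle : U ≤ (pCore 2 U).map U.subtype := by
      refine (Subgroup.closure_le _).2 fun u hu => ?_
      refine ⟨⟨u, hEU hu⟩, ?_, rfl⟩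
      by_contra hO
      obtain ⟨r, hr1, hro, hr⟩ := CfsgLib.LocalEvenB.exists_odd_inverted
        (v := (⟨u, hEU hu⟩ : U)) (Subtype.ext (sq_one hD hu.1)) hO
      obtain ⟨k, hk⟩ := hro
      have hr' : u * (r : G) * u = (r : G)⁻¹ := by
        have := congrArg Subtype.val hr
        simpa [inv_eq hD hu.1] using this
      set g := (r : G) ^ (k + 1) with hg
      have hg2 : g * g = r := by
        rw [hg, ← pow_add, show k + 1 + (k + 1) = orderOf r + 1 by omega, pow_succ, ← Subgroup.coe_pow,
          pow_orderOf_eq_one, OneMemClass.coe_one, one_mul]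
      have hug : g⁻¹ * u = u * g := by
        have h1 : u * g * u = g⁻¹ := by
          rw [hg, ← inv_pow, ← hr']
          have := conj_pow (a := u) (b := (r : G)) (i := k + 1)
          rw [inv_eq hD hu.1] at this
          exact this.symm
        rw [← h1, mul_assoc, sq_one hD hu.1, mul_one]
      have hv : g⁻¹ * u * g⁻¹⁻¹ ∈ E := hinvE _ (U.inv_mem (U.pow_mem r.2 _)) u hu
      have hprod : u * (g⁻¹ * u * g⁻¹⁻¹) = (r : G) := by
        rw [hug, inv_inv, mul_assoc u g g, hg2, cancel hD hu.1]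
      refine pow_four_ne hD hu.1 (b := g⁻¹ * u * g⁻¹⁻¹) ⟨hv.1, fun e => hr1 (Subtype.ext ?_), ?_⟩
        (pow_four hD hu.1 hv.1 (hno u hu _ hv))
      · rw [← hprod, e, sq_one hD hu.1]; rfl
      · rw [hprod, Subgroup.orderOf_coe]; exact ⟨k, hk⟩
    exact ((CfsgLib.Core.isPGroup_pCore 2 U).map U.subtype).to_le hle
  haveI := hp.isNilpotent
  obtain ⟨z, hz, hzc⟩ : ∃ z ∈ E, ∀ v ∈ E, z * v = v * z := by
    by_contra hcon
    push Not at hcon
    obtain ⟨n, hn⟩ := Subgroup.nilpotent_iff_lowerCentralSeries.1 (inferInstance : Group.IsNilpotent U)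
    have hstep : ∀ i, ∃ u : U, (u : G) ∈ E ∧ u ∈ Subgroup.lowerCentralSeries (⊤ : Subgroup U) i := by
      intro i
      induction i with
      | zero => exact ⟨⟨d, hEU ⟨hd, rfl⟩⟩, ⟨hd, rfl⟩, by simp⟩
      | succ i ih =>
        obtain ⟨u, huE, hui⟩ := ih
        obtain ⟨v, hv, hnc⟩ := hcon u huE
        obtain ⟨h4, hgD⟩ := four hD huE.1 hv.1 hnc (hno _ huE _ hv)
        obtain ⟨htri, he1, -, -⟩ := tri_four hD huE.1 hv.1 h4
        have hE' : (u : G) * ((u : G) * v) ^ 2 ∈ E := by
          rw [he1]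
          simpa [inv_eq hD hv.1] using hconjE v hv _ huE
        have hgE : ((u : G) * v) ^ 2 ∈ E := by
          refine ⟨hgD, oddPartners_eq_of_subset hD hc hgD hd fun y hy => ?_⟩
          rcases T1 hD (Tri.third hD htri) (by rwa [cancel hD htri.1]) with hy | hy
          · exact huE.2 ▸ hy
          · exact hE'.2 ▸ hy
        refine ⟨⟨_, hEU hgE⟩, hgE, ?_⟩
        rw [Subgroup.lowerCentralSeries_succ]
        have he2 : (⟨_, hEU hgE⟩ : U) = ⁅u, ⟨v, hEU hv⟩⁆ := by
          apply Subtype.ext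
          simp [commutatorElement_def, inv_eq hD huE.1, inv_eq hD hv.1, sq, mul_assoc]
        rw [he2]
        exact Subgroup.commutator_mem_commutator hui (Subgroup.mem_top _)
    obtain ⟨u, huE, hu⟩ := hstep n
    rw [hn, Subgroup.mem_bot] at hu
    exact ne_one hD huE.1 (by rw [hu]; rfl)
  obtain ⟨g, hg⟩ := class_of_connected hD hc hz.1 hd
  have hback : ∀ v ∈ E, g⁻¹ * v * g ∈ E := by
    intro v hv
    refine ⟨by simpa using hD.conj_mem v hv.1 g⁻¹, ?_⟩
    have h1 := oddPartners_conj hD v g⁻¹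
    rw [hv.2, ← oddPartners_conj hD d g⁻¹] at h1
    simp only [inv_inv] at h1
    rw [h1, ← hg, show g⁻¹ * (g * z * g⁻¹) * g = z by group]
    exact hz.2.trans (by rw [hg])
  have h1 := hzc _ (hback e ⟨he, h.symm⟩)
  calc d * e = g * (z * (g⁻¹ * e * g)) * g⁻¹ := by rw [← hg]; group
    _ = e * d := by rw [h1, ← hg]; group

/-- Members with the same odd partners have the same commuting members. -/
theorem commuting_eq_of_sameOdd (hc : IsConnectedSet (OddAdj D) D) {d e : G} (hd : d ∈ D)
    (he : e ∈ D) (h : oddPartners D d = oddPartners D e) :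
    commutingMembers D d = commutingMembers D e := by
  suffices H : ∀ d ∈ D, ∀ e ∈ D, oddPartners D d = oddPartners D e →
      commutingMembers D d ⊆ commutingMembers D e from
    (H d hd e he h).antisymm (H e he d hd h.symm)
  clear h hd he d e
  rintro d hd e he h x ⟨hxD, hxd⟩
  refine ⟨hxD, ?_⟩
  by_contra hne
  have hno : e ∉ oddPartners D x := fun ho =>
    not_odd_of_comm hD hd hxD hxd.symm (h.symm ▸ mem_odd_symm hD hxD ho)
  obtain ⟨h4, hgD⟩ := four hD hxD he hne hno
  obtain ⟨htri, hexe, hce, hsym⟩ := tri_four hD hxD he h4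
  have h4' : orderOf (e * x) = 4 := by rw [orderOf_symm hD hxD he]; exact h4
  obtain ⟨htri', hxex, -, -⟩ := tri_four hD he hxD h4'
  rw [hsym] at htri' hxex
  set g := (x * e) ^ 2 with hg
  have hA' : oddPartners D (x * e * x) = oddPartners D e := by
    have := oddPartners_conj hD e x
    rw [inv_eq hD hxD] at this
    rw [this, ← h]
    have := oddPartners_conj hD d x
    rw [inv_eq hD hxD, hxd, mul_assoc, sq_one hD hxD, mul_one] at this
    exact this.symm
  have hgA : oddPartners D g = oddPartners D e := by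
    refine oddPartners_eq_of_subset hD hc hgD he fun y hy => ?_
    rcases T1 hD (Tri.third hD htri') (by rwa [cancel hD he]) with hy | hy
    · exact hy
    · exact hA' ▸ hxex ▸ hy
  by_cases hx : oddPartners D x = oddPartners D e
  · exact hne (commute_of_sameOdd hD hc hxD he hx)
  obtain ⟨k, hk4, hk2, hxk⟩ := exists_root hD hc (Tri.symm hD htri) (by rwa [hgA, ne_comm])
  have hkD := hxk.2.1
  have hko : k ∉ oddPartners D g := fun ho => by
    have := ho.2.2; rw [hk4] at this; exact absurd this (by decide)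
  rw [hgA] at hko
  have p : (e * k) ^ 4 = 1 := pow_four hD he hkD hko
  set m := (e * k) ^ 2 with hm
  have cem : Commute m e := sq_comm_left hD he hkD p
  have cmk : Commute m k := sq_comm_right hD he hkD p
  have cge : Commute g e := hce
  have cxg : Commute x g := htri.2.2.1
  have cxk : Commute x k := hxk.2.2.1
  have hm2 : m * m = 1 := by rw [hm, ← pow_add]; exact p
  have h1 : k * g * k = g * x := by rw [conj_right hD hgD, hk2]
  have h2 : g * k * g = k * x := by
    rw [conj_left hD hgD hkD (by rw [← hk4, pow_orderOf_eq_one]), hk2]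
  have heke : e * k * e = k * m := conj_left hD he hkD p
  have h3 : (e * (k * x)) ^ 2 = m * x * g := by
    calc (e * (k * x)) ^ 2 = (e * k * e) * (e * x * e) * k * x := by
          rw [sq]; simp only [mul_assoc, cancel hD he]
      _ = (k * m) * (x * g) * k * x := by rw [heke, hexe]
      _ = m * (k * x) * g * k * x := by rw [← cmk.eq]; simp only [mul_assoc]
      _ = m * x * (k * g * k) * x := by rw [← cxk.eq]; simp only [mul_assoc]
      _ = m * x * g := by rw [h1]; simp only [mul_assoc, sq_one hD hxD, mul_one]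
  have h4'' : g * m * g = m * x * g := by
    have hconj : g * (e * k) * g = e * (g * k * g) := by
      rw [← mul_assoc g e k, cge.eq]; simp only [mul_assoc]
    rw [← h3, hm, ← h2, ← hconj]
    have := conj_pow (a := g) (b := e * k) (i := 2)
    rw [inv_eq hD hgD] at this
    exact this.symm
  have h5 : g * m = m * x := mul_right_cancel h4''
  have h6 : x = m * g * m := by rw [mul_assoc, h5, ← mul_assoc, hm2, one_mul]
  have h7 : Commute x e := by rw [h6]; exact (cem.mul_left cge).mul_left cem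
  exact hne h7.eq

end CfsgLib.ThreeTrans.RootInv
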