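import Cfsg.Agent.Lib.ThreeTrans.RootNondeg

set_option autoImplicit false

/-!
Lines of abstract root subgroups: every line lies in a plane pair normalizing it (owner: helper28).
-/

namespace CfsgLib.ThreeTrans.Root

open Cfsg Subgroup CfsgLib.ThreeTrans
open scoped commutatorElement

variable {G : Type*} [Group G] {S : Set (Subgroup G)} (hS : IsRootSubgroupSet S)
include hS

theorem plane_of_line {A B C F : Subgroup G} (hA : A ∈ S) (hB : B ∈ S) (hAB : IsRankOnePair A B)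
    (hC : C ∈ linePartners S A) (hF : F ∈ membersIn S (A ⊔ C)) (hFA : ⁅A, F⁆ = ⊥)
    (hFp : ∃ P ∈ S, IsRankOnePair F P) (hK : RootCommutatorCase S F B) : Plane S F B ⁅F, B⁆ A := by
  refine plane_of_pair hS hA hB hAB hF.1 hFA hFp hK.1 fun a ha f hf ha1 hf1 => ?_
  have hne : F ≠ A := by
    rintro rfl
    exact not_central_of_rankOne hAB fun c hc b hb => hK.2.1 c hc b (mem_sup_right hb)
  have h1 : a * f ≠ 1 := by
    intro e
    refine hne (trivial_intersection hS hA hB hAB hF.1 ha1 ha ?_)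
    rw [eq_inv_of_mul_eq_one_left e]; exact inv_mem hf
  obtain ⟨E, hE, hEm⟩ := hC.2.2.1 (a * f) (mul_mem (mem_sup_left ha) (hF.2 hf)) h1
  exact ⟨E, hE.1, hEm⟩

/-- A line `A ⊔ B` is `A ⊔ F` for a plane `(A, K, F, M)`. -/
theorem exists_line_plane (hF : ∀ A ∈ S, ∃ P ∈ S, IsRankOnePair A P) {A B : Subgroup G} (hA : A ∈ S)
    (hB : B ∈ linePartners S A) :
    ∃ F K M, Plane S A K F M ∧ F ∈ membersIn S (A ⊔ B) ∧ A ⊔ F = A ⊔ B ∧
      membersIn S (A ⊔ B) = (fun k : G => conjBy A k) '' (K : Set G) ∪ {F} := by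
  obtain ⟨P, hP, hAP⟩ := hF A hA
  obtain ⟨F, hFm, hne, hcom, hK, c, hc, hc1, hcAF⟩ :=
    exists_commutator_in_line hS hA hP hAP hB (hF B hB.1.1)
  have hpl := plane_of_line hS hA hP hAP hB hFm hcom (hF F hFm.1) hK
  set K := ⁅F, P⁆ with hKdef
  have hAK : ⁅A, K⁆ = F := (commutator_comm A K).trans hpl.eqA
  have hAKS : ⁅A, K⁆ ∈ S := hAK.symm ▸ hFm.1
  have hFline : F ∈ linePartners S A := hAK ▸ commutator_linePartner hS hA hP hAP hpl.memC hAKS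
  obtain ⟨Q, hQ, hFQ⟩ := hF F hFm.1
  have hAline : A ∈ linePartners S F := linePartners_symm hA hFline
  obtain ⟨F', hF', hne', -, hcase, -⟩ := exists_commutator_in_line hS hFm.1 hQ hFQ hAline ⟨P, hP, hAP⟩
  obtain ⟨M, hM, hMF⟩ : ∃ M ∈ S, ⁅F, M⁆ = A := by
    rw [sup_comm, ← hAK, membersIn_eq hS hA hP hAP hpl.memC hAKS] at hF'
    rcases hF' with ⟨k, hk, rfl⟩ | rfl
    · have hFk : conjBy F k⁻¹ = F := conjBy_eq_self_iff.2 (mem_normalizer_of_commute fun f hf =>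
        Commute.inv_left (hK.2.1 k hk f (mem_sup_left hf)))
      set Q' := conjBy Q k⁻¹ with hQ'def
      have hQ' : Q' ∈ S := hS.conj_mem Q hQ _
      have hFQ' : IsRankOnePair F Q' := by
        have := conjBy_rankOne hFQ k⁻¹
        rwa [hFk] at this
      have hC' : ⁅A, Q'⁆ ∈ S := by
        have h1 := hS.conj_mem _ hcase.1 k⁻¹
        have e : conjBy ⁅conjBy A k, Q⁆ k⁻¹ = ⁅A, Q'⁆ := by
          show (⁅conjBy A k, Q⁆ : Subgroup G).map _ = _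
          rw [map_commutator]
          show ⁅conjBy (conjBy A k) k⁻¹, conjBy Q k⁻¹⁆ = _
          rw [conjBy_conjBy, inv_mul_cancel, conjBy_one]
        rwa [e] at h1
      have hpl' := plane_of_pair hS hFm.1 hQ' hFQ' hA (by rw [commutator_comm]; exact hcom) ⟨P, hP, hAP⟩ hC'
        fun f hf a ha hf1 ha1 => by
          have h1 : f * a ≠ 1 := fun e => hne (trivial_intersection hS hA hP hAP hFm.1 ha1 ha
            (by rw [eq_inv_of_mul_eq_one_right e]; exact inv_mem hf))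
          obtain ⟨E, hE, hEm⟩ := hFline.2.2.1 (f * a) (mul_mem (mem_sup_right hf) (mem_sup_left ha)) h1
          exact ⟨E, hE.1, hEm⟩
      exact ⟨⁅A, Q'⁆, hC', (commutator_comm _ _).trans hpl'.eqA⟩
    · exact absurd hAK hne'
  have hsup : A ⊔ F = A ⊔ B := by
    refine le_antisymm (sup_le le_sup_left hFm.2) (sup_le le_sup_left ?_)
    obtain ⟨E, hE, hEm⟩ := (partition hS hA hP hAP hpl.memC hAKS).2.1 c (hAK.symm ▸ hcAF) hc1
    obtain ⟨R, hR, hBR⟩ := hF B hB.1.1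
    rw [← trivial_intersection hS hB.1.1 hR hBR hE.1 hc1 hc hEm]
    exact hE.2.trans (by rw [hAK])
  refine ⟨F, K, M, ⟨hA, hpl.memC, hFm.1, hM, hAK, hMF⟩, hFm, hsup, ?_⟩
  rw [← hsup, ← hAK]
  exact membersIn_eq hS hA hP hAP hpl.memC hAKS

theorem line_two_transitive (hF : ∀ A ∈ S, ∃ P ∈ S, IsRankOnePair A P) {A B : Subgroup G} (hA : A ∈ S)
    (hB : B ∈ linePartners S A) {C₁ C₂ D₁ D₂ : Subgroup G} (h1 : C₁ ∈ membersIn S (A ⊔ B))
    (h2 : C₂ ∈ membersIn S (A ⊔ B)) (h3 : D₁ ∈ membersIn S (A ⊔ B)) (h4 : D₂ ∈ membersIn S (A ⊔ B))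
    (hC : C₁ ≠ C₂) (hD : D₁ ≠ D₂) :
    ∃ x ∈ ⨆ E ∈ normalizingMembers S (A ⊔ B), E, conjBy C₁ x = D₁ ∧ conjBy C₂ x = D₂ := by
  obtain ⟨F, K, M, hpl, -, hsup, hmem⟩ := exists_line_plane hS hF hA hB
  set X := ⨆ E ∈ normalizingMembers S (A ⊔ B), E with hX
  have hle : K ⊔ M ≤ X := by
    have hn : ∀ g ∈ K ⊔ M, g ∈ normalizer ((A ⊔ B : Subgroup G) : Set G) := fun g hg => by
      rw [← conjBy_eq_self_iff, ← hsup]
      exact hpl.normalizes hS hg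
    refine sup_le ?_ ?_
    · exact le_biSup (fun E : Subgroup G => E) (show K ∈ normalizingMembers S (A ⊔ B) from
        ⟨hpl.memB, fun g hg => hn g (mem_sup_left hg)⟩)
    · exact le_biSup (fun E : Subgroup G => E) (show M ∈ normalizingMembers S (A ⊔ B) from
        ⟨hpl.memD, fun g hg => hn g (mem_sup_right hg)⟩)
  have horb : ∀ E ∈ membersIn S (A ⊔ B), ∃ x ∈ K ⊔ M, conjBy E x = F := by
    intro E hE
    rw [hmem, ← hpl.orbit_of_C hS] at hE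
    obtain ⟨x, hx, rfl⟩ := hE
    exact ⟨x⁻¹, inv_mem hx, by rw [conjBy_conjBy, inv_mul_cancel, conjBy_one]⟩
  have key : ∀ E₁ E₂, E₁ ∈ membersIn S (A ⊔ B) → E₂ ∈ membersIn S (A ⊔ B) → E₁ ≠ E₂ →
      ∃ x ∈ K ⊔ M, conjBy E₁ x = F ∧ conjBy E₂ x = A := by
    intro E₁ E₂ hE₁ hE₂ hne
    obtain ⟨x, hx, e⟩ := horb E₁ hE₁
    rw [hmem] at hE₂
    have h5 := (hpl.orbit_conj hS hx E₂ hE₂).1
    rcases h5 with ⟨k, hk, e2⟩ | e2
    · refine ⟨k⁻¹ * x, mul_mem (inv_mem (mem_sup_left hk)) hx, ?_, ?_⟩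
      · rw [← conjBy_conjBy, e, hpl.fix_C hS (inv_mem hk)]
      · rw [← conjBy_conjBy, ← e2, conjBy_conjBy, inv_mul_cancel, conjBy_one]
    · exact absurd (conjBy_inj (e.trans e2.symm)) hne
  obtain ⟨x, hx, x1, x2⟩ := key C₁ C₂ h1 h2 hC
  obtain ⟨y, hy, y1, y2⟩ := key D₁ D₂ h3 h4 hD
  refine ⟨y⁻¹ * x, hle (mul_mem (inv_mem hy) hx), ?_, ?_⟩
  · rw [← conjBy_conjBy, x1, ← y1, conjBy_conjBy, inv_mul_cancel, conjBy_one]
  · rw [← conjBy_conjBy, x2, ← y2, conjBy_conjBy, inv_mul_cancel, conjBy_one]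

end CfsgLib.ThreeTrans.Root
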