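import Cfsg.Agent.Lib.ThreeTrans.RootSets

set_option autoImplicit false

/-!
Two members `B`, `D` moving two commuting members `A`, `C` into each other (owner: helper28).
-/

namespace CfsgLib.ThreeTrans.Root

open Cfsg Subgroup CfsgLib.ThreeTrans
open scoped commutatorElement

variable {G : Type*} [Group G] {S : Set (Subgroup G)} (hS : IsRootSubgroupSet S)
include hS

/-- Symmetric form of the configuration: `C = ⁅A, B⁆` and `A = ⁅C, D⁆`. -/
structure Plane (S : Set (Subgroup G)) (A B C D : Subgroup G) : Prop where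
  memA : A ∈ S
  memB : B ∈ S
  memC : C ∈ S
  memD : D ∈ S
  eqC : ⁅A, B⁆ = C
  eqA : ⁅C, D⁆ = A

namespace Plane

variable {A B C D : Subgroup G} (h : Plane S A B C D)
include h

omit hS in
theorem swap : Plane S C D A B := ⟨h.memC, h.memD, h.memA, h.memB, h.eqA, h.eqC⟩

theorem caseAB : RootCommutatorCase S A B := rootCase_of_mem hS h.memA h.memB (h.eqC ▸ h.memC)

theorem caseCD : RootCommutatorCase S C D := h.swap.caseAB hS

theorem commute_C {c x : G} (hc : c ∈ C) (hx : x ∈ A ⊔ B) : Commute c x :=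
  (h.caseAB hS).2.1 c (h.eqC.symm ▸ hc) x hx

theorem commute_A {a x : G} (ha : a ∈ A) (hx : x ∈ C ⊔ D) : Commute a x :=
  (h.swap.commute_C hS) ha hx

theorem mem_C {a b : G} (ha : a ∈ A) (hb : b ∈ B) : ⁅a, b⁆ ∈ C := h.eqC ▸ commutator_mem_commutator ha hb

theorem rankOne : IsRankOnePair B D := by
  rcases hS.pair B h.memB D h.memD with hc | hr | hcc
  · exfalso
    -- the three subgroup identity
    obtain ⟨c, hc', hc1⟩ := (Subgroup.bot_or_exists_ne_one C).resolve_left (hS.ne_bot C h.memC)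
    obtain ⟨d, hd, hd1⟩ := (Subgroup.bot_or_exists_ne_one D).resolve_left (hS.ne_bot D h.memD)
    refine hS.ne_bot A h.memA ?_
    rw [← h.eqA, commutator_eq_bot_iff_le_centralizer]
    intro x hx
    refine mem_centralizer_iff.2 fun y hy => ?_
    have hle : C ≤ centralizer ({y} : Set G) := by
      refine (h.eqC.ge).trans (commutator_le.2 fun a ha b hb => mem_centralizer_singleton_iff.2 ?_)
      have h1 : Commute a y := h.commute_A hS ha (mem_sup_right hy)
      have h2 : Commute b y := commute_of_commutator_eq_bot hc hb hy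
      exact (((h1.mul_left h2).mul_left h1.inv_left).mul_left h2.inv_left).eq
    exact (mem_centralizer_singleton_iff.1 (hle hx)).symm
  · exact hr
  exfalso
  set F := ⁅B, D⁆ with hF
  have hFcen : ∀ f ∈ F, ∀ x ∈ B ⊔ D, Commute f x := fun f hf x hx => hcc.2.1 f hf x hx
  obtain ⟨b, hb, hb1⟩ := (Subgroup.bot_or_exists_ne_one B).resolve_left (hS.ne_bot B h.memB)
  obtain ⟨d, hd, hfne⟩ : ∃ d ∈ D, ⁅b, d⁆ ≠ 1 := by
    by_contra hno
    push Not at hno
    refine hS.ne_bot F hcc.1 ?_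
    rw [hF, ← hcc.2.2.1 b hb hb1, closure_eq_bot_iff]
    rintro _ ⟨d, hd, rfl⟩
    exact hno d hd
  set f := ⁅b, d⁆ with hf
  have hfF : f ∈ F := commutator_mem_commutator hb hd
  have hd1 : d ≠ 1 := fun e => hfne (by rw [hf, e, commutatorElement_one_right])
  -- `A, F` is not a rank one pair
  have hnAF : ¬ IsRankOnePair A F := by
    intro hr
    have hz : ∀ x ∈ F ⊔ A, d * x = x * d := by
      intro x hx
      have hle : F ⊔ A ≤ centralizer ({d} : Set G) := by
        refine sup_le (fun y hy => ?_) (fun y hy => ?_) <;> rw [mem_centralizer_singleton_iff]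
        · exact (hFcen y hy d (mem_sup_right hd)).eq
        · exact (h.commute_A hS hy (mem_sup_right hd)).eq
      exact (mem_centralizer_singleton_iff.1 (hle hx)).symm
    refine hd1 (central_translate hS hcc.1 h.memA (RankOnePair_symm hr) (hS.conj_mem D h.memD b)
      hz hfF hfne ?_).2
    have e : d * f = b * d * b⁻¹ := by
      rw [(hFcen f hfF d (mem_sup_right hd)).symm.eq, hf, commutatorElement_def]; group
    rw [e]; exact conj_mem_conjBy hd
  have hnCF : ¬ IsRankOnePair C F := by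
    intro hr
    have hz : ∀ x ∈ F ⊔ C, b * x = x * b := by
      intro x hx
      have hle : F ⊔ C ≤ centralizer ({b} : Set G) := by
        refine sup_le (fun y hy => ?_) (fun y hy => ?_) <;> rw [mem_centralizer_singleton_iff]
        · exact (hFcen y hy b (mem_sup_left hb)).eq
        · exact (h.commute_C hS hy (mem_sup_right hb)).eq
      exact (mem_centralizer_singleton_iff.1 (hle hx)).symm
    refine hb1 (central_translate hS hcc.1 h.memC (RankOnePair_symm hr) (hS.conj_mem B h.memB d)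
      hz (inv_mem hfF) (inv_ne_one.2 hfne) ?_).2
    have e : b * f⁻¹ = d * b * d⁻¹ := by
      rw [((hFcen f hfF b (mem_sup_left hb)).inv_left).symm.eq, hf, commutatorElement_def]; group
    rw [e]; exact conj_mem_conjBy hb
  -- some `⁅d, ⁅a, b⁆⁆` is not trivial
  obtain ⟨a, ha, halpha⟩ : ∃ a ∈ A, ⁅d, ⁅a, b⁆⁆ ≠ 1 := by
    by_contra hno
    push Not at hno
    have hle : C ≤ centralizer ({d} : Set G) := by
      rw [← h.eqC, ← (h.caseAB hS).2.2.2 b hb hb1, closure_le]
      rintro _ ⟨a, ha, rfl⟩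
      exact mem_centralizer_singleton_iff.2 ((commutatorElement_eq_one_iff_commute.1 (hno a ha)).symm.eq)
    refine hS.ne_bot A h.memA ?_
    rw [← h.eqA, ← (h.caseCD hS).2.2.2 d hd hd1, closure_eq_bot_iff]
    rintro _ ⟨c, hc, rfl⟩
    exact commutatorElement_eq_one_iff_commute.2 (mem_centralizer_singleton_iff.1 (hle hc) : c * d = d * c)
  set c := ⁅a, b⁆ with hc
  set α := ⁅d, c⁆ with hα
  have hcC : c ∈ C := h.mem_C hS ha hb
  have hαA : α ∈ A := by rw [← h.eqA, commutator_comm]; exact commutator_mem_commutator hd hcC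
  have hcentral : ∀ {X : Subgroup G}, X ∈ S → ¬ IsRankOnePair X F → ∀ x ∈ X, ∀ f' ∈ F, ∀ f'' ∈ F,
      Commute ⁅x, f'⁆ f'' := by
    intro X hX hn x hx f' hf' f'' hf''
    rcases hS.pair X hX F hcc.1 with h' | h' | h'
    · rw [commutatorElement_eq_one_iff_commute.2 (commute_of_commutator_eq_bot h' hx hf')]
      exact Commute.one_left _
    · exact absurd h' hn
    · exact h'.2.1 _ (commutator_mem_commutator hx hf') f'' (mem_sup_right hf'')
  have hkey : ∀ f'' ∈ F, Commute α f'' := by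
    intro f'' hf''
    have h1 : d * b * d⁻¹ = f⁻¹ * b := by rw [hf, commutatorElement_def]; group
    have h2 : d * a * d⁻¹ = a := by
      rw [show d * a = a * d from (h.commute_A hS ha (mem_sup_right hd)).eq.symm, mul_inv_cancel_right]
    have e1 : d * c * d⁻¹ = ⁅a, f⁻¹ * b⁆ := by
      rw [← h1]; conv_rhs => rw [← h2]
      rw [hc]; simp only [commutatorElement_def]; group
    have e2 : α = ⁅a, f⁻¹⁆ * ⁅c, f⁻¹⁆⁻¹ := by
      have : α = d * c * d⁻¹ * c⁻¹ := by rw [hα, commutatorElement_def]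
      rw [this, e1, hc]; simp only [commutatorElement_def]; group
    rw [e2]
    exact (hcentral h.memA hnAF a ha _ (inv_mem hfF) f'' hf'').mul_left
      (hcentral h.memC hnCF c hcC _ (inv_mem hfF) f'' hf'').inv_left
  rcases hS.pair A h.memA F hcc.1 with h' | h' | h'
  · -- the first commutator of the identity vanishes
    refine halpha ?_
    have h1 : d * b * d⁻¹ = f⁻¹ * b := by rw [hf, commutatorElement_def]; group
    have h2 : d * a * d⁻¹ = a := by
      rw [show d * a = a * d from (h.commute_A hS ha (mem_sup_right hd)).eq.symm, mul_inv_cancel_right]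
    have e1 : d * c * d⁻¹ = ⁅a, f⁻¹ * b⁆ := by
      rw [← h1]; conv_rhs => rw [← h2]
      rw [hc]; simp only [commutatorElement_def]; group
    have haf : Commute a f⁻¹ := commute_of_commutator_eq_bot h' ha (inv_mem hfF)
    have hbf : Commute b f⁻¹ := (hFcen _ (inv_mem hfF) b (mem_sup_left hb)).symm
    have hcf : Commute c f⁻¹ := ((haf.mul_left hbf).mul_left haf.inv_left).mul_left hbf.inv_left
    have e3 : ⁅a, f⁻¹ * b⁆ = ⁅a, f⁻¹⁆ * (f⁻¹ * c * f) := by rw [hc]; simp only [commutatorElement_def]; group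
    rw [e3, commutatorElement_eq_one_iff_commute.2 haf, one_mul, ← hcf.eq, inv_mul_cancel_right] at e1
    show d * c * d⁻¹ * c⁻¹ = 1
    rw [e1, mul_inv_cancel]
  · exact hnAF h'
  · refine hS.ne_bot _ h'.1 ?_
    rw [← h'.2.2.1 α hαA halpha, closure_eq_bot_iff]
    rintro _ ⟨f'', hf'', rfl⟩
    exact commutatorElement_eq_one_iff_commute.2 (hkey f'' hf'')

theorem fix_C {b : G} (hb : b ∈ B) : conjBy C b = C :=
  conjBy_eq_self_iff.2 (mem_normalizer_of_commute fun c hc => ((h.commute_C hS hc (mem_sup_right hb)).symm).eq)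

theorem normalizes_left {b : G} (hb : b ∈ B) {x : G} (hx : x ∈ A ⊔ C) : b * x * b⁻¹ ∈ A ⊔ C := by
  have hle : A ⊔ C ≤ (A ⊔ C).comap (MulAut.conj b).toMonoidHom := by
    refine sup_le (fun a ha => ?_) (fun c hc => ?_)
    · show b * a * b⁻¹ ∈ A ⊔ C
      rw [show b * a * b⁻¹ = a * ⁅a⁻¹, b⁆ by rw [commutatorElement_def]; group]
      exact mul_mem (mem_sup_left ha) (mem_sup_right (h.mem_C hS (inv_mem ha) hb))
    · show b * c * b⁻¹ ∈ A ⊔ C
      rw [show b * c = c * b from (h.commute_C hS hc (mem_sup_right hb)).symm.eq, mul_inv_cancel_right]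
      exact mem_sup_right hc
  exact hle hx

theorem normalizes {g : G} (hg : g ∈ B ⊔ D) : conjBy (A ⊔ C) g = A ⊔ C := by
  let N : Subgroup G :=
    { carrier := {g | conjBy (A ⊔ C) g = A ⊔ C}
      one_mem' := conjBy_one _
      mul_mem' := fun {x y} hx hy => by
        show conjBy _ _ = _
        rw [← conjBy_conjBy, hy, hx]
      inv_mem' := fun {x} hx => by
        show conjBy _ _ = _
        conv_lhs => rw [← hx]
        rw [conjBy_conjBy, inv_mul_cancel, conjBy_one] }
  have key : ∀ {A B C D : Subgroup G}, Plane S A B C D → ∀ b ∈ B, conjBy (A ⊔ C) b = A ⊔ C := by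
    intro A B C D hp b hb
    refine le_antisymm ?_ ?_
    · rintro _ ⟨x, hx, rfl⟩
      exact hp.normalizes_left hS hb hx
    · intro x hx
      rw [mem_conjBy]
      have := hp.normalizes_left hS (inv_mem hb) hx
      rwa [inv_inv] at this
  have hle : B ⊔ D ≤ N := by
    refine sup_le (fun b hb => key h b hb) (fun d hd => ?_)
    show conjBy (A ⊔ C) d = A ⊔ C
    rw [sup_comm]
    exact key h.swap d hd
  exact hle hg

theorem exists_factor' {x : G} (hx : x ∈ A ⊔ C) : ∃ a ∈ A, ∃ c ∈ C, x = a * c := by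
  have hle : A ≤ normalizer (C : Set G) := fun a ha =>
    mem_normalizer_of_commute fun c hc => (h.commute_C hS hc (mem_sup_left ha)).symm.eq
  rw [← SetLike.mem_coe, Subgroup.coe_mul_of_left_le_normalizer_right A C hle] at hx
  obtain ⟨a, ha, c, hc, e⟩ := hx
  exact ⟨a, ha, c, hc, e.symm⟩

theorem eq_one_of_commute_B {a : G} (ha : a ∈ A) (hab : ∀ b ∈ B, Commute a b) : a = 1 := by
  by_contra ha1
  refine hS.ne_bot C h.memC ?_
  rw [← h.eqC, ← (h.caseAB hS).2.2.1 a ha ha1, closure_eq_bot_iff]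
  rintro _ ⟨b, hb, rfl⟩
  exact commutatorElement_eq_one_iff_commute.2 (hab b hb)

/-- The fixed points of `B` on the line are `C`. -/
theorem fixed_B {x : G} (hx : x ∈ A ⊔ C) (hxb : ∀ b ∈ B, Commute x b) : x ∈ C := by
  obtain ⟨a, ha, c, hc, rfl⟩ := h.exists_factor' hS hx
  have ha1 : a = 1 := h.eq_one_of_commute_B hS ha fun b hb => by
    have := (hxb b hb).mul_left (h.commute_C hS hc (mem_sup_right hb)).inv_left
    rwa [mul_inv_cancel_right] at this
  rw [ha1, one_mul]; exact hc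

omit hS h in
theorem commute_conj {x e g : G} (hxe : Commute (g⁻¹ * x * g) e) : Commute x (g * e * g⁻¹) := by
  have := hxe.map (MulAut.conj g).toMonoidHom
  rwa [show (MulAut.conj g).toMonoidHom (g⁻¹ * x * g) = x by simp [mul_assoc]] at this

theorem conj_B_eq {b d : G} (hb : b ∈ B) (hd : d ∈ D) (he : conjBy B d⁻¹ = conjBy D b) :
    conjBy A b = conjBy C d⁻¹ := by
  have hX := h.normalizes hS (mem_sup_left (T := D) hb)
  have hX' := h.normalizes hS (mem_sup_right (S := B) (inv_mem hd))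
  refine le_antisymm (fun x hx => ?_) (fun x hx => ?_)
  · rw [mem_conjBy]
    refine h.fixed_B hS ?_ fun e he' => ?_
    · have h1 : x ∈ A ⊔ C := hX ▸ conjBy_mono le_sup_left b hx
      rw [← hX'] at h1
      exact mem_conjBy.1 h1
    · have h1 : d⁻¹ * e * d⁻¹⁻¹ ∈ conjBy D b := he ▸ conj_mem_conjBy he'
      obtain ⟨d', hd', e'⟩ := h1
      have h2 : Commute (b⁻¹ * x * b) d' := h.commute_A hS (mem_conjBy.1 hx) (mem_sup_right hd')
      have h3 : Commute x (d⁻¹ * e * d⁻¹⁻¹) := e' ▸ commute_conj h2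
      have := h3.map (MulAut.conj d).toMonoidHom
      simpa [mul_assoc] using this
  · rw [mem_conjBy]
    refine h.swap.fixed_B hS ?_ fun e he' => ?_
    · have h1 : x ∈ A ⊔ C := hX' ▸ conjBy_mono le_sup_right d⁻¹ hx
      rw [← hX] at h1
      rw [sup_comm]
      exact mem_conjBy.1 h1
    · have h1 : b * e * b⁻¹ ∈ conjBy B d⁻¹ := he.symm ▸ conj_mem_conjBy he'
      obtain ⟨b', hb', e'⟩ := h1
      have h2 : Commute (d⁻¹⁻¹ * x * d⁻¹) b' := h.commute_C hS (mem_conjBy.1 hx) (mem_sup_right hb')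
      have h3 : Commute x (b * e * b⁻¹) := e' ▸ commute_conj h2
      have := h3.map (MulAut.conj b⁻¹).toMonoidHom
      simpa [mul_assoc] using this

theorem orbit_eq :
    (fun b : G => conjBy A b) '' (B : Set G) ∪ {C} = (fun d : G => conjBy C d) '' (D : Set G) ∪ {A} := by
  have key : ∀ {A B C D : Subgroup G}, Plane S A B C D →
      (fun b : G => conjBy A b) '' (B : Set G) ∪ {C} ⊆ (fun d : G => conjBy C d) '' (D : Set G) ∪ {A} := by
    rintro A B C D hp E (⟨b, hb, rfl⟩ | rfl)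
    · by_cases hb1 : b = 1
      · exact Or.inr (show conjBy A b = A by rw [hb1, conjBy_one])
      obtain ⟨d, hd, -, he⟩ := (hp.rankOne hS).cond_left b⁻¹ (inv_mem hb) (inv_ne_one.2 hb1)
      rw [inv_inv] at he
      exact Or.inl ⟨d⁻¹, inv_mem hd, (hp.conj_B_eq hS hb hd he).symm⟩
    · exact Or.inl ⟨1, one_mem D, conjBy_one _⟩
  exact Set.Subset.antisymm (key h) (key h.swap)

theorem orbit_conj {x : G} (hx : x ∈ B ⊔ D) : ∀ E ∈ (fun b : G => conjBy A b) '' (B : Set G) ∪ {C},
    conjBy E x ∈ (fun b : G => conjBy A b) '' (B : Set G) ∪ {C} ∧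
      conjBy E x⁻¹ ∈ (fun b : G => conjBy A b) '' (B : Set G) ∪ {C} := by
  set U := (fun b : G => conjBy A b) '' (B : Set G) ∪ {C} with hU
  let N : Subgroup G :=
    { carrier := {g | ∀ E ∈ U, conjBy E g ∈ U ∧ conjBy E g⁻¹ ∈ U}
      one_mem' := fun E hE => by rw [inv_one, conjBy_one]; exact ⟨hE, hE⟩
      mul_mem' := fun {g k} hg hk E hE => by
        refine ⟨?_, ?_⟩
        · rw [← conjBy_conjBy]; exact (hg _ (hk E hE).1).1
        · rw [mul_inv_rev, ← conjBy_conjBy]; exact (hk _ (hg E hE).2).2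
      inv_mem' := fun {g} hg E hE => by rw [inv_inv]; exact (hg E hE).symm }
  have hstep : ∀ {A B C D : Subgroup G}, Plane S A B C D → ∀ b ∈ B,
      ∀ E ∈ (fun b : G => conjBy A b) '' (B : Set G) ∪ {C},
        conjBy E b ∈ (fun b : G => conjBy A b) '' (B : Set G) ∪ {C} := by
    rintro A B C D hp b hb E (⟨b', hb', rfl⟩ | rfl)
    · exact Or.inl ⟨b * b', mul_mem hb hb', (conjBy_conjBy _ _ _).symm⟩
    · exact Or.inr (hp.fix_C hS hb)
  have hle : B ⊔ D ≤ N := by
    refine sup_le (fun b hb E hE => ⟨hstep h b hb E hE, hstep h b⁻¹ (inv_mem hb) E hE⟩) (fun d hd E hE => ?_)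
    rw [hU, h.orbit_eq hS] at hE ⊢
    exact ⟨hstep h.swap d hd E hE, hstep h.swap d⁻¹ (inv_mem hd) E hE⟩
  exact hle hx

theorem orbit_of_A :
    {E | ∃ x ∈ B ⊔ D, E = conjBy A x} = (fun b : G => conjBy A b) '' (B : Set G) ∪ {C} := by
  refine Set.Subset.antisymm ?_ ?_
  · rintro E ⟨x, hx, rfl⟩
    exact (h.orbit_conj hS hx A (Or.inl ⟨1, one_mem B, conjBy_one A⟩)).1
  · rintro E (⟨b, hb, rfl⟩ | rfl)
    · exact ⟨b, mem_sup_left hb, rfl⟩
    · obtain ⟨b, hb, hb1⟩ := (Subgroup.bot_or_exists_ne_one B).resolve_left (hS.ne_bot B h.memB)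
      obtain ⟨d, hd, -, he⟩ := (h.rankOne hS).cond_left b⁻¹ (inv_mem hb) (inv_ne_one.2 hb1)
      rw [inv_inv] at he
      refine ⟨d * b, mul_mem (mem_sup_right hd) (mem_sup_left hb), ?_⟩
      rw [← conjBy_conjBy, h.conj_B_eq hS hb hd he, conjBy_conjBy, mul_inv_cancel, conjBy_one]

theorem orbit_of_C :
    {E | ∃ x ∈ B ⊔ D, E = conjBy C x} = (fun b : G => conjBy A b) '' (B : Set G) ∪ {C} := by
  rw [h.orbit_eq hS, ← h.swap.orbit_of_A hS, sup_comm]

theorem exists_move {a c : G} (ha : a ∈ A) (ha1 : a ≠ 1) (hc : c ∈ C) : ∃ b ∈ B, a * c ∈ conjBy A b := by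
  haveI := hS.commutative B h.memB
  haveI := hS.commutative C h.memC
  let U : Subgroup G :=
    { carrier := {x | ∃ b ∈ B, ⁅a⁻¹, b⁆ = x}
      one_mem' := ⟨1, one_mem B, commutatorElement_one_right _⟩
      mul_mem' := by
        rintro _ _ ⟨b, hb, rfl⟩ ⟨b', hb', rfl⟩
        refine ⟨b * b', mul_mem hb hb', ?_⟩
        have e : ⁅a⁻¹, b * b'⁆ = ⁅a⁻¹, b⁆ * (b * ⁅a⁻¹, b'⁆ * b⁻¹) := by
          simp only [commutatorElement_def]; group
        rw [e, ← (h.commute_C hS (h.mem_C hS (inv_mem ha) hb') (mem_sup_right hb)).eq, mul_inv_cancel_right]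
      inv_mem' := by
        rintro _ ⟨b, hb, rfl⟩
        refine ⟨b⁻¹, inv_mem hb, ?_⟩
        have e : ⁅a⁻¹, b⁻¹⁆ = b⁻¹ * ⁅a⁻¹, b⁆⁻¹ * b := by simp only [commutatorElement_def]; group
        rw [e, (h.commute_C hS (inv_mem (h.mem_C hS (inv_mem ha) hb)) (mem_sup_right (inv_mem hb))).symm.eq,
          inv_mul_cancel_right] }
  have hle : C ≤ U := by
    rw [← h.eqC, ← (h.caseAB hS).2.2.1 a⁻¹ (inv_mem ha) (inv_ne_one.2 ha1), closure_le]
    rintro _ ⟨b, hb, rfl⟩
    exact ⟨b, hb, rfl⟩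
  obtain ⟨b, hb, e⟩ := hle hc
  refine ⟨b, hb, ?_⟩
  rw [← e, show a * ⁅a⁻¹, b⁆ = b * a * b⁻¹ by rw [commutatorElement_def]; group]
  exact conj_mem_conjBy ha

theorem inf_bot {x : G} (hxA : x ∈ A) (hxC : x ∈ C) : x = 1 :=
  h.eq_one_of_commute_B hS hxA fun b hb => h.commute_C hS hxC (mem_sup_right hb)

theorem inf_conj {x b : G} (hb : b ∈ B) (hb1 : b ≠ 1) (hxA : x ∈ A) (hxb : x ∈ conjBy A b) : x = 1 := by
  rw [mem_conjBy] at hxb
  set y := b⁻¹ * x * b
  have hxy : x = b * y * b⁻¹ := by simp only [y]; group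
  have hcomm : ⁅b, y⁆ = 1 := by
    refine h.inf_bot hS ?_ ?_
    · rw [commutatorElement_def, ← hxy]; exact mul_mem hxA (inv_mem hxb)
    · rw [← h.eqC, commutator_comm]; exact commutator_mem_commutator hb hxb
  have hby : Commute b y := commutatorElement_eq_one_iff_commute.1 hcomm
  have hy : y = 1 := by
    have hr := RankOnePair_symm (h.rankOne hS)
    have hDm := left_mem_unipotentSubgroups hr
    have hDb := conjBy_mem_unipotentSubgroups hr hDm (mem_sup_right hb)
    have hne : D ≠ conjBy D b := fun e =>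
      hb1 (eq_one_of_mem_normalizer (h.rankOne hS) hb (conjBy_eq_self_iff.1 e.symm))
    have hle : B ≤ centralizer ({y} : Set G) := by
      refine le_trans le_sup_right (le_trans (sup_of_two_unipotent hr hDm hDb hne).ge ?_)
      refine sup_le (fun d hd => ?_) ?_
      · exact mem_centralizer_singleton_iff.2 (h.commute_A hS hxb (mem_sup_right hd)).symm.eq
      · rintro _ ⟨d, hd, rfl⟩
        refine mem_centralizer_singleton_iff.2 (((hby.mul_left (h.commute_A hS hxb (mem_sup_right hd)).symm).mul_left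
          hby.inv_left)).eq
    exact h.eq_one_of_commute_B hS hxb fun b' hb' => (mem_centralizer_singleton_iff.1 (hle hb')).symm
  rw [hxy, hy, mul_one, mul_inv_cancel]

theorem partition_orbit : IsSubgroupPartition (A ⊔ C) ((fun b : G => conjBy A b) '' (B : Set G) ∪ {C}) := by
  refine ⟨?_, fun x hx hx1 => ?_, ?_⟩
  · rintro E (⟨b, hb, rfl⟩ | rfl)
    · exact (conjBy_mono le_sup_left b).trans (h.normalizes hS (mem_sup_left hb)).le
    · exact le_sup_right
  · obtain ⟨a, ha, c, hc, rfl⟩ := h.exists_factor' hS hx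
    by_cases ha1 : a = 1
    · subst ha1; exact ⟨C, Or.inr rfl, by rw [one_mul]; exact hc⟩
    obtain ⟨b, hb, hm⟩ := h.exists_move hS ha ha1 hc
    exact ⟨conjBy A b, Or.inl ⟨b, hb, rfl⟩, hm⟩
  intro E hE F hF hne
  rw [eq_bot_iff]
  rintro x ⟨hxE, hxF⟩
  rw [mem_bot]
  by_contra hx1
  have hAC : ∀ b ∈ B, x ∈ conjBy A b → x ∉ C := by
    intro b hb h1 h2
    refine hx1 ?_
    have h3 : b⁻¹ * x * b ∈ C := by rw [← mem_conjBy, h.fix_C hS hb]; exact h2
    have h4 := h.inf_bot hS (mem_conjBy.1 h1) h3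
    calc x = b * (b⁻¹ * x * b) * b⁻¹ := by group
      _ = 1 := by rw [h4, mul_one, mul_inv_cancel]
  rcases hE with ⟨b, hb, rfl⟩ | rfl
  · rcases hF with ⟨b', hb', rfl⟩ | rfl
    · refine hx1 ?_
      have hb1 : b⁻¹ * b' ≠ 1 := fun e => hne (by rw [inv_mul_eq_one.1 e])
      have h2 : b⁻¹ * x * b ∈ conjBy A (b⁻¹ * b') := by
        rw [mem_conjBy, show (b⁻¹ * b')⁻¹ * (b⁻¹ * x * b) * (b⁻¹ * b') = b'⁻¹ * x * b' by group]
        exact mem_conjBy.1 hxF
      have h4 := h.inf_conj hS (mul_mem (inv_mem hb) hb') hb1 (mem_conjBy.1 hxE) h2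
      calc x = b * (b⁻¹ * x * b) * b⁻¹ := by group
        _ = 1 := by rw [h4, mul_one, mul_inv_cancel]
    · exact hAC b hb hxE hxF
  · rcases hF with ⟨b', hb', rfl⟩ | rfl
    · exact hAC b' hb' hxF hxE
    · exact hne rfl

theorem centralizer_central : ∀ x ∈ (B ⊔ D) ⊓ centralizer ((A ⊔ C : Subgroup G) : Set G),
    ∀ y ∈ B ⊔ D, x * y = y * x := by
  rintro n ⟨hn, hnN⟩
  have hr := h.rankOne hS
  -- every such element normalizes `B`
  have key : ∀ g ∈ B ⊔ D, (∀ z ∈ A ⊔ C, Commute z g) → conjBy B g = B := by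
    intro g hg hgN
    rcases (mem_unipotentSubgroups hr).1
      (conjBy_mem_unipotentSubgroups hr (left_mem_unipotentSubgroups hr) hg) with e | ⟨b, hb, e⟩
    · exact e
    exfalso
    refine hS.ne_bot A h.memA ?_
    rw [← h.eqA, commutator_eq_bot_iff_le_centralizer]
    intro c hc
    refine mem_centralizer_iff.2 fun d hd => ?_
    have h1 : b * d * b⁻¹ ∈ conjBy B g := e ▸ conj_mem_conjBy hd
    obtain ⟨b', hb', e'⟩ := h1
    have h2 : Commute c (g * b' * g⁻¹) :=
      ((hgN c (mem_sup_right hc)).mul_right (h.commute_C hS hc (mem_sup_right hb'))).mul_right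
        (hgN c (mem_sup_right hc)).inv_right
    rw [show g * b' * g⁻¹ = b * d * b⁻¹ from e'] at h2
    have hcb := h.commute_C hS hc (mem_sup_right hb)
    have h3 := (hcb.inv_right.mul_right h2).mul_right hcb
    rw [show b⁻¹ * (b * d * b⁻¹) * b = d by group] at h3
    exact h3.symm.eq
  have hall : ∀ E ∈ unipotentSubgroups B D, conjBy E n = E := by
    rintro E ⟨x, hx, rfl⟩
    have h1 : conjBy B (x⁻¹ * n * x) = B := by
      refine key _ (mul_mem (mul_mem (inv_mem hx) hn) hx) fun z hz => ?_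
      have hz' : x * z * x⁻¹ ∈ A ⊔ C := h.normalizes hS hx ▸ conj_mem_conjBy hz
      have h2 : Commute (x * z * x⁻¹) n := mem_centralizer_iff.1 hnN _ hz'
      have := h2.map (MulAut.conj x⁻¹).toMonoidHom
      simpa [mul_assoc] using this
    rw [conjBy_conjBy, show n * x = x * (x⁻¹ * n * x) by group, ← conjBy_conjBy, h1]
  intro y hy
  have hle : B ⊔ D ≤ centralizer ({n} : Set G) := by
    refine sup_le (fun c hc => ?_) (fun c hc => ?_) <;> rw [mem_centralizer_singleton_iff]
    · exact commute_of_fixes_all hr hc (hall B (left_mem_unipotentSubgroups hr)) hall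
    · exact commute_of_fixes_all (RankOnePair_symm hr) hc (hall D (right_mem_unipotentSubgroups hr))
        (unipotentSubgroups_comm hr ▸ hall)
  exact (mem_centralizer_singleton_iff.1 (hle hy)).symm

end Plane

end CfsgLib.ThreeTrans.Root
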