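import Cfsg.Agent.Lib.ThreeTrans.RootComponents
import Cfsg.Agent.Lib.ThreeTrans.RootPlane

set_option autoImplicit false

/-!
Non-degenerate classes of abstract root subgroups: planes, speciality, line connectivity, generation
(owner: helper28).
-/

namespace CfsgLib.ThreeTrans.Root

open Cfsg Subgroup CfsgLib.ThreeTrans
open scoped commutatorElement

variable {G : Type*} [Group G] {S : Set (Subgroup G)} (hS : IsRootSubgroupSet S)
include hS

omit hS in
theorem linePartners_symm {A B : Subgroup G} (hA : A ∈ S) (h : B ∈ linePartners S A) :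
    A ∈ linePartners S B := by
  obtain ⟨⟨-, hne, hc⟩, hp⟩ := h
  exact ⟨⟨hA, Ne.symm hne, by rw [commutator_comm]; exact hc⟩, by rw [sup_comm]; exact hp⟩

/-- The commutator member is a line partner. -/
theorem commutator_linePartner {A P E : Subgroup G} (hA : A ∈ S) (hP : P ∈ S) (hAP : IsRankOnePair A P)
    (hE : E ∈ S) (hC : ⁅A, E⁆ ∈ S) : ⁅A, E⁆ ∈ linePartners S A :=
  linePartners_symm hC (linePartner hS hA hP hAP hE hC)

/-- A conjugate different from `A` on the line `A ⊔ ⁅A, E⁆` spans it. -/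
theorem sup_conj_eq {A P E : Subgroup G} (hA : A ∈ S) (hP : P ∈ S) (hAP : IsRankOnePair A P)
    (hE : E ∈ S) (hC : ⁅A, E⁆ ∈ S) {e : G} (he : e ∈ E) (hne : conjBy A e ≠ A) :
    A ⊔ conjBy A e = A ⊔ ⁅A, E⁆ := by
  have h := rootCase_of_mem hS hA hE hC
  have hAeA : conjBy A e ≤ A ⊔ ⁅A, E⁆ := ((membersIn_eq hS hA hP hAP hE hC).ge (Or.inl ⟨e, he, rfl⟩)).2
  refine le_antisymm (sup_le le_sup_left hAeA) (sup_le le_sup_left ?_)
  have he1 : e ≠ 1 := fun e0 => hne (by rw [e0, conjBy_one])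
  rw [← h.2.2.2 e he he1, closure_le]
  rintro _ ⟨a, ha, rfl⟩
  show a * e * a⁻¹ * e⁻¹ ∈ _
  rw [show a * e * a⁻¹ * e⁻¹ = a * (e * a⁻¹ * e⁻¹) by group]
  exact mul_mem (mem_sup_left ha) (mem_sup_right (conj_mem_conjBy (inv_mem ha)))

theorem conj_linePartner {A P E : Subgroup G} (hA : A ∈ S) (hP : P ∈ S) (hAP : IsRankOnePair A P)
    (hE : E ∈ S) (hC : ⁅A, E⁆ ∈ S) {e : G} (he : e ∈ E) (hne : conjBy A e ≠ A) :
    conjBy A e ∈ linePartners S A := by
  have hAeA : conjBy A e ≤ A ⊔ ⁅A, E⁆ := ((membersIn_eq hS hA hP hAP hE hC).ge (Or.inl ⟨e, he, rfl⟩)).2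
  refine ⟨⟨hS.conj_mem A hA e, hne, ?_⟩, ?_⟩
  · haveI := hS.commutative A hA
    refine commutator_eq_bot_iff_le_centralizer.2 fun a ha => mem_centralizer_iff.2 fun x hx => ?_
    obtain ⟨a', ha', c, hc, rfl⟩ := exists_factor hS hA hP hAP hE hC (hAeA hx)
    have h1 : Commute a' a := congrArg Subtype.val (IsMulCommutative.is_comm.comm (⟨a', ha'⟩ : A) ⟨a, ha⟩)
    exact (h1.mul_left (central hS hA hE hC hc (mem_sup_left ha))).eq
  · rw [sup_conj_eq hS hA hP hAP hE hC he hne]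
    exact partition hS hA hP hAP hE hC

theorem linePartners_conj {A C : Subgroup G} (h : C ∈ linePartners S A) (g : G) :
    conjBy C g ∈ linePartners S (conjBy A g) := by
  obtain ⟨⟨hC, hne, hcom⟩, hp⟩ := h
  have hsup : conjBy A g ⊔ conjBy C g = conjBy (A ⊔ C) g := (Subgroup.map_sup _ _ _).symm
  refine ⟨⟨hS.conj_mem C hC g, fun e => hne (conjBy_inj e), ?_⟩, ?_⟩
  · show ⁅A.map _, C.map _⁆ = ⊥
    rw [← map_commutator, hcom, Subgroup.map_bot]
  rw [hsup]
  refine ⟨fun E hE => hE.2, fun x hx hx1 => ?_, fun E hE F hF hne' => ?_⟩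
  · obtain ⟨E, hE, hm⟩ := hp.2.1 (g⁻¹ * x * g) (mem_conjBy.1 hx) (fun e => hx1 (by
      calc x = g * (g⁻¹ * x * g) * g⁻¹ := by group
        _ = 1 := by rw [e, mul_one, mul_inv_cancel]))
    exact ⟨conjBy E g, ⟨hS.conj_mem E hE.1 g, conjBy_mono hE.2 g⟩, mem_conjBy.2 hm⟩
  · have key : ∀ E ∈ membersIn S (conjBy (A ⊔ C) g), conjBy E g⁻¹ ∈ membersIn S (A ⊔ C) := fun E hE =>
      ⟨hS.conj_mem E hE.1 _, by
        have := conjBy_mono hE.2 g⁻¹
        rwa [conjBy_conjBy, inv_mul_cancel, conjBy_one] at this⟩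
    have h0 := hp.2.2 _ (key E hE) _ (key F hF) (fun e => hne' (conjBy_inj e))
    have h1 : conjBy (E ⊓ F) g⁻¹ = ⊥ := by
      show (E ⊓ F).map _ = ⊥
      rw [Subgroup.map_inf _ _ _ (MulAut.conj g⁻¹).injective]
      exact h0
    exact (Subgroup.map_eq_bot_iff_of_injective _ (MulAut.conj g⁻¹).injective).1 h1

section Pair

variable {A B : Subgroup G} (hA : A ∈ S) (hB : B ∈ S) (hAB : IsRankOnePair A B)
include hA hB hAB

/-- An element commuting with `A` and with `B` centralizes the rank one group. -/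
theorem central_of_commute {z : G} (h1 : ∀ a ∈ A, Commute z a) (h2 : ∀ b ∈ B, Commute z b) :
    ∀ x ∈ A ⊔ B, z * x = x * z := by
  intro x hx
  have hle : A ⊔ B ≤ centralizer ({z} : Set G) := by
    refine sup_le (fun y hy => ?_) (fun y hy => ?_) <;> rw [mem_centralizer_singleton_iff]
    · exact (h1 y hy).symm.eq
    · exact (h2 y hy).symm.eq
  exact (mem_centralizer_singleton_iff.1 (hle hx)).symm

/-- For a member `F` commuting with `A` in the commutator case with `B`: `⁅⁅F, B⁆, A⁆` is a member, and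
`f ⁅a, ⁅f⁻¹, b⁻¹⁆⁆` is central in `⟨A, B⟩`. -/
theorem backStep {F : Subgroup G} (hF : F ∈ S) (hFA : ⁅A, F⁆ = ⊥) (hK : ⁅F, B⁆ ∈ S) :
    ⁅⁅F, B⁆, A⁆ ∈ S ∧ ∀ a ∈ A, ∀ b ∈ B, a ≠ 1 → conjBy A b⁻¹ = conjBy B a⁻¹ →
      ∀ f ∈ F, ∀ x ∈ A ⊔ B, (f * ⁅a, ⁅f⁻¹, b⁻¹⁆⁆) * x = x * (f * ⁅a, ⁅f⁻¹, b⁻¹⁆⁆) := by
  set K := ⁅F, B⁆ with hKdef
  have hcaseF := rootCase_of_mem hS hF hB hK
  have hKcen : ∀ k ∈ K, ∀ x ∈ F ⊔ B, Commute k x := fun k hk x hx => hcaseF.2.1 k hk x hx
  have hfa : ∀ f ∈ F, ∀ a ∈ A, Commute f a := fun f hf a ha => (commute_of_commutator_eq_bot hFA ha hf : Commute a f).symm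
  have hL : ⁅K, A⁆ ∈ S := by
    obtain ⟨a₀, ha₀, ha₀1⟩ := (Subgroup.bot_or_exists_ne_one A).resolve_left (hS.ne_bot A hA)
    obtain ⟨b, hb, hb1, he⟩ := hAB.cond_left a₀ ha₀ ha₀1
    have he' : conjBy A b⁻¹ = conjBy B a₀⁻¹ := he
    have heq : ⁅K, A⁆ = conjBy K (b * a₀⁻¹) := by
      have h1 : ⁅conjBy F b, A⁆ = conjBy K (b * a₀⁻¹) := by
        have hA' : A = conjBy B (b * a₀⁻¹) := by
          rw [← conjBy_conjBy, ← he', conjBy_conjBy, mul_inv_cancel, conjBy_one]
        have hF' : conjBy F (b * a₀⁻¹) = conjBy F b := by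
          rw [← conjBy_conjBy, conjBy_eq_self_iff.2 (mem_normalizer_of_commute fun f hf =>
            ((hfa f hf a₀⁻¹ (inv_mem ha₀)).symm).eq)]
        rw [hKdef]
        show _ = (⁅F, B⁆ : Subgroup G).map _
        rw [map_commutator]
        show _ = ⁅conjBy F (b * a₀⁻¹), conjBy B (b * a₀⁻¹)⁆
        rw [hF', ← hA']
      rw [← h1]
      have hstep : ∀ f ∈ F, ∀ a ∈ A, ⁅b * f * b⁻¹, a⁆ = ⁅⁅b, f⁆, a⁆ := by
        intro f hf a ha
        have hk : ⁅b, f⁆ ∈ K := by rw [hKdef, commutator_comm]; exact commutator_mem_commutator hb hf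
        have e : b * f * b⁻¹ = ⁅b, f⁆ * f := by rw [commutatorElement_def]; group
        have e2 : ⁅⁅b, f⁆ * f, a⁆ = ⁅b, f⁆ * ⁅f, a⁆ * ⁅b, f⁆⁻¹ * ⁅⁅b, f⁆, a⁆ := by
          simp only [commutatorElement_def]; group
        rw [e, e2, commutatorElement_eq_one_iff_commute.2 (hfa f hf a ha), mul_one, mul_inv_cancel, one_mul]
      refine le_antisymm (commutator_le.2 fun k hk a ha => ?_) (commutator_le.2 ?_)
      · haveI := hS.commutative K hK
        let U : Subgroup G :=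
          { carrier := {k | k ∈ K ∧ ∃ f ∈ F, ⁅b, f⁆ = k}
            one_mem' := ⟨one_mem K, 1, one_mem F, commutatorElement_one_right b⟩
            mul_mem' := by
              rintro _ _ ⟨h1', f, hf, rfl⟩ ⟨h2', f', hf', rfl⟩
              refine ⟨mul_mem h1' h2', f * f', mul_mem hf hf', ?_⟩
              have e : ⁅b, f * f'⁆ = ⁅b, f⁆ * (f * ⁅b, f'⁆ * f⁻¹) := by simp only [commutatorElement_def]; group
              rw [e, ← (hKcen _ h2' f (mem_sup_left hf)).eq, mul_inv_cancel_right]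
            inv_mem' := by
              rintro _ ⟨h1', f, hf, rfl⟩
              refine ⟨inv_mem h1', f⁻¹, inv_mem hf, ?_⟩
              have e : ⁅b, f⁻¹⁆ = f⁻¹ * ⁅b, f⁆⁻¹ * f := by simp only [commutatorElement_def]; group
              rw [e, (hKcen _ (inv_mem h1') f⁻¹ (mem_sup_left (inv_mem hf))).symm.eq, inv_mul_cancel_right] }
        have hKU : K ≤ U := by
          rw [hKdef, ← hcaseF.2.2.2 b hb hb1, closure_le]
          rintro _ ⟨f, hf, rfl⟩
          have hh : ⁅b, f⁆⁻¹ = f * b * f⁻¹ * b⁻¹ := by rw [commutatorElement_inv, commutatorElement_def]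
          show f * b * f⁻¹ * b⁻¹ ∈ U
          rw [← hh]
          exact U.inv_mem ⟨by rw [hKdef, commutator_comm]; exact commutator_mem_commutator hb hf, f, hf, rfl⟩
        obtain ⟨-, f, hf, rfl⟩ := hKU hk
        rw [← hstep f hf a ha]
        exact commutator_mem_commutator (conj_mem_conjBy hf) ha
      · rintro _ ⟨f, hf, rfl⟩ a ha
        show ⁅b * f * b⁻¹, a⁆ ∈ ⁅K, A⁆
        rw [hstep f hf a ha]
        exact commutator_mem_commutator (by rw [hKdef, commutator_comm]; exact commutator_mem_commutator hb hf) ha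
    rw [heq]
    exact hS.conj_mem K hK _
  refine ⟨hL, fun a ha b hb ha1 he f hf => ?_⟩
  have hcaseL := rootCase_of_mem hS hK hA hL
  set k := ⁅f⁻¹, b⁻¹⁆ with hkdef
  have hk : k ∈ K := commutator_mem_commutator (inv_mem hf) (inv_mem hb)
  set l := ⁅a, k⁆ with hldef
  have hl : l ∈ ⁅K, A⁆ := by rw [commutator_comm]; exact commutator_mem_commutator ha hk
  refine central_of_commute hS hA hB hAB (fun x hx => (hfa f hf x hx).mul_left (hcaseL.2.1 l hl x (mem_sup_right hx))) ?_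
  intro y hy
  have h1 : Commute (b⁻¹ * f * b) (a⁻¹ * y * a) := by
    have hmem : a⁻¹ * y * a ∈ conjBy A b⁻¹ := by
      rw [he, mem_conjBy, inv_inv]; simpa [mul_assoc] using hy
    obtain ⟨a', ha', e⟩ := hmem
    have := (hfa f hf a' ha').map (MulAut.conj b⁻¹).toMonoidHom
    rw [e] at this
    simpa using this
  have h2 := h1.map (MulAut.conj a).toMonoidHom
  have e2 : (MulAut.conj a).toMonoidHom (a⁻¹ * y * a) = y := by simp [mul_assoc]
  have e3 : (MulAut.conj a).toMonoidHom (b⁻¹ * f * b) = f * l * k := by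
    show a * (b⁻¹ * f * b) * a⁻¹ = f * l * k
    have e4 : b⁻¹ * f * b = f * k := by rw [hkdef, commutatorElement_def]; group
    rw [e4, ← mul_assoc a f k, (hfa f hf a ha).symm.eq, hldef, commutatorElement_def]
    group
  rw [e2, e3] at h2
  have hky : Commute k y := hKcen k hk y (mem_sup_right hy)
  have := h2.mul_left hky.inv_left
  rwa [mul_inv_cancel_right] at this

/-- A member of a line through `A` in the commutator case with `B` spans a plane with them. -/
theorem plane_of_pair {F : Subgroup G} (hF : F ∈ S) (hFA : ⁅A, F⁆ = ⊥) (hFpart : ∃ P ∈ S, IsRankOnePair F P)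
    (hK : ⁅F, B⁆ ∈ S) (hline : ∀ a ∈ A, ∀ f ∈ F, a ≠ 1 → f ≠ 1 → ∃ E ∈ S, a * f ∈ E) :
    Plane S F B ⁅F, B⁆ A := by
  refine ⟨hF, hB, hK, hA, rfl, ?_⟩
  obtain ⟨hL, hz⟩ := backStep hS hA hB hAB hF hFA hK
  obtain ⟨P, hP, hFP⟩ := hFpart
  have hnB : ¬ IsRankOnePair F B := fun h => not_central_of_rankOne h fun c hc b hb =>
    (rootCase_of_mem hS hF hB hK).2.1 c hc b (mem_sup_right hb)
  obtain ⟨a, ha, ha1⟩ := (Subgroup.bot_or_exists_ne_one A).resolve_left (hS.ne_bot A hA)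
  obtain ⟨b, hb, -, he⟩ := hAB.cond_left a ha ha1
  obtain ⟨f, hf, hf1⟩ := (Subgroup.bot_or_exists_ne_one F).resolve_left (hS.ne_bot F hF)
  set k := ⁅f⁻¹, b⁻¹⁆ with hkdef
  have hk : k ∈ ⁅F, B⁆ := commutator_mem_commutator (inv_mem hf) (inv_mem hb)
  set l := ⁅a, k⁆ with hldef
  have hl : l ∈ ⁅⁅F, B⁆, A⁆ := by rw [commutator_comm (H₁ := (⁅F, B⁆ : Subgroup G))]; exact commutator_mem_commutator ha hk
  have hzc : ∀ x ∈ A ⊔ B, (f * l) * x = x * (f * l) := hz a ha b hb ha1 he f hf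
  have hfa : Commute f a := (commute_of_commutator_eq_bot hFA ha hf : Commute a f).symm
  obtain ⟨E, hE, hEm⟩ := hline a ha f⁻¹ (inv_mem hf) ha1 (inv_ne_one.2 hf1)
  -- `(f l) (a f⁻¹)` is a conjugate of `a`
  have hlA : ∀ x ∈ ⁅F, B⁆ ⊔ A, Commute l x := fun x hx => (rootCase_of_mem hS hK hA hL).2.1 l hl x hx
  have hFl : ∀ f' ∈ F, Commute f' l := by
    intro f' hf'
    have hfk : Commute f' k := ((rootCase_of_mem hS hF hB hK).2.1 k hk f' (mem_sup_left hf') : k * f' = f' * k).symm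
    have hfa' : Commute f' a := (commute_of_commutator_eq_bot hFA ha hf' : Commute a f').symm
    exact ((hfa'.mul_right hfk).mul_right hfa'.inv_right).mul_right hfk.inv_right
  have hmove : (f * l) * (a * f⁻¹) ∈ conjBy A k⁻¹ := by
    have h1 : (f * l) * (a * f⁻¹) = l * a := by
      rw [show (f * l) * (a * f⁻¹) = f * (l * a) * f⁻¹ by group, ((hFl f hf).mul_right hfa).eq,
        mul_inv_cancel_right]
    rw [h1, mem_conjBy, inv_inv]
    have h2 : k * (l * a) * k⁻¹ = a := by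
      calc k * (l * a) * k⁻¹ = (k * l) * (a * k⁻¹) := by group
        _ = l * ((a * k * a⁻¹ * k⁻¹)⁻¹ * a) := by rw [(hlA k (mem_sup_left hk)).symm.eq]; group
        _ = a := by rw [← commutatorElement_def, ← hldef, mul_inv_cancel_left]
    rw [h2]; exact ha
  have hA'B : IsRankOnePair (conjBy A k⁻¹) B := by
    have h1 := conjBy_rankOne hAB k⁻¹
    rwa [show conjBy B k⁻¹ = B from conjBy_eq_self_iff.2 (mem_normalizer_of_commute fun y hy =>
      Commute.inv_left ((rootCase_of_mem hS hF hB hK).2.1 k hk y (mem_sup_right hy)))] at h1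
  have hzk : Commute (f * l) k :=
    Commute.mul_left ((rootCase_of_mem hS hF hB hK).2.1 k hk f (mem_sup_left hf)).symm
      (hlA k (mem_sup_left hk))
  have hzE : ∀ x ∈ conjBy A k⁻¹ ⊔ B, (f * l)⁻¹ * x = x * (f * l)⁻¹ := by
    refine central_of_commute hS (hS.conj_mem A hA k⁻¹) hB hA'B ?_
      (fun x hx => Commute.inv_left (hzc x (mem_sup_right hx)))
    rintro _ ⟨a', ha', rfl⟩
    have h1 : Commute (f * l) a' := hzc a' (mem_sup_left ha')
    exact ((hzk.inv_right.mul_right h1).mul_right hzk.inv_right.inv_right).inv_left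
  have hm1 : (f * l) * (a * f⁻¹) ≠ 1 := by
    intro e
    have h1 : (f * l) * (a * f⁻¹) = l * a := by
      rw [show (f * l) * (a * f⁻¹) = f * (l * a) * f⁻¹ by group, ((hFl f hf).mul_right hfa).eq,
        mul_inv_cancel_right]
    rw [h1] at e
    have hLA : ⁅⁅F, B⁆, A⁆ = A := trivial_intersection hS hA hB hAB hL ha1 ha
      (by rw [eq_inv_of_mul_eq_one_right e]; exact inv_mem hl)
    exact ne_commutator hS hA hK (by rw [commutator_comm]; exact hL)
      (hLA.symm.trans (commutator_comm (H₁ := (⁅F, B⁆ : Subgroup G)) (H₂ := A)))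
  have hz1 : (f * l)⁻¹ = 1 := (central_translate hS (hS.conj_mem A hA k⁻¹) hB hA'B hE hzE hmove hm1
    (by rw [inv_mul_cancel_left]; exact hEm)).2
  refine trivial_intersection hS hF hP hFP hL (x := f) hf1 hf ?_
  rw [eq_inv_of_mul_eq_one_left (inv_eq_one.1 hz1)]
  exact inv_mem hl

/-- On a line through `A` some member is in the commutator case with `B`. -/
theorem exists_commutator_in_line {C : Subgroup G} (hC : C ∈ linePartners S A) (hCp : ∃ Q ∈ S, IsRankOnePair C Q) :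
    ∃ F ∈ membersIn S (A ⊔ C), F ≠ A ∧ ⁅A, F⁆ = ⊥ ∧ RootCommutatorCase S F B ∧
      ∃ c ∈ C, c ≠ 1 ∧ c ∈ A ⊔ F := by
  obtain ⟨⟨hCS, hne, hcom⟩, hpart⟩ := hC
  obtain ⟨Q, hQ, hCQ⟩ := hCp
  haveI := hS.commutative A hA
  have hAle : ∀ F ∈ membersIn S (A ⊔ C), ⁅A, F⁆ = ⊥ := by
    intro F hF
    have h1 : A ⊔ C ≤ centralizer (A : Set G) := by
      refine sup_le (fun a ha => mem_centralizer_iff.2 fun a' ha' => ?_) (fun c hc => mem_centralizer_iff.2 fun a' ha' => ?_)
      · exact congrArg Subtype.val (IsMulCommutative.is_comm.comm (⟨a', ha'⟩ : A) ⟨a, ha⟩)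
      · exact commute_of_commutator_eq_bot hcom ha' hc
    rw [commutator_comm]
    exact commutator_eq_bot_iff_le_centralizer.2 fun x hx => h1 (hF.2 hx)
  rcases hS.pair C hCS B hB with h | h | h
  · exfalso
    obtain ⟨a, ha, ha1⟩ := (Subgroup.bot_or_exists_ne_one A).resolve_left (hS.ne_bot A hA)
    obtain ⟨c, hc, hc1⟩ := (Subgroup.bot_or_exists_ne_one C).resolve_left (hS.ne_bot C hCS)
    have hac : c * a ≠ 1 := by
      intro e
      refine hne (trivial_intersection hS hA hB hAB hCS ha1 ha ?_)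
      rw [eq_inv_of_mul_eq_one_right e]; exact inv_mem hc
    obtain ⟨E, hE, hEm⟩ := hpart.2.1 (c * a) (mul_mem (mem_sup_right hc) (mem_sup_left ha)) hac
    have hz := central_of_commute hS hA hB hAB (z := c)
      (fun x hx => (commute_of_commutator_eq_bot hcom hx hc : Commute x c).symm)
      (fun x hx => commute_of_commutator_eq_bot h hc hx)
    exact hc1 (central_translate hS hA hB hAB hE.1 hz ha ha1 hEm).2
  · obtain ⟨b, hb, hb1⟩ := (Subgroup.bot_or_exists_ne_one B).resolve_left (hS.ne_bot B hB)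
    obtain ⟨a, ha, ha1, hea⟩ := hAB.cond_right b hb hb1
    obtain ⟨c, hc, hc1, hec⟩ := h.cond_right b hb hb1
    set x := a * c⁻¹ with hx
    have hx1 : x ≠ 1 := by
      intro e
      exact hne (trivial_intersection hS hA hB hAB hCS ha1 ha (by rw [mul_inv_eq_one.1 e]; exact hc))
    obtain ⟨F, hF, hFm⟩ := hpart.2.1 x (mul_mem (mem_sup_left ha) (inv_mem (mem_sup_right hc))) hx1
    have hFA : F ≠ A := by
      rintro rfl
      have hcA : c ∈ F := by
        have := mul_mem (inv_mem hFm) ha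
        rwa [hx, mul_inv_rev, inv_inv, mul_assoc, inv_mul_cancel, mul_one] at this
      exact hne (trivial_intersection hS hA hB hAB hCS hc1 hcA hc)
    have hcAF : c ∈ A ⊔ F := by
      have e : c = x⁻¹ * a := by rw [hx]; group
      rw [e]; exact mul_mem (inv_mem (mem_sup_right hFm)) (mem_sup_left ha)
    refine ⟨F, hF, hFA, hAle F hF, ?_, c, hc, hc1, hcAF⟩
    have hBx : ∀ y ∈ B, ∀ y' ∈ B, Commute y (x * y' * x⁻¹) := by
      intro y hy y' hy'
      have h1 : a⁻¹ * y * a⁻¹⁻¹ ∈ conjBy A b⁻¹ := hea ▸ conj_mem_conjBy hy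
      have h2 : c⁻¹ * y' * c⁻¹⁻¹ ∈ conjBy C b⁻¹ := hec ▸ conj_mem_conjBy hy'
      obtain ⟨a', ha', e1⟩ := h1
      obtain ⟨c', hc', e2⟩ := h2
      have h3 := Commute.map (commute_of_commutator_eq_bot hcom ha' hc') (MulAut.conj b⁻¹).toMonoidHom
      rw [e1, e2] at h3
      have h4 := h3.map (MulAut.conj a).toMonoidHom
      simpa [hx, mul_assoc] using h4
    rcases hS.pair F hF.1 B hB with hc' | hr | hcc
    · exfalso
      have hfix : conjBy B x = B := conjBy_eq_self_iff.2 (mem_normalizer_of_commute fun y hy =>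
        commute_of_commutator_eq_bot hc' hFm hy)
      have h5 : conjBy B c⁻¹ = conjBy B a⁻¹ := by
        conv_rhs => rw [← hfix, conjBy_conjBy, hx, inv_mul_cancel_left]
      rw [hec, hea] at h5
      exact hne (conjBy_inj h5)
    · exfalso
      exact hx1 (eq_one_of_conj_commute hr hFm hb hb1 (hBx b hb b hb).symm.eq)
    · exact hcc
  · obtain ⟨c, hc, hc1⟩ := (Subgroup.bot_or_exists_ne_one C).resolve_left (hS.ne_bot C hCS)
    exact ⟨C, ⟨hCS, le_sup_right⟩, hne, hAle C ⟨hCS, le_sup_right⟩, h, c, hc, hc1, mem_sup_right hc⟩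

/-- A plane forces the rank one pair to be special. -/
theorem special_of_plane {F K : Subgroup G} (h : Plane S F B K A) : IsSpecialRankOnePair A B := by
  refine ⟨hAB, fun a ha ha1 b hb hb1 he => ?_⟩
  have hFA : ⁅A, F⁆ = ⊥ := commutator_eq_bot_iff_le_centralizer.2 fun x hx => mem_centralizer_iff.2 fun f hf =>
    (h.commute_A hS hf (mem_sup_right hx)).eq
  have hKB : ⁅B, K⁆ = ⊥ := commutator_eq_bot_iff_le_centralizer.2 fun x hx => mem_centralizer_iff.2 fun k hk =>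
    (h.commute_C hS hk (mem_sup_right hx)).eq
  have hR1 : ∀ f ∈ F, f * ⁅a, ⁅f⁻¹, b⁻¹⁆⁆ = 1 := by
    intro f hf
    have hz := (backStep hS hA hB hAB h.memA hFA (h.eqC.symm ▸ h.memC)).2 a ha b hb ha1 he f hf
    refine h.eq_one_of_commute_B hS (mul_mem hf ?_) fun y hy => hz y (mem_sup_right hy)
    have h1 : ⁅a, ⁅f⁻¹, b⁻¹⁆⁆ ∈ ⁅K, A⁆ := by
      rw [commutator_comm K A]; exact commutator_mem_commutator ha (h.mem_C hS (inv_mem hf) (inv_mem hb))
    rwa [h.eqA] at h1
  have hR2 : ∀ k ∈ K, k * ⁅b, ⁅k⁻¹, a⁻¹⁆⁆ = 1 := by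
    intro k hk
    have hz := (backStep hS hB hA (RankOnePair_symm hAB) h.memC hKB (h.eqA.symm ▸ h.memA)).2 b hb a ha hb1 he.symm k hk
    refine h.swap.eq_one_of_commute_B hS (mul_mem hk ?_) fun y hy => hz y (mem_sup_right hy)
    have h1 : ⁅b, ⁅k⁻¹, a⁻¹⁆⁆ ∈ ⁅F, B⁆ := by
      rw [commutator_comm F B]; exact commutator_mem_commutator hb (h.swap.mem_C hS (inv_mem hk) (inv_mem ha))
    rwa [h.eqC] at h1
  have hFK : ∀ f ∈ F, ∀ k ∈ K, Commute f k := fun f hf k hk => h.commute_A hS hf (mem_sup_left hk)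
  haveI := hS.commutative F h.memA
  haveI := hS.commutative K h.memC
  have hFF : ∀ f ∈ F, ∀ f' ∈ F, Commute f f' := fun f hf f' hf' =>
    congrArg Subtype.val (IsMulCommutative.is_comm.comm (⟨f, hf⟩ : F) ⟨f', hf'⟩)
  have hKK : ∀ f ∈ K, ∀ f' ∈ K, Commute f f' := fun f hf f' hf' =>
    congrArg Subtype.val (IsMulCommutative.is_comm.comm (⟨f, hf⟩ : K) ⟨f', hf'⟩)
  set u := b⁻¹ * a * b with hu
  set v := a⁻¹ * b⁻¹ * a with hv
  have huvF : ∀ f ∈ F, u * f * u⁻¹ = v * f * v⁻¹ := by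
    intro f hf
    set t := ⁅f⁻¹, b⁻¹⁆ with ht
    have htK : t ∈ K := h.mem_C hS (inv_mem hf) (inv_mem hb)
    have e1 : b⁻¹ * f * b = f * t := by rw [ht, commutatorElement_def]; group
    have e2 : a * t * a⁻¹ = f⁻¹ * t := by
      have h0 : ⁅a, t⁆ = f⁻¹ := eq_inv_of_mul_eq_one_right (hR1 f hf)
      rw [← h0, commutatorElement_def]; group
    have e3 : a⁻¹ * t * a = f * t := by
      have h0 : a⁻¹ * f⁻¹ * a = f⁻¹ := by
        rw [mul_assoc, ((h.commute_A hS hf (mem_sup_right ha)).inv_left).eq, inv_mul_cancel_left]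
      calc a⁻¹ * t * a = (a⁻¹ * f⁻¹ * a)⁻¹ * (a⁻¹ * (f⁻¹ * t) * a) := by group
        _ = f * (a⁻¹ * (a * t * a⁻¹) * a) := by rw [h0, inv_inv, e2]
        _ = f * t := by group
    have hfa : a * f * a⁻¹ = f := by
      rw [show a * f = f * a from (h.commute_A hS hf (mem_sup_right ha)).symm.eq, mul_inv_cancel_right]
    have hfa' : a⁻¹ * f * a = f := by
      rw [mul_assoc, (h.commute_A hS hf (mem_sup_right ha)).eq, inv_mul_cancel_left]
    have htb : b⁻¹ * t * b = t := by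
      rw [mul_assoc, (h.commute_C hS htK (mem_sup_right hb)).eq, inv_mul_cancel_left]
    have e4 : b * f * b⁻¹ = f * t⁻¹ := by
      have htb' : b * t * b⁻¹ = t := by
        rw [show b * t = t * b from (h.commute_C hS htK (mem_sup_right hb)).symm.eq, mul_inv_cancel_right]
      calc b * f * b⁻¹ = (b * (f * t) * b⁻¹) * (b * t * b⁻¹)⁻¹ := by group
        _ = f * t⁻¹ := by rw [htb', ← e1]; group
    have lhs : v * f * v⁻¹ = f * (f * t) := by
      calc v * f * v⁻¹ = a⁻¹ * (b⁻¹ * (a * f * a⁻¹) * b) * a := by rw [hv]; group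
        _ = (a⁻¹ * f * a) * (a⁻¹ * t * a) := by rw [hfa, e1]; group
        _ = f * (f * t) := by rw [hfa', e3]
    have rhs : u * f * u⁻¹ = f * (f * t) := by
      calc u * f * u⁻¹ = b⁻¹ * (a * (b * f * b⁻¹) * a⁻¹) * b := by rw [hu]; group
        _ = b⁻¹ * ((a * f * a⁻¹) * (a * t * a⁻¹)⁻¹) * b := by rw [e4]; group
        _ = (b⁻¹ * f * b) * (b⁻¹ * t * b)⁻¹ * (b⁻¹ * f * b) := by rw [hfa, e2]; group
        _ = f * (f * t) := by rw [e1, htb, mul_inv_cancel_right]
    rw [lhs, rhs]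
  have huvK : ∀ k ∈ K, u * k * u⁻¹ = v * k * v⁻¹ := by
    intro k hk
    set s := ⁅k⁻¹, a⁻¹⁆ with hs
    have hsF : s ∈ F := h.swap.mem_C hS (inv_mem hk) (inv_mem ha)
    have e1 : a⁻¹ * k * a = k * s := by rw [hs, commutatorElement_def]; group
    have e2 : b * s * b⁻¹ = k⁻¹ * s := by
      have h0 : ⁅b, s⁆ = k⁻¹ := eq_inv_of_mul_eq_one_right (hR2 k hk)
      rw [← h0, commutatorElement_def]; group
    have hkb : b * k * b⁻¹ = k := by
      rw [show b * k = k * b from (h.commute_C hS hk (mem_sup_right hb)).symm.eq, mul_inv_cancel_right]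
    have hkb' : b⁻¹ * k * b = k := by
      rw [mul_assoc, (h.commute_C hS hk (mem_sup_right hb)).eq, inv_mul_cancel_left]
    have hsa : a⁻¹ * s * a = s := by
      rw [mul_assoc, (h.commute_A hS hsF (mem_sup_right ha)).eq, inv_mul_cancel_left]
    have e3 : b⁻¹ * s * b = k * s := by
      calc b⁻¹ * s * b = (b⁻¹ * k * b) * (b⁻¹ * (k⁻¹ * s) * b) := by group
        _ = k * (b⁻¹ * (b * s * b⁻¹) * b) := by rw [hkb', e2]
        _ = k * s := by group
    have e4 : a * k * a⁻¹ = k * s⁻¹ := by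
      have hsa' : a * s * a⁻¹ = s := by
        rw [show a * s = s * a from (h.commute_A hS hsF (mem_sup_right ha)).symm.eq, mul_inv_cancel_right]
      calc a * k * a⁻¹ = (a * (k * s) * a⁻¹) * (a * s * a⁻¹)⁻¹ := by group
        _ = k * s⁻¹ := by rw [hsa', ← e1]; group
    have hks : Commute k s⁻¹ := (hFK s hsF k hk).symm.inv_right
    have mid : b⁻¹ * (k * s⁻¹) * b = s⁻¹ := by
      calc b⁻¹ * (k * s⁻¹) * b = (b⁻¹ * k * b) * (b⁻¹ * s * b)⁻¹ := by group
        _ = k * s⁻¹ * k⁻¹ := by rw [hkb', e3]; group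
        _ = s⁻¹ := by rw [hks.eq, mul_inv_cancel_right]
    have lhs : v * k * v⁻¹ = s⁻¹ := by
      calc v * k * v⁻¹ = a⁻¹ * (b⁻¹ * (a * k * a⁻¹) * b) * a := by rw [hv]; group
        _ = (a⁻¹ * s * a)⁻¹ := by rw [e4, mid]; group
        _ = s⁻¹ := by rw [hsa]
    have rhs : u * k * u⁻¹ = s⁻¹ := by
      calc u * k * u⁻¹ = b⁻¹ * (a * (b * k * b⁻¹) * a⁻¹) * b := by rw [hu]; group
        _ = s⁻¹ := by rw [hkb, e4, mid]
    rw [lhs, rhs]
  have hu' : u ∈ conjBy A b⁻¹ := by rw [mem_conjBy, hu, inv_inv]; simpa [mul_assoc] using ha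
  have hv' : v ∈ conjBy A b⁻¹ := by rw [he, mem_conjBy, hv, inv_inv]; simpa [mul_assoc] using inv_mem hb
  have hY : conjBy A b⁻¹ ≤ A ⊔ B := conjBy_le_of_mem le_sup_left (inv_mem (mem_sup_right hb))
  have hcent : ∀ x ∈ B ⊔ A, (u⁻¹ * v) * x = x * (u⁻¹ * v) := by
    refine h.centralizer_central hS _ ⟨?_, ?_⟩
    · show u⁻¹ * v ∈ B ⊔ A
      rw [sup_comm]; exact mul_mem (inv_mem (hY hu')) (hY hv')
    · have hle : F ⊔ K ≤ centralizer ({u⁻¹ * v} : Set G) := by
        refine sup_le (fun f hf => ?_) (fun k hk => ?_) <;> rw [mem_centralizer_singleton_iff]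
        · have h1 := huvF f hf
          calc f * (u⁻¹ * v) = u⁻¹ * (u * f * u⁻¹) * v := by group
            _ = u⁻¹ * v * f := by rw [h1]; group
        · have h1 := huvK k hk
          calc k * (u⁻¹ * v) = u⁻¹ * (u * k * u⁻¹) * v := by group
            _ = u⁻¹ * v * k := by rw [h1]; group
      exact mem_centralizer_iff.2 fun g hg => (mem_centralizer_singleton_iff.1 (hle hg))
  set w := u⁻¹ * v with hw
  have hwA : b * w * b⁻¹ ∈ A := by
    have := mem_conjBy.1 (mul_mem (inv_mem hu') hv' : w ∈ conjBy A b⁻¹)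
    rwa [inv_inv] at this
  have hwb : b * w * b⁻¹ = w := by rw [← hcent b (mem_sup_left hb), mul_inv_cancel_right]
  rw [hwb] at hwA
  have hw1 : w = 1 := eq_one_of_mem_normalizer hAB hwA
    (mem_normalizer_of_commute fun y hy => hcent y (mem_sup_left hy))
  exact inv_mul_eq_one.1 hw1

end Pair

/-- The setting of a non-degenerate class. -/
structure NonDeg (S : Set (Subgroup G)) : Prop where
  cls : IsConjClassOfSubgroups S
  rankOne : ∃ A ∈ S, ∃ B ∈ S, IsRankOnePair A B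
  commutator : ∃ A ∈ S, ∃ B ∈ S, RootCommutatorCase S A B

omit hS in
theorem nonDeg_of (hcls : IsConjClassOfSubgroups S) (hnd : IsNondegenerateRootSet S) : NonDeg S :=
  ⟨hcls, hnd.2.1, hnd.2.2⟩

namespace NonDeg

variable (hN : NonDeg S)
include hN

theorem partner {A : Subgroup G} (hA : A ∈ S) : ∃ B ∈ S, IsRankOnePair A B := by
  obtain ⟨A₀, hA₀, B₀, hB₀, h⟩ := hN.rankOne
  obtain ⟨g, rfl⟩ := hN.cls.2 A₀ hA₀ A hA
  exact ⟨conjBy B₀ g, hS.conj_mem B₀ hB₀ g, conjBy_rankOne h g⟩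

theorem exists_commutatorPartner {A : Subgroup G} (hA : A ∈ S) : ∃ E ∈ S, ⁅A, E⁆ ∈ S := by
  obtain ⟨A₀, hA₀, E₀, hE₀, h⟩ := hN.commutator
  obtain ⟨g, rfl⟩ := hN.cls.2 A₀ hA₀ A hA
  refine ⟨conjBy E₀ g, hS.conj_mem E₀ hE₀ g, ?_⟩
  show ⁅A₀.map _, E₀.map _⁆ ∈ S
  rw [← map_commutator]
  exact hS.conj_mem _ h.1 g

theorem linePartner_nonempty {A : Subgroup G} (hA : A ∈ S) : (linePartners S A).Nonempty := by
  obtain ⟨P, hP, hAP⟩ := hN.partner hS hA
  obtain ⟨E, hE, hC⟩ := hN.exists_commutatorPartner hS hA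
  exact ⟨_, commutator_linePartner hS hA hP hAP hE hC⟩

/-- Any member of a line through `A` in the commutator case with a rank one partner `B` gives a plane. -/
theorem plane {A B C F : Subgroup G} (hA : A ∈ S) (hB : B ∈ S) (hAB : IsRankOnePair A B)
    (hC : C ∈ linePartners S A) (hF : F ∈ membersIn S (A ⊔ C)) (hFA : ⁅A, F⁆ = ⊥)
    (hK : RootCommutatorCase S F B) : Plane S F B ⁅F, B⁆ A := by
  refine plane_of_pair hS hA hB hAB hF.1 hFA (hN.partner hS hF.1) hK.1 fun a ha f hf ha1 hf1 => ?_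
  have hne : F ≠ A := by
    rintro rfl
    exact not_central_of_rankOne hAB fun c hc b hb => hK.2.1 c hc b (mem_sup_right hb)
  have hle : A ⊔ F ≤ A ⊔ C := sup_le le_sup_left hF.2
  have h1 : a * f ≠ 1 := by
    intro e
    refine hne (trivial_intersection hS hA hB hAB hF.1 ha1 ha ?_)
    rw [eq_inv_of_mul_eq_one_left e]; exact inv_mem hf
  obtain ⟨E, hE, hEm⟩ := hC.2.2.1 (a * f) (hle (mul_mem (mem_sup_left ha) (mem_sup_right hf))) h1
  exact ⟨E, hE.1, hEm⟩

/-- A member of a nice line through `A` different from `A` spans it and is a line partner. -/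
theorem line_member {A E F : Subgroup G} (hA : A ∈ S) (hE : E ∈ S) (hC : ⁅A, E⁆ ∈ S)
    (hF : F ∈ membersIn S (A ⊔ ⁅A, E⁆)) (hne : F ≠ A) :
    F ∈ linePartners S A ∧ A ⊔ F = A ⊔ ⁅A, E⁆ := by
  obtain ⟨P, hP, hAP⟩ := hN.partner hS hA
  rw [membersIn_eq hS hA hP hAP hE hC] at hF
  rcases hF with ⟨e, he, rfl⟩ | rfl
  · exact ⟨conj_linePartner hS hA hP hAP hE hC he hne, sup_conj_eq hS hA hP hAP hE hC he hne⟩
  · exact ⟨commutator_linePartner hS hA hP hAP hE hC, rfl⟩

/-- Every rank one pair extends to a plane. -/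
theorem exists_plane {A B : Subgroup G} (hA : A ∈ S) (hB : B ∈ S) (hAB : IsRankOnePair A B) :
    ∃ F ∈ linePartners S A, RootCommutatorCase S F B ∧ Plane S F B ⁅F, B⁆ A := by
  obtain ⟨E, hE, hC⟩ := hN.exists_commutatorPartner hS hA
  have hline := commutator_linePartner hS hA hB hAB hE hC
  obtain ⟨F, hF, hne, hcom, hK, -⟩ := exists_commutator_in_line hS hA hB hAB hline (hN.partner hS hC)
  exact ⟨F, (hN.line_member hS hA hE hC hF hne).1, hK, hN.plane hS hA hB hAB hline hF hcom hK⟩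

theorem special {A B : Subgroup G} (hA : A ∈ S) (hB : B ∈ S) (hAB : IsRankOnePair A B) :
    (∃ C ∈ linePartners S A, C ∈ commutatorPartners S B) ∧ IsSpecialRankOnePair A B := by
  obtain ⟨F, hF, hK, hpl⟩ := hN.exists_plane hS hA hB hAB
  refine ⟨⟨F, hF, hF.1.1, ?_⟩, special_of_plane hS hA hB hAB hpl⟩
  rw [commutator_comm]
  exact hK.1

theorem line_connected : IsConnectedFamily (EAdj S S) S := by
  have hpair : ∀ A ∈ S, ∀ B ∈ S, IsRankOnePair A B → Relation.ReflTransGen (EAdj S S) A B := by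
    intro A hA B hB hAB
    obtain ⟨F, hF, hK, -⟩ := hN.exists_plane hS hA hB hAB
    have hFS := hF.1.1
    obtain ⟨P, hP, hFP⟩ := hN.partner hS hFS
    obtain ⟨Q, hQ, hBQ⟩ := hN.partner hS hB
    have h1 := commutator_linePartner hS hFS hP hFP hB hK.1
    have hK' : ⁅B, F⁆ ∈ S := by rw [commutator_comm]; exact hK.1
    have h2 : B ∈ linePartners S ⁅F, B⁆ := by
      have := linePartner hS hB hQ hBQ hFS hK'
      rwa [commutator_comm B F] at this
    exact ((Relation.ReflTransGen.single ⟨hA, hFS, hF⟩).tail ⟨hFS, hK.1, h1⟩).tail ⟨hK.1, hB, h2⟩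
  have hconn := connected_of_class hS hN.cls hN.rankOne
  intro A hA B hB
  have h := hconn A hA B hB
  clear hB
  induction h with
  | refl => exact .refl
  | tail _ hstep ih => exact ih.trans (hpair _ hstep.1 _ hstep.2.1 hstep.2.2)

theorem commuting_connected : IsConnectedFamily (DAdj S) S := fun A hA B hB =>
  Relation.ReflTransGen.mono (fun C D h => ⟨h.1, h.2.1, Ne.symm h.2.2.1.2.1, h.2.2.1.2.2⟩) A B
    (hN.line_connected hS A hA B hB)

theorem generated {A B : Subgroup G} (hA : A ∈ S) (hB : B ∈ S) (hAB : IsRankOnePair A B) :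
    (⨆ C ∈ linePartners S A, C) ⊔ B = ⊤ := by
  set U := (⨆ C ∈ linePartners S A, C) ⊔ B with hU
  have hline : ∀ C ∈ linePartners S A, C ≤ U := fun C hC => le_trans (le_biSup (fun C => C) hC) le_sup_left
  have hBU : B ≤ U := le_sup_right
  have hcomU : ∀ X Y : Subgroup G, X ≤ U → Y ≤ U → ⁅X, Y⁆ ≤ U := fun X Y hX hY =>
    commutator_le.2 fun x hx y hy =>
      mul_mem (mul_mem (mul_mem (hX hx) (hY hy)) (inv_mem (hX hx))) (inv_mem (hY hy))
  have hAU : A ≤ U := by
    obtain ⟨F, hF, hK, hpl⟩ := hN.exists_plane hS hA hB hAB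
    set K := ⁅F, B⁆ with hKdef
    have hKU : K ≤ U := hcomU F B (hline F hF) hBU
    have hAK : ⁅A, K⁆ = F := (commutator_comm A K).trans hpl.eqA
    have hAKS : ⁅A, K⁆ ∈ S := hAK.symm ▸ hF.1.1
    obtain ⟨k, hk, hk1⟩ := (Subgroup.bot_or_exists_ne_one K).resolve_left (hS.ne_bot K hpl.memC)
    obtain ⟨a, ha, ha1⟩ := (Subgroup.bot_or_exists_ne_one A).resolve_left (hS.ne_bot A hA)
    have hne : conjBy A k ≠ A := by
      intro e
      refine hk1 (injective_commutator hS hA hB hAB hpl.memC hAKS ha ha1 hk ?_)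
      by_contra hc
      have h0 : ⁅k, a⁆ ≠ 1 := fun h => hc (commutatorElement_eq_one_iff_commute.1 h).symm
      have h1 : ⁅k, a⁆ ∈ A := by
        rw [commutatorElement_def]; exact mul_mem (e ▸ conj_mem_conjBy ha) (inv_mem ha)
      have h2 : ⁅k, a⁆ ∈ ⁅A, K⁆ := by rw [commutator_comm]; exact commutator_mem_commutator hk ha
      exact ne_commutator hS hA hpl.memC hAKS (trivial_intersection hS hA hB hAB hAKS h0 h1 h2).symm
    have hmem := conj_linePartner hS hA hB hAB hpl.memC hAKS hk hne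
    intro a ha
    have h1 : k * a * k⁻¹ ∈ U := hline _ hmem (conj_mem_conjBy ha)
    have := mul_mem (mul_mem (inv_mem (hKU hk)) h1) (hKU hk)
    simpa [mul_assoc] using this
  -- every line partner of `A` is a conjugate of `A` under `U`
  have hkey : ∀ F ∈ linePartners S A, ∃ u ∈ U, F = conjBy A u := by
    intro F₀ hF₀
    obtain ⟨F, hF, hne, hcom, hK, c, hc, hc1, hcAF⟩ := exists_commutator_in_line hS hA hB hAB hF₀ (hN.partner hS hF₀.1.1)
    have hpl := hN.plane hS hA hB hAB hF₀ hF hcom hK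
    set K := ⁅F, B⁆ with hKdef
    have hAK : ⁅A, K⁆ = F := (commutator_comm A K).trans hpl.eqA
    have hAKS : ⁅A, K⁆ ∈ S := hAK.symm ▸ hF.1
    have hFline : F ∈ linePartners S A := hAK ▸ commutator_linePartner hS hA hB hAB hpl.memC hAKS
    have hKU : K ≤ U := hcomU F B (hline F hFline) hBU
    -- `F` itself
    obtain ⟨P, hP, hFP⟩ := hN.partner hS hF.1
    have hAline : A ∈ linePartners S F := linePartners_symm hA hFline
    obtain ⟨F', hF', hne', -, hcase, -⟩ := exists_commutator_in_line hS hF.1 hP hFP hAline ⟨B, hB, hAB⟩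
    obtain ⟨M, hM, hMU, hMF⟩ : ∃ M ∈ S, M ≤ U ∧ ⁅F, M⁆ = A := by
      rw [sup_comm, ← hAK, membersIn_eq hS hA hB hAB hpl.memC hAKS] at hF'
      rcases hF' with ⟨k, hk, rfl⟩ | rfl
      · -- move it to `A`
        have hFk : conjBy F k⁻¹ = F := conjBy_eq_self_iff.2 (mem_normalizer_of_commute fun f hf =>
          Commute.inv_left (hK.2.1 k hk f (mem_sup_left hf)))
        set P' := conjBy P k⁻¹ with hP'def
        have hP' : P' ∈ S := hS.conj_mem P hP _
        have hFP' : IsRankOnePair F P' := by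
          have := conjBy_rankOne hFP k⁻¹
          rwa [hFk] at this
        have hC' : ⁅A, P'⁆ ∈ S := by
          have h1 := hS.conj_mem _ hcase.1 k⁻¹
          have e : conjBy ⁅conjBy A k, P⁆ k⁻¹ = ⁅A, P'⁆ := by
            show (⁅conjBy A k, P⁆ : Subgroup G).map _ = _
            rw [map_commutator]
            show ⁅conjBy (conjBy A k) k⁻¹, conjBy P k⁻¹⁆ = _
            rw [conjBy_conjBy, inv_mul_cancel, conjBy_one]
          rwa [e] at h1
        have hpl' := plane_of_pair hS hF.1 hP' hFP' hA (by rw [commutator_comm]; exact hcom) ⟨B, hB, hAB⟩ hC'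
          fun f hf a ha hf1 ha1 => by
            have h1 : f * a ≠ 1 := fun e => hne (trivial_intersection hS hA hB hAB hF.1 ha1 ha
              (by rw [eq_inv_of_mul_eq_one_right e]; exact inv_mem hf))
            obtain ⟨E, hE, hEm⟩ := hFline.2.2.1 (f * a)
              (mul_mem (mem_sup_right hf) (mem_sup_left ha)) h1
            exact ⟨E, hE.1, hEm⟩
        refine ⟨⁅A, P'⁆, hC', ?_, (commutator_comm _ _).trans hpl'.eqA⟩
        exact hline _ (commutator_linePartner hS hA hB hAB hP' hC')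
      · exact absurd hAK hne'
    have hFA : ∃ u ∈ U, F = conjBy A u := by
      have hp : Plane S A K F M := ⟨hA, hpl.memC, hF.1, hM, hAK, hMF⟩
      have h1 : F ∈ {E | ∃ x ∈ K ⊔ M, E = conjBy A x} := by rw [hp.orbit_of_A hS]; exact Or.inr rfl
      obtain ⟨x, hx, e⟩ := h1
      exact ⟨x, sup_le hKU hMU hx, e⟩
    -- the given line partner
    obtain ⟨Q, hQ, hQF₀⟩ := hN.partner hS hF₀.1.1
    obtain ⟨E, hE, hEm⟩ := (partition hS hA hB hAB hpl.memC hAKS).2.1 c (hAK.symm ▸ hcAF) hc1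
    have hEF₀ : E = F₀ := trivial_intersection hS hF₀.1.1 hQ hQF₀ hE.1 hc1 hc hEm
    subst hEF₀
    rw [membersIn_eq hS hA hB hAB hpl.memC hAKS] at hE
    rcases hE with ⟨k, hk, rfl⟩ | rfl
    · exact ⟨k, hKU hk, rfl⟩
    · rw [hAK]; exact hFA
  have hall : ∀ D ∈ S, ∃ u ∈ U, D = conjBy A u := by
    intro D hD
    have h := hN.line_connected hS A hA D hD
    clear hD
    induction h with
    | refl => exact ⟨1, one_mem U, (conjBy_one A).symm⟩
    | tail _ hstep ih =>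
      obtain ⟨u, hu, rfl⟩ := ih
      obtain ⟨v, hv, hv'⟩ := hkey _ (by
        have h := linePartners_conj hS hstep.2.2 u⁻¹
        rwa [conjBy_conjBy, inv_mul_cancel, conjBy_one] at h)
      refine ⟨u * v, mul_mem hu hv, ?_⟩
      rw [← conjBy_conjBy, ← hv', conjBy_conjBy, mul_inv_cancel, conjBy_one]
  rw [eq_top_iff, ← hS.generates]
  refine iSup₂_le fun D hD => ?_
  obtain ⟨u, hu, rfl⟩ := hall D hD
  exact conjBy_le_of_mem hAU hu

end NonDeg

end CfsgLib.ThreeTrans.Root
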