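import Cfsg.Agent.Lib.ThreeTrans.RootNondeg
import Cfsg.Agent.Lib.ThreeTrans.RankOneSpecial
import Cfsg.Agent.Lib.Components.Quasisimple

set_option autoImplicit false

/-!
The quasisimplicity criterion for groups generated by abstract root subgroups (owner: helper28).
-/

namespace CfsgLib.ThreeTrans.Root

open Cfsg Subgroup CfsgLib.ThreeTrans
open scoped commutatorElement

variable {G : Type*} [Group G] {S : Set (Subgroup G)} (hS : IsRootSubgroupSet S)
  (hcls : IsConjClassOfSubgroups S) (hF : ∃ A ∈ S, ∃ B ∈ S, IsRankOnePair A B)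
include hS hcls

theorem eq_top_of_member_le {N : Subgroup G} [hN : N.Normal] {A : Subgroup G} (hA : A ∈ S) (hle : A ≤ N) : N = ⊤ := by
  rw [eq_top_iff, ← hS.generates]
  refine iSup₂_le fun C hC => ?_
  obtain ⟨g, rfl⟩ := hcls.2 A hA C hC
  exact (conjBy_mono hle g).trans (fun x hx => by
    obtain ⟨y, hy, rfl⟩ := hx
    exact hN.conj_mem y hy g)

omit hcls in
theorem le_sup_commutator {A B : Subgroup G} (hA : A ∈ S) (hB : B ∈ S) (hs : IsSpecialRankOnePair A B)
    (h3 : 3 < ENat.card A) : A ≤ ⁅A ⊔ B, A ⊔ B⁆ :=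
  le_sup_left.trans (Special.Data.le_commutator_sup ⟨hs, hS.commutative A hA, hS.commutative B hB⟩ h3)

include hF

theorem perfect (h3 : IsDegenerateRootSet S → ∀ A ∈ S, 3 < ENat.card A)
    (h4 : ∀ A ∈ S, ∀ B ∈ rankOnePartners S A, IsSpecialRankOnePair A B) : commutator G = ⊤ := by
  by_cases hd : IsDegenerateRootSet S
  · obtain ⟨A, hA, B, hB, h⟩ := hF
    refine eq_top_of_member_le hS hcls hA ((le_sup_commutator hS hA hB (h4 A hA B ⟨hB, h⟩) (h3 hd A hA)).trans ?_)
    rw [commutator_def]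
    exact commutator_mono le_top le_top
  · simp only [IsDegenerateRootSet, not_forall, not_not] at hd
    obtain ⟨A, hA, B, hB, h⟩ := hd
    refine eq_top_of_member_le hS hcls h.1 ?_
    rw [commutator_def]
    exact commutator_mono le_top le_top

theorem quasisimple (h2' : ∀ A ∈ S, ∀ C ∈ S, A ≠ C → centralizingMembers S A ≠ centralizingMembers S C)
    (h3 : IsDegenerateRootSet S → ∀ A ∈ S, 3 < ENat.card A)
    (h4 : ∀ A ∈ S, ∀ B ∈ rankOnePartners S A, IsSpecialRankOnePair A B) : IsQuasisimple G := by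
  have hc := perfect hS hcls hF h3 h4
  have hpartner : ∀ A ∈ S, ∃ B ∈ S, IsRankOnePair A B := by
    intro A hA
    obtain ⟨A₀, hA₀, B₀, hB₀, h⟩ := hF
    obtain ⟨g, rfl⟩ := hcls.2 A₀ hA₀ A hA
    exact ⟨conjBy B₀ g, hS.conj_mem B₀ hB₀ g, conjBy_rankOne h g⟩
  refine CfsgLib.Components.isQuasisimple_iff.2 ⟨?_, ⟨hc⟩, fun N hN hNtop => ?_⟩
  · obtain ⟨A, hA⟩ := hcls.1
    obtain ⟨a, -, ha1⟩ := (Subgroup.bot_or_exists_ne_one A).resolve_left (hS.ne_bot A hA)
    exact ⟨⟨a, 1, ha1⟩⟩
  by_cases hfix : ∀ n ∈ N, ∀ A ∈ S, conjBy A n = A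
  · intro n hn
    rw [mem_center_iff]
    have hle : (⊤ : Subgroup G) ≤ centralizer ({n} : Set G) := by
      rw [← hS.generates]
      refine iSup₂_le fun A hA a ha => mem_centralizer_singleton_iff.2 ?_
      have h1 : n * a * n⁻¹ * a⁻¹ ∈ A := by
        refine mul_mem ?_ (inv_mem ha)
        have := conj_mem_conjBy (g := n) ha
        rwa [hfix n hn A hA] at this
      have h2 : n * a * n⁻¹ * a⁻¹ ∈ N := by
        rw [show n * a * n⁻¹ * a⁻¹ = n * (a * n⁻¹ * a⁻¹) by group]
        exact mul_mem hn (hN.conj_mem _ (inv_mem hn) a)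
      obtain ⟨B, hB, hAB⟩ := hpartner A hA
      have := eq_one_of_mem_normalizer hAB h1 (conjBy_eq_self_iff.1 (hfix _ h2 B hB))
      exact (mul_inv_eq_iff_eq_mul.1 (mul_inv_eq_one.1 this)).symm
    exact fun g => mem_centralizer_singleton_iff.1 (hle (mem_top g))
  exfalso
  push Not at hfix
  obtain ⟨n, hn, A, hA, hne⟩ := hfix
  have key : ∀ A ∈ S, ∀ n ∈ N, ∀ D ∈ S, ⁅conjBy A n, D⁆ = ⊥ → ⁅A, D⁆ ≠ ⊥ → False := by
    intro A hA n hn D hD hcom hncom
    have hle : ⁅A, D⁆ ≤ N := commutator_le.2 fun a ha d hd => by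
      have hm : n * a * n⁻¹ * a⁻¹ ∈ N := by
        rw [show n * a * n⁻¹ * a⁻¹ = n * (a * n⁻¹ * a⁻¹) by group]
        exact mul_mem hn (hN.conj_mem _ (inv_mem hn) a)
      have h1 : d * (n * a * n⁻¹) * d⁻¹ = n * a * n⁻¹ := by
        rw [← commute_of_commutator_eq_bot hcom (conj_mem_conjBy ha) hd, mul_inv_cancel_right]
      have h2 : (n * a * n⁻¹ * a⁻¹)⁻¹ * (d * (n * a * n⁻¹ * a⁻¹) * d⁻¹) ∈ N :=
        mul_mem (inv_mem hm) (hN.conj_mem _ hm d)
      convert h2 using 1
      rw [show d * (n * a * n⁻¹ * a⁻¹) * d⁻¹ = (d * (n * a * n⁻¹) * d⁻¹) * (d * a⁻¹ * d⁻¹) by group, h1,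
        commutatorElement_def]
      group
    rcases hS.pair A hA D hD with hb | hr | hcc
    · exact hncom hb
    · rcases normal_dichotomy hr (N := N ⊓ (A ⊔ D))
        (fun g hg x hx => mem_inf.2 ⟨hN.conj_mem x (mem_inf.1 hx).1 g,
          (A ⊔ D).mul_mem ((A ⊔ D).mul_mem hg (mem_inf.1 hx).2) ((A ⊔ D).inv_mem hg)⟩) inf_le_right with h1 | h1
      · have hDA : D ≤ N ⊔ A := (le_sup_right.trans h1).trans (sup_le_sup_right inf_le_left A)
        let f : G →* G ⧸ N := QuotientGroup.mk' N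
        have hker : ∀ x, f x = 1 ↔ x ∈ N := fun x => QuotientGroup.eq_one_iff x
        have himg : D.map f ≤ A.map f := by
          refine (Subgroup.map_mono hDA).trans ?_
          rw [Subgroup.map_sup, QuotientGroup.map_mk'_self, bot_sup_eq]
        haveI := hS.commutative A hA
        by_cases hd : IsDegenerateRootSet S
        · refine hNtop (eq_top_of_member_le hS hcls hA ((le_sup_commutator hS hA hD (h4 A hA D ⟨hD, hr⟩)
            (h3 hd A hA)).trans ?_))
          intro x hx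
          rw [← hker]
          have hxm : f x ∈ (⁅A ⊔ D, A ⊔ D⁆ : Subgroup G).map f := mem_map_of_mem f hx
          rw [map_commutator, Subgroup.map_sup, sup_eq_left.2 himg, ← map_commutator,
            (commutator_eq_bot_iff_le_centralizer.2 (le_centralizer A) : ⁅A, A⁆ = ⊥), Subgroup.map_bot] at hxm
          exact mem_bot.1 hxm
        · simp only [IsDegenerateRootSet, not_forall, not_not] at hd
          obtain ⟨P, hP, Q, hQ, hPQ⟩ := hd
          have hND : NonDeg S := ⟨hcls, hF, ⟨P, hP, Q, hQ, hPQ⟩⟩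
          obtain ⟨F, hF', hK, -⟩ := hND.exists_plane hS hA hD hr
          have hFA : ⁅F, A⁆ = ⊥ := by rw [commutator_comm]; exact hF'.1.2.2
          refine hNtop (eq_top_of_member_le hS hcls hK.1 (fun x hx => ?_))
          rw [← hker]
          have hxm : f x ∈ (⁅F, D⁆ : Subgroup G).map f := mem_map_of_mem f hx
          rw [map_commutator] at hxm
          have := commutator_mono (le_refl (F.map f)) himg hxm
          rw [← map_commutator, hFA, Subgroup.map_bot] at this
          exact mem_bot.1 this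
      · refine not_central_of_rankOne hr fun c hc d hd => ?_
        have hcX : c ∈ N ⊓ (A ⊔ D) := ⟨hle hc, (commutator_mono (le_sup_left (a := A) (b := D)) (le_sup_right (a := A) (b := D))).trans
          (commutator_le_self _) hc⟩
        exact (mem_centralizer_iff.1 (h1 hcX) d (mem_sup_right hd)).symm
    · exact hNtop (eq_top_of_member_le hS hcls hcc.1 hle)
  have hA' := hS.conj_mem A hA n
  have hdiff := h2' A hA _ hA' hne.symm
  obtain ⟨D, hD⟩ : ∃ D, ¬ (D ∈ centralizingMembers S A ↔ D ∈ centralizingMembers S (conjBy A n)) := by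
    by_contra hcon
    exact hdiff (Set.ext fun D => not_not.1 fun h => hcon ⟨D, h⟩)
  have hmem : ∀ X, D ∈ centralizingMembers S X ↔ D ∈ S ∧ ⁅X, D⁆ = ⊥ := fun X => by
    rw [commutator_comm, commutator_eq_bot_iff_le_centralizer]; rfl
  rw [hmem, hmem] at hD
  by_cases hDS : D ∈ S
  · simp only [hDS, true_and] at hD
    by_cases h1 : ⁅A, D⁆ = ⊥
    · refine key _ hA' n⁻¹ (inv_mem hn) D hDS ?_ fun h => hD (iff_of_true h1 h)
      rwa [conjBy_conjBy, inv_mul_cancel, conjBy_one]
    · by_cases h5 : ⁅conjBy A n, D⁆ = ⊥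
      · exact key A hA n hn D hDS h5 h1
      · exact hD (iff_of_false h1 h5)
  · simp [hDS] at hD

end CfsgLib.ThreeTrans.Root
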