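import Cfsg.Agent.Lib.ThreeTrans.SLTrans

/-!
Families of subgroups whose pairs commute or come from `SL₂`, inside the subgroup they generate.
-/

set_option autoImplicit false
set_option linter.unusedSimpArgs false

namespace CfsgLib.ThreeTrans.RootRestrict

open Cfsg CfsgLib.ThreeTrans.RankOneSL2
open scoped MatrixGroups commutatorElement

variable {k : Type*} [Field k] {G : Type*} [Group G]

theorem eq_scalar_of_mem_center {g : SL(2, k)} (hg : g ∈ Subgroup.center SL(2, k)) :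
    g.1 0 1 = 0 ∧ g.1 1 0 = 0 ∧ g.1 1 1 = g.1 0 0 := by
  have h1 : !![(1 : k), 1; 0, 1] * g.1 = g.1 * !![(1 : k), 1; 0, 1] :=
    congrArg Subtype.val (Subgroup.mem_center_iff.1 hg (upperEl 1))
  have h2 : !![(1 : k), 0; 1, 1] * g.1 = g.1 * !![(1 : k), 0; 1, 1] :=
    congrArg Subtype.val (Subgroup.mem_center_iff.1 hg (lowerEl 1))
  have e1 := congrFun (congrFun h1 0) 0
  have e2 := congrFun (congrFun h1 0) 1
  have e3 := congrFun (congrFun h2 0) 0
  simp [Matrix.mul_apply, Fin.sum_univ_two] at e1 e2 e3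
  exact ⟨e3, e1, by linear_combination e2⟩

/-- An element of the centre of an `SL₂` is semisimple. -/
theorem central_image {R : Type*} [Ring R] [Algebra k R] {A B : R} (f : SL(2, k) →* R)
    (hf : ∀ g : SL(2, k), f g = 1 + (g.1 0 0 - 1) • (A * B) + g.1 0 1 • A + g.1 1 0 • B + (g.1 1 1 - 1) • (B * A))
    (hA : A * A = 0) (hB : B * B = 0) (hABA : A * B * A = A) (hBAB : B * A * B = B) (hne : A ≠ 0)
    {g : SL(2, k)} (hg : g ∈ Subgroup.center SL(2, k)) (hsq : (f g - 1) * (f g - 1) = 0) : f g = 1 := by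
  obtain ⟨h01, h10, h11⟩ := eq_scalar_of_mem_center hg
  have he : f g - 1 = (g.1 0 0 - 1) • (A * B + B * A) := by
    rw [hf, h01, h10, h11, zero_smul, zero_smul, smul_add]
    abel
  have hee : (A * B + B * A) * (A * B + B * A) = A * B + B * A := by
    have e1 : A * B * (A * B) = A * B := by rw [← mul_assoc, hABA]
    have e2 : B * A * (B * A) = B * A := by rw [← mul_assoc, hBAB]
    have e3 : A * B * (B * A) = 0 := by rw [mul_assoc, ← mul_assoc B, hB, zero_mul, mul_zero]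
    have e4 : B * A * (A * B) = 0 := by rw [mul_assoc, ← mul_assoc A, hA, zero_mul, mul_zero]
    rw [mul_add, add_mul, add_mul, e1, e2, e3, e4, add_zero, zero_add]
  have hne' : A * B + B * A ≠ 0 := fun e => hne (by
    have h := congrArg (fun M => M * A) e
    simp only [add_mul, zero_mul, mul_assoc, hA, mul_zero, add_zero] at h
    rw [← hABA, mul_assoc, h])
  rw [he, smul_mul_assoc, mul_smul_comm, hee, smul_smul] at hsq
  have hz := ((smul_eq_zero.1 hsq).resolve_right hne')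
  rw [mul_self_eq_zero] at hz
  rw [← sub_eq_zero, he, hz, zero_smul]

/-- A representation of `SL₂` from two square zero elements. -/
theorem exists_repr {R : Type*} [Ring R] [Algebra k R] {A B : R} (hA : A * A = 0) (hB : B * B = 0)
    (hABA : A * B * A = A) (hBAB : B * A * B = B) (hne : A ≠ 0) :
    ∃ f : SL(2, k) →* R, Function.Injective f ∧
      (∀ t, f (upperEl t) = 1 + t • A) ∧ (∀ t, f (lowerEl t) = 1 + t • B) ∧
      ∀ g ∈ Subgroup.center SL(2, k), (f g - 1) * (f g - 1) = 0 → f g = 1 := by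
  have hA' : ∀ z, A * (A * z) = 0 := fun z => by rw [← mul_assoc, hA, zero_mul]
  have hB' : ∀ z, B * (B * z) = 0 := fun z => by rw [← mul_assoc, hB, zero_mul]
  have h1' : ∀ z, A * (B * (A * z)) = A * z := fun z => by rw [← mul_assoc, ← mul_assoc, hABA]
  have h2' : ∀ z, B * (A * (B * z)) = B * z := fun z => by rw [← mul_assoc, ← mul_assoc, hBAB]
  have h1 : A * (B * A) = A := by rw [← mul_assoc, hABA]
  have h2 : B * (A * B) = B := by rw [← mul_assoc, hBAB]
  let f : SL(2, k) →* R :=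
    { toFun := fun g => 1 + (g.1 0 0 - 1) • (A * B) + g.1 0 1 • A + g.1 1 0 • B + (g.1 1 1 - 1) • (B * A)
      map_one' := by simp
      map_mul' := fun g g' => by
        simp only [Matrix.SpecialLinearGroup.coe_mul, Matrix.mul_apply, Fin.sum_univ_two, mul_add, add_mul,
          one_mul, mul_one, mul_assoc, smul_mul_assoc, mul_smul_comm, hA, hB, hA', hB', h1, h2, h1', h2',
          smul_zero, add_zero, zero_add, mul_zero, smul_smul]
        module }
  refine ⟨f, fun g g' hg => ?_, fun t => by simp [f, upperEl], fun t => by simp [f, lowerEl],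
    fun g hg => central_image f (fun _ => rfl) hA hB hABA hBAB hne hg⟩
  have hAB : A * B ≠ 0 := fun e => hne (by rw [← hABA, e, zero_mul])
  have hBA : B * A ≠ 0 := fun e => hne (by rw [← hABA, mul_assoc, e, mul_zero])
  have hB0 : B ≠ 0 := fun e => hAB (by rw [e, mul_zero])
  change 1 + (g.1 0 0 - 1) • (A * B) + g.1 0 1 • A + g.1 1 0 • B + (g.1 1 1 - 1) • (B * A) =
    1 + (g'.1 0 0 - 1) • (A * B) + g'.1 0 1 • A + g'.1 1 0 • B + (g'.1 1 1 - 1) • (B * A) at hg
  have e00 := congrArg (fun M => A * B * M * (A * B)) hg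
  have e01 := congrArg (fun M => A * B * M * (B * A)) hg
  have e10 := congrArg (fun M => B * A * M * (A * B)) hg
  have e11 := congrArg (fun M => B * A * M * (B * A)) hg
  simp only [mul_add, add_mul, mul_one, one_mul, mul_assoc, smul_mul_assoc, mul_smul_comm, hA, hB, hA', hB',
    h1, h2, h1', h2', smul_zero, add_zero, zero_add, mul_zero, sub_smul, one_smul, mul_sub, sub_mul,
    add_sub_cancel, sub_self] at e00 e01 e10 e11
  ext i j
  fin_cases i <;> fin_cases j
  · exact smul_left_injective k hAB e00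
  · exact smul_left_injective k hne e01
  · exact smul_left_injective k hB0 e10
  · exact smul_left_injective k hBA e11

/-- Members joined by a path of rank one pairs are conjugate. -/
theorem conj_of_path {S : Set (Subgroup G)} (hne : ∀ A ∈ S, A ≠ ⊥) {A B : Subgroup G} (hA : A ∈ S)
    (h : Relation.ReflTransGen (FAdj S) A B) : ∃ g : G, B = conjBy A g := by
  induction h with
  | refl => exact ⟨1, (conjBy_one A).symm⟩
  | tail _ hstep ih =>
    obtain ⟨hC, hD, hCD⟩ := hstep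
    obtain ⟨g, rfl⟩ := ih
    obtain ⟨a, ha, ha1⟩ := (Subgroup.bot_or_exists_ne_one _).resolve_left (hne _ hC)
    obtain ⟨b, -, -, he⟩ := hCD.cond_left a ha ha1
    refine ⟨a * b⁻¹ * g, conjBy_inj (g := a⁻¹) ?_⟩
    rw [conjBy_conjBy, ← he, conjBy_conjBy]
    congr 1
    group

/-- The hypotheses on a family. -/
structure SL2Family (k : Type*) [Field k] (T : Set (Subgroup G)) : Prop where
  commutative : ∀ A ∈ T, IsMulCommutative A
  ne_bot : ∀ A ∈ T, A ≠ ⊥
  conj_mem : ∀ A ∈ T, ∀ g : G, conjBy A g ∈ T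
  pair : ∀ A ∈ T, ∀ B ∈ T, ⁅A, B⁆ = ⊥ ∨ ∃ f : SL(2, k) →* G, Function.Injective f ∧
    (upperUnipotentSL2 k).map f = A ∧ (lowerUnipotentSL2 k).map f = B ∧
    ∀ C ∈ T, ∀ g ∈ Subgroup.center SL(2, k), f g ∈ C → f g = 1
  connected : ∀ A ∈ T, ∀ B ∈ T, Relation.ReflTransGen (fun X Y => X ∈ T ∧ Y ∈ T ∧ ⁅X, Y⁆ ≠ ⊥) A B

/-- The family inside the subgroup it generates. -/
theorem main {T : Set (Subgroup G)} (h : SL2Family k T) (hT : T.Nonempty) :
    IsRootSubgroupClass ((fun A => A.subgroupOf (⨆ B ∈ T, B)) '' T) ∧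
      IsDegenerateRootSet ((fun A => A.subgroupOf (⨆ B ∈ T, B)) '' T) ∧
      IsKRootSubgroupSet k ((fun A => A.subgroupOf (⨆ B ∈ T, B)) '' T) ∧
      IsConnectedFamily (FAdj ((fun A => A.subgroupOf (⨆ B ∈ T, B)) '' T))
        ((fun A => A.subgroupOf (⨆ B ∈ T, B)) '' T) := by
  set H := ⨆ B ∈ T, B with hH
  set S := (fun A => A.subgroupOf H) '' T with hS
  have hle : ∀ A ∈ T, A ≤ H := fun A hA => le_iSup₂ (f := fun A (_ : A ∈ T) => A) A hA
  have hmap : ∀ A ∈ T, (A.subgroupOf H).map H.subtype = A := fun A hA => by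
    rw [Subgroup.subgroupOf_map_subtype, inf_eq_left.2 (hle A hA)]
  have hcomm : ∀ A ∈ T, ∀ B ∈ T, ⁅A.subgroupOf H, B.subgroupOf H⁆ = ⊥ ↔ ⁅A, B⁆ = ⊥ := by
    intro A hA B hB
    rw [← Subgroup.map_eq_bot_iff_of_injective _ H.subtype_injective, Subgroup.map_commutator, hmap A hA, hmap B hB]
  have hnb : ∀ A ∈ T, A.subgroupOf H ≠ ⊥ := fun A hA e => h.ne_bot A hA (by rw [← hmap A hA, e, Subgroup.map_bot])
  have hrk : ∀ A ∈ T, ∀ B ∈ T, ⁅A, B⁆ ≠ ⊥ →
      IsRankOnePair (A.subgroupOf H) (B.subgroupOf H) ∧ IsPSL2PairOver k (A.subgroupOf H) (B.subgroupOf H) ∧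
        ¬ RootCommutatorCase S (A.subgroupOf H) (B.subgroupOf H) := by
    intro A hA B hB hne
    obtain ⟨f, hf, hU, hL, hcen⟩ := (h.pair A hA B hB).resolve_left hne
    have hrange : ∀ g, f g ∈ H := by
      intro g
      have hg : g ∈ lowerUnipotentSL2 k ⊔ upperUnipotentSL2 k := by rw [sup_eq_top]; trivial
      have := Subgroup.mem_map_of_mem f hg
      rw [Subgroup.map_sup, hU, hL] at this
      exact sup_le (hle B hB) (hle A hA) this
    let f' : SL(2, k) →* H := f.codRestrict H hrange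
    have hf' : Function.Injective f' := fun x y e => hf (congrArg Subtype.val e)
    have hsub : ∀ (U : Subgroup SL(2, k)) (C : Subgroup G), U.map f = C → U.map f' = C.subgroupOf H := by
      rintro U C rfl
      ext x
      simp only [Subgroup.mem_map, Subgroup.mem_subgroupOf]
      exact exists_congr fun y => and_congr_right fun _ => Subtype.ext_iff
    have hp := SLTrans.rankOne_of_hom f' hf'
    rw [hsub _ A hU, hsub _ B hL] at hp
    refine ⟨hp.1, hp.2, fun hc => ?_⟩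
    obtain ⟨⟨C, hC, hCe⟩, hcz, -, -⟩ := hc
    obtain ⟨c, hc, hc1⟩ := (Subgroup.bot_or_exists_ne_one _).resolve_left (hnb C hC)
    have hrange' : (A.subgroupOf H ⊔ B.subgroupOf H) = (⊤ : Subgroup SL(2, k)).map f' := by
      rw [← hsub _ A hU, ← hsub _ B hL, ← Subgroup.map_sup, sup_comm, sup_eq_top]
    simp only at hCe
    have hc' : c ∈ ⁅A.subgroupOf H, B.subgroupOf H⁆ := hCe ▸ hc
    have hcr : c ∈ (⊤ : Subgroup SL(2, k)).map f' := by
      rw [← hrange']
      exact Subgroup.commutator_le.2 (fun x hx y hy => mul_mem (mul_mem (mul_mem (Subgroup.mem_sup_left hx)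
        (Subgroup.mem_sup_right hy)) (inv_mem (Subgroup.mem_sup_left hx))) (inv_mem (Subgroup.mem_sup_right hy))) hc'
    obtain ⟨g, -, rfl⟩ := hcr
    have hg : g ∈ Subgroup.center SL(2, k) := Subgroup.mem_center_iff.2 fun y => hf' (by
      rw [map_mul, map_mul]
      exact (hcz _ hc' _ (by rw [hrange']; exact Subgroup.mem_map_of_mem f' trivial)).symm)
    exact hc1 (Subtype.ext (hcen C hC g hg hc))
  have hconj : ∀ A ∈ S, ∀ g : H, conjBy A g ∈ S := by
    rintro _ ⟨A, hA, rfl⟩ g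
    refine ⟨conjBy A (g : G), h.conj_mem A hA g, ?_⟩
    ext x
    simp only [Subgroup.mem_subgroupOf, mem_conjBy, Subgroup.coe_mul, Subgroup.coe_inv]
  have hset : IsRootSubgroupSet S := by
    refine ⟨?_, ?_, ?_, hconj, ?_⟩
    · rintro _ ⟨A, hA, rfl⟩
      have := h.commutative A hA
      refine ⟨⟨fun x y => Subtype.ext (Subtype.ext ?_)⟩⟩
      show (x.1.1 : G) * y.1.1 = y.1.1 * x.1.1
      exact congrArg Subtype.val (this.is_comm.comm (⟨x.1.1, x.2⟩ : A) ⟨y.1.1, y.2⟩)
    · rintro _ ⟨A, hA, rfl⟩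
      exact hnb A hA
    · refine Subgroup.map_injective H.subtype_injective ?_
      rw [← MonoidHom.range_eq_map, Subgroup.range_subtype]
      simp only [Subgroup.map_iSup]
      refine le_antisymm (iSup₂_le ?_) (iSup₂_le fun A hA => ?_)
      · rintro _ ⟨A, hA, rfl⟩
        rw [hmap A hA]; exact hle A hA
      · exact le_trans (hmap A hA).ge
          (le_iSup₂ (f := fun X (_ : X ∈ S) => X.map H.subtype) _ ⟨A, hA, rfl⟩)
    · rintro _ ⟨A, hA, rfl⟩ _ ⟨B, hB, rfl⟩
      by_cases e : ⁅A, B⁆ = ⊥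
      · exact Or.inl ((hcomm A hA B hB).2 e)
      · exact Or.inr (Or.inl (hrk A hA B hB e).1)
  have hconn : IsConnectedFamily (FAdj S) S := by
    rintro _ ⟨A, hA, rfl⟩ _ ⟨B, hB, rfl⟩
    exact Relation.ReflTransGen.lift (r := fun X Y => X ∈ T ∧ Y ∈ T ∧ ⁅X, Y⁆ ≠ ⊥) (p := FAdj S)
      (fun X => X.subgroupOf H)
      (fun X Y hh => ⟨⟨X, hh.1, rfl⟩, ⟨Y, hh.2.1, rfl⟩, (hrk X hh.1 Y hh.2.1 hh.2.2).1⟩) _ _ (h.connected A hA B hB)
  refine ⟨⟨hset, hT.image _, fun A hA B hB => conj_of_path hset.ne_bot hA (hconn A hA B hB)⟩, ?_, ⟨hset, ?_⟩, hconn⟩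
  · rintro _ ⟨A, hA, rfl⟩ _ ⟨B, hB, rfl⟩ hc
    by_cases e : ⁅A, B⁆ = ⊥
    · exact hset.ne_bot _ hc.1 ((hcomm A hA B hB).2 e)
    · exact (hrk A hA B hB e).2.2 hc
  · rintro _ ⟨A, hA, rfl⟩ _ ⟨B, hB, rfl⟩ hp
    refine (hrk A hA B hB fun e => ?_).2.1
    obtain ⟨x, hx, hx1⟩ := (Subgroup.bot_or_exists_ne_one _).resolve_left (hnb A hA)
    obtain ⟨y, hy, hy1⟩ := (Subgroup.bot_or_exists_ne_one _).resolve_left (hnb B hB)
    exact hx1 (eq_one_of_commute hp hx hy hy1 (commute_of_commutator_eq_bot ((hcomm A hA B hB).2 e) hx hy))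

end CfsgLib.ThreeTrans.RootRestrict
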