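import Cfsg.Agent.Lib.ThreeTrans.RankOne

set_option autoImplicit false

/-!
Elementary facts on sets of abstract root subgroups: the three cases exclude each other, members with a
rank one partner meet other members trivially, lines spanned by commutators (owner: helper28).
-/

namespace CfsgLib.ThreeTrans.Root

open Cfsg Subgroup CfsgLib.ThreeTrans
open scoped commutatorElement

variable {G : Type*} [Group G]

theorem not_commute_of_rankOne {A B : Subgroup G} (h : IsRankOnePair A B) : ⁅A, B⁆ ≠ ⊥ := by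
  intro hc
  obtain ⟨a, ha, ha1⟩ := (Subgroup.bot_or_exists_ne_one A).resolve_left (ne_bot_left h)
  obtain ⟨b, hb, hb1⟩ := (Subgroup.bot_or_exists_ne_one B).resolve_left (ne_bot_right h)
  exact ha1 (eq_one_of_commute h ha hb hb1 (commute_of_commutator_eq_bot hc ha hb))

/-- In a rank one pair no commutator of the two subgroups is centralized by the second one. -/
theorem not_central_of_rankOne {A B : Subgroup G} (h : IsRankOnePair A B)
    (hc : ∀ c ∈ ⁅A, B⁆, ∀ b ∈ B, c * b = b * c) : False := by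
  obtain ⟨a, ha, ha1⟩ := (Subgroup.bot_or_exists_ne_one A).resolve_left (ne_bot_left h)
  obtain ⟨b, hb, hb1⟩ := (Subgroup.bot_or_exists_ne_one B).resolve_left (ne_bot_right h)
  have e := hc _ (Subgroup.commutator_mem_commutator ha hb) b hb
  refine ha1 (eq_one_of_conj_commute h ha hb hb1 ?_)
  have h1 : a * b * a⁻¹ = ⁅a, b⁆ * b := by rw [commutatorElement_def]; group
  rw [h1]
  calc ⁅a, b⁆ * b * b = b * ⁅a, b⁆ * b := by rw [e]
    _ = b * (⁅a, b⁆ * b) := by rw [mul_assoc]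

variable {S : Set (Subgroup G)} (hS : IsRootSubgroupSet S)
include hS

/-- A commutator of two members that is a member puts the pair in the commutator case. -/
theorem rootCase_of_mem {A B : Subgroup G} (hA : A ∈ S) (hB : B ∈ S) (hC : ⁅A, B⁆ ∈ S) :
    RootCommutatorCase S A B := by
  rcases hS.pair A hA B hB with h | h | h
  · exact absurd h (hS.ne_bot _ hC)
  · exfalso
    set C := ⁅A, B⁆ with hCdef
    haveI := hS.commutative C hC
    have hAC : A ⊔ B ≤ normalizer (C : Set G) :=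
      sup_le (normalizer_commutator_ge_left A B) (normalizer_commutator_ge_right A B)
    -- `A` normalizes `C`, and every commutator of `A` with `C` is centralized by both
    have hstep : ∀ a ∈ A, ∀ c ∈ C, Commute a ⁅a, c⁆ := by
      intro a ha c hc
      have hmem : ⁅a, c⁆ ∈ ⁅A, C⁆ := commutator_mem_commutator ha hc
      rcases hS.pair A hA C hC with h' | h' | h'
      · rw [h'] at hmem; rw [mem_bot.1 hmem]; exact Commute.one_right a
      · exfalso
        obtain ⟨a₁, ha₁, ha₁1⟩ := (Subgroup.bot_or_exists_ne_one A).resolve_left (ne_bot_left h')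
        exact ha₁1 (eq_one_of_mem_normalizer h' ha₁ (hAC (mem_sup_left ha₁)))
      · exact (h'.2.1 _ hmem a (mem_sup_left ha)).symm
    have hNX : C ≤ A ⊔ B := by
      rw [hCdef, commutator_le]
      intro a ha b hb
      exact mul_mem (mul_mem (mul_mem (mem_sup_left ha) (mem_sup_right hb)) (inv_mem (mem_sup_left ha)))
        (inv_mem (mem_sup_right hb))
    rcases normal_dichotomy h (fun g hg n hn => (mem_normalizer_iff.1 (hAC hg) n).1 hn) hNX with hle | hle
    · obtain ⟨y, hy, hAy⟩ := right_mem_unipotentSubgroups h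
      have hAn : A ≤ normalizer (C : Set G) := le_sup_left.trans hAC
      obtain ⟨c, hc, a₀, ha₀, e⟩ : ∃ c ∈ C, ∃ a₀ ∈ A, c * a₀ = y := by
        have h1 := hle hy
        rw [← SetLike.mem_coe, sup_comm, Subgroup.coe_mul_of_left_le_normalizer_right A C hAn] at h1
        obtain ⟨a₀, ha₀, c, hc, e⟩ := h1
        exact ⟨a₀ * c * a₀⁻¹, (mem_normalizer_iff.1 (hAn ha₀) c).1 hc, a₀, ha₀, by rw [← e]; group⟩
      obtain ⟨a, ha, ha1⟩ := (Subgroup.bot_or_exists_ne_one A).resolve_left (ne_bot_left h)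
      have hb : c * a * c⁻¹ ∈ B := by
        rw [hAy, ← e, ← conjBy_conjBy, conjBy_of_mem ha₀]
        exact conj_mem_conjBy ha
      have hcom : a * (c * a * c⁻¹) = (c * a * c⁻¹) * a := by
        have h1 := hstep a ha c hc
        have e1 : c * a * c⁻¹ = ⁅a, c⁆⁻¹ * a := by rw [commutatorElement_def]; group
        rw [e1]
        exact (h1.inv_right.mul_right (Commute.refl a)).eq
      refine ha1 (eq_one_of_commute h ha hb ?_ hcom)
      intro h0
      exact ha1 (conj_eq_one_iff.1 h0)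
    · exact not_central_of_rankOne h fun c hc b hb =>
        ((mem_centralizer_iff.1 (hle hc) b (mem_sup_right hb))).symm
  · exact h

/-- A member with a rank one partner meets every other member trivially. -/
theorem trivial_intersection {A P E : Subgroup G} (hA : A ∈ S) (hP : P ∈ S) (hAP : IsRankOnePair A P)
    (hE : E ∈ S) {x : G} (hx1 : x ≠ 1) (hxA : x ∈ A) (hxE : x ∈ E) : E = A :=
  (central_translate hS hA hP hAP hE (z := 1) (fun g _ => by rw [one_mul, mul_one]) hxA hx1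
    (by rw [one_mul]; exact hxE)).1

theorem trivial_intersection_conj {A P E : Subgroup G} (hA : A ∈ S) (hP : P ∈ S) (hAP : IsRankOnePair A P)
    (g : G) (hE : E ∈ S) {x : G} (hx1 : x ≠ 1) (hxA : x ∈ conjBy A g) (hxE : x ∈ E) : E = conjBy A g := by
  have h1 : conjBy E g⁻¹ = A := by
    refine trivial_intersection hS hA hP hAP (hS.conj_mem E hE g⁻¹) (x := g⁻¹ * x * g) ?_ (mem_conjBy.1 hxA) ?_
    · intro h0
      refine hx1 ?_
      calc x = g * (g⁻¹ * x * g) * g⁻¹ := by group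
        _ = 1 := by rw [h0, mul_one, mul_inv_cancel]
    · rw [mem_conjBy, inv_inv]; simpa [mul_assoc] using hxE
  rw [← h1, conjBy_conjBy, mul_inv_cancel, conjBy_one]

omit hS in
theorem exists_partner {A : Subgroup G} (hA : ¬ IsIsolatedIn (FAdj S) S A) (hAS : A ∈ S) :
    ∃ P ∈ S, IsRankOnePair A P := by
  simp only [IsIsolatedIn, hAS, true_and, not_forall] at hA
  obtain ⟨P, hP⟩ := hA
  by_contra hc
  push Not at hc
  exact hP ⟨fun h => hc P h.2.1 h.2.2, fun h => hc P h.1 (RankOnePair_symm h.2.2)⟩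

omit hS in
theorem isolated_iff {A : Subgroup G} (hAS : A ∈ S) :
    IsIsolatedIn (FAdj S) S A ↔ ∀ P ∈ S, ¬ IsRankOnePair A P :=
  ⟨fun h P hP hr => (h.2 P).1 ⟨hAS, hP, hr⟩,
    fun h => ⟨hAS, fun P => ⟨fun hf => h P hf.2.1 hf.2.2, fun hf => h P hf.1 (RankOnePair_symm hf.2.2)⟩⟩⟩

section Line

variable {A B P : Subgroup G} (hA : A ∈ S) (hP : P ∈ S) (hAP : IsRankOnePair A P) (hB : B ∈ S) (hC : ⁅A, B⁆ ∈ S)
include hA hP hAP hB hC

omit hP hAP in
theorem central {c x : G} (hc : c ∈ ⁅A, B⁆) (hx : x ∈ A ⊔ B) : Commute c x :=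
  (rootCase_of_mem hS hA hB hC).2.1 c hc x hx

omit hP hAP in
theorem ne_commutator : A ≠ ⁅A, B⁆ := by
  intro h
  refine hS.ne_bot _ hC (commutator_eq_bot_iff_le_centralizer.2 fun a ha => mem_centralizer_iff.2 fun b hb => ?_)
  exact ((central hS hA hB hC (c := a) (h ▸ ha) (mem_sup_right hb)).eq).symm

theorem injective_commutator {a b : G} (ha : a ∈ A) (ha1 : a ≠ 1) (hb : b ∈ B) (hab : Commute a b) : b = 1 := by
  by_contra hb1
  have hconj : conjBy A b = A := by
    refine trivial_intersection hS hA hP hAP (hS.conj_mem A hA b) ha1 ha ?_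
    rw [mem_conjBy, mul_assoc, hab.eq, inv_mul_cancel_left]
    exact ha
  have hall : ∀ a' ∈ A, ⁅a', b⁆ = 1 := by
    intro a' ha'
    by_contra h1
    have hA' : ⁅a', b⁆ ∈ A := by
      rw [commutatorElement_def, show a' * b * a'⁻¹ * b⁻¹ = a' * (b * a'⁻¹ * b⁻¹) by group]
      refine mul_mem ha' ?_
      rw [← hconj]
      exact conj_mem_conjBy (inv_mem ha')
    exact ne_commutator hS hA hB hC
      (trivial_intersection hS hA hP hAP hC h1 hA' (commutator_mem_commutator ha' hb)).symm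
  refine hS.ne_bot _ hC ?_
  rw [← (rootCase_of_mem hS hA hB hC).2.2.2 b hb hb1, closure_eq_bot_iff]
  rintro _ ⟨a', ha', rfl⟩
  exact hall a' ha'

/-- The homomorphism `b ↦ a⁻¹ b⁻¹ a b`. -/
theorem exists_iso {a : G} (ha : a ∈ A) (ha1 : a ≠ 1) :
    ∃ φ : B ≃* (⁅A, B⁆ : Subgroup G), ∀ b : B, (φ b : G) = a⁻¹ * (b : G)⁻¹ * a * b := by
  haveI := hS.commutative B hB
  have hmem : ∀ b : B, a⁻¹ * (b : G)⁻¹ * a * b ∈ ⁅A, B⁆ := fun b => by
    have h1 := commutator_mem_commutator (inv_mem ha) (inv_mem b.2)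
    rwa [commutatorElement_def, inv_inv, inv_inv] at h1
  let f : B →* (⁅A, B⁆ : Subgroup G) := MonoidHom.mk' (fun b => ⟨_, hmem b⟩) fun b b' => by
    apply Subtype.ext
    show a⁻¹ * ((b * b' : B) : G)⁻¹ * a * ((b * b' : B) : G)
      = (a⁻¹ * (b : G)⁻¹ * a * b) * (a⁻¹ * (b' : G)⁻¹ * a * b')
    have e1 : a⁻¹ * ((b * b' : B) : G)⁻¹ * a * ((b * b' : B) : G)
        = (a⁻¹ * (b' : G)⁻¹ * a) * (a⁻¹ * (b : G)⁻¹ * a * b) * b' := by rw [Subgroup.coe_mul]; group
    have e2 : Commute (a⁻¹ * (b : G)⁻¹ * a * b) (a⁻¹ * (b' : G)⁻¹ * a) :=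
      central hS hA hB hC (hmem b)
        (mul_mem (mul_mem (inv_mem (mem_sup_left ha)) (inv_mem (mem_sup_right b'.2))) (mem_sup_left ha))
    rw [e1, ← e2.eq]
    group
  have hinj : Function.Injective f := (injective_iff_map_eq_one f).2 fun b hb => by
    have hb' : a⁻¹ * (b : G)⁻¹ * a * b = 1 := congrArg Subtype.val hb
    refine Subtype.ext (injective_commutator hS hA hP hAP hB hC ha ha1 b.2 ?_)
    show a * (b : G) = b * a
    calc a * (b : G) = b * a * (a⁻¹ * (b : G)⁻¹ * a * b) := by group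
      _ = b * a := by rw [hb', mul_one]
  have hsurj : Function.Surjective f := by
    rintro ⟨c, hc⟩
    have hle : ⁅A, B⁆ ≤ f.range.map (⁅A, B⁆ : Subgroup G).subtype := by
      refine ((rootCase_of_mem hS hA hB hC).2.2.1 a⁻¹ (inv_mem ha) (inv_ne_one.2 ha1)).ge.trans
        ((closure_le _).2 ?_)
      rintro _ ⟨b, hb, rfl⟩
      exact ⟨f ⟨b, hb⟩⁻¹, ⟨_, rfl⟩, by show a⁻¹ * (b⁻¹)⁻¹ * a * b⁻¹ = _; group⟩
    obtain ⟨_, ⟨b, rfl⟩, e⟩ := hle hc
    exact ⟨b, Subtype.ext e⟩
  exact ⟨MulEquiv.ofBijective f ⟨hinj, hsurj⟩, fun b => rfl⟩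

theorem exists_factor {x : G} (hx : x ∈ A ⊔ ⁅A, B⁆) : ∃ a ∈ A, ∃ c ∈ ⁅A, B⁆, x = a * c := by
  have hle : A ≤ normalizer ((⁅A, B⁆ : Subgroup G) : Set G) := normalizer_commutator_ge_left A B
  rw [← SetLike.mem_coe, Subgroup.coe_mul_of_left_le_normalizer_right A _ hle] at hx
  obtain ⟨a, ha, c, hc, e⟩ := hx
  exact ⟨a, ha, c, hc, e.symm⟩

/-- An element of the line outside `C` lies in a conjugate of `A` by `B`. -/
theorem exists_mem_conj {a c : G} (ha : a ∈ A) (ha1 : a ≠ 1) (hc : c ∈ ⁅A, B⁆) :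
    ∃ b ∈ B, a * c ∈ conjBy A b := by
  obtain ⟨φ, hφ⟩ := exists_iso hS hA hP hAP hB hC ha ha1
  obtain ⟨b, hb⟩ := φ.surjective ⟨c, hc⟩
  refine ⟨(b : G)⁻¹, inv_mem b.2, ?_⟩
  have e : c = a⁻¹ * (b : G)⁻¹ * a * b := (congrArg Subtype.val hb).symm.trans (hφ b)
  rw [mem_conjBy, inv_inv, e, show (b : G) * (a * (a⁻¹ * (b : G)⁻¹ * a * b)) * (b : G)⁻¹ = a by group]
  exact ha

/-- A member contained in the commutator is the commutator. -/
theorem eq_of_le_commutator {E : Subgroup G} (hE : E ∈ S) (hle : E ≤ ⁅A, B⁆) : E = ⁅A, B⁆ := by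
  set C := ⁅A, B⁆ with hCdef
  obtain ⟨e₀, he₀, he₀1⟩ := (Subgroup.bot_or_exists_ne_one E).resolve_left (hS.ne_bot E hE)
  -- an element `d` of `P` which no non-trivial element of `C` centralizes
  obtain ⟨a, ha, ha1⟩ := (Subgroup.bot_or_exists_ne_one A).resolve_left (ne_bot_left hAP)
  obtain ⟨d, hd, hd1, hdeq⟩ := hAP.cond_left a ha ha1
  have hkey : ∀ c ∈ C, Commute c d → c = 1 := by
    intro c hc hcd
    by_contra hc1
    have hcA : ∀ a' ∈ A, Commute c a' := fun a' ha' => central hS hA hB hC hc (mem_sup_left ha')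
    have hcP : ∀ x ∈ P, Commute c x := by
      intro x hx
      have h1 : a⁻¹ * x * a ∈ conjBy A d⁻¹ := by
        rw [hdeq, mem_conjBy, inv_inv, show a * (a⁻¹ * x * a) * a⁻¹ = x by group]
        exact hx
      rw [mem_conjBy, inv_inv] at h1
      have h2 := hcA _ h1
      have h3 : Commute c (d⁻¹ * (d * (a⁻¹ * x * a) * d⁻¹) * d) := (hcd.inv_right.mul_right h2).mul_right hcd
      rw [show d⁻¹ * (d * (a⁻¹ * x * a) * d⁻¹) * d = a⁻¹ * x * a by group] at h3
      have h4 := ((hcA a ha).mul_right h3).mul_right (hcA a ha).inv_right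
      rwa [show a * (a⁻¹ * x * a) * a⁻¹ = x by group] at h4
    have hcX : ∀ x ∈ A ⊔ P, c * x = x * c := by
      intro x hx
      have hle' : A ⊔ P ≤ centralizer ({c} : Set G) := by
        refine sup_le (fun y hy => ?_) (fun y hy => ?_) <;> rw [mem_centralizer_singleton_iff]
        · exact (hcA y hy).symm.eq
        · exact (hcP y hy).symm.eq
      exact (mem_centralizer_singleton_iff.1 (hle' hx)).symm
    obtain ⟨b, -, hb⟩ := exists_mem_conj hS hA hP hAP hB hC ha ha1 hc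
    rw [← (hcA a ha).eq] at hb
    exact hc1 (central_translate hS hA hP hAP (hS.conj_mem A hA b) hcX ha ha1 hb).2
  rcases hS.pair E hE P hP with h | h | h
  · exact absurd (hkey e₀ (hle he₀) (commute_of_commutator_eq_bot h he₀ hd)) he₀1
  · exact (trivial_intersection hS hE hP h hC he₀1 he₀ (hle he₀)).symm
  rcases hS.pair C hC P hP with h' | h' | h'
  · exact absurd (hkey e₀ (hle he₀) (commute_of_commutator_eq_bot h' (hle he₀) hd)) he₀1
  · exact trivial_intersection hS hC hP h' hE he₀1 (hle he₀) he₀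
  refine le_antisymm hle fun c hc => ?_
  haveI := hS.commutative C hC
  let U : Subgroup G :=
    { carrier := {x | ∃ e ∈ E, ⁅e, d⁆ = x}
      one_mem' := ⟨1, one_mem E, by simp⟩
      mul_mem' := by
        rintro _ _ ⟨e, he, rfl⟩ ⟨e', he', rfl⟩
        refine ⟨e' * e, mul_mem he' he, ?_⟩
        have h1 : ⁅e' * e, d⁆ = e' * ⁅e, d⁆ * e'⁻¹ * ⁅e', d⁆ := by simp only [commutatorElement_def]; group
        have h2 : Commute e' ⁅e, d⁆ :=
          ((h.2.1 _ (commutator_mem_commutator he hd) e' (mem_sup_left he')) : ⁅e, d⁆ * e' = e' * ⁅e, d⁆).symm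
        rw [h1, h2.eq, mul_inv_cancel_right]
      inv_mem' := by
        rintro _ ⟨e, he, rfl⟩
        refine ⟨e⁻¹, inv_mem he, ?_⟩
        have h1 : ⁅e⁻¹, d⁆ = e⁻¹ * ⁅e, d⁆⁻¹ * e := by simp only [commutatorElement_def]; group
        have h2 : Commute e⁻¹ ⁅e, d⁆⁻¹ :=
          (Commute.inv_inv ((h.2.1 _ (commutator_mem_commutator he hd) e (mem_sup_left he)) :
            ⁅e, d⁆ * e = e * ⁅e, d⁆)).symm
        rw [h1, h2.eq, inv_mul_cancel_right] }
  have hU : ⁅C, P⁆ ≤ U := by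
    rw [← h'.2.2.1 e₀ (hle he₀) he₀1, h.2.2.1 e₀ he₀ he₀1, ← h.2.2.2 d hd hd1, closure_le]
    rintro _ ⟨e, he, rfl⟩
    exact ⟨e, he, rfl⟩
  obtain ⟨e, he, hec⟩ := hU (commutator_mem_commutator hc hd)
  have : e⁻¹ * c = 1 := by
    refine hkey _ (mul_mem (inv_mem (hle he)) hc) ?_
    have h1 : e * d * e⁻¹ = c * d * c⁻¹ := by
      rw [commutatorElement_def, commutatorElement_def] at hec
      exact mul_right_cancel hec
    show e⁻¹ * c * d = d * (e⁻¹ * c)
    calc e⁻¹ * c * d = e⁻¹ * (c * d * c⁻¹) * c := by group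
      _ = d * (e⁻¹ * c) := by rw [← h1]; group
  rwa [← inv_mul_eq_one.1 this]

theorem membersIn_eq :
    membersIn S (A ⊔ ⁅A, B⁆) = (fun b : G => conjBy A b) '' (B : Set G) ∪ {⁅A, B⁆} := by
  apply Set.Subset.antisymm
  · rintro E ⟨hE, hle⟩
    by_cases hEC : E ≤ ⁅A, B⁆
    · exact Or.inr (eq_of_le_commutator hS hA hP hAP hB hC hE hEC)
    obtain ⟨e, he, hec⟩ := SetLike.not_le_iff_exists.1 hEC
    obtain ⟨a, ha, c, hc, rfl⟩ := exists_factor hS hA hP hAP hB hC (hle he)
    have ha1 : a ≠ 1 := fun e => hec (by rw [e, one_mul]; exact hc)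
    obtain ⟨b, hb, hmem⟩ := exists_mem_conj hS hA hP hAP hB hC ha ha1 hc
    exact Or.inl ⟨b, hb, (trivial_intersection_conj hS hA hP hAP b hE
      (x := a * c) (fun h1 => hec (by rw [h1]; exact one_mem _)) hmem he).symm⟩
  · rintro E (⟨b, hb, rfl⟩ | rfl)
    · refine ⟨hS.conj_mem A hA b, ?_⟩
      rintro _ ⟨a, ha, rfl⟩
      show b * a * b⁻¹ ∈ _
      rw [show b * a * b⁻¹ = a * (a⁻¹ * b * (a⁻¹)⁻¹ * b⁻¹) by group]
      refine mul_mem (mem_sup_left ha) (mem_sup_right ?_)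
      rw [← commutatorElement_def]
      exact commutator_mem_commutator (inv_mem ha) hb
    · exact ⟨hC, le_sup_right⟩

theorem partition : IsSubgroupPartition (A ⊔ ⁅A, B⁆) (membersIn S (A ⊔ ⁅A, B⁆)) := by
  have hmem := membersIn_eq hS hA hP hAP hB hC
  refine ⟨fun E hE => hE.2, fun x hx hx1 => ?_, fun E hE F hF hne => ?_⟩
  · obtain ⟨a, ha, c, hc, rfl⟩ := exists_factor hS hA hP hAP hB hC hx
    by_cases ha1 : a = 1
    · subst ha1
      exact ⟨_, ⟨hC, le_sup_right⟩, by rw [one_mul]; exact hc⟩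
    obtain ⟨b, hb, hm⟩ := exists_mem_conj hS hA hP hAP hB hC ha ha1 hc
    exact ⟨conjBy A b, hmem.symm ▸ Or.inl ⟨b, hb, rfl⟩, hm⟩
  · rw [eq_bot_iff]
    rintro x ⟨hxE, hxF⟩
    rw [mem_bot]
    by_contra hx1
    rw [hmem] at hE hF
    have key : ∀ b, ∀ E' ∈ S, x ∈ conjBy A b → x ∈ E' → E' = conjBy A b := fun b E' hE' h1 h2 =>
      trivial_intersection_conj hS hA hP hAP b hE' hx1 h1 h2
    rcases hE with ⟨b, -, rfl⟩ | rfl
    · rcases hF with ⟨b', -, rfl⟩ | rfl
      · exact hne (key b _ (hS.conj_mem A hA b') hxE hxF).symm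
      · exact hne (key b _ hC hxE hxF).symm
    · rcases hF with ⟨b', -, rfl⟩ | rfl
      · exact hne (key b' _ hC hxF hxE)
      · exact hne rfl

theorem linePartner : A ∈ linePartners S ⁅A, B⁆ := by
  refine ⟨⟨hA, ne_commutator hS hA hB hC, ?_⟩, ?_⟩
  · exact commutator_eq_bot_iff_le_centralizer.2 fun c hc => mem_centralizer_iff.2 fun a ha =>
      (central hS hA hB hC hc (mem_sup_left ha)).symm.eq
  · rw [sup_comm]
    exact partition hS hA hP hAP hB hC

end Line

end CfsgLib.ThreeTrans.Root
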