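import Cfsg.Agent.Lib.ThreeTrans.RankOneSpecial
import Cfsg.Agent.Lib.ThreeTrans.RankOneSL2
import Cfsg.Agent.Lib.ThreeTrans.RootNondeg

set_option autoImplicit false

/-!
Rank one pairs in a class of abstract root subgroups are special (owner: helper28).

The main step: if `A`, `C` commute and have a common rank one partner `P`, then `(A, P)` is special. For `a` in `A`
there is `u` in `AC` with `⁅P, P^u⁆ = 1`, and `p ↦ ⁅p, u⁆` is injective on `P`; one computes `⁅(a p) a (a p)⁻¹, u⁆ = ⁅p, u⁆`.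
-/

namespace CfsgLib.ThreeTrans.Root

open Cfsg Subgroup CfsgLib.ThreeTrans
open scoped commutatorElement

section

variable {G : Type*} [Group G] {S : Set (Subgroup G)} (hS : IsRootSubgroupSet S)

/-- The setting: `A ≠ C` commute and have the common partner `P`. -/
structure Common (S : Set (Subgroup G)) (A C P : Subgroup G) : Prop where
  memA : A ∈ S
  memC : C ∈ S
  memP : P ∈ S
  ne : A ≠ C
  comm : ⁅A, C⁆ = ⊥
  pairA : IsRankOnePair A P
  pairC : IsRankOnePair C P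

namespace Common

variable {A C P : Subgroup G}
include hS

theorem commuteSelf {X : Subgroup G} (hX : X ∈ S) {x y : G} (hx : x ∈ X) (hy : y ∈ X) : Commute x y :=
  haveI := hS.commutative X hX
  congrArg Subtype.val (IsMulCommutative.is_comm.comm (⟨x, hx⟩ : X) ⟨y, hy⟩)

variable (T : Common S A C P)
include T

theorem commuteAC {a c : G} (ha : a ∈ A) (hc : c ∈ C) : Commute a c := commute_of_commutator_eq_bot T.comm ha hc

/-- The only unipotent subgroup of `⟨C, P⟩` commuting with `A` is `C`. -/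
theorem eq_of_commute {E : Subgroup G} (hE : E ∈ unipotentSubgroups C P) (hc : ⁅A, E⁆ = ⊥) : E = C := by
  by_contra hne
  have hle : C ⊔ P ≤ centralizer (A : Set G) := by
    rw [← sup_of_two_unipotent T.pairC (left_mem_unipotentSubgroups T.pairC) hE (Ne.symm hne)]
    refine sup_le ?_ ?_ <;> rw [← commutator_eq_bot_iff_le_centralizer, commutator_comm]
    exacts [T.comm, hc]
  refine not_commute_of_rankOne T.pairA ?_
  rw [commutator_comm, commutator_eq_bot_iff_le_centralizer]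
  exact le_sup_right.trans hle

/-- `a ↦ a p` sends `A` to `P`; some `a c` then sends `P` to a member commuting with `P`. -/
theorem step {a : G} (ha : a ∈ A) (ha1 : a ≠ 1) {p : G} (hp : p ∈ P) (hxA : conjBy A (a * p) = P) :
    ∃ c ∈ C, ⁅P, conjBy P (a * c)⁆ = ⊥ ∧ conjBy P (a * c) ≠ P := by
  have hp1 : p ≠ 1 := fun e => T.pairA.ne (by rwa [e, mul_one, conjBy_of_mem ha] at hxA)
  obtain ⟨c, hc, -, hce⟩ := T.pairC.cond_right p⁻¹ (inv_mem hp) (inv_ne_one.2 hp1)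
  rw [inv_inv] at hce
  have e2 : conjBy C (a * p) = conjBy P (a * c⁻¹) := by rw [← conjBy_conjBy, ← hce, conjBy_conjBy]
  refine ⟨c⁻¹, inv_mem hc, ?_, fun e => ?_⟩
  · rw [← e2]
    conv_lhs => arg 1; rw [← hxA]
    show ⁅A.map _, C.map _⁆ = ⊥
    rw [← map_commutator, T.comm, Subgroup.map_bot]
  · -- then `⟨A, P⟩ = ⟨C, P⟩`
    have hA : conjBy P c⁻¹ = conjBy P a⁻¹ := by
      apply conjBy_inj (g := a)
      rw [conjBy_conjBy, conjBy_conjBy, mul_inv_cancel, conjBy_one, e]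
    have m1 : conjBy P a⁻¹ ∈ unipotentSubgroups A P :=
      conjBy_mem_unipotentSubgroups T.pairA (right_mem_unipotentSubgroups T.pairA) (inv_mem (mem_sup_left ha))
    have m2 : conjBy P a⁻¹ ∈ unipotentSubgroups C P := hA ▸
      conjBy_mem_unipotentSubgroups T.pairC (right_mem_unipotentSubgroups T.pairC) (inv_mem (mem_sup_left hc))
    have hne : P ≠ conjBy P a⁻¹ := fun e => ha1 (inv_eq_one.1
      (eq_one_of_mem_normalizer T.pairA (inv_mem ha) (conjBy_eq_self_iff.1 e.symm)))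
    have s : A ⊔ P = C ⊔ P :=
      (sup_of_two_unipotent T.pairA (right_mem_unipotentSubgroups T.pairA) m1 hne).symm.trans
        (sup_of_two_unipotent T.pairC (right_mem_unipotentSubgroups T.pairC) m2 hne)
    exact T.ne (eq_of_commute hS T (mem_unipotentSubgroups_of_pair_le hS T.memA T.pairA T.memC T.pairC s.le)
      (by
        have := hS.commutative A T.memA
        exact commutator_eq_bot_iff_le_centralizer.2 (le_centralizer A)))

end Common

end

section Conj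

variable {G : Type*} [Group G]

theorem map_bot_of_commute {X Y : Subgroup G} (h : ⁅X, Y⁆ = ⊥) (g : G) : ⁅conjBy X g, conjBy Y g⁆ = ⊥ := by
  show ⁅X.map _, Y.map _⁆ = ⊥
  rw [← map_commutator, h, Subgroup.map_bot]

/-- An element centralizing `A` and moving `P` to a member commuting with `P` gives commuting conjugates of `A`. -/
theorem graph {A P : Subgroup G} (hAP : IsRankOnePair A P) (hA : ⁅A, A⁆ = ⊥) {u p : G}
    (hu : ∀ x ∈ A, Commute x u) (hPu : ⁅P, conjBy P u⁆ = ⊥) (hp : p ∈ P) : ⁅A, conjBy A ⁅p, u⁆⁆ = ⊥ := by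
  by_cases hp1 : p = 1
  · rw [hp1, commutatorElement_one_left, conjBy_one, hA]
  obtain ⟨a, ha, -, he⟩ := hAP.cond_right p hp hp1
  have huA : conjBy A u⁻¹ = A := conjBy_eq_self_iff.2
    (inv_mem (mem_normalizer_of_commute fun x hx => (hu x hx).symm.eq))
  have h0 := map_bot_of_commute (map_bot_of_commute hPu a⁻¹) p
  have e : conjBy (conjBy (conjBy P u) a⁻¹) p = conjBy A ⁅p, u⁆ := by
    rw [conjBy_conjBy P u a⁻¹, ((hu a ha).inv_left).eq, ← conjBy_conjBy P a⁻¹ u, he, commutatorElement_def,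
      conjBy_conjBy, conjBy_conjBy]
    conv_rhs => rw [← conjBy_conjBy, huA]
  rwa [he, conjBy_conjBy A p⁻¹ p, mul_inv_cancel, conjBy_one, e] at h0

end Conj

section

variable {G : Type*} [Group G] {S : Set (Subgroup G)} (hS : IsRootSubgroupSet S)
include hS

namespace Common

variable {A C P : Subgroup G} (T : Common S A C P)
include T

omit T in
theorem comm_self {X : Subgroup G} (hX : X ∈ S) : ⁅X, X⁆ = ⊥ := by
  have := hS.commutative X hX
  exact commutator_eq_bot_iff_le_centralizer.2 (le_centralizer X)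

/-- What is used about `u = a c`. -/
theorem ofStep {a : G} (ha : a ∈ A) {c : G} (hc : c ∈ C) (h : ⁅P, conjBy P (a * c)⁆ = ⊥)
    (hne : conjBy P (a * c) ≠ P) :
    (∀ x ∈ A, Commute x (a * c)) ∧ (∀ x ∈ P, ∀ y ∈ P, Commute x (⁅y, a * c⁆)) ∧
      (∀ y ∈ P, ∀ z ∈ P, ⁅y * z, a * c⁆ = ⁅z, a * c⁆ * ⁅y, a * c⁆) ∧
      (∀ y ∈ P, ∀ z ∈ P, Commute ⁅y, a * c⁆ ⁅z, a * c⁆) ∧
      (∀ y ∈ P, ⁅y, a * c⁆ = 1 → y = 1) := by
  set u := a * c
  have h1 : ∀ x ∈ A, Commute x u := fun x hx =>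
    (commuteSelf hS T.memA hx ha).mul_right (commuteAC hS T hx hc)
  have hPQ : ∀ x ∈ P, ∀ y ∈ P, Commute x (u * y * u⁻¹) := fun x hx y hy =>
    commute_of_commutator_eq_bot h hx (conj_mem_conjBy hy)
  have hv : ∀ y, ⁅y, u⁆ = y * (u * y⁻¹ * u⁻¹) := fun y => by rw [commutatorElement_def]; group
  have h2 : ∀ x ∈ P, ∀ y ∈ P, Commute x ⁅y, u⁆ := fun x hx y hy => by
    rw [hv]; exact (commuteSelf hS T.memP hx hy).mul_right (hPQ x hx _ (inv_mem hy))
  refine ⟨h1, h2, fun y hy z hz => ?_, fun y hy z hz => ?_, fun y hy hy0 => ?_⟩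
  · rw [show ⁅y * z, u⁆ = y * ⁅z, u⁆ * y⁻¹ * ⁅y, u⁆ by simp only [commutatorElement_def]; group,
      (h2 y hy z hz).eq, mul_inv_cancel_right]
  · rw [hv y]
    refine Commute.mul_left (h2 y hy z hz) ?_
    rw [hv z]
    refine Commute.mul_right (hPQ z hz _ (inv_mem hy)).symm ?_
    exact (commuteSelf hS T.memP (inv_mem hy) (inv_mem hz)).map (MulAut.conj u).toMonoidHom
  · by_contra hy1
    refine hne (trivial_intersection hS T.memP T.memA (RankOnePair_symm T.pairA) (hS.conj_mem P T.memP u) hy1 hy ?_)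
    have e : y * u = u * y := commutatorElement_eq_one_iff_commute.1 hy0
    have := conj_mem_conjBy (g := u) hy
    rwa [← e, mul_inv_cancel_right] at this

theorem exists_conj_eq {a : G} (ha : a ∈ A) {c : G} (hc : c ∈ C) (h : ⁅P, conjBy P (a * c)⁆ = ⊥)
    (hne : conjBy P (a * c) ≠ P) : ∃ p ∈ P, conjBy A ⁅p, a * c⁆ = C := by
  set u := a * c
  have huA : ∀ x ∈ A, Commute x u := (ofStep hS T ha hc h hne).1
  have hfix : conjBy A u = A := conjBy_eq_self_iff.2 (mem_normalizer_of_commute fun x hx => (huA x hx).symm.eq)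
  have hAQ : IsRankOnePair A (conjBy P u) := by
    have := conjBy_rankOne T.pairA u
    rwa [hfix] at this
  set Q := conjBy P u with hQ
  set R := conjBy P c with hR
  have hRZ : R ∈ unipotentSubgroups C P :=
    conjBy_mem_unipotentSubgroups T.pairC (right_mem_unipotentSubgroups T.pairC) (mem_sup_left hc)
  have eR : R = conjBy Q a⁻¹ := by rw [hR, hQ, conjBy_conjBy, inv_mul_cancel_left]
  by_cases ha1 : a = 1
  · exfalso
    subst ha1
    refine hne ?_
    have h0 : ⁅P, conjBy P c⁆ = ⊥ := by simpa [u, Q] using h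
    have hc1 : c = 1 := by
      obtain ⟨y, hy, hy1⟩ := (Subgroup.bot_or_exists_ne_one P).resolve_left (hS.ne_bot P T.memP)
      exact eq_one_of_conj_commute T.pairC hc hy hy1 (commute_of_commutator_eq_bot h0 hy (conj_mem_conjBy hy)).symm
    simp [Q, u, hc1, conjBy_one]
  obtain ⟨q, hq, -, he⟩ := hAQ.cond_left a ha ha1
  obtain ⟨p, hp, rfl⟩ := hq
  refine ⟨p, hp, ?_⟩
  set q := (MulAut.conj u).toMonoidHom p with hqdef
  have hqeq : q = u * p * u⁻¹ := rfl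
  have e : conjBy A ⁅p, u⁆ = conjBy R p := by
    rw [show ⁅p, u⁆ = p * q⁻¹ by rw [hqeq, commutatorElement_def]; group, ← conjBy_conjBy, he, ← eR]
  refine eq_of_commute hS T ?_ (graph T.pairA (comm_self hS T.memA) huA h hp)
  rw [e]
  exact conjBy_mem_unipotentSubgroups T.pairC hRZ (mem_sup_right hp)

/-- The abelian group generated by the conjugates of `A` under the `⁅p, u⁆`. -/
theorem span_comm {a : G} (ha : a ∈ A) {c : G} (hc : c ∈ C) (h : ⁅P, conjBy P (a * c)⁆ = ⊥)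
    (hne : conjBy P (a * c) ≠ P) : ∀ p ∈ P, ∀ q ∈ P, ∀ x ∈ A, ∀ y ∈ A,
      Commute (⁅p, a * c⁆ * x * ⁅p, a * c⁆⁻¹) (⁅q, a * c⁆ * y * ⁅q, a * c⁆⁻¹) := by
  intro p hp q hq x hx y hy
  obtain ⟨hu, -, hhom, -, -⟩ := ofStep hS T ha hc h hne
  set u := a * c
  have h0 := map_bot_of_commute
    (graph T.pairA (comm_self hS T.memA) hu h (mul_mem hq (inv_mem hp))) ⁅p, u⁆
  have e : ⁅p, u⁆ * ⁅q * p⁻¹, u⁆ = ⁅q, u⁆ := by
    rw [← hhom (q * p⁻¹) (mul_mem hq (inv_mem hp)) p hp, inv_mul_cancel_right]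
  rw [conjBy_conjBy A ⁅q * p⁻¹, u⁆, e] at h0
  exact commute_of_commutator_eq_bot h0 (conj_mem_conjBy hx) (conj_mem_conjBy hy)

/-- The relations between `u = a c` and `v = ⁅p, u⁆`. -/
theorem relations {a : G} (ha : a ∈ A) {p : G} (hp : p ∈ P) (hxA : conjBy A (a * p) = P) {a₀ : G} (ha₀ : a₀ ∈ A)
    {c : G} (hc : c ∈ C) (h : ⁅P, conjBy P (a₀ * c)⁆ = ⊥) (hne : conjBy P (a₀ * c) ≠ P) :
    (a * p) * a * (a * p)⁻¹ = p ∧
      ∀ q ∈ P, Commute ⁅q, a₀ * c⁆ ((a₀ * c)⁻¹ * ⁅p, a₀ * c⁆ * (a₀ * c) * ⁅p, a₀ * c⁆⁻¹) := by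
  obtain ⟨hu, hPv, hhom, hvv, hinj⟩ := ofStep hS T ha₀ hc h hne
  obtain ⟨p₁, hp₁, hC⟩ := exists_conj_eq hS T ha₀ hc h hne
  have hspan := span_comm hS T ha₀ hc h hne
  obtain ⟨u, hu_def⟩ : ∃ u, u = a₀ * c := ⟨_, rfl⟩
  rw [← hu_def] at hu hhom hinj hC h ⊢
  simp only [← hu_def] at hPv hspan
  obtain ⟨v, hv⟩ : ∃ v, v = ⁅p, u⁆ := ⟨_, rfl⟩
  rw [← hv]
  -- `D`
  set D : Subgroup G := closure {g | ∃ q ∈ P, ∃ x ∈ A, g = ⁅q, u⁆ * x * ⁅q, u⁆⁻¹} with hD
  have hDcomm : ∀ g ∈ D, ∀ g' ∈ D, Commute g g' := by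
    intro g hg g' hg'
    have hle : D ≤ centralizer (D : Set G) := by
      rw [hD]
      have : IsMulCommutative (closure {g | ∃ q ∈ P, ∃ x ∈ A, g = ⁅q, u⁆ * x * ⁅q, u⁆⁻¹}) :=
        Subgroup.isMulCommutative_closure (by
          rintro _ ⟨q, hq, x, hx, rfl⟩ _ ⟨q', hq', x', hx', rfl⟩
          exact (hspan q hq q' hq' x hx x' hx').eq)
      exact le_centralizer _
    exact mem_centralizer_iff.1 (hle hg') g hg
  have hgen : ∀ q ∈ P, ∀ x ∈ A, ⁅q, u⁆ * x * ⁅q, u⁆⁻¹ ∈ D := fun q hq x hx => subset_closure ⟨q, hq, x, hx, rfl⟩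
  have hAD : ∀ x ∈ A, x ∈ D := fun x hx => by
    simpa [commutatorElement_one_left] using hgen 1 (one_mem P) x hx
  have hcD : c ∈ D := by
    have h0 : c ∈ conjBy A ⁅p₁, u⁆ := by rw [hC]; exact hc
    obtain ⟨x, hx, rfl⟩ := h0
    exact hgen p₁ hp₁ x hx
  have huD : u ∈ D := hu_def ▸ mul_mem (hAD a₀ ha₀) hcD
  have hvn : ∀ q ∈ P, ∀ g ∈ D, ⁅q, u⁆ * g * ⁅q, u⁆⁻¹ ∈ D := by
    intro q hq g hg
    have hle : D ≤ D.comap (MulAut.conj ⁅q, u⁆).toMonoidHom := by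
      refine (closure_le _).2 ?_
      rintro _ ⟨q', hq', x, hx, rfl⟩
      show ⁅q, u⁆ * (⁅q', u⁆ * x * ⁅q', u⁆⁻¹) * ⁅q, u⁆⁻¹ ∈ D
      rw [show ⁅q, u⁆ * (⁅q', u⁆ * x * ⁅q', u⁆⁻¹) * ⁅q, u⁆⁻¹ = (⁅q, u⁆ * ⁅q', u⁆) * x * (⁅q, u⁆ * ⁅q', u⁆)⁻¹ by group,
        ← hhom q' hq' q hq]
      exact hgen _ (mul_mem hq' hq) x hx
    exact hle hg
  -- commuting with `P`
  have hcP : ∀ y ∈ P, Commute y v := fun y hy => hv ▸ hPv y hy p hp
  have hcP' : ∀ y ∈ P, Commute y (u⁻¹ * v * u) := by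
    intro y hy
    rw [hv, show u⁻¹ * ⁅p, u⁆ * u = (u⁻¹ * p * u) * p⁻¹ by rw [commutatorElement_def]; group]
    refine Commute.mul_right ?_ (commuteSelf hS T.memP hy (inv_mem hp))
    have h0 := map_bot_of_commute h u⁻¹
    rw [conjBy_conjBy, inv_mul_cancel, conjBy_one] at h0
    have h1 := commute_of_commutator_eq_bot h0 (conj_mem_conjBy hp) hy
    rw [inv_inv] at h1
    exact h1.symm
  obtain ⟨x, hx_def⟩ : ∃ x, x = a * p := ⟨_, rfl⟩
  rw [← hx_def] at hxA ⊢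
  obtain ⟨K, hK⟩ : ∃ K, K = a * v * a⁻¹ * v⁻¹ * u := ⟨_, rfl⟩
  obtain ⟨z, hz⟩ : ∃ z, z = u⁻¹ * v * u * v⁻¹ := ⟨_, rfl⟩
  have hKD : K ∈ D := by
    rw [hK, show a * v * a⁻¹ * v⁻¹ = a * (v * a⁻¹ * v⁻¹) by group]
    exact mul_mem (mul_mem (hAD a ha) (hv ▸ hvn p hp _ (hAD _ (inv_mem ha)))) huD
  have hzD : z ∈ D := by
    rw [hz, show u⁻¹ * v * u * v⁻¹ = u⁻¹ * (v * u * v⁻¹) by group]
    exact mul_mem (inv_mem huD) (hv ▸ hvn p hp _ huD)
  have hxu : x * u * x⁻¹ = K * (u⁻¹ * v * u) := by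
    have e0 : p * u * p⁻¹ = v * u := by rw [hv, commutatorElement_def]; group
    have hau : a⁻¹ * u⁻¹ = u⁻¹ * a⁻¹ := ((hu a ha).inv_inv).eq
    calc x * u * x⁻¹ = a * (p * u * p⁻¹) * a⁻¹ := by rw [hx_def]; group
      _ = a * v * (u * a⁻¹) := by rw [e0]; group
      _ = a * v * (a⁻¹ * u) := by rw [((hu a ha).inv_left).symm.eq]
      _ = K * (u⁻¹ * v * u) := by rw [hK]; group
  have hKP : ∀ y ∈ P, Commute y K := by
    intro y hy
    have hy' : y ∈ conjBy A x := by rw [hxA]; exact hy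
    obtain ⟨y', hy'', e⟩ := hy'
    have h1 : Commute y (x * u * x⁻¹) := by
      have := (hu y' hy'').map (MulAut.conj x).toMonoidHom
      rwa [e] at this
    rw [hxu] at h1
    have := h1.mul_right (hcP' y hy).inv_right
    rwa [mul_inv_cancel_right] at this
  have hzP : ∀ y ∈ P, Commute y z := fun y hy => hz ▸ (hcP' y hy).mul_right (hcP y hy).inv_right
  -- central elements commute with `u` and all `⁅q, u⁆`
  have hcen : ∀ k ∈ D, (∀ y ∈ P, Commute y k) → ∀ q ∈ P, Commute ⁅q, u⁆ k := by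
    intro k hk hkP q hq
    rw [commutatorElement_def]
    exact (((hkP q hq).mul_left (hDcomm u huD k hk)).mul_left (hkP q hq).inv_left).mul_left
      (hDcomm u huD k hk).inv_left
  refine ⟨?_, fun q hq => hz ▸ hcen z hzD hzP q hq⟩
  have Ku : Commute K u := hDcomm K hKD u huD
  have zu : Commute z u := hDcomm z hzD u huD
  have Kv : Commute v K := hv ▸ hcen K hKD hKP p hp
  have zv : Commute v z := hv ▸ hcen z hzD hzP p hp
  have hxv : x * v * x⁻¹ = a * v * a⁻¹ := by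
    have : p * v * p⁻¹ = v := by rw [(hcP p hp).eq, mul_inv_cancel_right]
    calc x * v * x⁻¹ = a * (p * v * p⁻¹) * a⁻¹ := by rw [hx_def]; group
      _ = a * v * a⁻¹ := by rw [this]
  have hava : a * v * a⁻¹ = K * u⁻¹ * v := by rw [hK]; group
  have hzv : u⁻¹ * v * u = z * v := by rw [hz]; group
  have hzu : v⁻¹ * u * v = u * z⁻¹ := by
    have e : u * (v⁻¹ * z * v)⁻¹ = v⁻¹ * u * v := by rw [hz]; group
    rwa [mul_assoc, ← zv.eq, inv_mul_cancel_left, eq_comm] at e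
  have key : x⁻¹ * u * x = v⁻¹ * u := by
    have e : x * (v⁻¹ * u) * x⁻¹ = u := by
      rw [show x * (v⁻¹ * u) * x⁻¹ = (x * v * x⁻¹)⁻¹ * (x * u * x⁻¹) by group, hxv, hava, hxu, hzv]
      calc (K * u⁻¹ * v)⁻¹ * (K * (z * v)) = v⁻¹ * u * (z * v) := by group
        _ = (v⁻¹ * u * v) * z := by rw [zv.symm.eq]; group
        _ = u := by rw [hzu, inv_mul_cancel_right]
    calc x⁻¹ * u * x = x⁻¹ * (x * (v⁻¹ * u) * x⁻¹) * x := by rw [e]
      _ = v⁻¹ * u := by group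
  have hv'' : ⁅x * a * x⁻¹, u⁆ = v := by
    have e1 : ⁅a, v⁻¹ * u⁆ = a * v⁻¹ * a⁻¹ * v := by
      rw [commutatorElement_def, show a * (v⁻¹ * u) * a⁻¹ = a * v⁻¹ * (u * a⁻¹) by group,
        ((hu a ha).inv_left).symm.eq]
      group
    have e2 : a * v⁻¹ * a⁻¹ * v = u * z⁻¹ * K⁻¹ := by
      calc a * v⁻¹ * a⁻¹ * v = (a * v * a⁻¹)⁻¹ * v := by group
        _ = v⁻¹ * u * (K⁻¹ * v) := by rw [hava]; group
        _ = (v⁻¹ * u * v) * K⁻¹ := by rw [(Kv.inv_right).symm.eq]; group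
        _ = u * z⁻¹ * K⁻¹ := by rw [hzu]
    calc ⁅x * a * x⁻¹, u⁆ = x * ⁅a, x⁻¹ * u * x⁆ * x⁻¹ := by simp only [commutatorElement_def]; group
      _ = x * (u * z⁻¹ * K⁻¹) * x⁻¹ := by rw [key, e1, e2]
      _ = (x * u * x⁻¹) * (x * (z⁻¹ * K⁻¹) * x⁻¹) := by group
      _ = (x * u * x⁻¹) * (z⁻¹ * K⁻¹) := by
        have hcx : ∀ k ∈ D, (∀ y ∈ P, Commute y k) → Commute x k := fun k hk hkP =>
          hx_def ▸ (hDcomm a (hAD a ha) k hk).mul_left (hkP p hp)
        rw [((hcx z hzD hzP).inv_right.mul_right (hcx K hKD hKP).inv_right).eq, mul_inv_cancel_right]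
      _ = K * (z * v) * (z⁻¹ * K⁻¹) := by rw [hxu, hzv]
      _ = v := by
        have c1 : Commute (K * z) v := Kv.symm.mul_left zv.symm
        rw [show K * (z * v) = (K * z) * v by group, c1.eq]; group
  have hxaP : x * a * x⁻¹ ∈ P := hxA ▸ conj_mem_conjBy ha
  have h1 : ⁅x * a * x⁻¹ * p⁻¹, u⁆ = 1 := by
    have h2 := hhom _ (mul_mem hxaP (inv_mem hp)) p hp
    rw [inv_mul_cancel_right, hv'', ← hv] at h2
    exact (mul_eq_left.1 h2.symm)
  exact mul_inv_eq_one.1 (hinj _ (mul_mem hxaP (inv_mem hp)) h1)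

theorem special : IsSpecialRankOnePair A P := by
  refine ⟨T.pairA, fun a ha ha1 b hb hb1 he => ?_⟩
  have hxA : conjBy A (a * b⁻¹) = P := by
    rw [← conjBy_conjBy, he, conjBy_conjBy, mul_inv_cancel, conjBy_one]
  obtain ⟨c, hc, h, hne⟩ := step hS T ha ha1 (inv_mem hb) hxA
  have := (relations hS T ha (inv_mem hb) hxA ha hc h hne).1
  calc b⁻¹ * a * b = a⁻¹ * ((a * b⁻¹) * a * (a * b⁻¹)⁻¹) * a := by group
    _ = a⁻¹ * b⁻¹ * a := by rw [this]

theorem conj_ne {a : G} (ha : a ∈ A) {c : G} (hc : c ∈ C) (h : ⁅P, conjBy P (a * c)⁆ = ⊥)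
    (hne : conjBy P (a * c) ≠ P) {q : G} (hq : q ∈ P) (hq1 : q ≠ 1) : conjBy A ⁅q, a * c⁆ ≠ A := by
  set u := a * c
  have hu := (ofStep hS T ha hc h hne).1
  have huA : conjBy A u⁻¹ = A := conjBy_eq_self_iff.2
    (inv_mem (mem_normalizer_of_commute fun x hx => (hu x hx).symm.eq))
  intro e
  obtain ⟨a', ha', -, he⟩ := T.pairA.cond_right q hq hq1
  refine hne (conjBy_inj (g := a'⁻¹) ?_)
  rw [conjBy_conjBy P u, ((hu a' ha').inv_left).eq, ← conjBy_conjBy P a'⁻¹, he]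
  apply conjBy_inj (g := q)
  conv_rhs => rw [conjBy_conjBy, mul_inv_cancel, conjBy_one]
  conv_rhs => rw [← e, commutatorElement_def, ← conjBy_conjBy, huA]
  simp only [u, conjBy_conjBy, mul_assoc]

/-- If every member commuting with `A` commutes with a rank one partner `B`, then `P` has at most four elements. -/
theorem card_le_four {B : Subgroup G} (hAB : IsRankOnePair A B)
    (hbad : ∀ D ∈ S, D ≠ A → ⁅A, D⁆ = ⊥ → ⁅D, B⁆ = ⊥) : ENat.card P ≤ 4 := by
  obtain ⟨a, ha, ha1⟩ := (Subgroup.bot_or_exists_ne_one A).resolve_left (hS.ne_bot A T.memA)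
  obtain ⟨b₀, hb₀, -, he₀⟩ := T.pairA.cond_left a ha ha1
  have hxA₀ : conjBy A (a * b₀⁻¹) = P := by
    rw [← conjBy_conjBy, he₀, conjBy_conjBy, mul_inv_cancel, conjBy_one]
  obtain ⟨c, hc, h, hne⟩ := step hS T ha ha1 (inv_mem hb₀) hxA₀
  obtain ⟨hu, -, hhom, -, -⟩ := ofStep hS T ha hc h hne
  obtain ⟨p₁, hp₁, hC⟩ := exists_conj_eq hS T ha hc h hne
  obtain ⟨u, hu_def⟩ : ∃ u, u = a * c := ⟨_, rfl⟩
  have hfar := conj_ne hS T ha hc h hne (q := p₁) hp₁
  have hp₁1 : p₁ ≠ 1 := fun e => T.ne (by rw [← hC, e, commutatorElement_one_left, conjBy_one])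
  have hc' : c ∈ conjBy A ⁅p₁, u⁆ := by rw [hu_def, hC]; exact hc
  obtain ⟨a₁, ha₁, hca⟩ := hc'
  have hca : c = ⁅p₁, u⁆ * a₁ * ⁅p₁, u⁆⁻¹ := hca.symm
  rw [← hu_def] at hhom
  let d : G → G → G := fun q x => ⁅q, u⁆ * x * ⁅q, u⁆⁻¹
  have hd : ∀ q ∈ P, q ≠ 1 → ∀ x ∈ A, ∀ y ∈ B, Commute (d q x) y := by
    intro q hq hq1 x hx y hy
    refine commute_of_commutator_eq_bot (hbad _ (hS.conj_mem A T.memA ⁅q, u⁆) ?_ ?_) (conj_mem_conjBy hx) hy
    · rw [hu_def]; exact conj_ne hS T ha hc h hne hq hq1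
    · rw [hu_def]; exact graph T.pairA (comm_self hS T.memA) hu h hq
  by_contra hcard
  rw [not_le] at hcard
  obtain ⟨p, hp, hp1, hpp, hpp'⟩ := Special.Data.exists_not_mem_of_three_lt (C := P)
    (lt_trans (by norm_num) hcard) 1 p₁ p₁⁻¹
  have hpp1 : p * p₁ ≠ 1 := fun e => hpp' (eq_inv_of_mul_eq_one_left e)
  obtain ⟨q, hq, hq1, hq2, hq3, hq4⟩ : ∃ q ∈ P, q ≠ 1 ∧ q ≠ p₁⁻¹ ∧ q ≠ p⁻¹ ∧ q ≠ (p * p₁)⁻¹ := by
    by_contra hno
    push Not at hno
    have hsub : (P : Set G) ⊆ {1, p₁⁻¹, p⁻¹, (p * p₁)⁻¹} := fun x hx => by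
      by_cases h1 : x = 1
      · exact Or.inl h1
      by_cases h2 : x = p₁⁻¹
      · exact Or.inr (Or.inl h2)
      by_cases h3 : x = p⁻¹
      · exact Or.inr (Or.inr (Or.inl h3))
      exact Or.inr (Or.inr (Or.inr (hno x hx h1 h2 h3)))
    refine not_le.2 hcard ?_
    show ENat.card ↥(P : Set G) ≤ 4
    rw [ENat.card_coe_set_eq]
    refine (Set.encard_le_encard hsub).trans ((Set.encard_insert_le _ _).trans ?_)
    refine le_trans (add_le_add_left ((Set.encard_insert_le _ _).trans (add_le_add_left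
      ((Set.encard_insert_le _ _).trans (add_le_add_left (Set.encard_singleton _).le _)) _)) _) ?_
    norm_num
  obtain ⟨a', ha', -, he'⟩ := T.pairA.cond_right p⁻¹ (inv_mem hp) (inv_ne_one.2 hp1)
  rw [inv_inv] at he'
  have hxA : conjBy A (a' * p) = P := by
    rw [← conjBy_conjBy, ← he', conjBy_conjBy, mul_inv_cancel, conjBy_one]
  have hzc := (relations hS T ha' hp hxA ha hc h hne).2 q hq
  rw [← hu_def] at hzc
  obtain ⟨v, hv⟩ : ∃ v, v = ⁅p, u⁆ := ⟨_, rfl⟩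
  have hc1 : c⁻¹ = d p₁ a₁⁻¹ := by rw [hca]; simp only [d]; group
  have evc : v * c * v⁻¹ = d (p * p₁) a₁ := by
    rw [hca, hv]
    show _ = ⁅p * p₁, u⁆ * a₁ * ⁅p * p₁, u⁆⁻¹
    rw [show p * p₁ = p₁ * p from (commuteSelf hS T.memP hp hp₁).eq, hhom p₁ hp₁ p hp]
    group
  have ez : u⁻¹ * ⁅p, u⁆ * u * ⁅p, u⁆⁻¹ = d p₁ a₁⁻¹ * a⁻¹ * (d p a * d (p * p₁) a₁) := by
    rw [← hc1, ← evc, ← hv, hu_def]
    simp only [d]
    rw [← hu_def, ← hv, hu_def]
    group
  have key : ∀ y ∈ B, Commute a⁻¹ y := by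
    intro y hy
    have htr : ∀ r ∈ P, ∀ x, ⁅q, u⁆ * d r x * ⁅q, u⁆⁻¹ = d (r * q) x := fun r hr x => by
      simp only [d, hhom r hr q hq]; group
    have e1 := hzc.eq
    rw [ez] at e1
    have e2 : ⁅q, u⁆ * (d p₁ a₁⁻¹ * a⁻¹ * (d p a * d (p * p₁) a₁)) * ⁅q, u⁆⁻¹ =
        d p₁ a₁⁻¹ * a⁻¹ * (d p a * d (p * p₁) a₁) := by rw [e1, mul_inv_cancel_right]
    have e3 : ⁅q, u⁆ * (d p₁ a₁⁻¹ * a⁻¹ * (d p a * d (p * p₁) a₁)) * ⁅q, u⁆⁻¹ =
        d (p₁ * q) a₁⁻¹ * d q a⁻¹ * (d (p * q) a * d (p * p₁ * q) a₁) := by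
      rw [← htr p₁ hp₁, ← htr p hp, ← htr (p * p₁) (mul_mem hp hp₁)]
      simp only [d]
      group
    have hcy : Commute (d p₁ a₁⁻¹ * a⁻¹ * (d p a * d (p * p₁) a₁)) y := by
      rw [← e2, e3]
      refine Commute.mul_left (Commute.mul_left ?_ ?_) (Commute.mul_left ?_ ?_)
      · exact hd _ (mul_mem hp₁ hq) (fun e => hq2 (eq_inv_of_mul_eq_one_right e)) _ (inv_mem ha₁) y hy
      · exact hd q hq hq1 _ (inv_mem ha) y hy
      · exact hd _ (mul_mem hp hq) (fun e => hq3 (eq_inv_of_mul_eq_one_right e)) _ ha y hy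
      · exact hd _ (mul_mem (mul_mem hp hp₁) hq) (fun e => hq4 (eq_inv_of_mul_eq_one_right e)) _ ha₁ y hy
    have h1 := hd p₁ hp₁ hp₁1 a₁⁻¹ (inv_mem ha₁) y hy
    have h2 := (hd p hp hp1 a ha y hy).mul_left (hd _ (mul_mem hp hp₁) hpp1 a₁ ha₁ y hy)
    have := (h1.inv_left.mul_left hcy).mul_left h2.inv_left
    rwa [show (d p₁ a₁⁻¹)⁻¹ * (d p₁ a₁⁻¹ * a⁻¹ * (d p a * d (p * p₁) a₁)) * (d p a * d (p * p₁) a₁)⁻¹ = a⁻¹ by
      group] at this
  obtain ⟨y, hy, hy1⟩ := (Subgroup.bot_or_exists_ne_one B).resolve_left (ne_bot_right hAB)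
  exact ha1 (inv_eq_one.1 (eq_one_of_commute hAB (inv_mem ha) hy hy1 (key y hy).eq))

end Common

end

section Final

universe u

open CfsgLib.ThreeTrans.RankOneSL2

variable {G : Type u} [Group G]

/-- A pair with an underlying image of `SL₂(k)` is special. -/
theorem special_of_psl2 {A B : Subgroup G} {k : Type*} [Field k] (hAB : IsRankOnePair A B)
    (hk : IsPSL2PairOver k A B) : IsSpecialRankOnePair A B := by
  obtain ⟨φ, -, -, hU, hL⟩ := hk
  have D : Special.Data (upperUnipotentSL2 k) (lowerUnipotentSL2 k) :=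
    (Special.Data.swap ⟨isSpecial, abelian.1, abelian.2⟩)
  refine ⟨hAB, fun a ha ha1 b hb hb1 he => ?_⟩
  obtain ⟨x, hx, rfl⟩ : ∃ x ∈ upperUnipotentSL2 k, φ x = a := by
    rw [← hU] at ha; exact ha
  have hx1 : x ≠ 1 := fun e => ha1 (by rw [e, map_one])
  obtain ⟨y, hy, hy1, hye⟩ := D.pair.cond_left x hx hx1
  have hmap : ∀ (U : Subgroup (Matrix.SpecialLinearGroup (Fin 2) k)) (g : Matrix.SpecialLinearGroup (Fin 2) k),
      (conjBy U g).map φ = conjBy (U.map φ) (φ g) := fun U g => by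
    show (U.map _).map φ = (U.map φ).map _
    rw [Subgroup.map_map, Subgroup.map_map]
    congr 1
    ext z
    simp
  have h1 := congrArg (Subgroup.map φ) hye
  rw [hmap, hmap, hU, hL, map_inv, map_inv] at h1
  have hyB : φ y ∈ B := hL ▸ mem_map_of_mem φ hy
  have e := unique_conjBy (RankOnePair_symm hAB) (inv_mem hb) (inv_mem hyB) (he.trans h1.symm)
  rw [inv_inj] at e
  have h2 := congrArg φ (D.special.2 x hx hx1 y hy hy1 hye)
  simp only [map_mul, map_inv] at h2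
  rw [e]
  exact h2

/-- A subgroup containing the image of the upper unitriangular subgroup has at least `|k|` elements. -/
theorem card_field_le {A B : Subgroup G} {k : Type*} [Field k] (hk : IsPSL2PairOver k A B) :
    ENat.card k ≤ ENat.card A ∧ ENat.card k ≤ ENat.card B := by
  obtain ⟨φ, -, hker, hU, hL⟩ := hk
  have key : ∀ (f : k → Matrix.SpecialLinearGroup (Fin 2) k) (X : Subgroup G), (∀ t, φ (f t) ∈ X) →
      (∀ s t, f s * (f t)⁻¹ ∈ center (Matrix.SpecialLinearGroup (Fin 2) k) → s = t) → ENat.card k ≤ ENat.card X := by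
    intro f X hm hinj
    refine ENat.card_le_card_of_injective (f := fun t : k => (⟨φ (f t), hm t⟩ : X)) fun s t e => hinj s t (hker ?_)
    rw [MonoidHom.mem_ker, map_mul, map_inv, show φ (f s) = φ (f t) from congrArg Subtype.val e, mul_inv_cancel]
  refine ⟨key upperEl A (fun t => hU ▸ mem_map_of_mem φ (mem_upper.2 ⟨t, rfl⟩)) fun s t h => ?_,
    key lowerEl B (fun t => hL ▸ mem_map_of_mem φ (mem_lower.2 ⟨t, rfl⟩)) fun s t h => ?_⟩
  · rw [upperEl_inv, upperEl_add] at h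
    have h2 := congrArg (fun g : Matrix.SpecialLinearGroup (Fin 2) k => g.1) (mem_center_iff.1 h (lowerEl 1))
    change (lowerEl (1 : k)).1 * (upperEl (s + -t)).1 = (upperEl (s + -t)).1 * (lowerEl (1 : k)).1 at h2
    have h3 := congrFun (congrFun h2 0) 0
    simp [upperEl, lowerEl] at h3
    linear_combination h3
  · rw [lowerEl_inv, lowerEl_add] at h
    have h2 := congrArg (fun g : Matrix.SpecialLinearGroup (Fin 2) k => g.1) (mem_center_iff.1 h (upperEl 1))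
    change (upperEl (1 : k)).1 * (lowerEl (s + -t)).1 = (lowerEl (s + -t)).1 * (upperEl (1 : k)).1 at h2
    have h3 := congrFun (congrFun h2 0) 0
    simp [upperEl, lowerEl] at h3
    linear_combination h3

variable {S : Set (Subgroup G)} (hS : IsRootSubgroupSet S) (hcls : IsConjClassOfSubgroups S)
include hS hcls

theorem rankOne_special (hcomm : ∃ A ∈ S, ∃ C ∈ S, A ≠ C ∧ ⁅A, C⁆ = ⊥)
    (hH : IsDegenerateRootSet S → (∀ A ∈ S, ∀ a ∈ A, 0 < orderOf a ∧ orderOf a ≤ 3) →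
      ∀ A ∈ S, ∀ B ∈ rankOnePartners S A, ∃ A₀ B₀ : Subgroup G, A₀ ≤ A ∧ B₀ ≤ B ∧
        ∃ (k : Type u) (_ : Field k), 3 < ENat.card k ∧ IsPSL2PairOver k A₀ B₀)
    {A B : Subgroup G} (hA : A ∈ S) (hB : B ∈ rankOnePartners S A) : IsSpecialRankOnePair A B := by
  obtain ⟨hBS, hAB⟩ := hB
  by_cases hd : IsDegenerateRootSet S
  swap
  · simp only [IsDegenerateRootSet, not_forall, not_not] at hd
    obtain ⟨P, hP, Q, hQ, hPQ⟩ := hd
    exact ((nonDeg_of hcls ⟨hcomm, ⟨A, hA, B, hBS, hAB⟩, P, hP, Q, hQ, hPQ⟩).special hS hA hBS hAB).2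
  by_cases hgood : ∃ D ∈ S, D ≠ A ∧ ⁅A, D⁆ = ⊥ ∧ IsRankOnePair D B
  · obtain ⟨D, hD, hne, hAD, hDB⟩ := hgood
    exact Common.special hS ⟨hA, hD, hBS, hne.symm, hAD, hAB, hDB⟩
  have hbad : ∀ D ∈ S, D ≠ A → ⁅A, D⁆ = ⊥ → ⁅D, B⁆ = ⊥ := by
    intro D hD hne hAD
    rcases hS.pair D hD B hBS with h | h | h
    · exact h
    · exact absurd ⟨D, hD, hne, hAD, h⟩ hgood
    · exact absurd h (hd D hD B hBS)
  -- some member commuting with `A` has a common partner with `A`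
  obtain ⟨C, P, T⟩ : ∃ C P, Common S A C P := by
    by_contra hno
    push Not at hno
    have hall : ∀ X ∈ S, X = A ∨ IsRankOnePair A X := by
      intro X hX
      have h := connected_of_class hS hcls ⟨A, hA, B, hBS, hAB⟩ A hA X hX
      clear hX
      induction h with
      | refl => exact Or.inl rfl
      | @tail X Y _ hstep ih =>
        by_cases hYA : Y = A
        · exact Or.inl hYA
        rcases hS.pair A hA Y hstep.2.1 with h | h | h
        · rcases ih with e | h'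
          · subst e
            exact Or.inr hstep.2.2
          · exact absurd (show Common S A Y X from ⟨hA, hstep.2.1, hstep.1, Ne.symm hYA, h, h',
              RankOnePair_symm hstep.2.2⟩) (hno Y X)
        · exact Or.inr h
        · exact absurd h (hd A hA Y hstep.2.1)
    obtain ⟨A₁, hA₁, C₁, hC₁, hne, hc⟩ := hcomm
    obtain ⟨g, rfl⟩ := hcls.2 A₁ hA₁ A hA
    rcases hall (conjBy C₁ g) (hS.conj_mem C₁ hC₁ g) with e | h
    · exact hne (conjBy_inj e).symm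
    · exact not_commute_of_rankOne h (map_bot_of_commute hc g)
  have hsp := Common.special hS T
  have hP4 : ENat.card P ≤ 4 := Common.card_le_four hS T hAB hbad
  have hconj : ∀ X ∈ S, ENat.card X ≤ 4 := by
    intro X hX
    obtain ⟨g, rfl⟩ := hcls.2 P T.memP X hX
    rw [← ENat.card_congr (Subgroup.equivMapOfInjective P (MulAut.conj g).toMonoidHom (MulAut.conj g).injective).toEquiv]
    exact hP4
  have horder : ∀ X ∈ S, ∀ x ∈ X, 0 < orderOf x ∧ orderOf x ≤ 3 := by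
    intro X hX x hx
    have : Finite A := ENat.card_lt_top.1 (lt_of_le_of_lt (hconj A hA) (WithTop.coe_lt_top _))
    obtain ⟨g, rfl⟩ := hcls.2 A hA X hX
    obtain ⟨a, ha, rfl⟩ := hx
    rw [orderOf_injective (MulAut.conj g).toMonoidHom (MulAut.conj g).injective a]
    rcases Special.Data.elementary_or_divisible ⟨hsp, hS.commutative A hA, hS.commutative P T.memP⟩ with
      ⟨q, hq, -, hpow⟩ | ⟨htf, -⟩
    · have hfin : IsOfFinOrder a := isOfFinOrder_iff_pow_eq_one.2 ⟨q, hq.pos, hpow a ha⟩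
      refine ⟨hfin.orderOf_pos, ?_⟩
      rcases (Nat.dvd_prime hq).1 (orderOf_dvd_of_pow_eq_one (hpow a ha)) with e | e
      · omega
      have h4 : orderOf a ≤ Nat.card A := by
        rw [← Subgroup.orderOf_mk a ha]; exact orderOf_le_card
      have h5 : Nat.card A ≤ 4 := by
        have := hconj A hA
        rw [ENat.card_eq_coe_natCard] at this
        exact_mod_cast this
      by_contra h6
      rw [show orderOf a = 4 by omega] at e
      rw [← e] at hq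
      norm_num at hq
    · by_cases ha1 : a = 1
      · rw [ha1, orderOf_one]; omega
      · exact absurd (Submonoid.isOfFinOrder_coe.2 (isOfFinOrder_of_finite (⟨a, ha⟩ : A))) (htf a ha ha1)
  obtain ⟨A₀, B₀, hA₀, hB₀, k, hk, hk4, hpsl⟩ := hH hd horder A hA B ⟨hBS, hAB⟩
  have heq : ∀ X₀ X : Subgroup G, X₀ ≤ X → ENat.card X ≤ 4 → 3 < ENat.card X₀ → X₀ = X := by
    intro X₀ X hle h4 h3
    have : Finite X := ENat.card_lt_top.1 (lt_of_le_of_lt h4 (WithTop.coe_lt_top _))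
    have : Finite X₀ := Finite.of_injective _ (Subgroup.inclusion_injective hle)
    rw [ENat.card_eq_coe_natCard] at h4 h3
    have e1 : Nat.card X ≤ 4 := by exact_mod_cast h4
    have e2 : 3 < Nat.card X₀ := by exact_mod_cast h3
    exact Subgroup.eq_of_le_of_card_ge hle (by omega)
  have hA0 : A₀ = A := heq A₀ A hA₀ (hconj A hA) (lt_of_lt_of_le hk4 (card_field_le hpsl).1)
  have hB0 : B₀ = B := by
    exact heq B₀ B hB₀ (hconj B hBS) (lt_of_lt_of_le hk4 (card_field_le hpsl).2)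
  subst hA0 hB0
  exact special_of_psl2 hAB hpsl

end Final

end CfsgLib.ThreeTrans.Root
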