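import Cfsg.Agent.Lib.ThreeTrans.RootIncomparable

set_option autoImplicit false

/-!
Weak TI-subsets of non-degenerate classes are abelian (owner: helper28).
-/

namespace CfsgLib.ThreeTrans.Root

open Cfsg Subgroup CfsgLib.ThreeTrans
open scoped commutatorElement

variable {G : Type*} [Group G] {S : Set (Subgroup G)}

/-- The elements fixing a set of subgroups. -/
def setStab (Δ : Set (Subgroup G)) : Subgroup G where
  carrier := {g | (fun A => conjBy A g) '' Δ = Δ}
  one_mem' := by simp [conjBy_one]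
  mul_mem' := by
    intro g h hg hh
    simp only [Set.mem_setOf_eq] at *
    conv_rhs => rw [← hg, ← hh, Set.image_image]
    simp only [conjBy_conjBy]
  inv_mem' := by
    intro g hg
    simp only [Set.mem_setOf_eq] at *
    conv_lhs => rw [← hg, Set.image_image]
    simp [conjBy_conjBy, conjBy_one]

theorem weakTI_abelian (hS : IsRootSubgroupSet S) (hN : NonDeg S) {Δ : Set (Subgroup G)}
    (hΔ : IsWeakTISubset S Δ) : IsAbelianFamily Δ := by
  obtain ⟨hsub, -, hne, hTI⟩ := hΔ
  set N := setStab Δ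
  have hmem : ∀ {g : G}, g ∈ N → ∀ {X}, X ∈ Δ → conjBy X g ∈ Δ := fun {g} hg {X} hX => by
    have : (fun A => conjBy A g) '' Δ = Δ := hg
    exact this ▸ Set.mem_image_of_mem _ hX
  have hfix : ∀ X ∈ Δ, ∀ D ∈ S, ⁅X, D⁆ = ⊥ → D ≤ N := by
    intro X hX D hD hc d hd
    by_cases hd1 : d = 1
    · rw [hd1]; exact one_mem N
    rcases hTI d ⟨hd1, D, hD, hd⟩ with h | h
    · exact h
    · refine absurd hX (Set.disjoint_left.1 h ⟨X, hX, ?_⟩)
      exact conjBy_eq_self_iff.2 (mem_normalizer_of_commute fun x hx =>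
        (commute_of_commutator_eq_bot hc hx hd).symm)
  have hself : ∀ X ∈ Δ, X ≤ N := fun X hX => hfix X hX X (hsub hX) (commute_self hS (hsub hX))
  have hr : ∀ X ∈ Δ, ∀ Y ∈ Δ, ¬ IsRankOnePair X Y := by
    intro X hX Y hY h
    have htop : N = ⊤ := by
      rw [eq_top_iff, ← hN.generated hS (hsub hX) (hsub hY) h]
      exact sup_le (iSup₂_le fun E hE => hfix X hX E hE.1.1 hE.1.2.2) (hself Y hY)
    refine hne (Set.Subset.antisymm hsub fun Z hZ => ?_)
    obtain ⟨g, rfl⟩ := hN.cls.2 X (hsub hX) Z hZ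
    exact hmem (htop ▸ mem_top g) hX
  intro A hA B hB a ha b hb
  rcases hS.pair A (hsub hA) B (hsub hB) with hc | h | hcc
  · exact commute_of_commutator_eq_bot hc ha hb
  · exact absurd h (hr A hA B hB)
  exfalso
  obtain ⟨M, hpl⟩ := exists_completion hS (fun X hX => hN.partner hS hX) (hsub hA) (hsub hB) hcc.1
  have hMN : M ≤ N := hfix A hA M hpl.memD (commutator_eq_bot_iff_le_centralizer.2 fun x hx =>
    mem_centralizer_iff.2 fun m hm => (hpl.commute_A hS hx (mem_sup_right hm)).symm.eq)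
  have hBM := hpl.rankOne hS
  obtain ⟨y, hy, e⟩ := right_mem_unipotentSubgroups hBM
  have hyN : y ∈ N := sup_le (hself B hB) hMN hy
  exact hr B hB M (e ▸ hmem hyN hB) hBM

end CfsgLib.ThreeTrans.Root
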