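import Cfsg.Agent.Lib.ThreeTrans.RankOneSL2
import Cfsg.Agent.Lib.Known.Transvections

/-!
Transvections of `SL n k`: products of two of them, the subgroups generated by two transvection groups.
-/

set_option autoImplicit false
set_option linter.unusedSimpArgs false

namespace CfsgLib.ThreeTrans.SLTrans

open Cfsg Matrix CfsgLib.ThreeTrans.RankOneSL2
open scoped commutatorElement

section Ring

variable {R : Type*} [Ring R] {k : Type*} [Field k] [Algebra k R] {A B : R} {τ : k}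

theorem quad_rel (hA : A * A = 0) (hB : B * B = 0) (hABA : A * B * A = τ • A) (hBAB : B * A * B = τ • B) :
    ((1 + A) * (1 + B) - 1) * (((1 + A) * (1 + B)) * ((1 + A) * (1 + B)) - (2 + τ) • ((1 + A) * (1 + B)) + 1) = 0 := by
  have hA' : ∀ z, A * (A * z) = 0 := fun z => by rw [← mul_assoc, hA, zero_mul]
  have hB' : ∀ z, B * (B * z) = 0 := fun z => by rw [← mul_assoc, hB, zero_mul]
  have h1' : ∀ z, A * (B * (A * z)) = τ • (A * z) := fun z => by
    rw [← mul_assoc, ← mul_assoc, hABA, smul_mul_assoc]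
  have h2' : ∀ z, B * (A * (B * z)) = τ • (B * z) := fun z => by
    rw [← mul_assoc, ← mul_assoc, hBAB, smul_mul_assoc]
  have h1 : A * (B * A) = τ • A := by rw [← mul_assoc, hABA]
  have h2 : B * (A * B) = τ • B := by rw [← mul_assoc, hBAB]
  simp only [mul_add, add_mul, mul_sub, sub_mul, one_mul, mul_one, mul_assoc, smul_add, mul_smul_comm,
    smul_mul_assoc, hA, hB, hA', hB', h1, h2, h1', h2', mul_zero, add_zero, zero_add, smul_smul, smul_zero]
  module

end Ring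

/-- A root of a separable polynomial has no nontrivial unipotent power. -/
theorem pow_eq_one_of_sq_eq_zero {k R : Type*} [Field k] [Ring R] [Algebra k R] {P : R} {f : Polynomial k}
    (hf : f.Separable) (hP : Polynomial.aeval P f = 0) {m : ℕ} (h : (P ^ m - 1) ^ 2 = 0) : P ^ m = 1 := by
  by_cases hz : f = 0
  · subst hz; exact absurd hf Polynomial.not_separable_zero
  have hint : IsIntegral k P := IsAlgebraic.isIntegral ⟨f, hz, hP⟩
  have hsq : Squarefree (minpoly k P) := hf.squarefree.squarefree_of_dvd (minpoly.dvd k P hP)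
  have hd : minpoly k P ∣ (Polynomial.X ^ m - 1) ^ 2 := minpoly.dvd k P (by simpa using h)
  have hd' : minpoly k P ∣ Polynomial.X ^ m - 1 :=
    hsq.isRadical 2 _ hd
  obtain ⟨c, hc⟩ := hd'
  have := congrArg (Polynomial.aeval P) hc
  rw [map_sub, map_pow, Polynomial.aeval_X, map_one, map_mul, minpoly.aeval, zero_mul] at this
  exact sub_eq_zero.1 this

variable {k : Type*} [Field k] {n : ℕ}

/-- A matrix `a φ` with `φ a = 0`. -/
def dy (a φ : Fin n → k) : Matrix (Fin n) (Fin n) k := vecMulVec a φ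

theorem dy_mul (a φ b ψ : Fin n → k) : dy a φ * dy b ψ = (φ ⬝ᵥ b) • dy a ψ := by
  simp only [dy, vecMulVec_mul_vecMulVec, vecMulVec_smul]

theorem dy_smul (c : k) (a φ : Fin n → k) : c • dy a φ = dy (c • a) φ := by
  simp [dy, smul_vecMulVec]

theorem dy_smul' (c : k) (a φ : Fin n → k) : c • dy a φ = dy a (c • φ) := by
  simp [dy, vecMulVec_smul]

theorem dy_ne_zero {a φ : Fin n → k} (ha : a ≠ 0) (hφ : φ ≠ 0) : dy a φ ≠ 0 := by
  intro h
  rcases vecMulVec_eq_zero.1 h with h | h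
  · exact ha h
  · exact hφ h

theorem dy_sq {a φ : Fin n → k} (h : φ ⬝ᵥ a = 0) : dy a φ * dy a φ = 0 := by
  rw [dy_mul, h, zero_smul]

/-- The transvection `1 + a φ`. -/
def tv (a φ : Fin n → k) (h : φ ⬝ᵥ a = 0) : SpecialLinearGroup (Fin n) k :=
  ⟨1 + dy a φ, by rw [dy, CfsgLib.Known.Transvections.det_one_add_vecMulVec', h, add_zero]⟩

theorem tv_val (a φ : Fin n → k) (h : φ ⬝ᵥ a = 0) :
    (tv a φ h : Matrix (Fin n) (Fin n) k) = 1 + dy a φ := rfl

/-- The transvection group of a point and a hyperplane. -/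
def tvGroup (a φ : Fin n → k) (h : φ ⬝ᵥ a = 0) : Subgroup (SpecialLinearGroup (Fin n) k) where
  carrier := {g | ∃ c : k, (g : Matrix (Fin n) (Fin n) k) = 1 + c • dy a φ}
  one_mem' := ⟨0, by simp⟩
  mul_mem' := by
    rintro x y ⟨c, hc⟩ ⟨d, hd⟩
    refine ⟨c + d, ?_⟩
    show (x : Matrix (Fin n) (Fin n) k) * (y : Matrix (Fin n) (Fin n) k) = _
    rw [hc, hd]
    simp only [mul_add, add_mul, mul_one, one_mul, smul_mul_assoc, mul_smul_comm, dy_sq h, smul_zero, add_zero,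
      add_smul, add_assoc]
  inv_mem' := by
    rintro x ⟨c, hc⟩
    have e : x * tv (-c • a) φ (by rw [dotProduct_smul, h, smul_zero]) = 1 := by
      apply Subtype.ext
      show (x : Matrix (Fin n) (Fin n) k) * (tv (-c • a) φ _ : Matrix (Fin n) (Fin n) k) = (1 : Matrix (Fin n) (Fin n) k)
      rw [hc, tv_val, ← dy_smul]
      simp only [mul_add, add_mul, mul_one, one_mul, smul_mul_assoc, mul_smul_comm, dy_sq h, smul_zero, add_zero,
        neg_smul, mul_neg, neg_zero]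
      abel
    exact ⟨-c, by rw [inv_eq_of_mul_eq_one_right e, tv_val, ← dy_smul]⟩

theorem mem_tvGroup {a φ : Fin n → k} {h : φ ⬝ᵥ a = 0} {g : SpecialLinearGroup (Fin n) k} :
    g ∈ tvGroup a φ h ↔ ∃ c : k, (g : Matrix (Fin n) (Fin n) k) = 1 + c • dy a φ := Iff.rfl

theorem exists_mem_tvGroup {a φ : Fin n → k} (h : φ ⬝ᵥ a = 0) (c : k) :
    ∃ g ∈ tvGroup a φ h, (g : Matrix (Fin n) (Fin n) k) = 1 + c • dy a φ :=
  ⟨tv (c • a) φ (by rw [dotProduct_smul, h, smul_zero]), ⟨c, by rw [tv_val, ← dy_smul]⟩,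
    by rw [tv_val, ← dy_smul]⟩

theorem conj_val (g x : SpecialLinearGroup (Fin n) k) {a φ : Fin n → k} {c : k}
    (hx : (x : Matrix (Fin n) (Fin n) k) = 1 + c • dy a φ) :
    ((g * x * g⁻¹ : SpecialLinearGroup (Fin n) k) : Matrix (Fin n) (Fin n) k) =
      1 + c • dy ((g : Matrix (Fin n) (Fin n) k) *ᵥ a)
        (φ ᵥ* ((g⁻¹ : SpecialLinearGroup (Fin n) k) : Matrix (Fin n) (Fin n) k)) := by
  have h1 : (g : Matrix (Fin n) (Fin n) k) * ((g⁻¹ : SpecialLinearGroup (Fin n) k) : Matrix (Fin n) (Fin n) k) = 1 := by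
    rw [← Matrix.SpecialLinearGroup.coe_mul, mul_inv_cancel, Matrix.SpecialLinearGroup.coe_one]
  rw [Matrix.SpecialLinearGroup.coe_mul, Matrix.SpecialLinearGroup.coe_mul, hx, mul_add, add_mul, mul_one, h1,
    mul_smul_comm, smul_mul_assoc, dy, Matrix.mul_vecMulVec, vecMulVec_mul]
  rfl

theorem conj_dot (g : SpecialLinearGroup (Fin n) k) {a φ : Fin n → k} (h : φ ⬝ᵥ a = 0) :
    (φ ᵥ* ((g⁻¹ : SpecialLinearGroup (Fin n) k) : Matrix (Fin n) (Fin n) k)) ⬝ᵥ
      ((g : Matrix (Fin n) (Fin n) k) *ᵥ a) = 0 := by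
  rw [← Matrix.dotProduct_mulVec, Matrix.mulVec_mulVec, ← Matrix.SpecialLinearGroup.coe_mul, inv_mul_cancel,
    Matrix.SpecialLinearGroup.coe_one, Matrix.one_mulVec, h]

theorem conjBy_tvGroup (g : SpecialLinearGroup (Fin n) k) {a φ : Fin n → k} (h : φ ⬝ᵥ a = 0) :
    conjBy (tvGroup a φ h) g = tvGroup _ _ (conj_dot g h) := by
  ext x
  rw [mem_conjBy, mem_tvGroup, mem_tvGroup]
  constructor
  · rintro ⟨c, hc⟩
    refine ⟨c, ?_⟩
    have : x = g * (g⁻¹ * x * g) * g⁻¹ := by group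
    rw [this]
    exact conj_val g _ hc
  · rintro ⟨c, hc⟩
    obtain ⟨y, -, hy⟩ := exists_mem_tvGroup h c
    refine ⟨c, ?_⟩
    have : x = g * y * g⁻¹ := Subtype.ext (by rw [conj_val g y hy, hc])
    rw [this]
    rwa [show g⁻¹ * (g * y * g⁻¹) * g = y by group]

theorem tvGroup_congr {a φ b ψ : Fin n → k} {h : φ ⬝ᵥ a = 0} {h' : ψ ⬝ᵥ b = 0} {c : k} (hc : c ≠ 0)
    (e : dy b ψ = c • dy a φ) : tvGroup b ψ h' = tvGroup a φ h := by
  ext g
  rw [mem_tvGroup, mem_tvGroup]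
  constructor
  · rintro ⟨d, hd⟩
    exact ⟨d * c, by rw [hd, e, smul_smul]⟩
  · rintro ⟨d, hd⟩
    exact ⟨d / c, by rw [hd, e, smul_smul, div_mul_cancel₀ _ hc]⟩

theorem tvGroup_ne_bot {a φ : Fin n → k} (h : φ ⬝ᵥ a = 0) (ha : a ≠ 0) (hφ : φ ≠ 0) :
    tvGroup a φ h ≠ ⊥ := by
  intro e
  obtain ⟨g, hg, hv⟩ := exists_mem_tvGroup h 1
  rw [e, Subgroup.mem_bot] at hg
  rw [hg, Matrix.SpecialLinearGroup.coe_one, one_smul, left_eq_add] at hv
  exact dy_ne_zero ha hφ hv

theorem isMulCommutative_tvGroup {a φ : Fin n → k} (h : φ ⬝ᵥ a = 0) : IsMulCommutative (tvGroup a φ h) := by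
  refine ⟨⟨fun x y => Subtype.ext (Subtype.ext ?_)⟩⟩
  obtain ⟨c, hc⟩ := x.2
  obtain ⟨d, hd⟩ := y.2
  show (x.1 : Matrix (Fin n) (Fin n) k) * y.1 = y.1 * x.1
  rw [hc, hd]
  simp only [mul_add, add_mul, mul_one, one_mul, smul_mul_assoc, mul_smul_comm, dy_sq h, smul_zero]
  abel

/-- Two commuting transvection groups. -/
theorem commutator_eq_bot {a φ b ψ : Fin n → k} (h : φ ⬝ᵥ a = 0) (h' : ψ ⬝ᵥ b = 0) (hx : φ ⬝ᵥ b = 0)
    (hy : ψ ⬝ᵥ a = 0) : ⁅tvGroup a φ h, tvGroup b ψ h'⁆ = ⊥ := by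
  refine Subgroup.commutator_eq_bot_iff_le_centralizer.2 fun x hx' => Subgroup.mem_centralizer_iff.2 fun y hy' => ?_
  obtain ⟨c, hc⟩ := hx'
  obtain ⟨d, hd⟩ := hy'
  apply Subtype.ext
  rw [Matrix.SpecialLinearGroup.coe_mul, Matrix.SpecialLinearGroup.coe_mul, hc, hd]
  simp only [mul_add, add_mul, mul_one, one_mul, smul_mul_assoc, mul_smul_comm, dy_mul, hx, hy, zero_smul,
    smul_zero]
  abel

theorem comm_val {a φ b ψ : Fin n → k} (h : φ ⬝ᵥ a = 0) (h' : ψ ⬝ᵥ b = 0) (hy : ψ ⬝ᵥ a = 0) {c d : k}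
    {x y : SpecialLinearGroup (Fin n) k} (hx : (x : Matrix (Fin n) (Fin n) k) = 1 + c • dy a φ)
    (hy' : (y : Matrix (Fin n) (Fin n) k) = 1 + d • dy b ψ) :
    ((x * y * x⁻¹ * y⁻¹ : SpecialLinearGroup (Fin n) k) : Matrix (Fin n) (Fin n) k) =
      1 + (c * d * (φ ⬝ᵥ b)) • dy a ψ := by
  have key : ((x * y : SpecialLinearGroup (Fin n) k) : Matrix (Fin n) (Fin n) k) =
      (1 + (c * d * (φ ⬝ᵥ b)) • dy a ψ) * ((y * x : SpecialLinearGroup (Fin n) k) : Matrix (Fin n) (Fin n) k) := by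
    rw [Matrix.SpecialLinearGroup.coe_mul, Matrix.SpecialLinearGroup.coe_mul, hx, hy']
    simp only [mul_add, add_mul, mul_one, one_mul, smul_mul_assoc, mul_smul_comm, dy_mul, h, h', hy,
      zero_smul, smul_zero, smul_smul, add_zero, zero_add]
    module
  rw [show x * y * x⁻¹ * y⁻¹ = x * y * (y * x)⁻¹ by group, Matrix.SpecialLinearGroup.coe_mul, key, mul_assoc,
    ← Matrix.SpecialLinearGroup.coe_mul, mul_inv_cancel, Matrix.SpecialLinearGroup.coe_one, mul_one]

/-- The commutator case. -/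
theorem commutator_case {a φ b ψ : Fin n → k} (h : φ ⬝ᵥ a = 0) (h' : ψ ⬝ᵥ b = 0) (hx : φ ⬝ᵥ b ≠ 0)
    (hy : ψ ⬝ᵥ a = 0) :
    ⁅tvGroup a φ h, tvGroup b ψ h'⁆ = tvGroup a ψ hy ∧
      (∀ c ∈ tvGroup a ψ hy, ∀ x ∈ tvGroup a φ h ⊔ tvGroup b ψ h', c * x = x * c) ∧
      (∀ s ∈ tvGroup a φ h, s ≠ 1 → Subgroup.closure
        ((fun t => s * t * s⁻¹ * t⁻¹) '' (tvGroup b ψ h' : Set (SpecialLinearGroup (Fin n) k))) = tvGroup a ψ hy) ∧
      (∀ t ∈ tvGroup b ψ h', t ≠ 1 → Subgroup.closure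
        ((fun s => s * t * s⁻¹ * t⁻¹) '' (tvGroup a φ h : Set (SpecialLinearGroup (Fin n) k))) = tvGroup a ψ hy) := by
  refine ⟨le_antisymm (Subgroup.commutator_le.2 fun x hx' y hy' => ?_) fun g hg => ?_, ?_, ?_, ?_⟩
  · obtain ⟨c, hc⟩ := hx'
    obtain ⟨d, hd⟩ := hy'
    exact ⟨_, comm_val h h' hy hc hd⟩
  · obtain ⟨e, he⟩ := hg
    obtain ⟨x, hx', hxv⟩ := exists_mem_tvGroup h (e / (φ ⬝ᵥ b))
    obtain ⟨y, hy', hyv⟩ := exists_mem_tvGroup h' 1
    have : g = ⁅x, y⁆ := Subtype.ext (by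
      rw [commutatorElement_def, comm_val h h' hy hxv hyv, he, mul_one, div_mul_cancel₀ _ hx])
    rw [this]
    exact Subgroup.commutator_mem_commutator hx' hy'
  · intro c hc x hx'
    have h1 := commutator_eq_bot hy h hy h
    have h2 := commutator_eq_bot hy h' h' hy
    have hle : tvGroup a φ h ⊔ tvGroup b ψ h' ≤ Subgroup.centralizer (tvGroup a ψ hy : Set (SpecialLinearGroup (Fin n) k)) :=
      sup_le (Subgroup.commutator_eq_bot_iff_le_centralizer.1 (by rw [Subgroup.commutator_comm]; exact h1))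
        (Subgroup.commutator_eq_bot_iff_le_centralizer.1 (by rw [Subgroup.commutator_comm]; exact h2))
    exact Subgroup.mem_centralizer_iff.1 (hle hx') c hc
  · intro s hs hs1
    obtain ⟨c, hc⟩ := hs
    have hc0 : c ≠ 0 := fun e => hs1 (Subtype.ext (by rw [hc, e, zero_smul, add_zero, Matrix.SpecialLinearGroup.coe_one]))
    refine le_antisymm ((Subgroup.closure_le _).2 ?_) fun g hg => ?_
    · rintro _ ⟨t, ht, rfl⟩
      obtain ⟨d, hd⟩ := ht
      exact ⟨_, comm_val h h' hy hc hd⟩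
    · obtain ⟨e, he⟩ := hg
      obtain ⟨t, ht, htv⟩ := exists_mem_tvGroup h' (e / (c * (φ ⬝ᵥ b)))
      refine Subgroup.subset_closure ⟨t, ht, Subtype.ext ?_⟩
      rw [comm_val h h' hy hc htv, he]
      congr 2
      field_simp
  · intro t ht ht1
    obtain ⟨d, hd⟩ := ht
    have hd0 : d ≠ 0 := fun e => ht1 (Subtype.ext (by rw [hd, e, zero_smul, add_zero, Matrix.SpecialLinearGroup.coe_one]))
    refine le_antisymm ((Subgroup.closure_le _).2 ?_) fun g hg => ?_
    · rintro _ ⟨s, hs, rfl⟩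
      obtain ⟨c, hc⟩ := hs
      exact ⟨_, comm_val h h' hy hc hd⟩
    · obtain ⟨e, he⟩ := hg
      obtain ⟨s, hs, hsv⟩ := exists_mem_tvGroup h (e / (d * (φ ⬝ᵥ b)))
      refine Subgroup.subset_closure ⟨s, hs, Subtype.ext ?_⟩
      rw [comm_val h h' hy hsv hd, he]
      congr 2
      field_simp

/-- The commutator case is not a rank one pair. -/
theorem not_rankOne {a φ b ψ : Fin n → k} (h : φ ⬝ᵥ a = 0) (h' : ψ ⬝ᵥ b = 0) (hx : φ ⬝ᵥ b ≠ 0)
    (hy : ψ ⬝ᵥ a = 0) : ¬ IsRankOnePair (tvGroup a φ h) (tvGroup b ψ h') := by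
  intro hp
  have ha : a ≠ 0 := fun e => ne_bot_left hp (by
    refine (Subgroup.eq_bot_iff_forall _).2 fun g ⟨c, hc⟩ => Subtype.ext ?_
    rw [hc, e, dy, zero_vecMulVec, smul_zero, add_zero, Matrix.SpecialLinearGroup.coe_one])
  have hφ : φ ≠ 0 := fun e => hx (by rw [e, zero_dotProduct])
  obtain ⟨s, hs, hsv⟩ := exists_mem_tvGroup h 1
  have hs1 : s ≠ 1 := fun e => by
    rw [e, Matrix.SpecialLinearGroup.coe_one, one_smul, left_eq_add] at hsv
    exact dy_ne_zero ha hφ hsv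
  obtain ⟨t, ht, -, he⟩ := hp.cond_left s hs hs1
  obtain ⟨y, hy', hyv⟩ := exists_mem_tvGroup h' 1
  have hB : tvGroup b ψ h' = conjBy (tvGroup a φ h) (s * t⁻¹) := by
    refine conjBy_inj (g := s⁻¹) ?_
    rw [conjBy_conjBy, inv_mul_cancel_left, ← he]
  rw [hB, conjBy_tvGroup] at hy'
  obtain ⟨c, hc⟩ := hy'
  rw [hyv, one_smul, add_right_inj] at hc
  obtain ⟨d, hd⟩ := ht
  have hfix : (((s * t⁻¹ : SpecialLinearGroup (Fin n) k)) : Matrix (Fin n) (Fin n) k) *ᵥ a = a := by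
    have e1 : ∀ (g : SpecialLinearGroup (Fin n) k), g ∈ tvGroup a φ h →
        (g : Matrix (Fin n) (Fin n) k) *ᵥ a = a := fun g ⟨e, hg⟩ => by
      rw [hg, add_mulVec, one_mulVec, smul_mulVec, dy, vecMulVec_mulVec, h]
      simp
    have e2 : ∀ (g : SpecialLinearGroup (Fin n) k), g ∈ tvGroup b ψ h' →
        (g : Matrix (Fin n) (Fin n) k) *ᵥ a = a := fun g ⟨e, hg⟩ => by
      rw [hg, add_mulVec, one_mulVec, smul_mulVec, dy, vecMulVec_mulVec, hy]
      simp
    rw [Matrix.SpecialLinearGroup.coe_mul, ← mulVec_mulVec, e2 _ (inv_mem ⟨d, hd⟩), e1 _ hs]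
  rw [hfix] at hc
  have h1 := congrArg (fun M : Matrix (Fin n) (Fin n) k => φ ᵥ* M) hc
  simp only [dy, vecMul_smul, vecMul_vecMulVec, h, zero_smul, smul_zero] at h1
  rcases smul_eq_zero.1 h1 with h2 | h2
  · exact hx h2
  · exact ne_bot_right hp (by
      refine (Subgroup.eq_bot_iff_forall _).2 fun g ⟨e, hg⟩ => Subtype.ext ?_
      rw [hg, h2, dy, vecMulVec_zero, smul_zero, add_zero, Matrix.SpecialLinearGroup.coe_one])

/-- An injective image of the unipotent subgroups of `SL₂`. -/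
theorem rankOne_of_hom {G : Type*} [Group G] (f : SpecialLinearGroup (Fin 2) k →* G)
    (hf : Function.Injective f) :
    IsRankOnePair ((upperUnipotentSL2 k).map f) ((lowerUnipotentSL2 k).map f) ∧
      IsPSL2PairOver k ((upperUnipotentSL2 k).map f) ((lowerUnipotentSL2 k).map f) := by
  have hmap : ∀ (U : Subgroup (SpecialLinearGroup (Fin 2) k)) (g : SpecialLinearGroup (Fin 2) k),
      (conjBy U g).map f = conjBy (U.map f) (f g) := fun U g => by
    show (U.map _).map f = (U.map f).map _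
    rw [Subgroup.map_map, Subgroup.map_map]
    congr 1
    ext z
    simp
  have hp := RankOnePair_symm (isRankOnePair (k := k))
  have hnil : ∀ (U : Subgroup (SpecialLinearGroup (Fin 2) k)), IsMulCommutative U → Group.IsNilpotent (U.map f) :=
    fun U hU => haveI : IsMulCommutative (U.map f) := ⟨⟨fun x y => by
      obtain ⟨a, ha, hxa⟩ := x.2
      obtain ⟨b, hb, hyb⟩ := y.2
      apply Subtype.ext
      show (x : G) * y = y * x
      rw [← hxa, ← hyb, ← map_mul, ← map_mul]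
      exact congrArg f (congrArg Subtype.val (hU.is_comm.comm ⟨a, ha⟩ ⟨b, hb⟩))⟩⟩
    nilp _
  have hcond : ∀ {U V : Subgroup (SpecialLinearGroup (Fin 2) k)}, RankOneCondition U V →
      RankOneCondition (U.map f) (V.map f) := by
    rintro U V hUV _ ⟨a, ha, rfl⟩ ha1
    obtain ⟨b, hb, hb1, he⟩ := hUV a ha (fun e => ha1 (by rw [e, map_one]))
    refine ⟨f b, Subgroup.mem_map_of_mem f hb, fun e => hb1 (hf (by rw [e, map_one])), ?_⟩
    rw [← map_inv, ← map_inv, ← hmap, ← hmap, he]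
  refine ⟨⟨fun e => hp.ne (Subgroup.map_injective hf e), hnil _ isMulCommutative_upper, hnil _ isMulCommutative_lower,
    hcond hp.cond_left, hcond hp.cond_right⟩, f, ?_, ?_, rfl, rfl⟩
  · rw [MonoidHom.range_eq_map, ← Subgroup.map_sup, sup_comm, sup_eq_top]
  · rw [(MonoidHom.ker_eq_bot_iff f).2 hf]; exact bot_le

/-- The rank one case. -/
theorem rankOne {a φ b ψ : Fin n → k} (h : φ ⬝ᵥ a = 0) (h' : ψ ⬝ᵥ b = 0) (hx : φ ⬝ᵥ b ≠ 0)
    (hy : ψ ⬝ᵥ a ≠ 0) :
    IsRankOnePair (tvGroup a φ h) (tvGroup b ψ h') ∧ IsPSL2PairOver k (tvGroup a φ h) (tvGroup b ψ h') := by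
  have ha : a ≠ 0 := fun e => hy (by rw [e, dotProduct_zero])
  have hψ : ψ ≠ 0 := fun e => hy (by rw [e, zero_dotProduct])
  set A := dy a φ with hAdef
  set B := ((φ ⬝ᵥ b) * (ψ ⬝ᵥ a))⁻¹ • dy b ψ with hBdef
  have hxy : (φ ⬝ᵥ b) * (ψ ⬝ᵥ a) ≠ 0 := mul_ne_zero hx hy
  have hA : A * A = 0 := dy_sq h
  have hB : B * B = 0 := by rw [hBdef, smul_mul_assoc, mul_smul_comm, dy_sq h', smul_zero, smul_zero]
  have hABA : A * B * A = A := by
    simp only [hBdef, hAdef, mul_smul_comm, smul_mul_assoc, dy_mul, smul_smul]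
    rw [show ((φ ⬝ᵥ b) * (ψ ⬝ᵥ a))⁻¹ * (φ ⬝ᵥ b) * (ψ ⬝ᵥ a) = 1 by field_simp, one_smul]
  have hBAB : B * A * B = B := by
    simp only [hBdef, hAdef, mul_smul_comm, smul_mul_assoc, dy_mul, smul_smul]
    congr 1
    field_simp
  have hA' : ∀ z, A * (A * z) = 0 := fun z => by rw [← mul_assoc, hA, zero_mul]
  have hB' : ∀ z, B * (B * z) = 0 := fun z => by rw [← mul_assoc, hB, zero_mul]
  have h1' : ∀ z, A * (B * (A * z)) = A * z := fun z => by rw [← mul_assoc, ← mul_assoc, hABA]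
  have h2' : ∀ z, B * (A * (B * z)) = B * z := fun z => by rw [← mul_assoc, ← mul_assoc, hBAB]
  have h1 : A * (B * A) = A := by rw [← mul_assoc, hABA]
  have h2 : B * (A * B) = B := by rw [← mul_assoc, hBAB]
  let F : SpecialLinearGroup (Fin 2) k →* Matrix (Fin n) (Fin n) k :=
    { toFun := fun g => 1 + (g.1 0 0 - 1) • (A * B) + g.1 0 1 • A + g.1 1 0 • B + (g.1 1 1 - 1) • (B * A)
      map_one' := by simp
      map_mul' := fun g g' => by
        simp only [Matrix.SpecialLinearGroup.coe_mul, Matrix.mul_apply, Fin.sum_univ_two, mul_add, add_mul, one_mul,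
          mul_one, mul_assoc, smul_mul_assoc, mul_smul_comm, hA, hB, hA', hB', h1, h2, h1', h2', smul_zero,
          add_zero, zero_add, mul_zero, smul_smul]
        module }
  have hup : ∀ t, F (upperEl t) = 1 + t • A := fun t => by simp [F, upperEl]
  have hlo : ∀ t, F (lowerEl t) = 1 + t • B := fun t => by simp [F, lowerEl]
  have hdet : ∀ g, (F g).det = 1 := fun g => by
    have hg : g ∈ lowerUnipotentSL2 k ⊔ upperUnipotentSL2 k := by rw [sup_eq_top]; trivial
    rw [Subgroup.sup_eq_closure] at hg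
    induction hg using Subgroup.closure_induction with
    | mem x hx' =>
      rcases hx' with hx' | hx'
      · obtain ⟨t, rfl⟩ := mem_lower.1 hx'
        rw [hlo, hBdef, smul_smul, dy_smul, dy, CfsgLib.Known.Transvections.det_one_add_vecMulVec',
          dotProduct_smul, h', smul_zero, add_zero]
      · obtain ⟨t, rfl⟩ := mem_upper.1 hx'
        rw [hup, hAdef, dy_smul, dy, CfsgLib.Known.Transvections.det_one_add_vecMulVec',
          dotProduct_smul, h, smul_zero, add_zero]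
    | one => rw [map_one, det_one]
    | mul x y _ _ hx' hy' => rw [map_mul, det_mul, hx', hy', one_mul]
    | inv x _ hx' =>
      have := congrArg Matrix.det (F.map_mul x x⁻¹)
      rwa [mul_inv_cancel, map_one, det_one, det_mul, hx', one_mul, eq_comm] at this
  let f : SpecialLinearGroup (Fin 2) k →* SpecialLinearGroup (Fin n) k :=
    { toFun := fun g => ⟨F g, hdet g⟩
      map_one' := Subtype.ext F.map_one
      map_mul' := fun g g' => Subtype.ext (F.map_mul g g') }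
  have hAB : A * B ≠ 0 := by
    rw [hBdef, hAdef, mul_smul_comm, dy_mul, smul_smul]
    exact smul_ne_zero (mul_ne_zero (inv_ne_zero hxy) hx) (dy_ne_zero ha hψ)
  have hAne : A ≠ 0 := fun e => hAB (by rw [e, zero_mul])
  have hBne : B ≠ 0 := fun e => hAB (by rw [e, mul_zero])
  have hBAne : B * A ≠ 0 := fun e => hAne (by rw [← hABA, mul_assoc, e, mul_zero])
  have hinj : Function.Injective f := by
    refine (injective_iff_map_eq_one f).2 fun g hg => ?_
    have hg : F g = 1 := congrArg Subtype.val hg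
    change 1 + (g.1 0 0 - 1) • (A * B) + g.1 0 1 • A + g.1 1 0 • B + (g.1 1 1 - 1) • (B * A) = 1 at hg
    have e00 := congrArg (fun M => A * B * M * (A * B)) hg
    have e01 := congrArg (fun M => A * B * M * (B * A)) hg
    have e10 := congrArg (fun M => B * A * M * (A * B)) hg
    have e11 := congrArg (fun M => B * A * M * (B * A)) hg
    simp only [mul_add, add_mul, mul_one, one_mul, mul_assoc, smul_mul_assoc, mul_smul_comm, hA, hB, hA', hB',
      h1, h2, h1', h2', smul_zero, add_zero, zero_add, mul_zero, sub_smul, one_smul, mul_sub, sub_mul,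
      add_sub_cancel, sub_self] at e00 e01 e10 e11
    have e : ∀ (c : k) {M : Matrix (Fin n) (Fin n) k}, M ≠ 0 → c • M = M → c = 1 := fun c M hM e =>
      smul_left_injective k hM (show c • M = (1 : k) • M by rw [e, one_smul])
    ext i j
    fin_cases i <;> fin_cases j
    · exact e _ hAB e00
    · exact (smul_eq_zero.1 e01).resolve_right hAne
    · exact (smul_eq_zero.1 e10).resolve_right hBne
    · exact e _ hBAne e11
  have hU : (upperUnipotentSL2 k).map f = tvGroup a φ h := by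
    ext x
    rw [Subgroup.mem_map, mem_tvGroup]
    constructor
    · rintro ⟨g, hg, rfl⟩
      obtain ⟨t, rfl⟩ := mem_upper.1 hg
      exact ⟨t, hup t⟩
    · rintro ⟨c, hc⟩
      exact ⟨upperEl c, mem_upper.2 ⟨c, rfl⟩, Subtype.ext ((hup c).trans hc.symm)⟩
  have hL : (lowerUnipotentSL2 k).map f = tvGroup b ψ h' := by
    ext x
    rw [Subgroup.mem_map, mem_tvGroup]
    constructor
    · rintro ⟨g, hg, rfl⟩
      obtain ⟨t, rfl⟩ := mem_lower.1 hg
      exact ⟨_, (hlo t).trans (by rw [hBdef, smul_smul])⟩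
    · rintro ⟨c, hc⟩
      refine ⟨lowerEl (c * ((φ ⬝ᵥ b) * (ψ ⬝ᵥ a))), mem_lower.2 ⟨_, rfl⟩, Subtype.ext ((hlo _).trans ?_)⟩
      rw [hc, hBdef, smul_smul, mul_assoc, mul_inv_cancel₀ hxy, mul_one]
  rw [← hU, ← hL]
  exact rankOne_of_hom f hinj

/-- The transvection groups. -/
def tvSet (n : ℕ) (k : Type*) [Field k] : Set (Subgroup (SpecialLinearGroup (Fin n) k)) :=
  {T | ∃ a φ : Fin n → k, ∃ h : φ ⬝ᵥ a = 0, a ≠ 0 ∧ φ ≠ 0 ∧ T = tvGroup a φ h}

end CfsgLib.ThreeTrans.SLTrans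

namespace CfsgLib.ThreeTrans.SLTrans

open Cfsg Matrix CfsgLib.ThreeTrans.RankOneSL2
open scoped commutatorElement

variable {k : Type*} [Field k]

theorem transvection_eq {n : ℕ} (i j : Fin n) (c : k) :
    Matrix.transvection i j c = 1 + c • dy (Pi.single i 1) (Pi.single j 1) := by
  rw [Matrix.transvection, dy]
  ext a b
  simp [Matrix.single_apply, vecMulVec_apply, Pi.single_apply]
  split_ifs <;> simp_all

theorem single_dot {n : ℕ} {i j : Fin n} (h : i ≠ j) :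
    (Pi.single j 1 : Fin n → k) ⬝ᵥ (Pi.single i 1) = 0 := by
  simp [h]

theorem isTransvection_dy {n : ℕ} {a φ : Fin n → k} (ha : a ≠ 0) (hφ : φ ≠ 0) (h : φ ⬝ᵥ a = 0) :
    IsTransvection (1 + dy a φ) := by
  refine ⟨?_, by rw [add_sub_cancel_left]; exact dy_sq h⟩
  rw [add_sub_cancel_left, dy]
  refine le_antisymm (rank_vecMulVec_le a φ) ?_
  rcases Nat.eq_zero_or_pos (vecMulVec a φ).rank with h0 | h0
  · exfalso
    obtain ⟨j, hj⟩ := Function.ne_iff.1 hφ
    obtain ⟨i, hi⟩ := Function.ne_iff.1 ha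
    rw [Matrix.rank, Submodule.finrank_eq_zero, LinearMap.range_eq_bot] at h0
    have := congrFun (LinearMap.congr_fun h0 (Pi.single j 1)) i
    rw [Matrix.mulVecLin_apply, Matrix.mulVec_single_one] at this
    exact mul_ne_zero hi hj (by simpa [vecMulVec_apply] using this)
  · exact h0

theorem exists_conj {m : ℕ} {a φ : Fin (m + 3) → k} (h : φ ⬝ᵥ a = 0) (ha : a ≠ 0) (hφ : φ ≠ 0) :
    ∃ g : SpecialLinearGroup (Fin (m + 3)) k,
      tvGroup a φ h = conjBy (tvGroup (Pi.single 0 1) (Pi.single 1 1) (single_dot zero_ne_one)) g ∧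
      dy a φ = dy ((g : Matrix (Fin (m + 3)) (Fin (m + 3)) k) *ᵥ Pi.single 0 1)
        (Pi.single 1 1 ᵥ* ((g⁻¹ : SpecialLinearGroup (Fin (m + 3)) k) : Matrix (Fin (m + 3)) (Fin (m + 3)) k)) := by
  obtain ⟨g, hg⟩ := isConj_iff.1 (CfsgLib.Known.Transvections.isConj_sl (show 3 ≤ m + 3 by omega)
    (tv (Pi.single 0 1) (Pi.single 1 1) (single_dot zero_ne_one)) (tv a φ h)
    (by rw [tv_val]; exact isTransvection_dy (by simp) (by simp) (single_dot zero_ne_one))
    (by rw [tv_val]; exact isTransvection_dy ha hφ h))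
  have e : ((g * tv (Pi.single 0 1) (Pi.single 1 1) (single_dot zero_ne_one) * g⁻¹ :
      SpecialLinearGroup (Fin (m + 3)) k) : Matrix (Fin (m + 3)) (Fin (m + 3)) k) =
      (tv a φ h : Matrix (Fin (m + 3)) (Fin (m + 3)) k) := congrArg Subtype.val hg
  rw [conj_val g _ (c := 1) (by rw [tv_val, one_smul]), one_smul, tv_val, add_right_inj] at e
  refine ⟨g, ?_, e.symm⟩
  rw [conjBy_tvGroup]
  exact tvGroup_congr one_ne_zero (by rw [one_smul, e])

theorem tvSet_conj {n : ℕ} {T : Subgroup (SpecialLinearGroup (Fin n) k)} (hT : T ∈ tvSet n k)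
    (g : SpecialLinearGroup (Fin n) k) : conjBy T g ∈ tvSet n k := by
  obtain ⟨a, φ, h, ha, hφ, rfl⟩ := hT
  refine ⟨_, _, conj_dot g h, fun e => ha ?_, fun e => hφ ?_, conjBy_tvGroup g h⟩
  · have := congrArg (fun v => ((g⁻¹ : SpecialLinearGroup (Fin n) k) : Matrix (Fin n) (Fin n) k) *ᵥ v) e
    simp only [mulVec_zero, mulVec_mulVec, ← Matrix.SpecialLinearGroup.coe_mul, inv_mul_cancel,
      Matrix.SpecialLinearGroup.coe_one, one_mulVec] at this
    exact this
  · have := congrArg (fun v => v ᵥ* (g : Matrix (Fin n) (Fin n) k)) e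
    simp only [zero_vecMul, vecMul_vecMul, ← Matrix.SpecialLinearGroup.coe_mul, inv_mul_cancel,
      Matrix.SpecialLinearGroup.coe_one, vecMul_one] at this
    exact this

theorem closure_std (m : ℕ) : Subgroup.closure {t : SpecialLinearGroup (Fin (m + 3)) k |
    ∃ c : k, (t : Matrix (Fin (m + 3)) (Fin (m + 3)) k) = Matrix.transvection 0 1 c} =
      tvGroup (Pi.single 0 1) (Pi.single 1 1) (single_dot zero_ne_one) := by
  have : {t : SpecialLinearGroup (Fin (m + 3)) k |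
      ∃ c : k, (t : Matrix (Fin (m + 3)) (Fin (m + 3)) k) = Matrix.transvection 0 1 c} =
      ((tvGroup (Pi.single 0 1 : Fin (m + 3) → k) (Pi.single 1 1) (single_dot zero_ne_one) :
        Subgroup (SpecialLinearGroup (Fin (m + 3)) k)) : Set (SpecialLinearGroup (Fin (m + 3)) k)) :=
    Set.ext fun t => exists_congr fun c => by rw [transvection_eq]
  rw [this, Subgroup.closure_eq]

theorem set_eq (m : ℕ) : {A : Subgroup (SpecialLinearGroup (Fin (m + 3)) k) |
    ∃ g : SpecialLinearGroup (Fin (m + 3)) k,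
      A = conjBy (Subgroup.closure {t : SpecialLinearGroup (Fin (m + 3)) k |
        ∃ c : k, (t : Matrix (Fin (m + 3)) (Fin (m + 3)) k) = Matrix.transvection 0 1 c}) g} = tvSet (m + 3) k := by
  ext A
  rw [Set.mem_setOf_eq, closure_std]
  constructor
  · rintro ⟨g, rfl⟩
    exact tvSet_conj ⟨_, _, single_dot zero_ne_one, by simp, by simp, rfl⟩ g
  · rintro ⟨a, φ, h, ha, hφ, rfl⟩
    obtain ⟨g, hg, -⟩ := exists_conj h ha hφ
    exact ⟨g, hg⟩

theorem exists_two_ne {n : ℕ} {u v : Fin n → k} (hu : u ≠ 0) (hv : v ≠ 0) :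
    ∃ w, u ⬝ᵥ w ≠ 0 ∧ v ⬝ᵥ w ≠ 0 := by
  obtain ⟨i, hi⟩ := Function.ne_iff.1 hu
  obtain ⟨j, hj⟩ := Function.ne_iff.1 hv
  by_cases hvi : v i = 0
  · by_cases huj : u j = 0
    · exact ⟨Pi.single i 1 + Pi.single j 1, by simpa [dotProduct_add, huj] using hi,
        by simpa [dotProduct_add, hvi] using hj⟩
    · exact ⟨Pi.single j 1, by simpa using huj, by simpa using hj⟩
  · exact ⟨Pi.single i 1, by simpa using hi, by simpa using hvi⟩

/-- A hyperplane through `c` avoiding `a` and `b`. -/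
theorem exists_hyperplane {n : ℕ} {a b c : Fin n → k} (ha : ∀ r : k, a ≠ r • c) (hb : ∀ r : k, b ≠ r • c) :
    ∃ χ, χ ⬝ᵥ c = 0 ∧ χ ⬝ᵥ a ≠ 0 ∧ χ ⬝ᵥ b ≠ 0 := by
  have hc : c ≠ 0 ∨ c = 0 := ne_or_eq c 0
  have key : ∀ x : Fin n → k, (∀ r : k, x ≠ r • c) → ∃ χ, χ ⬝ᵥ c = 0 ∧ χ ⬝ᵥ x ≠ 0 := by
    intro x hx
    rcases hc with hc | hc
    · obtain ⟨i, hi⟩ := Function.ne_iff.1 hc
      obtain ⟨j, hj⟩ := Function.ne_iff.1 (hx (x i / c i))
      refine ⟨c i • Pi.single j 1 - c j • Pi.single i 1, by simp [sub_dotProduct]; ring, ?_⟩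
      simp [sub_dotProduct]
      intro e
      apply hj
      rw [Pi.smul_apply, smul_eq_mul, div_mul_eq_mul_div, eq_div_iff hi]
      linear_combination e
    · subst hc
      obtain ⟨j, hj⟩ := Function.ne_iff.1 (hx 1)
      exact ⟨Pi.single j 1, by simp, by simpa using hj⟩
  obtain ⟨χ₁, h1, h1a⟩ := key a ha
  obtain ⟨χ₂, h2, h2b⟩ := key b hb
  by_cases hb1 : χ₁ ⬝ᵥ b = 0
  · by_cases ha2 : χ₂ ⬝ᵥ a = 0
    · exact ⟨χ₁ + χ₂, by rw [add_dotProduct, h1, h2, add_zero], by rwa [add_dotProduct, ha2, add_zero],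
        by rwa [add_dotProduct, hb1, zero_add]⟩
    · exact ⟨χ₂, h2, ha2, h2b⟩
  · exact ⟨χ₁, h1, h1a, hb1⟩

theorem main (m : ℕ) :
    IsRootSubgroupClass (tvSet (m + 3) k) ∧ IsNondegenerateRootSet (tvSet (m + 3) k) ∧
      IsKRootSubgroupSet k (tvSet (m + 3) k) ∧
      IsConnectedFamily (FAdj (tvSet (m + 3) k)) (tvSet (m + 3) k) := by
  have mem_std : ∀ {i j : Fin (m + 3)} (h : i ≠ j),
      tvGroup (Pi.single i 1) (Pi.single j 1 : Fin (m + 3) → k) (single_dot h) ∈ tvSet (m + 3) k :=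
    fun h => ⟨_, _, single_dot h, by simp, by simp, rfl⟩
  have hset : IsRootSubgroupSet (tvSet (m + 3) k) := by
    refine ⟨fun A ⟨a, φ, h, _, _, e⟩ => e ▸ isMulCommutative_tvGroup h,
      fun A ⟨a, φ, h, ha, hφ, e⟩ => e ▸ tvGroup_ne_bot h ha hφ, ?_, fun A hA g => tvSet_conj hA g, ?_⟩
    · refine CfsgLib.Classical.closure_transvection_eq_top _ fun i j hij c => ?_
      refine le_iSup₂ (f := fun A (_ : A ∈ tvSet (m + 3) k) => A) _ (mem_std hij) ?_
      exact ⟨c, transvection_eq i j c⟩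
    · rintro A ⟨a, φ, h, ha, hφ, rfl⟩ B ⟨b, ψ, h', hb, hψ, rfl⟩
      by_cases hx : φ ⬝ᵥ b = 0 <;> by_cases hy : ψ ⬝ᵥ a = 0
      · exact Or.inl (commutator_eq_bot h h' hx hy)
      · obtain ⟨e, hc, hs, ht⟩ := commutator_case h' h hy hx
        have e' : ⁅tvGroup a φ h, tvGroup b ψ h'⁆ = tvGroup b φ hx := by rw [Subgroup.commutator_comm, e]
        have hinv : ∀ (S : Set (SpecialLinearGroup (Fin (m + 3)) k)), Subgroup.closure S⁻¹ = Subgroup.closure S :=
          Subgroup.closure_inv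
        refine Or.inr (Or.inr ⟨e' ▸ ⟨b, φ, hx, hb, hφ, rfl⟩, fun z hz y hy' => hc z (e' ▸ hz) y ((sup_comm (tvGroup a φ h) (tvGroup b ψ h')) ▸ hy'),
          fun s hs' hs1 => ?_, fun t ht' ht1 => ?_⟩)
        · rw [e', ← ht s hs' hs1, ← hinv]
          congr 1
          ext z
          simp only [Set.mem_inv, Set.mem_image, SetLike.mem_coe]
          exact exists_congr fun w => and_congr_right fun _ => by
            rw [eq_comm, inv_eq_iff_eq_inv, eq_comm]
            constructor <;> intro e <;> rw [← e] <;> group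
        · rw [e', ← hs t ht' ht1, ← hinv]
          congr 1
          ext z
          simp only [Set.mem_inv, Set.mem_image, SetLike.mem_coe]
          exact exists_congr fun w => and_congr_right fun _ => by
            rw [eq_comm, inv_eq_iff_eq_inv, eq_comm]
            constructor <;> intro e <;> rw [← e] <;> group
      · obtain ⟨e, hc, hs, ht⟩ := commutator_case h h' hx hy
        exact Or.inr (Or.inr ⟨e ▸ ⟨a, ψ, hy, ha, hψ, rfl⟩, fun z hz => hc z (e ▸ hz),
          fun s hs' hs1 => (hs s hs' hs1).trans e.symm, fun t ht' ht1 => (ht t ht' ht1).trans e.symm⟩)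
      · exact Or.inr (Or.inl (rankOne h h' hx hy).1)
  have hclass : IsConjClassOfSubgroups (tvSet (m + 3) k) := by
    refine ⟨⟨_, mem_std zero_ne_one⟩, ?_⟩
    rintro A ⟨a, φ, h, ha, hφ, rfl⟩ B ⟨b, ψ, h', hb, hψ, rfl⟩
    obtain ⟨g, hg, -⟩ := exists_conj h ha hφ
    obtain ⟨g', hg', -⟩ := exists_conj h' hb hψ
    exact ⟨g' * g⁻¹, by rw [hg, hg', conjBy_conjBy, inv_mul_cancel_right]⟩
  have h02 : (0 : Fin (m + 3)) ≠ 2 := by simp [Fin.ext_iff, Nat.mod_eq_of_lt (show 2 < m + 3 by omega)]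
  have h12 : (1 : Fin (m + 3)) ≠ 2 := by simp [Fin.ext_iff, Nat.mod_eq_of_lt (show 2 < m + 3 by omega)]
  refine ⟨⟨hset, hclass⟩, ⟨?_, ?_, ?_⟩, ⟨hset, ?_⟩, ?_⟩
  · refine ⟨_, mem_std zero_ne_one, _, mem_std h02, ?_,
      commutator_eq_bot _ _ (single_dot zero_ne_one) (single_dot h02)⟩
    intro e
    obtain ⟨g, hg, hgv⟩ := exists_mem_tvGroup (single_dot (k := k) (zero_ne_one (α := Fin (m + 3)))) 1
    rw [e] at hg
    obtain ⟨c, hc⟩ := hg
    rw [hgv, add_right_inj] at hc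
    have := congrFun (congrFun hc 0) 1
    simp [dy, vecMulVec_apply, Pi.single_apply, h12] at this
  · exact ⟨_, mem_std zero_ne_one, _, mem_std (show (1 : Fin (m + 3)) ≠ 0 by simp),
      (rankOne _ _ (by simp) (by simp)).1⟩
  · refine ⟨_, mem_std zero_ne_one, _, mem_std h12, ?_⟩
    obtain ⟨e, hc, hs, ht⟩ := commutator_case (single_dot (k := k) (zero_ne_one (α := Fin (m + 3))))
      (single_dot h12) (by simp)
      (single_dot h02)
    exact ⟨e ▸ mem_std h02, fun z hz => hc z (e ▸ hz),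
      fun s hs' hs1 => (hs s hs' hs1).trans e.symm, fun t ht' ht1 => (ht t ht' ht1).trans e.symm⟩
  · rintro A ⟨a, φ, h, ha, hφ, rfl⟩ B ⟨b, ψ, h', hb, hψ, rfl⟩ hAB
    by_cases hx : φ ⬝ᵥ b = 0 <;> by_cases hy : ψ ⬝ᵥ a = 0
    · exfalso
      have := commutator_eq_bot h h' hx hy
      obtain ⟨x, hx', hx1⟩ := (Subgroup.bot_or_exists_ne_one _).resolve_left (tvGroup_ne_bot h ha hφ)
      obtain ⟨y, hy', hy1⟩ := (Subgroup.bot_or_exists_ne_one _).resolve_left (tvGroup_ne_bot h' hb hψ)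
      exact hx1 (eq_one_of_commute hAB hx' hy' hy1 (commute_of_commutator_eq_bot this hx' hy'))
    · exact absurd (RankOnePair_symm hAB) (not_rankOne h' h hy hx)
    · exact absurd hAB (not_rankOne h h' hx hy)
    · exact (rankOne h h' hx hy).2
  · rintro A ⟨a, φ, h, ha, hφ, rfl⟩ B ⟨b, ψ, h', hb, hψ, rfl⟩
    obtain ⟨c, hc, hc'⟩ := exists_two_ne hφ hψ
    obtain ⟨χ, hχ, hχa, hχb⟩ := exists_hyperplane (a := a) (b := b) (c := c)
      (fun r e => by rw [e, dotProduct_smul, smul_eq_mul, mul_eq_zero] at h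
                     rcases h with h | h
                     · exact ha (by rw [e, h, zero_smul])
                     · exact hc h)
      (fun r e => by rw [e, dotProduct_smul, smul_eq_mul, mul_eq_zero] at h'
                     rcases h' with h' | h'
                     · exact hb (by rw [e, h', zero_smul])
                     · exact hc' h')
    have hcne : c ≠ 0 := fun e => hc (by rw [e, dotProduct_zero])
    have hχne : χ ≠ 0 := fun e => hχa (by rw [e, zero_dotProduct])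
    have hC : tvGroup c χ hχ ∈ tvSet (m + 3) k := ⟨c, χ, hχ, hcne, hχne, rfl⟩
    exact (Relation.ReflTransGen.single
        ⟨⟨a, φ, h, ha, hφ, rfl⟩, hC, (rankOne h hχ hc hχa).1⟩).tail
      ⟨hC, ⟨b, ψ, h', hb, hψ, rfl⟩, (rankOne hχ h' hχb hc').1⟩

end CfsgLib.ThreeTrans.SLTrans
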