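import Cfsg.Agent.Lib.ThreeTrans.SLTrans

/-!
Transvections in characteristic two as root involutions.
-/

set_option autoImplicit false
set_option linter.unusedSimpArgs false

namespace CfsgLib.ThreeTrans.SLTrans

open Cfsg Matrix

variable {k : Type*} [Field k]

open Polynomial in
/-- The polynomial killing a product of two transvections. -/
noncomputable def prodPoly (τ : k) : k[X] := (X - C 1) * (X ^ 2 - C (2 + τ) * X + 1)

open Polynomial in
theorem prodPoly_separable [CharP k 2] {τ : k} (hτ : τ ≠ 0) : (prodPoly τ).Separable := by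
  have h2 : (2 : k) = 0 := CharTwo.two_eq_zero
  have hC : (C τ⁻¹ * C τ : k[X]) = 1 := by rw [← C_mul, inv_mul_cancel₀ hτ, C_1]
  have hC2 : (2 : k[X]) = 0 := by rw [← C_ofNat, h2, C_0]
  refine Polynomial.Separable.mul separable_X_sub_C ((separable_def _).2 ⟨0, C (-τ⁻¹), ?_⟩)
    ⟨C τ⁻¹ * (X - C (1 + τ)), C (-τ⁻¹), ?_⟩
  · simp only [derivative_add, derivative_sub, derivative_X_pow, derivative_mul, derivative_C, derivative_ofNat, derivative_X, derivative_one, zero_mul, zero_add,
      map_neg, map_add, C_ofNat, C_1, mul_one, add_zero, pow_one, Nat.cast_ofNat]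
    linear_combination hC + (C τ⁻¹ * (1 - X)) * hC2
  · simp only [map_neg, map_add, C_ofNat, C_1]
    linear_combination hC

theorem aeval_prodPoly {n : ℕ} {a φ b ψ : Fin n → k} (h : φ ⬝ᵥ a = 0) (h' : ψ ⬝ᵥ b = 0)
    {P : Matrix (Fin n) (Fin n) k} (hP : P = (1 + dy a φ) * (1 + dy b ψ)) :
    Polynomial.aeval P (prodPoly ((φ ⬝ᵥ b) * (ψ ⬝ᵥ a))) = 0 := by
  rw [prodPoly, map_mul, map_sub, map_add, map_sub, map_mul, map_pow, Polynomial.aeval_X, Polynomial.aeval_C,
    Polynomial.aeval_C, map_one, map_one, ← Algebra.smul_def, hP, pow_two]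
  refine quad_rel (dy_sq h) (dy_sq h') ?_ ?_
  · rw [dy_mul, smul_mul_assoc, dy_mul, smul_smul]
  · rw [dy_mul, smul_mul_assoc, dy_mul, smul_smul, mul_comm]

theorem exists_tv_of_transvection {n : ℕ} {t : SpecialLinearGroup (Fin n) k}
    (ht : IsTransvection (t : Matrix (Fin n) (Fin n) k)) :
    ∃ (a φ : Fin n → k) (h : φ ⬝ᵥ a = 0), a ≠ 0 ∧ φ ≠ 0 ∧ t = tv a φ h := by
  obtain ⟨a, φ, ha, hφ, h, e⟩ := CfsgLib.Known.Transvections.exists_vecMulVec _ ht
  refine ⟨a, φ, h, ha, hφ, Subtype.ext ?_⟩
  rw [tv_val, dy, ← e]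
  exact (add_sub_cancel 1 _).symm

variable [CharP k 2] [Fintype k]

theorem root_pair {n : ℕ} {a φ b ψ : Fin n → k} (h : φ ⬝ᵥ a = 0) (h' : ψ ⬝ᵥ b = 0) (ha : a ≠ 0) (hφ : φ ≠ 0)
    (hb : b ≠ 0) (hψ : ψ ≠ 0) :
    tv a φ h * tv b ψ h' = tv b ψ h' * tv a φ h ∨
      (Odd (orderOf (tv a φ h * tv b ψ h')) ∧
        (Fintype.card k = 2 → orderOf (tv a φ h * tv b ψ h') = 1 ∨ orderOf (tv a φ h * tv b ψ h') = 3)) ∨
      (orderOf (tv a φ h * tv b ψ h') = 4 ∧
        IsTransvection (((tv a φ h * tv b ψ h') ^ 2 : SpecialLinearGroup (Fin n) k) : Matrix (Fin n) (Fin n) k)) := by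
  have : Finite (SpecialLinearGroup (Fin n) k) := inferInstance
  have h2 : (2 : k) = 0 := CharTwo.two_eq_zero
  have hval : ((tv a φ h * tv b ψ h' : SpecialLinearGroup (Fin n) k) : Matrix (Fin n) (Fin n) k) =
      (1 + dy a φ) * (1 + dy b ψ) := by rw [Matrix.SpecialLinearGroup.coe_mul, tv_val, tv_val]
  set P := tv a φ h * tv b ψ h' with hPdef
  have h22 : (2 : Matrix (Fin n) (Fin n) k) = 0 := by
    rw [← map_ofNat (algebraMap k (Matrix (Fin n) (Fin n) k)) 2, h2, map_zero]
  by_cases hx : φ ⬝ᵥ b = 0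
  · by_cases hy : ψ ⬝ᵥ a = 0
    · left
      apply Subtype.ext
      rw [hval, Matrix.SpecialLinearGroup.coe_mul, tv_val, tv_val]
      simp only [mul_add, add_mul, one_mul, mul_one, dy_mul, hx, hy, zero_smul]
      abel
    · right; right
      have hsq : ((P ^ 2 : SpecialLinearGroup (Fin n) k) : Matrix (Fin n) (Fin n) k) =
          1 + dy ((ψ ⬝ᵥ a) • b) φ := by
        rw [pow_two, Matrix.SpecialLinearGroup.coe_mul, hval]
        simp only [mul_add, add_mul, one_mul, mul_one, mul_assoc, dy_mul, mul_smul_comm, smul_mul_assoc, h, h', hx, zero_smul,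
          smul_zero, add_zero, zero_add, mul_zero, ← dy_smul]
        have : dy a φ + dy a φ = 0 ∧ dy b ψ + dy b ψ = 0 := by
          constructor <;> rw [← two_mul, h22, zero_mul]
        rw [← sub_eq_zero]
        have hd : (ψ ⬝ᵥ a) • dy b φ + (ψ ⬝ᵥ a) • dy b φ = 0 := by rw [← two_mul, h22, zero_mul]
        linear_combination (norm := abel) this.1 + this.2
      have hdot : φ ⬝ᵥ ((ψ ⬝ᵥ a) • b) = 0 := by rw [dotProduct_smul, hx, smul_zero]
      have hne : (ψ ⬝ᵥ a) • b ≠ 0 := smul_ne_zero hy hb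
      refine ⟨?_, by rw [hsq]; exact isTransvection_dy hne hφ hdot⟩
      have h4 : P ^ 4 = 1 := by
        rw [show 4 = 2 * 2 from rfl, pow_mul]
        apply Subtype.ext
        rw [pow_two (P ^ 2), Matrix.SpecialLinearGroup.coe_mul, hsq, Matrix.SpecialLinearGroup.coe_one]
        simp only [mul_add, add_mul, one_mul, mul_one, dy_sq hdot, add_zero]
        rw [add_assoc, ← two_mul (dy _ φ), h22, zero_mul, add_zero]
      refine orderOf_eq_prime_pow (p := 2) (n := 1) ?_ h4
      rw [pow_one]
      intro e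
      rw [e, Matrix.SpecialLinearGroup.coe_one, left_eq_add] at hsq
      exact dy_ne_zero hne hφ hsq
  · by_cases hy : ψ ⬝ᵥ a = 0
    · right; right
      have hsq : ((P ^ 2 : SpecialLinearGroup (Fin n) k) : Matrix (Fin n) (Fin n) k) =
          1 + dy ((φ ⬝ᵥ b) • a) ψ := by
        rw [pow_two, Matrix.SpecialLinearGroup.coe_mul, hval]
        simp only [mul_add, add_mul, one_mul, mul_one, mul_assoc, dy_mul, mul_smul_comm, smul_mul_assoc, h, h', hy, zero_smul,
          smul_zero, add_zero, zero_add, mul_zero, ← dy_smul]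
        have : dy a φ + dy a φ = 0 ∧ dy b ψ + dy b ψ = 0 := by
          constructor <;> rw [← two_mul, h22, zero_mul]
        rw [← sub_eq_zero]
        have hd : (φ ⬝ᵥ b) • dy a ψ + (φ ⬝ᵥ b) • dy a ψ = 0 := by rw [← two_mul, h22, zero_mul]
        linear_combination (norm := abel) this.1 + this.2 + hd
      have hdot : ψ ⬝ᵥ ((φ ⬝ᵥ b) • a) = 0 := by rw [dotProduct_smul, hy, smul_zero]
      have hne : (φ ⬝ᵥ b) • a ≠ 0 := smul_ne_zero hx ha
      refine ⟨?_, by rw [hsq]; exact isTransvection_dy hne hψ hdot⟩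
      have h4 : P ^ 4 = 1 := by
        rw [show 4 = 2 * 2 from rfl, pow_mul]
        apply Subtype.ext
        rw [pow_two (P ^ 2), Matrix.SpecialLinearGroup.coe_mul, hsq, Matrix.SpecialLinearGroup.coe_one]
        simp only [mul_add, add_mul, one_mul, mul_one, dy_sq hdot, add_zero]
        rw [add_assoc, ← two_mul (dy _ ψ), h22, zero_mul, add_zero]
      refine orderOf_eq_prime_pow (p := 2) (n := 1) ?_ h4
      rw [pow_one]
      intro e
      rw [e, Matrix.SpecialLinearGroup.coe_one, left_eq_add] at hsq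
      exact dy_ne_zero hne hψ hsq
    · right; left
      have hτ : (φ ⬝ᵥ b) * (ψ ⬝ᵥ a) ≠ 0 := mul_ne_zero hx hy
      have hP := aeval_prodPoly h h' hval
      constructor
      · by_contra hodd
        obtain ⟨m, hm⟩ := Nat.not_odd_iff_even.1 hodd
        have hpos := orderOf_pos P
        have hpm : ((P ^ m : SpecialLinearGroup (Fin n) k) : Matrix (Fin n) (Fin n) k) =
            (P : Matrix (Fin n) (Fin n) k) ^ m := Matrix.SpecialLinearGroup.coe_pow P m
        have hz : ((P : Matrix (Fin n) (Fin n) k) ^ m - 1) ^ 2 = 0 := by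
          have e : (P : Matrix (Fin n) (Fin n) k) ^ m * (P : Matrix (Fin n) (Fin n) k) ^ m = 1 := by
            rw [← hpm, ← Matrix.SpecialLinearGroup.coe_mul, ← pow_add, ← hm, pow_orderOf_eq_one,
              Matrix.SpecialLinearGroup.coe_one]
          rw [pow_two, sub_mul, mul_sub, mul_sub, e, mul_one, one_mul, one_mul]
          have : (1 : Matrix (Fin n) (Fin n) k) + 1 = 0 := by rw [one_add_one_eq_two, h22]
          have : ((P : Matrix (Fin n) (Fin n) k) ^ m) + (P : Matrix (Fin n) (Fin n) k) ^ m = 0 := by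
            rw [← two_mul, h22, zero_mul]
          rw [← sub_eq_zero]
          linear_combination (norm := abel) ‹(1 : Matrix (Fin n) (Fin n) k) + 1 = 0› - this
        have h1 : P ^ m = 1 := Subtype.ext
          (hpm.trans (pow_eq_one_of_sq_eq_zero (prodPoly_separable hτ) hP hz))
        have := Nat.le_of_dvd (by omega) (orderOf_dvd_of_pow_eq_one h1)
        omega
      · intro hk
        have hone : (φ ⬝ᵥ b) * (ψ ⬝ᵥ a) = 1 := by
          classical
          by_contra hne
          have hc := Finset.card_le_univ ({0, 1, (φ ⬝ᵥ b) * (ψ ⬝ᵥ a)} : Finset k)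
          rw [Finset.card_insert_of_notMem (by simp [Ne.symm hτ]), Finset.card_pair (Ne.symm hne), hk] at hc
          omega
        rw [hone] at hP
        have h3 : P ^ 3 = 1 := by
          refine Subtype.ext ?_
          rw [Matrix.SpecialLinearGroup.coe_pow, Matrix.SpecialLinearGroup.coe_one]
          simp only [prodPoly, map_mul, map_sub, map_add, Polynomial.aeval_X, Polynomial.aeval_C, map_pow,
            map_one, map_ofNat] at hP
          rw [← sub_eq_zero, ← hP]
          have : (3 : Matrix (Fin n) (Fin n) k) = 1 := by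
            rw [show (3 : Matrix (Fin n) (Fin n) k) = 2 + 1 by norm_num, h22, zero_add]
          rw [h22, zero_add, one_mul]
          simp only [mul_add, mul_sub, sub_mul, mul_one, one_mul, ← pow_succ', ← pow_two]
          rw [← sub_eq_zero]
          have h22' : ((P : Matrix (Fin n) (Fin n) k) ^ 2 - (P : Matrix (Fin n) (Fin n) k)) +
              ((P : Matrix (Fin n) (Fin n) k) ^ 2 - (P : Matrix (Fin n) (Fin n) k)) = 0 := by
            rw [← two_mul, h22, zero_mul]
          linear_combination (norm := abel) h22'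
        exact (Nat.dvd_prime Nat.prime_three).1 (orderOf_dvd_of_pow_eq_one h3)

/-- The transvections are a class of root involutions. -/
theorem rootInvolutions (m : ℕ) :
    IsRootInvolutionClass {t : SpecialLinearGroup (Fin (m + 3)) k | ∃ c : k, c ≠ 0 ∧
        ∃ g : SpecialLinearGroup (Fin (m + 3)) k, ((g⁻¹ * t * g : SpecialLinearGroup (Fin (m + 3)) k) :
          Matrix (Fin (m + 3)) (Fin (m + 3)) k) = Matrix.transvection 0 1 c} ∧
    (Fintype.card k = 2 → IsThreeFourPlusTranspositionSet {t : SpecialLinearGroup (Fin (m + 3)) k | ∃ c : k, c ≠ 0 ∧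
        ∃ g : SpecialLinearGroup (Fin (m + 3)) k, ((g⁻¹ * t * g : SpecialLinearGroup (Fin (m + 3)) k) :
          Matrix (Fin (m + 3)) (Fin (m + 3)) k) = Matrix.transvection 0 1 c}) := by
  have h2 : (2 : k) = 0 := CharTwo.two_eq_zero
  set D := {t : SpecialLinearGroup (Fin (m + 3)) k | ∃ c : k, c ≠ 0 ∧
    ∃ g : SpecialLinearGroup (Fin (m + 3)) k, ((g⁻¹ * t * g : SpecialLinearGroup (Fin (m + 3)) k) :
      Matrix (Fin (m + 3)) (Fin (m + 3)) k) = Matrix.transvection 0 1 c} with hD
  have hstd : ∀ c : k, (Pi.single 1 1 : Fin (m + 3) → k) ⬝ᵥ (c • Pi.single 0 1) = 0 := fun c => by simp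
  have hmem : ∀ t, t ∈ D ↔ IsTransvection (t : Matrix (Fin (m + 3)) (Fin (m + 3)) k) := by
    intro t
    constructor
    · rintro ⟨c, hc, g, hg⟩
      rw [transvection_eq] at hg
      have e : t = g * (g⁻¹ * t * g) * g⁻¹ := by group
      rw [e, conj_val g _ hg, dy_smul]
      refine isTransvection_dy ?_ ?_ ?_
      · refine smul_ne_zero hc fun e' => ?_
        have := congrArg (fun v => ((g⁻¹ : SpecialLinearGroup (Fin (m + 3)) k) : Matrix (Fin (m + 3)) (Fin (m + 3)) k) *ᵥ v) e'
        simp only [mulVec_zero, mulVec_mulVec, ← Matrix.SpecialLinearGroup.coe_mul, inv_mul_cancel,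
          Matrix.SpecialLinearGroup.coe_one, one_mulVec] at this
        simp at this
      · intro e'
        have := congrArg (fun v => v ᵥ* (g : Matrix (Fin (m + 3)) (Fin (m + 3)) k)) e'
        simp only [zero_vecMul, vecMul_vecMul, ← Matrix.SpecialLinearGroup.coe_mul, inv_mul_cancel,
          Matrix.SpecialLinearGroup.coe_one, vecMul_one] at this
        simp at this
      · rw [dotProduct_smul, conj_dot g (single_dot zero_ne_one), smul_zero]
    · intro ht
      obtain ⟨a, φ, h, ha, hφ, rfl⟩ := exists_tv_of_transvection ht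
      obtain ⟨g, -, e⟩ := exists_conj h ha hφ
      refine ⟨1, one_ne_zero, g, ?_⟩
      have hc := conj_val g (tv (Pi.single 0 1) (Pi.single 1 1) (single_dot zero_ne_one)) (c := 1)
        (by rw [tv_val, one_smul])
      rw [← e, one_smul, ← tv_val a φ h] at hc
      rw [← Subtype.ext hc, transvection_eq, one_smul, ← tv_val _ _ (single_dot zero_ne_one)]
      congr 1
      simp [mul_assoc] <;> rfl
  have hset : IsRootInvolutionSet D := by
    refine ⟨fun t ht => ?_, ?_, fun t ht g => ?_, fun s hs t ht => ?_⟩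
    · obtain ⟨a, φ, h, ha, hφ, rfl⟩ := exists_tv_of_transvection ((hmem t).1 ht)
      refine orderOf_eq_prime ?_ fun e => ?_
      · apply Subtype.ext
        rw [pow_two, Matrix.SpecialLinearGroup.coe_mul, tv_val, Matrix.SpecialLinearGroup.coe_one]
        simp only [mul_add, add_mul, one_mul, mul_one, dy_sq h, add_zero]
        rw [add_assoc, ← two_smul k (dy a φ), h2, zero_smul, add_zero]
      · have e := congrArg (fun x : SpecialLinearGroup (Fin (m + 3)) k => x.1) e
        change 1 + dy a φ = 1 at e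
        rw [add_eq_left] at e
        exact dy_ne_zero ha hφ e
    · refine CfsgLib.Classical.closure_transvection_eq_top _ fun i j hij c => ?_
      by_cases hc : c = 0
      · subst hc
        convert one_mem (Subgroup.closure D) using 1
        apply Subtype.ext
        show Matrix.transvection i j (0 : k) = 1
        simp [Matrix.transvection]
      · refine Subgroup.subset_closure ((hmem _).2 ?_)
        show IsTransvection (Matrix.transvection i j c)
        rw [transvection_eq, dy_smul]
        exact isTransvection_dy (smul_ne_zero hc (by simp)) (by simp) (by simp [hij])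
    · obtain ⟨c, hc, g₀, hg⟩ := ht
      exact ⟨c, hc, g * g₀, by rw [← hg]; congr 1; simp [mul_assoc] <;> rfl⟩
    · obtain ⟨a, φ, h, ha, hφ, rfl⟩ := exists_tv_of_transvection ((hmem s).1 hs)
      obtain ⟨b, ψ, h', hb, hψ, rfl⟩ := exists_tv_of_transvection ((hmem t).1 ht)
      rcases root_pair h h' ha hφ hb hψ with e | e | e
      · exact Or.inl e
      · exact Or.inr (Or.inl e.1)
      · exact Or.inr (Or.inr ⟨e.1, (hmem _).2 e.2⟩)
  refine ⟨⟨hset, ?_, fun s hs t ht => ?_⟩, fun hk => ⟨hset, fun s hs t ht hodd => ?_⟩⟩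
  · exact ⟨tv _ _ (single_dot (k := k) (zero_ne_one (α := Fin (m + 3)))),
      (hmem _).2 (by rw [tv_val]; exact isTransvection_dy (by simp) (by simp) (single_dot zero_ne_one))⟩
  · obtain ⟨g, hg⟩ := isConj_iff.1 (CfsgLib.Known.Transvections.isConj_sl (show 3 ≤ m + 3 by omega) s t
      ((hmem s).1 hs) ((hmem t).1 ht))
    exact ⟨g, hg.symm⟩
  · obtain ⟨a, φ, h, ha, hφ, rfl⟩ := exists_tv_of_transvection ((hmem s).1 hs)
    obtain ⟨b, ψ, h', hb, hψ, rfl⟩ := exists_tv_of_transvection ((hmem t).1 ht)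
    rcases root_pair h h' ha hφ hb hψ with e | e | e
    · have hs2 := hset.orderOf_eq _ hs
      have ht2 := hset.orderOf_eq _ ht
      have : (tv a φ h * tv b ψ h') ^ 2 = 1 := by
        rw [(show Commute (tv a φ h) (tv b ψ h') from e).mul_pow, ← hs2, pow_orderOf_eq_one, hs2, ← ht2,
          pow_orderOf_eq_one, one_mul]
      rcases (Nat.dvd_prime Nat.prime_two).1 (orderOf_dvd_of_pow_eq_one this) with e1 | e1
      · exact Or.inl e1
      · rw [e1] at hodd; exact absurd hodd (by decide)
    · exact e.2 hk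
    · rw [e.1] at hodd; exact absurd hodd (by decide)

end CfsgLib.ThreeTrans.SLTrans
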