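import Mathlib
import Cfsg.Prelude.Def_Sporadic_a

set_option autoImplicit false

/-!
Binary codes of length 24, dimension 12 and minimum weight at least 8: coset leaders, octads (owner: helper28).
-/

namespace CfsgLib.ThreeTrans.Golay

open Finset

abbrev V := Fin 24 → ZMod 2

/-- The support of a word. -/
def supp (v : V) : Finset (Fin 24) := univ.filter fun i => v i ≠ 0

/-- The indicator word of a set of coordinates. -/
def ind (s : Finset (Fin 24)) : V := fun i => if i ∈ s then 1 else 0

theorem supp_ind (s : Finset (Fin 24)) : supp (ind s) = s := by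
  ext i; simp [supp, ind]

theorem ind_supp (v : V) : ind (supp v) = v := by
  funext i
  simp only [supp, ind, mem_filter, mem_univ, true_and]
  exact (by decide : ∀ z : ZMod 2, (if z ≠ 0 then (1 : ZMod 2) else 0) = z) (v i)

theorem norm_eq_card (v : V) : hammingNorm v = (supp v).card := rfl

theorem ind_add (s t : Finset (Fin 24)) : ind s + ind t = ind (symmDiff s t) := by
  funext i
  by_cases h1 : i ∈ s <;> by_cases h2 : i ∈ t <;> simp [ind, h1, h2, Finset.mem_symmDiff] <;> decide

theorem neg_eq_self (v : V) : -v = v := by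
  funext i
  exact (by decide : ∀ z : ZMod 2, -z = z) (v i)

theorem sub_eq_add' (u v : V) : u - v = u + v := by rw [sub_eq_add_neg, neg_eq_self]

theorem card_symmDiff_add (s t : Finset (Fin 24)) :
    (symmDiff s t).card + 2 * (s ∩ t).card = s.card + t.card := by
  rw [symmDiff_def, sup_eq_union, card_union_of_disjoint disjoint_sdiff_sdiff]
  have h1 := card_sdiff_add_card_inter s t
  have h2 := card_sdiff_add_card_inter t s
  rw [inter_comm t s] at h2
  omega

theorem ind_eq_zero {s : Finset (Fin 24)} : ind s = 0 ↔ s = ∅ := by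
  constructor
  · intro h
    rw [← supp_ind s, h]
    simp [supp]
  · rintro rfl; funext i; simp [ind]

variable {C : Submodule (ZMod 2) V} (hdim : Module.finrank (ZMod 2) C = 12)
  (horth : ∀ v ∈ C, ∀ w ∈ C, ∑ i, v i * w i = 0)
  (hmin : ∀ w ∈ C, w ≠ 0 → 8 ≤ hammingNorm w)

/-- The coset of a set of coordinates. -/
def cls (C : Submodule (ZMod 2) V) (s : Finset (Fin 24)) : V ⧸ C := Submodule.Quotient.mk (ind s)

theorem cls_eq_iff {s t : Finset (Fin 24)} : cls C s = cls C t ↔ ind (symmDiff s t) ∈ C := by
  rw [cls, cls, Submodule.Quotient.eq, sub_eq_add', ind_add]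

include hmin in
theorem eq_of_cls_eq {s t : Finset (Fin 24)} (h : cls C s = cls C t) :
    s = t ∨ 8 ≤ (symmDiff s t).card := by
  by_cases hst : s = t
  · exact Or.inl hst
  · right
    have := hmin _ (cls_eq_iff.1 h) (fun e => hst (symmDiff_eq_bot.1 (ind_eq_zero.1 e)))
    rwa [norm_eq_card, supp_ind] at this

include hmin in
theorem eq_or_disjoint {s t : Finset (Fin 24)} (hs : s.card ≤ 4) (ht : t.card ≤ 4) (h : cls C s = cls C t) :
    s = t ∨ (s.card = 4 ∧ t.card = 4 ∧ Disjoint s t) := by
  rcases eq_of_cls_eq hmin h with e | e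
  · exact Or.inl e
  · right
    have := card_symmDiff_add s t
    exact ⟨by omega, by omega, disjoint_iff_inter_eq_empty.2 (card_eq_zero.1 (by omega))⟩

/-- The sets of at most three coordinates. -/
def small : Finset (Finset (Fin 24)) := (range 4).biUnion fun j => (univ : Finset (Fin 24)).powersetCard j

theorem mem_small {s : Finset (Fin 24)} : s ∈ small ↔ s.card ≤ 3 := by
  simp only [small, mem_biUnion, mem_range, mem_powersetCard, subset_univ, true_and]
  exact ⟨fun ⟨j, hj, e⟩ => by omega, fun h => ⟨s.card, by omega, rfl⟩⟩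

theorem card_small : small.card = 2325 := by
  rw [small, card_biUnion]
  · simp only [card_powersetCard, card_univ, Fintype.card_fin]
    decide
  · intro i _ j _ hij
    refine Finset.disjoint_left.2 fun s hs hs' => hij ?_
    simp only [mem_powersetCard] at hs hs'
    omega

/-- The four-sets. -/
def quads : Finset (Finset (Fin 24)) := (univ : Finset (Fin 24)).powersetCard 4

theorem mem_quads {s : Finset (Fin 24)} : s ∈ quads ↔ s.card = 4 := by
  simp [quads, mem_powersetCard]

include hmin in
theorem fibre_le [DecidableEq (V ⧸ C)] (c : V ⧸ C) : (quads.filter (cls C · = c)).card ≤ 6 := by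
  have hd : ((quads.filter (cls C · = c) : Finset _) : Set (Finset (Fin 24))).PairwiseDisjoint id := by
    intro s hs t ht hne
    simp only [coe_filter, mem_quads, Set.mem_ofPred_eq] at hs ht
    rcases eq_or_disjoint hmin hs.1.le ht.1.le (hs.2.trans ht.2.symm) with e | ⟨-, -, e⟩
    · exact absurd e hne
    · exact e
  have h1 := card_biUnion hd
  have h2 : ((quads.filter (cls C · = c)).biUnion id).card ≤ 24 := by
    simpa using card_le_univ ((quads.filter (cls C · = c)).biUnion id)
  simp only [id] at h1
  rw [sum_congr rfl (g := fun _ => 4) (fun s hs => mem_quads.1 (mem_filter.1 hs).1), sum_const,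
    smul_eq_mul] at h1
  omega

include hdim in
theorem card_quotient : Nat.card (V ⧸ C) = 4096 := by
  have h : Module.finrank (ZMod 2) (V ⧸ C) = 12 := by
    have := C.finrank_quotient_add_finrank
    rw [hdim, Module.finrank_fin_fun] at this
    omega
  rw [Module.natCard_eq_pow_finrank (K := ZMod 2), h, Nat.card_zmod]
  norm_num

include hdim hmin in
/-- A coset contains a set of at most three points, or exactly six sets of four points. -/
theorem dichotomy [DecidableEq (V ⧸ C)] (c : V ⧸ C) :
    (∃ s : Finset (Fin 24), s.card ≤ 3 ∧ cls C s = c) ∨ (quads.filter (cls C · = c)).card = 6 := by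
  haveI : Fintype (V ⧸ C) := Fintype.ofFinite _
  set I := small.image (cls C) with hI
  have hcI : I.card = 2325 := by
    rw [hI, card_image_of_injOn, card_small]
    intro s hs t ht e
    have hs' := mem_small.1 hs
    have ht' := mem_small.1 ht
    rcases eq_or_disjoint hmin (by omega) (by omega) e with h | ⟨h, -, -⟩
    · exact h
    · omega
  by_cases hc : c ∈ I
  · obtain ⟨s, hs, rfl⟩ := mem_image.1 hc
    exact Or.inl ⟨s, mem_small.1 hs, rfl⟩
  right
  have hW : (univ \ I).card = 1771 := by
    rw [card_sdiff_of_subset (subset_univ _), hcI, card_univ, ← Nat.card_eq_fintype_card, card_quotient hdim]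
  have hmaps : ∀ s ∈ quads, cls C s ∈ univ \ I := by
    intro s hs
    refine mem_sdiff.2 ⟨mem_univ _, fun h => ?_⟩
    obtain ⟨t, ht, e⟩ := mem_image.1 h
    have ht' := mem_small.1 ht
    have hs' := mem_quads.1 hs
    rcases eq_or_disjoint hmin (by omega) hs'.le e with h | ⟨h, -, -⟩
    · rw [h] at ht'; omega
    · omega
  have hsum := card_eq_sum_card_fiberwise hmaps
  have hq : quads.card = 1771 * 6 := by
    rw [quads, card_powersetCard, card_univ, Fintype.card_fin]; decide
  have heq : ∑ b ∈ univ \ I, (quads.filter (cls C · = b)).card = ∑ b ∈ univ \ I, 6 := by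
    rw [← hsum, hq, sum_const, hW, smul_eq_mul]
  exact (sum_eq_sum_iff_of_le fun b _ => fibre_le hmin b).1 heq c (mem_sdiff.2 ⟨mem_univ _, hc⟩)

include hdim hmin in
theorem exists_octad {T : Finset (Fin 24)} (hT : T.card = 5) :
    ∃ o : Finset (Fin 24), ind o ∈ C ∧ o.card = 8 ∧ T ⊆ o := by
  classical
  obtain ⟨x, hx⟩ := card_pos.1 (by omega : 0 < T.card)
  set s := T.erase x with hs
  have hs4 : s.card = 4 := by rw [hs, card_erase_of_mem hx, hT]
  rcases dichotomy hdim hmin (cls C s) with ⟨t, ht, e⟩ | h6
  · rcases eq_or_disjoint hmin (by omega) hs4.le e with h | ⟨h, -, -⟩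
    · rw [h] at ht; omega
    · omega
  set F := quads.filter (cls C · = cls C s)
  have hd : ((F : Finset _) : Set (Finset (Fin 24))).PairwiseDisjoint id := by
    intro a ha b hb hne
    simp only [F, coe_filter, mem_quads, Set.mem_ofPred_eq] at ha hb
    rcases eq_or_disjoint hmin ha.1.le hb.1.le (ha.2.trans hb.2.symm) with e | ⟨-, -, e⟩
    · exact absurd e hne
    · exact e
  have hall : F.biUnion id = univ := by
    apply eq_univ_of_card
    rw [card_biUnion hd]
    simp only [id]
    rw [sum_congr rfl (g := fun _ => 4) (fun a ha => mem_quads.1 (mem_filter.1 ha).1), sum_const, h6]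
    rfl
  obtain ⟨t, ht, hxt⟩ := mem_biUnion.1 (hall ▸ mem_univ x)
  simp only [F, mem_filter, mem_quads] at ht
  have hst : t ≠ s := fun e => by
    have : x ∈ s := e ▸ hxt
    simp [hs] at this
  rcases eq_or_disjoint hmin ht.1.le hs4.le ht.2 with e | ⟨-, -, e⟩
  · exact absurd e hst
  refine ⟨symmDiff t s, cls_eq_iff.1 ht.2, ?_, ?_⟩
  · have := card_symmDiff_add t s
    rw [disjoint_iff_inter_eq_empty.1 e, card_empty] at this
    omega
  · intro y hy
    rw [e.symmDiff_eq_sup, sup_eq_union, mem_union]
    by_cases hyx : y = x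
    · exact Or.inl (hyx ▸ hxt)
    · exact Or.inr (mem_erase.2 ⟨hyx, hy⟩)

include hmin in
theorem octad_unique {T o o' : Finset (Fin 24)} (hT : T.card = 5) (ho : ind o ∈ C) (ho' : ind o' ∈ C)
    (h8 : o.card = 8) (h8' : o'.card = 8) (h : T ⊆ o) (h' : T ⊆ o') : o = o' := by
  rcases eq_of_cls_eq hmin (s := o) (t := o') (cls_eq_iff.2 (by rw [← ind_add]; exact C.add_mem ho ho'))
    with e | e
  · exact e
  · have h1 := card_symmDiff_add o o'
    have h2 := card_le_card (subset_inter h h')
    omega

include hdim hmin in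
theorem span_octads : Submodule.span (ZMod 2) {w : V | w ∈ C ∧ hammingNorm w = 8} = C := by
  set D := Submodule.span (ZMod 2) {w : V | w ∈ C ∧ hammingNorm w = 8}
  have hle : D ≤ C := Submodule.span_le.2 fun w hw => hw.1
  refine le_antisymm hle fun v hv => ?_
  suffices ∀ n, ∀ s : Finset (Fin 24), s.card ≤ n → ind s ∈ C → ind s ∈ D by
    have := this 24 (supp v) (by simpa using card_le_univ (supp v)) (by rwa [ind_supp])
    rwa [ind_supp] at this
  intro n
  induction n with
  | zero =>
    intro s hs _
    rw [card_eq_zero.1 (Nat.le_zero.1 hs), ind_eq_zero.2 rfl]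
    exact D.zero_mem
  | succ n ih =>
    intro s hs hsC
    by_cases h5 : s.card ≤ 4
    · by_cases h0 : ind s = 0
      · rw [h0]; exact D.zero_mem
      · have := hmin _ hsC h0
        rw [norm_eq_card, supp_ind] at this
        omega
    obtain ⟨T, hTs, hT⟩ := exists_subset_card_eq (show 5 ≤ s.card by omega)
    obtain ⟨o, hoC, ho8, hTo⟩ := exists_octad hdim hmin hT
    have hoD : ind o ∈ D := Submodule.subset_span ⟨hoC, by rw [norm_eq_card, supp_ind, ho8]⟩
    have h1 := card_symmDiff_add s o
    have h2 := card_le_card (subset_inter hTs hTo)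
    have hrec := ih (symmDiff s o) (by omega) (by rw [← ind_add]; exact C.add_mem hsC hoC)
    have := D.add_mem hrec hoD
    rwa [← ind_add, add_assoc, ← sub_eq_add' (ind o), sub_self, add_zero] at this

include hdim hmin horth in
theorem doubly_even {w : V} (hw : w ∈ C) : 4 ∣ hammingNorm w := by
  have h := span_octads hdim hmin
  rw [← h] at hw
  induction hw using Submodule.span_induction with
  | mem x hx => rw [hx.2]; norm_num
  | zero => simp [hammingNorm]
  | add x y hx hy ihx ihy =>
    rw [h] at hx hy
    rw [norm_eq_card] at ihx ihy ⊢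
    rw [← ind_supp x, ← ind_supp y, ind_add, supp_ind]
    have h1 := card_symmDiff_add (supp x) (supp y)
    have h2 : ((supp x ∩ supp y).card : ZMod 2) = 0 := by
      rw [← horth x hx y hy, card_eq_sum_ones, Nat.cast_sum]
      rw [← sum_filter_of_ne (p := fun i => i ∈ supp x ∩ supp y) (f := fun i => x i * y i)]
      · refine (sum_congr (by ext i; simp) fun i hi => ?_)
        simp only [mem_filter, mem_inter, supp, mem_univ, true_and] at hi
        have hone : ∀ z : ZMod 2, z ≠ 0 → z = 1 := by decide
        rw [hone _ hi.1, hone _ hi.2]; simp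
      · intro i _ hi
        simp only [mem_inter, supp, mem_filter, mem_univ, true_and]
        exact ⟨left_ne_zero_of_mul hi, right_ne_zero_of_mul hi⟩
    obtain ⟨k, hk⟩ := (ZMod.natCast_eq_zero_iff_even.1 h2).two_dvd
    omega
  | smul a x hx ih =>
    have ha : a = 0 ∨ a = 1 := by revert a; decide
    rcases ha with rfl | rfl
    · simp [hammingNorm]
    · rwa [one_smul]

end CfsgLib.ThreeTrans.Golay
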