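import Cfsg.Agent.Lib.ThreeTrans.RootRestrict
import Cfsg.Agent.Lib.Classical.Quad.StandardForms

/-!
The root groups of Siegel transformations of a hyperbolic quadratic space.
-/

set_option autoImplicit false
set_option linter.unusedSimpArgs false

namespace CfsgLib.ThreeTrans.SiegelTrans

open Cfsg Matrix CfsgLib.ThreeTrans.RankOneSL2 CfsgLib.Classical.Quad
open scoped commutatorElement

section Generic

variable {k : Type*} [Field k] {R : Type*} [Ring R] [Algebra k R] {X Y : R}

theorem one_add_smul_mul (hX : X * X = 0) (c d : k) : (1 + c • X) * (1 + d • X) = 1 + (c + d) • X := by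
  simp only [mul_add, add_mul, mul_one, one_mul, smul_mul_assoc, mul_smul_comm, hX, smul_zero, add_zero,
    add_smul, add_assoc]

theorem comm_rel (hX : X * X = 0) (hY : Y * Y = 0) (hXYX : X * Y * X = 0) (hYXY : Y * X * Y = 0) (c d : k) :
    (1 + c • X) * (1 + d • Y) = (1 + (c * d) • (X * Y - Y * X)) * ((1 + d • Y) * (1 + c • X)) := by
  have h1 : X * (Y * X) = 0 := by rw [← mul_assoc, hXYX]
  have h2 : Y * (X * Y) = 0 := by rw [← mul_assoc, hYXY]
  have hX' : ∀ z, X * (X * z) = 0 := fun z => by rw [← mul_assoc, hX, zero_mul]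
  have hY' : ∀ z, Y * (Y * z) = 0 := fun z => by rw [← mul_assoc, hY, zero_mul]
  have h1' : ∀ z, X * (Y * (X * z)) = 0 := fun z => by rw [← mul_assoc, ← mul_assoc, hXYX, zero_mul]
  have h2' : ∀ z, Y * (X * (Y * z)) = 0 := fun z => by rw [← mul_assoc, ← mul_assoc, hYXY, zero_mul]
  simp only [mul_add, add_mul, mul_sub, sub_mul, mul_one, one_mul, mul_assoc, smul_mul_assoc, mul_smul_comm,
    smul_sub, smul_smul, hX, hY, h1, h2, hX', hY', h1', h2', smul_zero, mul_zero, add_zero, sub_zero, zero_add]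
  module

end Generic

section Restrict

variable {G : Type*} [Group G] {H A B : Subgroup G}

theorem map_sub {C : Subgroup G} (h : C ≤ H) : (C.subgroupOf H).map H.subtype = C := by
  rw [Subgroup.subgroupOf_map_subtype, inf_eq_left.2 h]

theorem commutator_subgroupOf {C : Subgroup G} (hA : A ≤ H) (hB : B ≤ H) (hC : C ≤ H) (h : ⁅A, B⁆ = C) :
    ⁅A.subgroupOf H, B.subgroupOf H⁆ = C.subgroupOf H := by
  apply Subgroup.map_injective H.subtype_injective
  rw [Subgroup.map_commutator, map_sub hA, map_sub hB, map_sub hC, h]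

theorem rootCommutatorCase_subgroupOf {S : Set (Subgroup H)} {C : Subgroup G} (hA : A ≤ H) (hB : B ≤ H)
    (hC : C ≤ H) (h : ⁅A, B⁆ = C) (hS : C.subgroupOf H ∈ S)
    (hcA : ∀ c ∈ C, ∀ x ∈ A, c * x = x * c) (hcB : ∀ c ∈ C, ∀ x ∈ B, c * x = x * c)
    (hs : ∀ a ∈ A, a ≠ 1 → Subgroup.closure ((fun b => a * b * a⁻¹ * b⁻¹) '' (B : Set G)) = C)
    (ht : ∀ b ∈ B, b ≠ 1 → Subgroup.closure ((fun a => a * b * a⁻¹ * b⁻¹) '' (A : Set G)) = C) :
    RootCommutatorCase S (A.subgroupOf H) (B.subgroupOf H) := by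
  have e := commutator_subgroupOf hA hB hC h
  refine ⟨e ▸ hS, fun c hc x hx => ?_, fun a ha ha1 => ?_, fun b hb hb1 => ?_⟩
  · rw [e] at hc
    have hle : A.subgroupOf H ⊔ B.subgroupOf H ≤ Subgroup.centralizer {c} := by
      refine sup_le ?_ ?_ <;> intro y hy <;> rw [Subgroup.mem_centralizer_singleton_iff] <;> apply Subtype.ext
      · exact (hcA _ hc _ hy).symm
      · exact (hcB _ hc _ hy).symm
    exact (Subgroup.mem_centralizer_singleton_iff.1 (hle hx)).symm
  · rw [e]
    apply Subgroup.map_injective H.subtype_injective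
    rw [map_sub hC, MonoidHom.map_closure, ← hs a ha (fun e' => ha1 (Subtype.ext e'))]
    congr 1
    rw [Set.image_image]
    ext z
    constructor
    · rintro ⟨b, hb, rfl⟩
      exact ⟨b, hb, rfl⟩
    · rintro ⟨b, hb, rfl⟩
      exact ⟨⟨b, hB hb⟩, hb, rfl⟩
  · rw [e]
    apply Subgroup.map_injective H.subtype_injective
    rw [map_sub hC, MonoidHom.map_closure, ← ht b hb (fun e' => hb1 (Subtype.ext e'))]
    congr 1
    rw [Set.image_image]
    ext z
    constructor
    · rintro ⟨a, ha, rfl⟩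
      exact ⟨a, ha, rfl⟩
    · rintro ⟨a, ha, rfl⟩
      exact ⟨⟨a, hA ha⟩, ha, rfl⟩

end Restrict

variable {F : Type*} [Field F] {n : ℕ}

local notation "V" => (Fin n ⊕ Fin n → F)
local notation "Mat" => Matrix (Fin n ⊕ Fin n) (Fin n ⊕ Fin n) F
local notation "O" => Cfsg.isometryGroup F (Cfsg.quadFormPlus n F)

/-- The polar form. -/
def bl (v w : V) : F :=
  Cfsg.quadFormPlus n F (v + w) - Cfsg.quadFormPlus n F v - Cfsg.quadFormPlus n F w

theorem bl_polar (v w : V) : bl v w = QuadraticMap.polar (qPlus n F) v w := by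
  simp only [bl, QuadraticMap.polar, coe_qPlus]

theorem bl_comm (v w : V) : bl v w = bl w v := by
  rw [bl_polar, bl_polar, QuadraticMap.polar_comm]

theorem bl_add_left (u v w : V) : bl (u + v) w = bl u w + bl v w := by
  rw [bl_polar, bl_polar, bl_polar, polar_add_left']

theorem bl_add_right (u v w : V) : bl u (v + w) = bl u v + bl u w := by
  rw [bl_polar, bl_polar, bl_polar, polar_add_right']

theorem bl_smul_left (c : F) (v w : V) : bl (c • v) w = c * bl v w := by
  rw [bl_polar, bl_polar, polar_smul_left']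

theorem bl_smul_right (c : F) (v w : V) : bl v (c • w) = c * bl v w := by
  rw [bl_polar, bl_polar, polar_smul_right']

theorem bl_sub_left (u v w : V) : bl (u - v) w = bl u w - bl v w := by
  rw [sub_eq_add_neg, ← neg_one_smul F v, bl_add_left, bl_smul_left]; ring

theorem bl_sub_right (u v w : V) : bl u (v - w) = bl u v - bl u w := by
  rw [sub_eq_add_neg, ← neg_one_smul F w, bl_add_right, bl_smul_right]; ring

theorem qf_add (v w : V) :
    Cfsg.quadFormPlus n F (v + w) = Cfsg.quadFormPlus n F v + Cfsg.quadFormPlus n F w + bl v w := by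
  simp only [bl]; ring

theorem qf_smul (c : F) (v : V) : Cfsg.quadFormPlus n F (c • v) = c * c * Cfsg.quadFormPlus n F v := by
  rw [← coe_qPlus, apply_smul]

theorem bl_self (v : V) : bl v v = 2 * Cfsg.quadFormPlus n F v := by
  rw [bl_polar, polar_self', coe_qPlus]

theorem bl_zero_left (v : V) : bl 0 v = 0 := by rw [bl_polar, QuadraticMap.polar_zero_left]

theorem eq_zero_of_bl {v : V} (h : ∀ w, bl v w = 0) : v = 0 :=
  eq_zero_of_polar (qPlus_nondeg n) fun w => (bl_polar v w).symm.trans (h w)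

theorem exists_sep_bl {U : Submodule F V} {x : V} (hx : x ∉ U) :
    ∃ a, bl x a = 1 ∧ ∀ u ∈ U, bl u a = 0 := by
  obtain ⟨a, ha, hu⟩ := exists_sep_polar (qPlus_nondeg n) hx
  exact ⟨a, (bl_polar _ _).trans ha, fun u h => (bl_polar _ _).trans (hu u h)⟩

/-- The row of the functional `bl v`. -/
def pl (v : V) : V := fun x => v x.swap

theorem pl_dot (v w : V) : pl v ⬝ᵥ w = bl v w := by
  rw [bl_polar, polar_qPlus]
  simp only [dotProduct, pl, Fintype.sum_sum_type, Sum.swap_inl, Sum.swap_inr, ← Finset.sum_add_distrib]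
  exact Finset.sum_congr rfl fun i _ => by ring

/-- A totally singular pair. -/
structure TS (p r : V) : Prop where
  hp : Cfsg.quadFormPlus n F p = 0
  hr : Cfsg.quadFormPlus n F r = 0
  hpr : bl p r = 0

theorem TS.symm {p r : V} (h : TS p r) : TS r p := ⟨h.hr, h.hp, by rw [bl_comm, h.hpr]⟩

theorem TS.pp {p r : V} (h : TS p r) : bl p p = 0 := by rw [bl_self, h.hp, mul_zero]

theorem TS.rr {p r : V} (h : TS p r) : bl r r = 0 := by rw [bl_self, h.hr, mul_zero]

theorem TS.rp {p r : V} (h : TS p r) : bl r p = 0 := h.symm.hpr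

theorem TS.comb {p r : V} (h : TS p r) (a b c d : F) : TS (a • p + b • r) (c • p + d • r) := by
  refine ⟨?_, ?_, ?_⟩
  · rw [qf_add, qf_smul, qf_smul, bl_smul_left, bl_smul_right, h.hp, h.hr, h.hpr]; ring
  · rw [qf_add, qf_smul, qf_smul, bl_smul_left, bl_smul_right, h.hp, h.hr, h.hpr]; ring
  · simp only [bl_add_left, bl_add_right, bl_smul_left, bl_smul_right, h.hpr, h.rp, h.pp, h.rr]; ring

/-- The infinitesimal transformation of a pair. -/
def xm (p r : V) : Mat := vecMulVec p (pl r) - vecMulVec r (pl p)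

theorem xm_mulVec (p r v : V) : xm p r *ᵥ v = bl r v • p - bl p v • r := by
  rw [xm, sub_mulVec, vecMulVec_mulVec, vecMulVec_mulVec, op_smul_eq_smul, op_smul_eq_smul, pl_dot, pl_dot]

theorem mat_ext {M N : Mat} (h : ∀ v : V, M *ᵥ v = N *ᵥ v) : M = N :=
  Matrix.toLin'.injective (LinearMap.ext fun v => by rw [Matrix.toLin'_apply, Matrix.toLin'_apply, h v])

theorem xm_comb (p r : V) (a b c d : F) :
    xm (a • p + b • r) (c • p + d • r) = (a * d - b * c) • xm p r := by
  refine mat_ext fun v => ?_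
  simp only [smul_mulVec, xm_mulVec, bl_add_left, bl_smul_left]
  module

theorem xm_sq {p r : V} (h : TS p r) : xm p r * xm p r = 0 := by
  refine mat_ext fun v => ?_
  simp only [← mulVec_mulVec, xm_mulVec, zero_mulVec, bl_sub_right, bl_smul_right, h.pp, h.rr, h.hpr, h.rp]
  module

/-- The determinant of the pairing of two pairs. -/
def dd (p r p' r' : V) : F := bl p r' * bl r p' - bl p p' * bl r r'

theorem xm_triple (p r p' r' : V) : xm p r * xm p' r' * xm p r = dd p r p' r' • xm p r := by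
  refine mat_ext fun v => ?_
  simp only [← mulVec_mulVec, xm_mulVec, smul_mulVec, bl_sub_right, bl_smul_right, dd, bl_comm r' p,
    bl_comm p' r, bl_comm p' p, bl_comm r' r]
  module

theorem dd_symm (p r p' r' : V) : dd p' r' p r = dd p r p' r' := by
  simp only [dd, bl_comm p' r, bl_comm r' p, bl_comm p' p, bl_comm r' r]; ring

theorem xm_ne_zero {p r : V} (h : LinearIndependent F ![p, r]) : xm p r ≠ 0 := by
  intro e
  have hr : p ∉ Submodule.span F {r} := by
    rw [Submodule.mem_span_singleton]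
    rintro ⟨c, hc⟩
    have := (LinearIndependent.pair_iff.1 h) 1 (-c) (by rw [← hc]; module)
    exact one_ne_zero this.1
  obtain ⟨a, ha, hra⟩ := exists_sep_bl hr
  have := congrArg (fun M : Mat => M *ᵥ a) e
  simp only [xm_mulVec, zero_mulVec, ha, hra r (Submodule.mem_span_singleton_self r), zero_smul, zero_sub,
    one_smul, neg_eq_zero] at this
  exact h.ne_zero 1 this

theorem li_of_xm {p r : V} (h : xm p r ≠ 0) : LinearIndependent F ![p, r] := by
  rw [LinearIndependent.pair_iff]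
  intro s t hst
  by_contra hne
  apply h
  refine mat_ext fun v => ?_
  rw [xm_mulVec, zero_mulVec]
  by_cases hs : s = 0
  · have ht : t ≠ 0 := fun ht => hne ⟨hs, ht⟩
    rw [hs, zero_smul, zero_add, smul_eq_zero] at hst
    rw [hst.resolve_left ht, bl_zero_left]
    simp
  · have hp : p = (-(t / s)) • r := by
      have : s • p = -(t • r) := eq_neg_of_add_eq_zero_left hst
      rw [← inv_smul_smul₀ hs p, this, smul_neg, smul_smul, neg_smul]
      congr 2
      field_simp
    rw [hp, bl_smul_left]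
    module

/-- The defining property of the root group of a pair. -/
def rootSet (p r : V) : Set O :=
  {σ | ∀ v : V, bl v p = 0 → bl v r = 0 → σ.1.1 *ᵥ v = v}

theorem exists_iso {p r : V} (h : TS p r) (c : F) : ∃ σ : O, σ.1.1 = 1 + c • xm p r := by
  have hmul := fun a b => one_add_smul_mul (k := F) (xm_sq h) a b
  let U : Matrix.GeneralLinearGroup (Fin n ⊕ Fin n) F := ⟨1 + c • xm p r, 1 + (-c) • xm p r,
    by rw [hmul, add_neg_cancel, zero_smul, add_zero], by rw [hmul, neg_add_cancel, zero_smul, add_zero]⟩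
  suffices key : ∀ u : V, Cfsg.quadFormPlus n F ((1 + c • xm p r) *ᵥ u) = Cfsg.quadFormPlus n F u by
    exact ⟨⟨U, fun u _ => key u⟩, rfl⟩
  intro u
  have e : (1 + c • xm p r) *ᵥ u = u + ((c * bl r u) • p + (-(c * bl p u)) • r) := by
    rw [add_mulVec, one_mulVec, smul_mulVec, xm_mulVec]
    module
  rw [e, qf_add, qf_add, qf_smul, qf_smul, h.hp, h.hr]
  simp only [bl_smul_right, bl_smul_left, bl_add_right, h.hpr, bl_comm u p, bl_comm u r]
  ring

theorem iso_bl (σ : O) (v w : V) : bl (σ.1.1 *ᵥ v) (σ.1.1 *ᵥ w) = bl v w := by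
  have h : ∀ u : V, Cfsg.quadFormPlus n F (σ.1.1 *ᵥ u) = Cfsg.quadFormPlus n F u := fun u => σ.2 u u
  simp only [bl, ← mulVec_add, h]

set_option maxHeartbeats 1600000 in
theorem mem_rootSet {p r : V} (h : TS p r) (hli : LinearIndependent F ![p, r]) {σ : O} :
    σ ∈ rootSet p r ↔ ∃ c : F, σ.1.1 = 1 + c • xm p r := by
  constructor
  · intro hσ
    have hp : p ∉ Submodule.span F {r} := by
      rw [Submodule.mem_span_singleton]
      rintro ⟨c, hc⟩
      exact one_ne_zero ((LinearIndependent.pair_iff.1 hli) 1 (-c) (by rw [← hc]; module)).1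
    have hr : r ∉ Submodule.span F {p} := by
      rw [Submodule.mem_span_singleton]
      rintro ⟨c, hc⟩
      exact one_ne_zero ((LinearIndependent.pair_iff.1 hli) (-c) 1 (by rw [← hc]; module)).2
    obtain ⟨f, hpf, hrf'⟩ := exists_sep_bl hp
    obtain ⟨g, hrg, hpg'⟩ := exists_sep_bl hr
    have hrf := hrf' r (Submodule.mem_span_singleton_self r)
    have hpg := hpg' p (Submodule.mem_span_singleton_self p)
    have hspan : ∀ w : V, ∃ a b : F, σ.1.1 *ᵥ w - w = a • p + b • r := by
      intro w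
      refine ⟨bl (σ.1.1 *ᵥ w - w) f, bl (σ.1.1 *ᵥ w - w) g, ?_⟩
      rw [← sub_eq_zero]
      refine eq_zero_of_bl fun v => ?_
      have hv0 : σ.1.1 *ᵥ (v - bl p v • f - bl r v • g) = v - bl p v • f - bl r v • g := hσ _
        (by rw [bl_comm]; simp only [bl_sub_right, bl_smul_right, hpf, hpg]; ring)
        (by rw [bl_comm]; simp only [bl_sub_right, bl_smul_right, hrf, hrg]; ring)
      have e := iso_bl σ w (v - bl p v • f - bl r v • g)
      rw [hv0, ← sub_eq_zero, ← bl_sub_left] at e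
      simp only [bl_sub_right, bl_smul_right] at e
      rw [bl_sub_left (σ.1.1 *ᵥ w - w), bl_add_left, bl_smul_left, bl_smul_left]
      linear_combination e
    obtain ⟨a, b, hd⟩ := hspan f
    obtain ⟨a', b', he⟩ := hspan g
    rw [sub_eq_iff_eq_add'] at hd he
    have hQ : ∀ u : V, Cfsg.quadFormPlus n F (σ.1.1 *ᵥ u) = Cfsg.quadFormPlus n F u := fun u => σ.2 u u
    have hfp : bl f p = 1 := by rw [bl_comm, hpf]
    have hfr : bl f r = 0 := by rw [bl_comm, hrf]
    have hgp : bl g p = 0 := by rw [bl_comm, hpg]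
    have hgr : bl g r = 1 := by rw [bl_comm, hrg]
    have ha : a = 0 := by
      have e := hQ f
      rw [hd, qf_add, qf_add, qf_smul, qf_smul, h.hp, h.hr] at e
      simp only [bl_add_right, bl_smul_left, bl_smul_right, hfp, hfr, h.hpr] at e
      linear_combination e
    have hb : b' = 0 := by
      have e := hQ g
      rw [he, qf_add, qf_add, qf_smul, qf_smul, h.hp, h.hr] at e
      simp only [bl_add_right, bl_smul_left, bl_smul_right, hgp, hgr, h.hpr] at e
      linear_combination e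
    have hab : a' = -b := by
      have e := iso_bl σ f g
      rw [hd, he, ha, hb, zero_smul, zero_smul, zero_add, add_zero] at e
      simp only [bl_add_left, bl_add_right, bl_smul_left, bl_smul_right, hrg, hfp, h.rp] at e
      linear_combination e
    refine ⟨-b, mat_ext fun v => ?_⟩
    have hv0 : σ.1.1 *ᵥ (v - bl p v • f - bl r v • g) = v - bl p v • f - bl r v • g := hσ _
      (by rw [bl_comm]; simp only [bl_sub_right, bl_smul_right, hpf, hpg]; ring)
      (by rw [bl_comm]; simp only [bl_sub_right, bl_smul_right, hrf, hrg]; ring)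
    rw [mulVec_sub, mulVec_sub, mulVec_smul, mulVec_smul, hd, he, ha, hb, hab] at hv0
    rw [add_mulVec, one_mulVec, smul_mulVec, xm_mulVec]
    linear_combination (norm := module) hv0
  · rintro ⟨c, hc⟩ v hvp hvr
    rw [hc, add_mulVec, one_mulVec, smul_mulVec, xm_mulVec, bl_comm r, bl_comm p, hvp, hvr]
    simp

theorem inv_val (σ : O) : σ.1.1 * (σ⁻¹).1.1 = 1 :=
  congrArg (fun z : O => z.1.1) (mul_inv_cancel σ)

theorem inv_val' (σ : O) : (σ⁻¹).1.1 * σ.1.1 = 1 :=
  congrArg (fun z : O => z.1.1) (inv_mul_cancel σ)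

theorem val_injective : Function.Injective (fun z : O => z.1.1) := fun _ _ e => Subtype.ext (Units.ext e)

/-- The root group of a pair. -/
def rootGrp (p r : V) : Subgroup O where
  carrier := rootSet p r
  one_mem' := fun v _ _ => one_mulVec v
  mul_mem' := fun {x y} hx hy v h1 h2 => by
    show (x.1.1 * y.1.1) *ᵥ v = v
    rw [← mulVec_mulVec, hy v h1 h2, hx v h1 h2]
  inv_mem' := fun {x} hx v h1 h2 => by
    conv_lhs => rw [← hx v h1 h2]
    rw [mulVec_mulVec, inv_val', one_mulVec]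

theorem mem_rootGrp {p r : V} (h : TS p r) (hli : LinearIndependent F ![p, r]) {σ : O} :
    σ ∈ rootGrp p r ↔ ∃ c : F, σ.1.1 = 1 + c • xm p r := mem_rootSet h hli

theorem exists_mem {p r : V} (h : TS p r) (hli : LinearIndependent F ![p, r]) (c : F) :
    ∃ σ ∈ rootGrp p r, σ.1.1 = 1 + c • xm p r := by
  obtain ⟨σ, hσ⟩ := exists_iso h c
  exact ⟨σ, (mem_rootGrp h hli).2 ⟨c, hσ⟩, hσ⟩

theorem rootGrp_congr {p r p' r' : V} (h : TS p r) (hli : LinearIndependent F ![p, r]) (h' : TS p' r')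
    (hli' : LinearIndependent F ![p', r']) {t : F} (e : xm p' r' = t • xm p r) :
    rootGrp p' r' = rootGrp p r := by
  have ht : t ≠ 0 := fun e' => xm_ne_zero hli' (by rw [e, e', zero_smul])
  ext σ
  rw [mem_rootGrp h hli, mem_rootGrp h' hli']
  constructor
  · rintro ⟨c, hc⟩
    exact ⟨c * t, by rw [hc, e, smul_smul]⟩
  · rintro ⟨c, hc⟩
    exact ⟨c / t, by rw [hc, e, smul_smul, div_mul_cancel₀ _ ht]⟩

/-- The family of root groups. -/
def fam (n : ℕ) (F : Type*) [Field F] : Set (Subgroup (Cfsg.isometryGroup F (Cfsg.quadFormPlus n F))) :=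
  {A | ∃ p r : Fin n ⊕ Fin n → F, LinearIndependent F ![p, r] ∧ TS p r ∧ A = rootGrp p r}

theorem conj_mem {A : Subgroup O} (hA : A ∈ fam n F) (g : O) : conjBy A g ∈ fam n F := by
  obtain ⟨p, r, hli, h, rfl⟩ := hA
  have hinj : ∀ u v : V, g.1.1 *ᵥ u = g.1.1 *ᵥ v → u = v := fun u v e => by
    have := congrArg (fun w => (g⁻¹).1.1 *ᵥ w) e
    simpa only [mulVec_mulVec, inv_val', one_mulVec] using this
  refine ⟨g.1.1 *ᵥ p, g.1.1 *ᵥ r, ?_, ⟨(g.2 p p).trans h.hp, (g.2 r r).trans h.hr, by rw [iso_bl, h.hpr]⟩, ?_⟩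
  · rw [LinearIndependent.pair_iff]
    intro s t hst
    rw [← mulVec_smul, ← mulVec_smul, ← mulVec_add] at hst
    exact LinearIndependent.pair_iff.1 hli s t (hinj _ _ (by rw [hst, mulVec_zero]))
  · ext x
    rw [mem_conjBy]
    constructor
    · intro hx v hvp hvr
      have e : g.1.1 *ᵥ ((g⁻¹).1.1 *ᵥ v) = v := by rw [mulVec_mulVec, inv_val, one_mulVec]
      have := hx ((g⁻¹).1.1 *ᵥ v) (by rw [← iso_bl g, e]; exact hvp) (by rw [← iso_bl g, e]; exact hvr)
      change ((g⁻¹).1.1 * x.1.1 * g.1.1) *ᵥ _ = _ at this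
      rw [← mulVec_mulVec, ← mulVec_mulVec, e] at this
      have := congrArg (fun w => g.1.1 *ᵥ w) this
      simpa only [mulVec_mulVec, inv_val, one_mulVec, ← mul_assoc, one_mul] using this
    · intro hx v hvp hvr
      show ((g⁻¹).1.1 * x.1.1 * g.1.1) *ᵥ v = v
      rw [← mulVec_mulVec, ← mulVec_mulVec, hx _ (by rw [iso_bl]; exact hvp) (by rw [iso_bl]; exact hvr),
        mulVec_mulVec, inv_val', one_mulVec]

theorem commutative {A : Subgroup O} (hA : A ∈ fam n F) : IsMulCommutative A := by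
  obtain ⟨p, r, hli, h, rfl⟩ := hA
  refine ⟨⟨fun x y => Subtype.ext (val_injective ?_)⟩⟩
  obtain ⟨c, hc⟩ := (mem_rootGrp h hli).1 x.2
  obtain ⟨d, hd⟩ := (mem_rootGrp h hli).1 y.2
  show x.1.1.1 * y.1.1.1 = y.1.1.1 * x.1.1.1
  rw [hc, hd, one_add_smul_mul (xm_sq h), one_add_smul_mul (xm_sq h), add_comm c]

theorem ne_bot {A : Subgroup O} (hA : A ∈ fam n F) : A ≠ ⊥ := by
  obtain ⟨p, r, hli, h, rfl⟩ := hA
  intro e
  obtain ⟨σ, hσ, hv⟩ := exists_mem h hli 1
  rw [e, Subgroup.mem_bot] at hσ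
  rw [hσ, one_smul] at hv
  exact xm_ne_zero hli (left_eq_add.1 hv)

theorem commute_of {p r p' r' : V} (h : TS p r) (hli : LinearIndependent F ![p, r]) (h' : TS p' r')
    (hli' : LinearIndependent F ![p', r']) (hZ : xm p r * xm p' r' - xm p' r' * xm p r = 0) :
    ⁅rootGrp p r, rootGrp p' r'⁆ = ⊥ := by
  refine Subgroup.commutator_eq_bot_iff_le_centralizer.2 fun x hx => Subgroup.mem_centralizer_iff.2 fun y hy => ?_
  obtain ⟨c, hc⟩ := (mem_rootGrp h hli).1 hx
  obtain ⟨d, hd⟩ := (mem_rootGrp h' hli').1 hy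
  refine val_injective ?_
  show y.1.1 * x.1.1 = x.1.1 * y.1.1
  rw [hc, hd]
  simp only [mul_add, add_mul, mul_one, one_mul, smul_mul_assoc, mul_smul_comm, sub_eq_zero.1 hZ]
  module

theorem rankOne {p r p' r' : V} (h : TS p r) (hli : LinearIndependent F ![p, r]) (h' : TS p' r')
    (hli' : LinearIndependent F ![p', r']) (hD : dd p r p' r' ≠ 0) :
    ∃ φ : SpecialLinearGroup (Fin 2) F →* O, Function.Injective φ ∧
      (upperUnipotentSL2 F).map φ = rootGrp p r ∧ (lowerUnipotentSL2 F).map φ = rootGrp p' r' := by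
  set D := dd p r p' r'
  obtain ⟨f₀, hf₀, hu, hl, -⟩ := RootRestrict.exists_repr (k := F) (A := xm p r) (B := D⁻¹ • xm p' r')
    (xm_sq h) (by rw [smul_mul_assoc, mul_smul_comm, xm_sq h', smul_zero, smul_zero])
    (by rw [mul_smul_comm, smul_mul_assoc, xm_triple, smul_smul, inv_mul_cancel₀ hD, one_smul])
    (by rw [smul_mul_assoc, smul_mul_assoc, mul_smul_comm, xm_triple, dd_symm, smul_smul, smul_smul,
        mul_assoc, inv_mul_cancel₀ hD, mul_one])
    (xm_ne_zero hli)
  have hmem : ∀ g, ∃ x : O, x.1.1 = f₀ g := by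
    intro g
    have hg : g ∈ lowerUnipotentSL2 F ⊔ upperUnipotentSL2 F := by rw [sup_eq_top]; trivial
    rw [Subgroup.sup_eq_closure] at hg
    induction hg using Subgroup.closure_induction with
    | mem x hx' =>
      rcases hx' with hx' | hx'
      · obtain ⟨t, rfl⟩ := mem_lower.1 hx'
        rw [hl, smul_smul]
        exact exists_iso h' _
      · obtain ⟨t, rfl⟩ := mem_upper.1 hx'
        rw [hu]
        exact exists_iso h _
    | one => exact ⟨1, (map_one f₀).symm⟩
    | mul x y _ _ hx' hy' =>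
      obtain ⟨a, ha⟩ := hx'
      obtain ⟨b, hb⟩ := hy'
      exact ⟨a * b, by rw [map_mul, ← ha, ← hb]; rfl⟩
    | inv x _ hx' =>
      obtain ⟨a, ha⟩ := hx'
      refine ⟨a⁻¹, left_inv_eq_right_inv (a := f₀ x) ?_ (by rw [← map_mul, mul_inv_cancel, map_one])⟩
      rw [← ha]
      exact inv_val' a
  choose f hfv using hmem
  let φ : SpecialLinearGroup (Fin 2) F →* O :=
    { toFun := f
      map_one' := val_injective (by simp only [hfv, map_one]; rfl)
      map_mul' := fun x y => val_injective (by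
        show (f (x * y)).1.1 = (f x).1.1 * (f y).1.1
        rw [hfv, hfv, hfv, map_mul]) }
  have hφv : ∀ g, (φ g).1.1 = f₀ g := hfv
  refine ⟨φ, fun a b e => hf₀ (by rw [← hφv, ← hφv, e]), ?_, ?_⟩
  · ext x
    rw [Subgroup.mem_map, mem_rootGrp h hli]
    constructor
    · rintro ⟨g, hg, rfl⟩
      obtain ⟨t, rfl⟩ := mem_upper.1 hg
      exact ⟨t, (hφv _).trans (hu t)⟩
    · rintro ⟨c, hc⟩
      exact ⟨upperEl c, mem_upper.2 ⟨c, rfl⟩, val_injective ((hφv _).trans ((hu c).trans hc.symm))⟩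
  · ext x
    rw [Subgroup.mem_map, mem_rootGrp h' hli']
    constructor
    · rintro ⟨g, hg, rfl⟩
      obtain ⟨t, rfl⟩ := mem_lower.1 hg
      exact ⟨_, (hφv _).trans ((hl t).trans (by rw [smul_smul]))⟩
    · rintro ⟨c, hc⟩
      refine ⟨lowerEl (c * D), mem_lower.2 ⟨_, rfl⟩, val_injective ((hφv _).trans ((hl _).trans ?_))⟩
      show _ = x.1.1
      rw [hc, smul_smul, mul_assoc, mul_inv_cancel₀ hD, mul_one]

theorem not_rankOne {p r p' r' : V} (h : TS p r) (hli : LinearIndependent F ![p, r]) (h' : TS p' r')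
    (hli' : LinearIndependent F ![p', r']) (hD : dd p r p' r' = 0)
    (hZ : xm p r * xm p' r' - xm p' r' * xm p r ≠ 0) :
    ¬ IsRankOnePair (rootGrp p r) (rootGrp p' r') := by
  intro hp
  set X := xm p r
  set Y := xm p' r'
  have hX : X * X = 0 := xm_sq h
  have hY : Y * Y = 0 := xm_sq h'
  have hXYX : X * Y * X = 0 := by rw [xm_triple, hD, zero_smul]
  have hYXY : Y * X * Y = 0 := by rw [xm_triple, dd_symm, hD, zero_smul]
  obtain ⟨s, hs, hsv⟩ := exists_mem h hli 1
  have hs1 : s ≠ 1 := fun e => by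
    rw [e, one_smul] at hsv
    exact xm_ne_zero hli (left_eq_add.1 hsv)
  obtain ⟨t, ht, -, he⟩ := hp.cond_left s hs hs1
  have hB : rootGrp p' r' = conjBy (rootGrp p r) (s * t⁻¹) := by
    refine conjBy_inj (g := s⁻¹) ?_
    rw [conjBy_conjBy, inv_mul_cancel_left, ← he]
  obtain ⟨y, hy, hyv⟩ := exists_mem h' hli' 1
  rw [hB, mem_conjBy] at hy
  obtain ⟨e, hev⟩ := (mem_rootGrp h hli).1 hy
  obtain ⟨d, hd⟩ := (mem_rootGrp h' hli').1 (inv_mem ht)
  have hg : y.1.1 * (s * t⁻¹).1.1 = (s * t⁻¹).1.1 * ((s * t⁻¹)⁻¹ * y * (s * t⁻¹)).1.1 := by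
    show (y * (s * t⁻¹)).1.1 = ((s * t⁻¹) * ((s * t⁻¹)⁻¹ * y * (s * t⁻¹))).1.1
    congr 2
    group
  rw [hev, hyv, show (s * t⁻¹).1.1 = s.1.1 * (t⁻¹).1.1 from rfl, hsv, hd, show xm p r = X from rfl,
    show xm p' r' = Y from rfl] at hg
  have h1 : X * (Y * X) = 0 := by rw [← mul_assoc, hXYX]
  have h2 : Y * (X * Y) = 0 := by rw [← mul_assoc, hYXY]
  have hX' : ∀ z, X * (X * z) = 0 := fun z => by rw [← mul_assoc, hX, zero_mul]
  have hY' : ∀ z, Y * (Y * z) = 0 := fun z => by rw [← mul_assoc, hY, zero_mul]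
  have h1' : ∀ z, X * (Y * (X * z)) = 0 := fun z => by rw [← mul_assoc, ← mul_assoc, hXYX, zero_mul]
  have h2' : ∀ z, Y * (X * (Y * z)) = 0 := fun z => by rw [← mul_assoc, ← mul_assoc, hYXY, zero_mul]
  have hXY := congrArg (fun M => X * M) hg
  have hYX := congrArg (fun M => M * X) hg
  simp only [mul_add, add_mul, mul_one, one_mul, mul_assoc, smul_mul_assoc, mul_smul_comm, one_smul, smul_smul,
    hX, hY, h1, h2, hX', hY', h1', h2', smul_zero, mul_zero, add_zero, zero_add] at hXY hYX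
  have e1 : X * Y = 0 := by linear_combination (norm := module) hXY
  have e2 : Y * X = 0 := by
    linear_combination (norm := module) hYX
  exact hZ (by rw [e1, e2, sub_zero])

theorem normal_form_step {p r p' r' : V} (hD : dd p r p' r' = 0)
    (hM : ¬ (bl p p' = 0 ∧ bl p r' = 0 ∧ bl r p' = 0 ∧ bl r r' = 0)) :
    ∃ a b c d : F, a * d - b * c ≠ 0 ∧ bl (a • p + b • r) p' = 0 ∧ bl (a • p + b • r) r' = 0 := by
  simp only [dd] at hD
  by_cases h1 : bl p p' = 0 ∧ bl r p' = 0
  · by_cases h2 : bl p r' = 0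
    · exact ⟨1, 0, 0, 1, by norm_num, by simp [h1.1], by simp [h2]⟩
    · refine ⟨bl r r', -bl p r', 1, 0, by simpa using h2, ?_, ?_⟩
      · simp only [bl_add_left, bl_smul_left, h1.1, h1.2]; ring
      · simp only [bl_add_left, bl_smul_left]; ring
  · by_cases h2 : bl p p' = 0
    · refine ⟨1, 0, 0, 1, by norm_num, by simp [h2], ?_⟩
      have : bl r p' ≠ 0 := fun e => h1 ⟨h2, e⟩
      rw [h2, zero_mul, sub_zero, mul_eq_zero] at hD
      simp [hD.resolve_right this]
    · refine ⟨bl r p', -bl p p', 1, 0, by simpa using h2, ?_, ?_⟩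
      · simp only [bl_add_left, bl_smul_left]; ring
      · simp only [bl_add_left, bl_smul_left]; linear_combination hD

theorem commutatorCase {p r p' r' : V} (h : TS p r) (hli : LinearIndependent F ![p, r]) (h' : TS p' r')
    (hli' : LinearIndependent F ![p', r']) (hD : dd p r p' r' = 0)
    (hZ : xm p r * xm p' r' - xm p' r' * xm p r ≠ 0) :
    ∃ u v : V, LinearIndependent F ![u, v] ∧ TS u v ∧ ⁅rootGrp p r, rootGrp p' r'⁆ = rootGrp u v ∧
      (∀ z ∈ rootGrp u v, ∀ x ∈ rootGrp p r, z * x = x * z) ∧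
      (∀ z ∈ rootGrp u v, ∀ x ∈ rootGrp p' r', z * x = x * z) ∧
      (∀ a ∈ rootGrp p r, a ≠ 1 →
        Subgroup.closure ((fun b => a * b * a⁻¹ * b⁻¹) '' (rootGrp p' r' : Set O)) = rootGrp u v) ∧
      (∀ b ∈ rootGrp p' r', b ≠ 1 →
        Subgroup.closure ((fun a => a * b * a⁻¹ * b⁻¹) '' (rootGrp p r : Set O)) = rootGrp u v) := by
  have hM : ¬ (bl p p' = 0 ∧ bl p r' = 0 ∧ bl r p' = 0 ∧ bl r r' = 0) := by
    rintro ⟨h1, h2, h3, h4⟩
    refine hZ (mat_ext fun v => ?_)
    simp only [sub_mulVec, ← mulVec_mulVec, xm_mulVec, zero_mulVec, bl_sub_right, bl_smul_right, h1, h2, h3, h4,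
      bl_comm r' p, bl_comm p' r, bl_comm p' p, bl_comm r' r]
    module
  obtain ⟨a, b, c, d, hne, e1, e2⟩ := normal_form_step hD hM
  set p₀ := a • p + b • r with hp₀
  set r₀ := c • p + d • r with hr₀
  have h0 : TS p₀ r₀ := h.comb a b c d
  have hX : xm p₀ r₀ = (a * d - b * c) • xm p r := xm_comb p r a b c d
  have hM' : ¬ (bl p' p₀ = 0 ∧ bl p' r₀ = 0 ∧ bl r' p₀ = 0 ∧ bl r' r₀ = 0) := by
    rintro ⟨h1, h2, h3, h4⟩
    refine hM ?_
    have key : ∀ w : V, bl p₀ w = 0 → bl r₀ w = 0 → bl p w = 0 ∧ bl r w = 0 := by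
      intro w hw hw'
      simp only [hp₀, hr₀, bl_add_left, bl_smul_left] at hw hw'
      constructor
      · exact mul_left_cancel₀ hne (by linear_combination d * hw - b * hw')
      · exact mul_left_cancel₀ hne (by linear_combination a * hw' - c * hw)
    obtain ⟨k1, k2⟩ := key p' (by rw [bl_comm, h1]) (by rw [bl_comm, h2])
    obtain ⟨k3, k4⟩ := key r' (by rw [bl_comm, h3]) (by rw [bl_comm, h4])
    exact ⟨k1, k3, k2, k4⟩
  have hD' : dd p' r' p₀ r₀ = 0 := by
    simp only [dd, bl_comm p' p₀, bl_comm r' p₀, e1, e2]; ring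
  obtain ⟨a', b', c', d', hne', f1, f2⟩ := normal_form_step hD' hM'
  set u := a' • p' + b' • r' with hu
  set w := c' • p' + d' • r' with hw
  have h1 : TS u w := h'.comb a' b' c' d'
  have hY : xm u w = (a' * d' - b' * c') • xm p' r' := xm_comb p' r' a' b' c' d'
  have hpu : bl p₀ u = 0 := by rw [bl_comm, f1]
  have hru : bl r₀ u = 0 := by rw [bl_comm, f2]
  have hpw : bl p₀ w = 0 := by rw [hw, bl_add_right, bl_smul_right, bl_smul_right, e1, e2]; ring
  have huv : TS p₀ u := ⟨h0.hp, h1.hp, hpu⟩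
  have hZ0 : xm p₀ r₀ * xm u w - xm u w * xm p₀ r₀ = (-bl r₀ w) • xm p₀ u := by
    refine mat_ext fun v => ?_
    simp only [sub_mulVec, ← mulVec_mulVec, xm_mulVec, smul_mulVec, bl_sub_right, bl_smul_right, hpu, hru, hpw,
      bl_comm u r₀, bl_comm w p₀, bl_comm u p₀, bl_comm w r₀]
    module
  set lam := (a * d - b * c) * (a' * d' - b' * c')
  have hlam : lam ≠ 0 := mul_ne_zero hne hne'
  set X := xm p r with hXd
  set Y := xm p' r' with hYd
  set W := xm p₀ u with hWd
  have hZW : X * Y - Y * X = (lam⁻¹ * -bl r₀ w) • W := by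
    rw [← smul_smul, ← hZ0, hX, hY]
    simp only [smul_mul_assoc, mul_smul_comm, smul_smul, ← smul_sub]
    rw [mul_comm (a' * d' - b' * c'), ← smul_sub, smul_smul, inv_mul_cancel₀ hlam, one_smul]
  set μ := lam⁻¹ * -bl r₀ w with hμd
  have hμ : μ ≠ 0 := fun e => hZ (by rw [hZW, e, zero_smul])
  have hliu : LinearIndependent F ![p₀, u] := li_of_xm fun e => hZ (hZW.trans (by rw [show W = 0 from e, smul_zero]))
  have hXX : X * X = 0 := xm_sq h
  have hYY : Y * Y = 0 := xm_sq h'
  have hXYX : X * Y * X = 0 := by rw [xm_triple, hD, zero_smul]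
  have hYXY : Y * X * Y = 0 := by rw [xm_triple, dd_symm, hD, zero_smul]
  have hval : ∀ (x y : O) (c d : F), x.1.1 = 1 + c • X → y.1.1 = 1 + d • Y →
      (x * y * x⁻¹ * y⁻¹).1.1 = 1 + (c * d * μ) • W := by
    intro x y c d hx hy
    have key : (x * y).1.1 = (1 + (c * d) • (X * Y - Y * X)) * (y * x).1.1 := by
      show x.1.1 * y.1.1 = _ * (y.1.1 * x.1.1)
      rw [hx, hy, comm_rel hXX hYY hXYX hYXY]
    rw [show x * y * x⁻¹ * y⁻¹ = x * y * (y * x)⁻¹ by group]
    show (x * y).1.1 * ((y * x)⁻¹).1.1 = _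
    rw [key, mul_assoc, inv_val, mul_one, hZW, smul_smul]
  have hcomm : ∀ (M : Mat) (x : F), M * W = W * M → (1 + x • W) * M = M * (1 + x • W) := fun M x e => by
    simp only [mul_add, add_mul, mul_one, one_mul, smul_mul_assoc, mul_smul_comm, e]
  have hWX : X * W = W * X := by
    have e : X * (X * Y - Y * X) = (X * Y - Y * X) * X := by
      simp only [mul_sub, sub_mul, ← mul_assoc, hXX, zero_mul, hXYX]
      rw [mul_assoc Y X X, hXX, mul_zero]
    rw [hZW, mul_smul_comm, smul_mul_assoc] at e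
    exact smul_right_injective _ hμ e
  have hWY : Y * W = W * Y := by
    have e : Y * (X * Y - Y * X) = (X * Y - Y * X) * Y := by
      simp only [mul_sub, sub_mul, ← mul_assoc, hYY, zero_mul, hYXY]
      rw [mul_assoc X Y Y, hYY, mul_zero]
    rw [hZW, mul_smul_comm, smul_mul_assoc] at e
    exact smul_right_injective _ hμ e
  refine ⟨p₀, u, hliu, huv, le_antisymm (Subgroup.commutator_le.2 fun x hx y hy => ?_) fun z hz => ?_,
    fun z hz x hx => ?_, fun z hz x hx => ?_, fun s hs hs1 => ?_, fun t ht ht1 => ?_⟩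
  · obtain ⟨c, hc⟩ := (mem_rootGrp h hli).1 hx
    obtain ⟨d, hd⟩ := (mem_rootGrp h' hli').1 hy
    exact (mem_rootGrp huv hliu).2 ⟨_, hval x y c d hc hd⟩
  · obtain ⟨e, he⟩ := (mem_rootGrp huv hliu).1 hz
    obtain ⟨x, hx, hxv⟩ := exists_mem h hli (e / μ)
    obtain ⟨y, hy, hyv⟩ := exists_mem h' hli' 1
    have : z = ⁅x, y⁆ := val_injective (by
      show z.1.1 = (x * y * x⁻¹ * y⁻¹).1.1
      rw [hval x y _ _ hxv hyv, he, mul_one, div_mul_cancel₀ _ hμ])
    rw [this]
    exact Subgroup.commutator_mem_commutator hx hy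
  · obtain ⟨e, he⟩ := (mem_rootGrp huv hliu).1 hz
    obtain ⟨c, hc⟩ := (mem_rootGrp h hli).1 hx
    refine val_injective ?_
    show z.1.1 * x.1.1 = x.1.1 * z.1.1
    rw [he, hc]
    refine hcomm _ _ ?_
    simp only [mul_add, add_mul, mul_one, one_mul, smul_mul_assoc, mul_smul_comm, hWX, ← hWd, ← hXd]
  · obtain ⟨e, he⟩ := (mem_rootGrp huv hliu).1 hz
    obtain ⟨c, hc⟩ := (mem_rootGrp h' hli').1 hx
    refine val_injective ?_
    show z.1.1 * x.1.1 = x.1.1 * z.1.1
    rw [he, hc]
    refine hcomm _ _ ?_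
    simp only [mul_add, add_mul, mul_one, one_mul, smul_mul_assoc, mul_smul_comm, hWY, ← hWd, ← hYd]
  · obtain ⟨c, hc⟩ := (mem_rootGrp h hli).1 hs
    have hc0 : c ≠ 0 := fun e => hs1 (val_injective (by
      show s.1.1 = 1
      rw [hc, e, zero_smul, add_zero]))
    refine le_antisymm ((Subgroup.closure_le _).2 ?_) fun z hz => ?_
    · rintro _ ⟨t, ht, rfl⟩
      obtain ⟨d, hd⟩ := (mem_rootGrp h' hli').1 ht
      exact (mem_rootGrp huv hliu).2 ⟨_, hval s t c d hc hd⟩
    · obtain ⟨e, he⟩ := (mem_rootGrp huv hliu).1 hz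
      obtain ⟨t, ht, htv⟩ := exists_mem h' hli' (e / (c * μ))
      refine Subgroup.subset_closure ⟨t, ht, val_injective ?_⟩
      show (s * t * s⁻¹ * t⁻¹).1.1 = z.1.1
      rw [hval s t _ _ hc htv, he]
      congr 2
      field_simp
  · obtain ⟨d, hd⟩ := (mem_rootGrp h' hli').1 ht
    have hd0 : d ≠ 0 := fun e => ht1 (val_injective (by
      show t.1.1 = 1
      rw [hd, e, zero_smul, add_zero]))
    refine le_antisymm ((Subgroup.closure_le _).2 ?_) fun z hz => ?_
    · rintro _ ⟨s, hs, rfl⟩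
      obtain ⟨c, hc⟩ := (mem_rootGrp h hli).1 hs
      exact (mem_rootGrp huv hliu).2 ⟨_, hval s t c d hc hd⟩
    · obtain ⟨e, he⟩ := (mem_rootGrp huv hliu).1 hz
      obtain ⟨s, hs, hsv⟩ := exists_mem h hli (e / (d * μ))
      refine Subgroup.subset_closure ⟨s, hs, val_injective ?_⟩
      show (s * t * s⁻¹ * t⁻¹).1.1 = z.1.1
      rw [hval s t _ _ hsv hd, he]
      congr 2
      field_simp

/-! ### connectivity -/

/-- A singular vector orthogonal to `p` and to neither of `r`, `r'`. -/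
theorem exists_common (hn : 3 ≤ n) {p r r' : V} (h : TS p r) (hli : LinearIndependent F ![p, r]) (h' : TS p r')
    (hli' : LinearIndependent F ![p, r']) :
    ∃ u : V, Cfsg.quadFormPlus n F u = 0 ∧ bl p u = 0 ∧ bl r u ≠ 0 ∧ bl r' u ≠ 0 := by
  have partner : ∀ x : V, TS p x → LinearIndependent F ![p, x] →
      ∃ a : V, Cfsg.quadFormPlus n F a = 0 ∧ bl p a = 0 ∧ bl x a = 1 := by
    intro x hx hlx
    have hxn : x ∉ Submodule.span F {p} := by
      rw [Submodule.mem_span_singleton]
      rintro ⟨c, hc⟩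
      exact one_ne_zero ((LinearIndependent.pair_iff.1 hlx) (-c) 1 (by rw [← hc]; module)).2
    obtain ⟨a, ha, hp⟩ := exists_sep_bl hxn
    refine ⟨a + (-Cfsg.quadFormPlus n F a) • x, ?_, ?_, ?_⟩
    · rw [qf_add, qf_smul, bl_smul_right, bl_comm a x, ha, hx.hr]; ring
    · rw [bl_add_right, bl_smul_right, hp p (Submodule.mem_span_singleton_self p), hx.hpr]; ring
    · rw [bl_add_right, bl_smul_right, ha, hx.rr]; ring
  obtain ⟨a, ha, hpa, hra⟩ := partner r h hli
  obtain ⟨b, hb, hpb, hrb⟩ := partner r' h' hli'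
  by_cases h1 : bl r' a = 0
  · by_cases h2 : bl r b = 0
    · by_cases hβ : bl r r' = 0
      · refine ⟨a + b + (-Cfsg.quadFormPlus n F (a + b)) • r, ?_, ?_, ?_, ?_⟩
        · rw [qf_add, qf_smul, bl_smul_right, bl_comm (a + b) r, bl_add_right, hra, h2, h.hr]; ring
        · rw [bl_add_right, bl_add_right, bl_smul_right, hpa, hpb, h.hpr]; simp
        · rw [bl_add_right, bl_add_right, bl_smul_right, hra, h2, h.rr]; simp
        · rw [bl_add_right, bl_add_right, bl_smul_right, h1, hrb, bl_comm r' r, hβ]; simp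
      · set f : V →ₗ[F] (Fin 3 → F) := LinearMap.pi
          ![QuadraticMap.polarBilin (qPlus n F) p, QuadraticMap.polarBilin (qPlus n F) r,
            QuadraticMap.polarBilin (qPlus n F) r'] with hf
        have hker : ∀ w, w ∈ LinearMap.ker f ↔ bl p w = 0 ∧ bl r w = 0 ∧ bl r' w = 0 := by
          intro w
          simp only [hf, LinearMap.mem_ker, funext_iff, Fin.forall_fin_succ, LinearMap.pi_apply, Pi.zero_apply,
            bl_polar]
          simp
        obtain ⟨w, hwK, hQw⟩ : ∃ w ∈ LinearMap.ker f, Cfsg.quadFormPlus n F w ≠ 0 := by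
          by_contra hall
          push Not at hall
          set S := Submodule.span F (Set.range ![p, r, r'])
          have hle : LinearMap.ker f ≤ S := by
            intro x hx
            by_contra hxS
            obtain ⟨y, hxy, hy⟩ := exists_sep_bl hxS
            have hyK : y ∈ LinearMap.ker f := (hker y).2 ⟨hy p (Submodule.subset_span ⟨0, rfl⟩),
              hy r (Submodule.subset_span ⟨1, rfl⟩), hy r' (Submodule.subset_span ⟨2, rfl⟩)⟩
            have := hall _ (add_mem hx hyK)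
            rw [qf_add, hall _ hx, hall _ hyK, hxy] at this
            simp at this
          have hdimV : Module.finrank F V = 2 * n := by simp [two_mul]
          have hdim := LinearMap.finrank_range_add_finrank_ker f
          have hr3 : Module.finrank F (LinearMap.range f) ≤ 3 := by
            have := Submodule.finrank_le (LinearMap.range f)
            simpa using this
          have hS3 : Module.finrank F S ≤ 3 := by
            have := finrank_range_le_card (R := F) ![p, r, r']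
            simpa [Set.finrank] using this
          have heq : LinearMap.ker f = S := Submodule.eq_of_le_of_finrank_le hle (by omega)
          have hrK : r ∈ LinearMap.ker f := heq ▸ Submodule.subset_span ⟨1, rfl⟩
          exact hβ (by rw [bl_comm]; exact ((hker r).1 hrK).2.2)
        obtain ⟨hpw, hrw, hr'w⟩ := (hker w).1 hwK
        refine ⟨(bl r r')⁻¹ • r' + w + (-Cfsg.quadFormPlus n F w) • r, ?_, ?_, ?_, ?_⟩
        · simp only [qf_add, qf_smul, bl_add_left, bl_smul_left, bl_smul_right, h.hr, h'.hr, hr'w, bl_comm r' r,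
            bl_comm w r, hrw]
          field_simp
          ring
        · simp only [bl_add_right, bl_smul_right, hpw, h'.hpr, h.hpr]; ring
        · simp only [bl_add_right, bl_smul_right, hrw, h.rr]; simp [hβ]
        · simp only [bl_add_right, bl_smul_right, hr'w, h'.rr, bl_comm r' r]; simp [hQw, hβ]
    · exact ⟨b, hb, hpb, h2, by rw [hrb]; exact one_ne_zero⟩
  · exact ⟨a, ha, hpa, by rw [hra]; exact one_ne_zero, h1⟩

theorem adj {p r p' r' : V} (h : TS p r) (hli : LinearIndependent F ![p, r]) (h' : TS p' r')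
    (hli' : LinearIndependent F ![p', r']) (hD : dd p r p' r' ≠ 0) :
    FAdj (fam n F) (rootGrp p r) (rootGrp p' r') := by
  obtain ⟨φ, hφ, hU, hL⟩ := rankOne h hli h' hli' hD
  exact ⟨⟨p, r, hli, h, rfl⟩, ⟨p', r', hli', h', rfl⟩, hU ▸ hL ▸ (SLTrans.rankOne_of_hom φ hφ).1⟩

theorem path_shared (hn : 3 ≤ n) {p r r' : V} (h : TS p r) (hli : LinearIndependent F ![p, r]) (h' : TS p r')
    (hli' : LinearIndependent F ![p, r']) :
    Relation.ReflTransGen (FAdj (fam n F)) (rootGrp p r) (rootGrp p r') := by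
  obtain ⟨u, hu, hpu, hru, hr'u⟩ := exists_common hn h hli h' hli'
  have hpn : p ∉ Submodule.span F {u} := by
    rw [Submodule.mem_span_singleton]
    rintro ⟨c, hc⟩
    have := h.rp
    rw [← hc, bl_smul_right, mul_eq_zero] at this
    rcases this with h0 | h0
    · exact hli.ne_zero 0 (show p = 0 by rw [← hc, h0, zero_smul])
    · exact hru h0
  obtain ⟨v₀, hv₀, hvu⟩ := exists_sep_bl hpn
  set v := v₀ + (-Cfsg.quadFormPlus n F v₀) • p with hv
  have hpv : bl p v = 1 := by rw [hv, bl_add_right, bl_smul_right, hv₀, h.pp]; ring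
  have huv : TS v u := by
    refine ⟨?_, hu, ?_⟩
    · rw [hv, qf_add, qf_smul, bl_smul_right, bl_comm v₀ p, hv₀, h.hp]; ring
    · rw [hv, bl_add_left, bl_smul_left, bl_comm v₀ u, hvu u (Submodule.mem_span_singleton_self u), hpu]; ring
  have hlu : LinearIndependent F ![v, u] := by
    rw [LinearIndependent.pair_iff]
    intro s t hst
    have e1 := congrArg (fun w => bl p w) hst
    simp only [bl_add_right, bl_smul_right, hpv, hpu] at e1
    have hs : s = 0 := by
      have h00 : bl p (0 : V) = 0 := by rw [bl_comm, bl_zero_left]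
      linear_combination e1 + h00
    have hu0 : u ≠ 0 := fun e => hru (by rw [e, bl_comm, bl_zero_left])
    rw [hs, zero_smul, zero_add, smul_eq_zero] at hst
    exact ⟨hs, hst.resolve_right hu0⟩
  have hd : ∀ x : V, bl x u ≠ 0 → dd p x v u ≠ 0 := fun x hx => by
    simp [dd, hpu, hpv, hx]
  exact (Relation.ReflTransGen.single (adj h hli huv hlu (hd r hru))).tail
    (adj huv hlu h' hli' (by rw [dd_symm]; exact hd r' hr'u))

theorem path (hn : 3 ≤ n) {p r p' r' : V} (h : TS p r) (hli : LinearIndependent F ![p, r]) (h' : TS p' r')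
    (hli' : LinearIndependent F ![p', r']) :
    Relation.ReflTransGen (FAdj (fam n F)) (rootGrp p r) (rootGrp p' r') := by
  obtain ⟨a, b, c, d, hne, hx⟩ : ∃ a b c d : F, a * d - b * c ≠ 0 ∧ bl p (a • p' + b • r') = 0 := by
    by_cases h0 : bl p p' = 0
    · exact ⟨1, 0, 0, 1, by norm_num, by simp [h0]⟩
    · exact ⟨bl p r', -bl p p', 1, 0, by simpa using h0, by simp only [bl_add_right, bl_smul_right]; ring⟩
  set x := a • p' + b • r' with hxd
  set y := c • p' + d • r' with hyd
  have hxy : TS x y := h'.comb a b c d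
  have hX : xm x y = (a * d - b * c) • xm p' r' := xm_comb p' r' a b c d
  have hlxy : LinearIndependent F ![x, y] :=
    li_of_xm (by rw [hX]; exact smul_ne_zero hne (xm_ne_zero hli'))
  have e : rootGrp x y = rootGrp p' r' := rootGrp_congr h' hli' hxy hlxy hX
  rw [← e]
  have hpx : TS p x := ⟨h.hp, hxy.hp, hx⟩
  by_cases hl : LinearIndependent F ![p, x]
  · have hswap : ∀ {u w : V}, TS u w → LinearIndependent F ![u, w] → rootGrp w u = rootGrp u w := by
      intro u w hu hlu
      have : xm w u = (-1 : F) • xm u w := by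
        rw [xm, xm]; module
      exact rootGrp_congr hu hlu hu.symm (li_of_xm (by rw [this]; exact smul_ne_zero (by simp) (xm_ne_zero hlu))) this
    have h1 := path_shared hn h hli hpx hl
    have hl' : LinearIndependent F ![x, p] := LinearIndependent.pair_symm_iff.1 hl
    have h2 := path_shared hn hpx.symm hl' hxy hlxy
    rw [hswap hpx hl] at h2
    exact h1.trans h2
  · rw [LinearIndependent.pair_iff'] at hl
    · push Not at hl
      obtain ⟨t, ht⟩ := hl
      have hx0 : x ≠ 0 := hlxy.ne_zero 0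
      have ht0 : t ≠ 0 := fun e => hx0 (by rw [← ht, e, zero_smul])
      have hpy : TS p y := ⟨h.hp, hxy.hr, by
        have := hxy.hpr
        rw [← ht, bl_smul_left, mul_eq_zero] at this
        exact this.resolve_left ht0⟩
      have e' : xm x y = t • xm p y := by
        rw [← ht]
        refine mat_ext fun v => ?_
        simp only [smul_mulVec, xm_mulVec, bl_smul_left]
        module
      have hlpy : LinearIndependent F ![p, y] := li_of_xm fun e0 => xm_ne_zero hlxy (by rw [e', e0, smul_zero])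
      rw [rootGrp_congr hpy hlpy hxy hlxy e']
      exact path_shared hn h hli hpy hlpy
    · exact hli.ne_zero 0

theorem closure_eq (p r : V) :
    Subgroup.closure {σ : O | ∀ v : V,
      Cfsg.quadFormPlus n F (v + p) - Cfsg.quadFormPlus n F v - Cfsg.quadFormPlus n F p = 0 →
      Cfsg.quadFormPlus n F (v + r) - Cfsg.quadFormPlus n F v - Cfsg.quadFormPlus n F r = 0 →
        σ.1.1 *ᵥ v = v} = rootGrp p r :=
  Subgroup.closure_eq (rootGrp p r)

theorem fam_eq : {A : Subgroup O | ∃ p r : V, LinearIndependent F ![p, r] ∧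
      Cfsg.quadFormPlus n F p = 0 ∧ Cfsg.quadFormPlus n F r = 0 ∧ Cfsg.quadFormPlus n F (p + r) = 0 ∧
      A = Subgroup.closure {σ : O | ∀ v : V,
        Cfsg.quadFormPlus n F (v + p) - Cfsg.quadFormPlus n F v - Cfsg.quadFormPlus n F p = 0 →
        Cfsg.quadFormPlus n F (v + r) - Cfsg.quadFormPlus n F v - Cfsg.quadFormPlus n F r = 0 →
          σ.1.1 *ᵥ v = v}} = fam n F := by
  ext A
  constructor
  · rintro ⟨p, r, hli, hp, hr, hpr, rfl⟩
    exact ⟨p, r, hli, ⟨hp, hr, by simp [bl, hp, hr, hpr]⟩, closure_eq p r⟩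
  · rintro ⟨p, r, hli, h, rfl⟩
    exact ⟨p, r, hli, h.hp, h.hr, by rw [qf_add, h.hp, h.hr, h.hpr]; ring, (closure_eq p r).symm⟩

theorem main (hn : 3 ≤ n) :
    IsKRootSubgroupSet F ((fun A => A.subgroupOf (⨆ B ∈ fam n F, B)) '' fam n F) ∧
      IsConnectedFamily (FAdj (fam n F)) (fam n F) := by
  set H := ⨆ B ∈ fam n F, B
  set S := (fun A => A.subgroupOf H) '' fam n F
  have hle : ∀ A ∈ fam n F, A ≤ H := fun A hA => le_iSup₂ (f := fun A (_ : A ∈ fam n F) => A) A hA
  have hnb : ∀ A ∈ fam n F, A.subgroupOf H ≠ ⊥ := fun A hA e =>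
    ne_bot hA (by rw [← map_sub (hle A hA), e, Subgroup.map_bot])
  have hrk : ∀ p r p' r' : V, ∀ (h : TS p r) (hli : LinearIndependent F ![p, r]) (h' : TS p' r')
      (hli' : LinearIndependent F ![p', r']), dd p r p' r' ≠ 0 →
      IsRankOnePair ((rootGrp p r).subgroupOf H) ((rootGrp p' r').subgroupOf H) ∧
        IsPSL2PairOver F ((rootGrp p r).subgroupOf H) ((rootGrp p' r').subgroupOf H) := by
    intro p r p' r' h hli h' hli' hD
    obtain ⟨φ, hφ, hU, hL⟩ := rankOne h hli h' hli' hD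
    have hrange : ∀ g, φ g ∈ H := by
      intro g
      have hg : g ∈ lowerUnipotentSL2 F ⊔ upperUnipotentSL2 F := by rw [sup_eq_top]; trivial
      have := Subgroup.mem_map_of_mem φ hg
      rw [Subgroup.map_sup, hU, hL] at this
      exact sup_le (hle _ ⟨p', r', hli', h', rfl⟩) (hle _ ⟨p, r, hli, h, rfl⟩) this
    let φ' : SpecialLinearGroup (Fin 2) F →* H := φ.codRestrict H hrange
    have hφ' : Function.Injective φ' := fun x y e => hφ (congrArg Subtype.val e)
    have hsub : ∀ (U : Subgroup (SpecialLinearGroup (Fin 2) F)) (C : Subgroup O),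
        U.map φ = C → U.map φ' = C.subgroupOf H := by
      rintro U C rfl
      ext x
      simp only [Subgroup.mem_map, Subgroup.mem_subgroupOf]
      exact exists_congr fun y => and_congr_right fun _ => Subtype.ext_iff
    have hp := SLTrans.rankOne_of_hom φ' hφ'
    rwa [hsub _ _ hU, hsub _ _ hL] at hp
  refine ⟨⟨⟨?_, ?_, ?_, ?_, ?_⟩, ?_⟩, ?_⟩
  · rintro _ ⟨A, hA, rfl⟩
    have := commutative hA
    refine ⟨⟨fun x y => Subtype.ext (Subtype.ext ?_)⟩⟩
    show x.1.1 * y.1.1 = y.1.1 * x.1.1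
    exact congrArg Subtype.val (this.is_comm.comm (⟨x.1.1, x.2⟩ : A) ⟨y.1.1, y.2⟩)
  · rintro _ ⟨A, hA, rfl⟩
    exact hnb A hA
  · refine Subgroup.map_injective H.subtype_injective ?_
    rw [← MonoidHom.range_eq_map, Subgroup.range_subtype]
    simp only [Subgroup.map_iSup]
    refine le_antisymm (iSup₂_le ?_) (iSup₂_le fun A hA => ?_)
    · rintro _ ⟨A, hA, rfl⟩
      rw [map_sub (hle A hA)]; exact hle A hA
    · exact le_trans (map_sub (hle A hA)).ge
        (le_iSup₂ (f := fun X (_ : X ∈ S) => X.map H.subtype) _ ⟨A, hA, rfl⟩)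
  · rintro _ ⟨A, hA, rfl⟩ g
    refine ⟨conjBy A (g : O), conj_mem hA _, ?_⟩
    ext x
    simp only [Subgroup.mem_subgroupOf, mem_conjBy, Subgroup.coe_mul, Subgroup.coe_inv]
  · rintro _ ⟨_, ⟨p, r, hli, h, rfl⟩, rfl⟩ _ ⟨_, ⟨p', r', hli', h', rfl⟩, rfl⟩
    have hA := hle _ (⟨p, r, hli, h, rfl⟩ : rootGrp p r ∈ fam n F)
    have hB := hle _ (⟨p', r', hli', h', rfl⟩ : rootGrp p' r' ∈ fam n F)
    by_cases hZ : xm p r * xm p' r' - xm p' r' * xm p r = 0
    · exact Or.inl ((commutator_subgroupOf hA hB bot_le (commute_of h hli h' hli' hZ)).trans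
        (Subgroup.bot_subgroupOf _))
    by_cases hD : dd p r p' r' = 0
    · obtain ⟨u, v, hluv, huv, hC, hcA, hcB, hs, ht⟩ := commutatorCase h hli h' hli' hD hZ
      have hmem : rootGrp u v ∈ fam n F := ⟨u, v, hluv, huv, rfl⟩
      exact Or.inr (Or.inr (rootCommutatorCase_subgroupOf hA hB (hle _ hmem) hC ⟨_, hmem, rfl⟩ hcA hcB hs ht))
    · exact Or.inr (Or.inl (hrk p r p' r' h hli h' hli' hD).1)
  · rintro _ ⟨_, ⟨p, r, hli, h, rfl⟩, rfl⟩ _ ⟨_, ⟨p', r', hli', h', rfl⟩, rfl⟩ hp
    refine (hrk p r p' r' h hli h' hli' fun hD => ?_).2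
    have hA := hle _ (⟨p, r, hli, h, rfl⟩ : rootGrp p r ∈ fam n F)
    have hB := hle _ (⟨p', r', hli', h', rfl⟩ : rootGrp p' r' ∈ fam n F)
    by_cases hZ : xm p r * xm p' r' - xm p' r' * xm p r = 0
    · obtain ⟨x, hx, hx1⟩ := (Subgroup.bot_or_exists_ne_one _).resolve_left (hnb _ ⟨p, r, hli, h, rfl⟩)
      obtain ⟨y, hy, hy1⟩ := (Subgroup.bot_or_exists_ne_one _).resolve_left (hnb _ ⟨p', r', hli', h', rfl⟩)
      exact hx1 (eq_one_of_commute hp hx hy hy1 (commute_of_commutator_eq_bot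
        ((commutator_subgroupOf hA hB bot_le (commute_of h hli h' hli' hZ)).trans (Subgroup.bot_subgroupOf _)) hx hy))
    · refine not_rankOne h hli h' hli' hD hZ ?_
      have hinj := Subgroup.map_injective H.subtype_injective
      have key : ∀ (U : Subgroup H) (g : H), (conjBy U g).map H.subtype = conjBy (U.map H.subtype) (g : O) := by
        intro U g
        show (U.map _).map H.subtype = (U.map H.subtype).map _
        rw [Subgroup.map_map, Subgroup.map_map]
        rfl
      refine ⟨fun e => hp.ne (by rw [e]), ?_, ?_, ?_, ?_⟩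
      · have := commutative (⟨p, r, hli, h, rfl⟩ : rootGrp p r ∈ fam n F)
        exact RankOneSL2.nilp _
      · have := commutative (⟨p', r', hli', h', rfl⟩ : rootGrp p' r' ∈ fam n F)
        exact RankOneSL2.nilp _
      · intro a ha ha1
        obtain ⟨b, hb, hb1, he⟩ := hp.cond_left ⟨a, hA ha⟩ ha (fun e => ha1 (congrArg Subtype.val e))
        refine ⟨b, hb, fun e => hb1 (Subtype.ext e), ?_⟩
        have := congrArg (Subgroup.map H.subtype) he
        rwa [key, key, map_sub hA, map_sub hB] at this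
      · intro a ha ha1
        obtain ⟨b, hb, hb1, he⟩ := hp.cond_right ⟨a, hB ha⟩ ha (fun e => ha1 (congrArg Subtype.val e))
        refine ⟨b, hb, fun e => hb1 (Subtype.ext e), ?_⟩
        have := congrArg (Subgroup.map H.subtype) he
        rwa [key, key, map_sub hA, map_sub hB] at this
  · rintro _ ⟨p, r, hli, h, rfl⟩ _ ⟨p', r', hli', h', rfl⟩
    exact path hn h hli h' hli'

end CfsgLib.ThreeTrans.SiegelTrans
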