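import Mathlib
import Cfsg.Prelude.Def_Sporadic_a

set_option autoImplicit false

/-!
Elementary counting in Steiner systems (owner: helper28).
-/

namespace CfsgLib.ThreeTrans

open Finset

variable {α : Type*} [DecidableEq α]

theorem card_subsets_containing {T b : Finset α} (hTb : T ⊆ b) {m : ℕ} (hm : T.card ≤ m) :
    ((b.powersetCard m).filter (fun S => T ⊆ S)).card = (b.card - T.card).choose (m - T.card) := by
  rw [← Finset.card_sdiff_of_subset hTb, ← Finset.card_powersetCard]
  refine Finset.card_bij' (fun S _ => S \ T) (fun S _ => S ∪ T) ?_ ?_ ?_ ?_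
  · intro S hS
    simp only [mem_filter, mem_powersetCard] at hS ⊢
    exact ⟨sdiff_subset_sdiff hS.1.1 le_rfl, by rw [card_sdiff_of_subset hS.2, hS.1.2]⟩
  · intro S hS
    simp only [mem_filter, mem_powersetCard] at hS ⊢
    have hd : Disjoint S T := Finset.disjoint_left.2 fun x hx => (mem_sdiff.1 (hS.1 hx)).2
    exact ⟨⟨union_subset (hS.1.trans sdiff_subset) hTb, by rw [card_union_of_disjoint hd, hS.2]; omega⟩,
      subset_union_right⟩
  · intro S hS
    simp only [mem_filter, mem_powersetCard] at hS
    exact sdiff_union_of_subset hS.2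
  · intro S hS
    simp only [mem_filter, mem_powersetCard] at hS
    exact union_sdiff_cancel_right (Finset.disjoint_left.2 fun x hx => (mem_sdiff.1 (hS.1 hx)).2)

variable [Fintype α]

open Classical in
/-- The blocks as a finset. -/
noncomputable def blocksF (B : Set (Finset α)) : Finset (Finset α) := Finset.univ.filter (· ∈ B)

theorem mem_blocksF {B : Set (Finset α)} {b : Finset α} : b ∈ blocksF B ↔ b ∈ B := by
  simp [blocksF]

/-- The blocks through a given set of at most `t` points. -/
theorem steiner_count {t k : ℕ} {B : Set (Finset α)} (hB : Cfsg.IsSteinerSystem t k B) {T : Finset α}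
    (hT : T.card ≤ t) :
    ((blocksF B).filter (T ⊆ ·)).card * (k - T.card).choose (t - T.card) =
      (Fintype.card α - T.card).choose (t - T.card) := by
  classical
  obtain ⟨hk, hu⟩ := hB
  rw [← Finset.card_univ, ← card_subsets_containing (subset_univ T) hT]
  set F := ((univ : Finset α).powersetCard t).filter (fun S => T ⊆ S)
  have hF : F = ((blocksF B).filter (T ⊆ ·)).biUnion fun b => (b.powersetCard t).filter (fun S => T ⊆ S) := by
    ext S
    simp only [F, mem_filter, mem_powersetCard, mem_biUnion, mem_blocksF, subset_univ, true_and]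
    constructor
    · rintro ⟨hS, hTS⟩
      obtain ⟨b, ⟨hb, hSb⟩, -⟩ := hu S hS
      exact ⟨b, ⟨hb, hTS.trans hSb⟩, ⟨hSb, hS⟩, hTS⟩
    · rintro ⟨b, -, ⟨-, hS⟩, hTS⟩
      exact ⟨hS, hTS⟩
  rw [hF, card_biUnion, sum_const_nat]
  · intro b hb
    simp only [mem_filter, mem_blocksF] at hb
    rw [card_subsets_containing hb.2 hT, hk b hb.1]
  · intro b hb b' hb' hne
    simp only [coe_filter, Set.mem_setOf_eq, mem_blocksF] at hb hb'
    refine Finset.disjoint_left.2 fun S hS hS' => hne ?_
    simp only [mem_filter, mem_powersetCard] at hS hS'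
    exact (hu S hS.1.2).unique ⟨hb.1, hS.1.1⟩ ⟨hb'.1, hS'.1.1⟩

/-- Double counting of the pairs (block, `j`-subset of its trace on `Y`). -/
theorem sum_choose_inter (B : Set (Finset α)) (Y : Finset α) (j : ℕ) :
    ∑ b ∈ blocksF B, (b ∩ Y).card.choose j =
      ∑ T ∈ Y.powersetCard j, ((blocksF B).filter (T ⊆ ·)).card := by
  have h : ∀ b : Finset α, (b ∩ Y).card.choose j = ((Y.powersetCard j).filter (· ⊆ b)).card := by
    intro b
    rw [← card_powersetCard]
    congr 1
    ext S
    simp only [mem_powersetCard, mem_filter, subset_inter_iff]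
    tauto
  simp only [h, card_filter]
  rw [sum_comm]

end CfsgLib.ThreeTrans
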