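import Cfsg.Agent.Lib.ThreeTrans.SLTrans
import Cfsg.Agent.Lib.Classical.Symplectic.MatrixTransvection

/-!
The groups of symplectic transvections as abstract transvection groups.
-/

set_option autoImplicit false
set_option linter.unusedSimpArgs false

namespace CfsgLib.ThreeTrans.SympTrans

open Cfsg Matrix CfsgLib.ThreeTrans.RankOneSL2 CfsgLib.Classical.Symp
open scoped commutatorElement

variable {F : Type*} [Field F]

/-- A pair of square zero elements with `ABA = A`, `BAB = B` gives a representation of `SL₂`. -/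
theorem exists_ringHom {R : Type*} [Ring R] [Algebra F R] {A B : R} (hA : A * A = 0) (hB : B * B = 0)
    (hABA : A * B * A = A) (hBAB : B * A * B = B) (hne : A ≠ 0) :
    ∃ f : SpecialLinearGroup (Fin 2) F →* R, Function.Injective f ∧
      (∀ t, f (upperEl t) = 1 + t • A) ∧ ∀ t, f (lowerEl t) = 1 + t • B := by
  have hA' : ∀ z, A * (A * z) = 0 := fun z => by rw [← mul_assoc, hA, zero_mul]
  have hB' : ∀ z, B * (B * z) = 0 := fun z => by rw [← mul_assoc, hB, zero_mul]
  have h1' : ∀ z, A * (B * (A * z)) = A * z := fun z => by rw [← mul_assoc, ← mul_assoc, hABA]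
  have h2' : ∀ z, B * (A * (B * z)) = B * z := fun z => by rw [← mul_assoc, ← mul_assoc, hBAB]
  have h1 : A * (B * A) = A := by rw [← mul_assoc, hABA]
  have h2 : B * (A * B) = B := by rw [← mul_assoc, hBAB]
  let f : SpecialLinearGroup (Fin 2) F →* R :=
    { toFun := fun g => 1 + (g.1 0 0 - 1) • (A * B) + g.1 0 1 • A + g.1 1 0 • B + (g.1 1 1 - 1) • (B * A)
      map_one' := by simp
      map_mul' := fun g g' => by
        simp only [Matrix.SpecialLinearGroup.coe_mul, Matrix.mul_apply, Fin.sum_univ_two, mul_add, add_mul,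
          one_mul, mul_one, mul_assoc, smul_mul_assoc, mul_smul_comm, hA, hB, hA', hB', h1, h2, h1', h2',
          smul_zero, add_zero, zero_add, mul_zero, smul_smul]
        module }
  refine ⟨f, fun g g' hg => ?_, fun t => by simp [f, upperEl], fun t => by simp [f, lowerEl]⟩
  have hAB : A * B ≠ 0 := fun e => hne (by rw [← hABA, e, zero_mul])
  have hBA : B * A ≠ 0 := fun e => hne (by rw [← hABA, mul_assoc, e, mul_zero])
  have hB0 : B ≠ 0 := fun e => hAB (by rw [e, mul_zero])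
  change 1 + (g.1 0 0 - 1) • (A * B) + g.1 0 1 • A + g.1 1 0 • B + (g.1 1 1 - 1) • (B * A) =
    1 + (g'.1 0 0 - 1) • (A * B) + g'.1 0 1 • A + g'.1 1 0 • B + (g'.1 1 1 - 1) • (B * A) at hg
  have e00 := congrArg (fun M => A * B * M * (A * B)) hg
  have e01 := congrArg (fun M => A * B * M * (B * A)) hg
  have e10 := congrArg (fun M => B * A * M * (A * B)) hg
  have e11 := congrArg (fun M => B * A * M * (B * A)) hg
  simp only [mul_add, add_mul, mul_one, one_mul, mul_assoc, smul_mul_assoc, mul_smul_comm, hA, hB, hA', hB',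
    h1, h2, h1', h2', smul_zero, add_zero, zero_add, mul_zero, sub_smul, one_smul, mul_sub, sub_mul,
    add_sub_cancel, sub_self] at e00 e01 e10 e11
  ext i j
  fin_cases i <;> fin_cases j
  · exact smul_left_injective F hAB e00
  · exact smul_left_injective F hne e01
  · exact smul_left_injective F hB0 e10
  · exact smul_left_injective F hBA e11

variable {m : ℕ}

/-- The matrix `p (J p)`. -/
noncomputable def dyJ (p : Fin m ⊕ Fin m → F) : Matrix (Fin m ⊕ Fin m) (Fin m ⊕ Fin m) F :=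
  vecMulVec p (J (Fin m) F *ᵥ p)

/-- The alternating form. -/
noncomputable def om (p q : Fin m ⊕ Fin m → F) : F := (J (Fin m) F *ᵥ p) ⬝ᵥ q

theorem om_eq (p q : Fin m ⊕ Fin m → F) : om p q = sympBil m F q p := by
  rw [sympBil_apply, Cfsg.sympForm, om, dotProduct_comm]

theorem om_self (p : Fin m ⊕ Fin m → F) : om p p = 0 := by
  rw [om_eq]; exact sympBil_isAlt m F p

theorem om_swap (p q : Fin m ⊕ Fin m → F) : om q p = -om p q := by
  rw [om_eq, om_eq, swap (sympBil_isAlt m F)]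

theorem dyJ_mul (p q : Fin m ⊕ Fin m → F) :
    dyJ p * dyJ q = om p q • vecMulVec p (J (Fin m) F *ᵥ q) := by
  simp only [dyJ, om, vecMulVec_mul_vecMulVec, vecMulVec_smul]

theorem dyJ_sq (p : Fin m ⊕ Fin m → F) : dyJ p * dyJ p = 0 := by rw [dyJ_mul, om_self, zero_smul]

theorem dyJ_triple (p q : Fin m ⊕ Fin m → F) : dyJ p * dyJ q * dyJ p = (om p q * om q p) • dyJ p := by
  rw [dyJ_mul, smul_mul_assoc]
  simp only [dyJ, vecMulVec_mul_vecMulVec, vecMulVec_smul, smul_smul, om]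

theorem dyJ_ne_zero {p : Fin m ⊕ Fin m → F} (hp : p ≠ 0) : dyJ p ≠ 0 := by
  intro h
  rcases vecMulVec_eq_zero.1 h with h | h
  · exact hp h
  · exact hp (Matrix.eq_zero_of_mulVec_eq_zero (det_J_ne_zero m F) h)

/-- The group of transvections with a given centre. -/
noncomputable def spGroup (p : Fin m ⊕ Fin m → F) : Subgroup ↥(Matrix.symplecticGroup (Fin m) F) where
  carrier := {g | ∃ c : F, (g : Matrix (Fin m ⊕ Fin m) (Fin m ⊕ Fin m) F) = 1 + c • dyJ p}
  one_mem' := ⟨0, by simp⟩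
  mul_mem' := by
    rintro x y ⟨c, hc⟩ ⟨d, hd⟩
    refine ⟨c + d, ?_⟩
    rw [Submonoid.coe_mul, hc, hd]
    simp only [mul_add, add_mul, mul_one, one_mul, smul_mul_assoc, mul_smul_comm, dyJ_sq, smul_zero, add_zero,
      add_smul, add_assoc]
  inv_mem' := by
    rintro x ⟨c, hc⟩
    refine ⟨-c, ?_⟩
    rw [SymplecticGroup.coe_inv', hc]
    refine Matrix.inv_eq_right_inv ?_
    simp only [mul_add, add_mul, mul_one, one_mul, smul_mul_assoc, mul_smul_comm, dyJ_sq, smul_zero, add_zero,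
      neg_smul, mul_neg, neg_zero]
    abel

theorem mem_spGroup {p : Fin m ⊕ Fin m → F} {g : ↥(Matrix.symplecticGroup (Fin m) F)} :
    g ∈ spGroup p ↔ ∃ c : F, (g : Matrix (Fin m ⊕ Fin m) (Fin m ⊕ Fin m) F) = 1 + c • dyJ p := Iff.rfl

theorem exists_mem_spGroup (p : Fin m ⊕ Fin m → F) (c : F) :
    ∃ g ∈ spGroup p, (g : Matrix (Fin m ⊕ Fin m) (Fin m ⊕ Fin m) F) = 1 + c • dyJ p :=
  ⟨⟨_, sympTransvection_mem p c⟩, ⟨c, rfl⟩, rfl⟩

theorem spGroup_ne_bot {p : Fin m ⊕ Fin m → F} (hp : p ≠ 0) : spGroup p ≠ ⊥ := by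
  intro e
  obtain ⟨g, hg, hv⟩ := exists_mem_spGroup p 1
  rw [e, Subgroup.mem_bot] at hg
  rw [hg, Submonoid.coe_one, one_smul, left_eq_add] at hv
  exact dyJ_ne_zero hp hv

theorem isMulCommutative_spGroup (p : Fin m ⊕ Fin m → F) : IsMulCommutative (spGroup p) := by
  refine ⟨⟨fun x y => Subtype.ext (Subtype.ext ?_)⟩⟩
  obtain ⟨c, hc⟩ := x.2
  obtain ⟨d, hd⟩ := y.2
  show (x.1 : Matrix (Fin m ⊕ Fin m) (Fin m ⊕ Fin m) F) * y.1 = y.1 * x.1
  rw [hc, hd]
  simp only [mul_add, add_mul, mul_one, one_mul, smul_mul_assoc, mul_smul_comm, dyJ_sq, smul_zero]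
  abel

theorem commutator_eq_bot {p q : Fin m ⊕ Fin m → F} (h : om p q = 0) : ⁅spGroup p, spGroup q⁆ = ⊥ := by
  refine Subgroup.commutator_eq_bot_iff_le_centralizer.2 fun x hx' => Subgroup.mem_centralizer_iff.2 fun y hy' => ?_
  obtain ⟨c, hc⟩ := hx'
  obtain ⟨d, hd⟩ := hy'
  apply Subtype.ext
  rw [Submonoid.coe_mul, Submonoid.coe_mul, hc, hd]
  simp only [mul_add, add_mul, mul_one, one_mul, smul_mul_assoc, mul_smul_comm, dyJ_mul, om_swap p q, h,
    zero_smul, neg_zero, smul_zero]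
  abel

theorem conjBy_spGroup (g : ↥(Matrix.symplecticGroup (Fin m) F)) (p : Fin m ⊕ Fin m → F) :
    conjBy (spGroup p) g = spGroup ((g : Matrix (Fin m ⊕ Fin m) (Fin m ⊕ Fin m) F) *ᵥ p) := by
  have key : ∀ (x : ↥(Matrix.symplecticGroup (Fin m) F)) (c : F),
      (x : Matrix (Fin m ⊕ Fin m) (Fin m ⊕ Fin m) F) = 1 + c • dyJ p →
      ((g * x * g⁻¹ : ↥(Matrix.symplecticGroup (Fin m) F)) : Matrix (Fin m ⊕ Fin m) (Fin m ⊕ Fin m) F) =
        1 + c • dyJ ((g : Matrix (Fin m ⊕ Fin m) (Fin m ⊕ Fin m) F) *ᵥ p) := by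
    intro x c hx
    set G := (g : Matrix (Fin m ⊕ Fin m) (Fin m ⊕ Fin m) F)
    set G' := ((g⁻¹ : ↥(Matrix.symplecticGroup (Fin m) F)) : Matrix (Fin m ⊕ Fin m) (Fin m ⊕ Fin m) F)
    have hGG : G * G' = 1 := by rw [← Submonoid.coe_mul, mul_inv_cancel, Submonoid.coe_one]
    have hJ : (J (Fin m) F *ᵥ p) ᵥ* G' = J (Fin m) F *ᵥ (G *ᵥ p) := by
      have h := (SymplecticGroup.mem_iff' (l := Fin m) (R := F)).1 g.2
      have e : G'ᵀ * J (Fin m) F = J (Fin m) F * G := by
        calc G'ᵀ * J (Fin m) F = G'ᵀ * (Gᵀ * J (Fin m) F * G) := by rw [h]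
          _ = (G * G')ᵀ * (J (Fin m) F * G) := by rw [transpose_mul]; simp only [Matrix.mul_assoc]
          _ = J (Fin m) F * G := by rw [hGG, transpose_one, Matrix.one_mul]
      rw [← mulVec_transpose, mulVec_mulVec, e, mulVec_mulVec]
    rw [Submonoid.coe_mul, Submonoid.coe_mul, hx, mul_add, add_mul, mul_one, hGG, mul_smul_comm, smul_mul_assoc,
      dyJ, Matrix.mul_vecMulVec, vecMulVec_mul, hJ]
    rfl
  ext x
  rw [mem_conjBy, mem_spGroup, mem_spGroup]
  constructor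
  · rintro ⟨c, hc⟩
    refine ⟨c, ?_⟩
    have : x = g * (g⁻¹ * x * g) * g⁻¹ := by group
    rw [this]
    exact key _ c hc
  · rintro ⟨c, hc⟩
    obtain ⟨y, -, hy⟩ := exists_mem_spGroup p c
    refine ⟨c, ?_⟩
    have : x = g * y * g⁻¹ := Subtype.ext (by rw [key y c hy, hc])
    rw [this]
    rwa [show g⁻¹ * (g * y * g⁻¹) * g = y by group]

theorem rankOne {p q : Fin m ⊕ Fin m → F} (h : om p q ≠ 0) :
    IsRankOnePair (spGroup p) (spGroup q) ∧ IsPSL2PairOver F (spGroup p) (spGroup q) := by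
  have hp : p ≠ 0 := fun e => h (by simp [e, om])
  set τ := om p q * om q p
  have hτ : τ ≠ 0 := mul_ne_zero h (by rw [om_swap]; exact neg_ne_zero.2 h)
  obtain ⟨f₀, hf₀, hu, hl⟩ := exists_ringHom (F := F) (A := dyJ p) (B := τ⁻¹ • dyJ q) (dyJ_sq p)
    (by rw [smul_mul_assoc, mul_smul_comm, dyJ_sq, smul_zero, smul_zero])
    (by rw [mul_smul_comm, smul_mul_assoc, dyJ_triple, smul_smul, inv_mul_cancel₀ hτ, one_smul])
    (by rw [smul_mul_assoc, smul_mul_assoc, mul_smul_comm, dyJ_triple,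
        show om q p * om p q = τ from mul_comm _ _, smul_smul τ⁻¹ τ, inv_mul_cancel₀ hτ, one_smul])
    (dyJ_ne_zero hp)
  have hmem : ∀ g, f₀ g ∈ Matrix.symplecticGroup (Fin m) F := by
    intro g
    have hg : g ∈ lowerUnipotentSL2 F ⊔ upperUnipotentSL2 F := by rw [sup_eq_top]; trivial
    rw [Subgroup.sup_eq_closure] at hg
    induction hg using Subgroup.closure_induction with
    | mem x hx' =>
      rcases hx' with hx' | hx'
      · obtain ⟨t, rfl⟩ := mem_lower.1 hx'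
        rw [hl, smul_smul]
        exact sympTransvection_mem q _
      · obtain ⟨t, rfl⟩ := mem_upper.1 hx'
        rw [hu]
        exact sympTransvection_mem p _
    | one => rw [map_one]; exact one_mem _
    | mul x y _ _ hx' hy' => rw [map_mul]; exact mul_mem hx' hy'
    | inv x _ hx' =>
      have e1 : f₀ x * f₀ x⁻¹ = 1 := by rw [← map_mul, mul_inv_cancel, map_one]
      have e2 : f₀ x⁻¹ = ((⟨f₀ x, hx'⟩⁻¹ : ↥(Matrix.symplecticGroup (Fin m) F)) :
          Matrix (Fin m ⊕ Fin m) (Fin m ⊕ Fin m) F) := by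
        refine (left_inv_eq_right_inv ?_ e1).symm
        exact congrArg Subtype.val (inv_mul_cancel (⟨f₀ x, hx'⟩ : ↥(Matrix.symplecticGroup (Fin m) F)))
      rw [e2]
      exact Subtype.coe_prop _
  let f : SpecialLinearGroup (Fin 2) F →* ↥(Matrix.symplecticGroup (Fin m) F) := f₀.codRestrict _ hmem
  have hf : Function.Injective f := fun g g' e => hf₀ (congrArg Subtype.val e)
  have hU : (upperUnipotentSL2 F).map f = spGroup p := by
    ext x
    rw [Subgroup.mem_map, mem_spGroup]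
    constructor
    · rintro ⟨g, hg, rfl⟩
      obtain ⟨t, rfl⟩ := mem_upper.1 hg
      exact ⟨t, hu t⟩
    · rintro ⟨c, hc⟩
      exact ⟨upperEl c, mem_upper.2 ⟨c, rfl⟩, Subtype.ext ((hu c).trans hc.symm)⟩
  have hL : (lowerUnipotentSL2 F).map f = spGroup q := by
    ext x
    rw [Subgroup.mem_map, mem_spGroup]
    constructor
    · rintro ⟨g, hg, rfl⟩
      obtain ⟨t, rfl⟩ := mem_lower.1 hg
      exact ⟨_, (hl t).trans (by rw [smul_smul])⟩
    · rintro ⟨c, hc⟩
      refine ⟨lowerEl (c * τ), mem_lower.2 ⟨_, rfl⟩, Subtype.ext ((hl _).trans ?_)⟩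
      rw [hc, smul_smul, mul_assoc, mul_inv_cancel₀ hτ, mul_one]
  rw [← hU, ← hL]
  exact SLTrans.rankOne_of_hom f hf

theorem closure_eq (p : Fin (m + 1) ⊕ Fin (m + 1) → F) :
    Subgroup.closure {g : ↥(Matrix.symplecticGroup (Fin (m + 1)) F) | ∃ c : F, ∀ v : Fin (m + 1) ⊕ Fin (m + 1) → F,
      (g : Matrix (Fin (m + 1) ⊕ Fin (m + 1)) (Fin (m + 1) ⊕ Fin (m + 1)) F) *ᵥ v =
        v + (c * (v ⬝ᵥ (Matrix.J (Fin (m + 1)) F *ᵥ p))) • p} = spGroup p := by
  have key : ∀ (c : F) v, (1 + c • dyJ p) *ᵥ v = v + (c * (v ⬝ᵥ (Matrix.J (Fin (m + 1)) F *ᵥ p))) • p := by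
    intro c v
    rw [add_mulVec, one_mulVec, smul_mulVec, dyJ, vecMulVec_mulVec, dotProduct_comm v]
    simp [smul_smul]
  have hs : {g : ↥(Matrix.symplecticGroup (Fin (m + 1)) F) | ∃ c : F, ∀ v : Fin (m + 1) ⊕ Fin (m + 1) → F,
      (g : Matrix (Fin (m + 1) ⊕ Fin (m + 1)) (Fin (m + 1) ⊕ Fin (m + 1)) F) *ᵥ v =
        v + (c * (v ⬝ᵥ (Matrix.J (Fin (m + 1)) F *ᵥ p))) • p} =
      ((spGroup p : Subgroup ↥(Matrix.symplecticGroup (Fin (m + 1)) F)) :
        Set ↥(Matrix.symplecticGroup (Fin (m + 1)) F)) := by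
    ext g
    constructor
    · rintro ⟨c, hc⟩
      refine ⟨c, Matrix.toLin'.injective (LinearMap.ext fun v => ?_)⟩
      rw [Matrix.toLin'_apply, Matrix.toLin'_apply, hc, key]
    · rintro ⟨c, hc⟩
      exact ⟨c, fun v => by rw [hc, key]⟩
  rw [hs, Subgroup.closure_eq]

/-- The set of transvection groups. -/
def spSet (m : ℕ) (F : Type*) [Field F] : Set (Subgroup ↥(Matrix.symplecticGroup (Fin m) F)) :=
  {A | ∃ p : Fin m ⊕ Fin m → F, p ≠ 0 ∧ A = spGroup p}

theorem main (m : ℕ) :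
    IsRootSubgroupClass (spSet (m + 1) F) ∧ IsDegenerateRootSet (spSet (m + 1) F) ∧
      IsKRootSubgroupSet F (spSet (m + 1) F) ∧
      IsConnectedFamily (FAdj (spSet (m + 1) F)) (spSet (m + 1) F) := by
  have := nontrivial_sympSpace (F := F) (show 1 ≤ m + 1 by omega)
  have hA := sympBil_isAlt (m + 1) F
  have hB := sympBil_nondegenerate (m + 1) F
  have hconj : ∀ A ∈ spSet (m + 1) F, ∀ g, conjBy A g ∈ spSet (m + 1) F := by
    rintro A ⟨p, hp, rfl⟩ g
    refine ⟨_, fun e => hp ?_, conjBy_spGroup g p⟩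
    exact Matrix.eq_zero_of_mulVec_eq_zero (det_ne_zero_of_mem g.2) e
  have hset : IsRootSubgroupSet (spSet (m + 1) F) := by
    refine ⟨fun A ⟨p, _, e⟩ => e ▸ isMulCommutative_spGroup p, fun A ⟨p, hp, e⟩ => e ▸ spGroup_ne_bot hp, ?_,
      hconj, ?_⟩
    · refine top_le_iff.1 ?_
      rw [← closure_sympTransvection_eq_top, Subgroup.closure_le]
      rintro g ⟨w, c, hg⟩
      by_cases hw : w = 0
      · have : g = 1 := Subtype.ext (by rw [hg, hw]; simp [Cfsg.sympTransvection])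
        rw [this]; exact one_mem _
      · exact le_iSup₂ (f := fun A (_ : A ∈ spSet (m + 1) F) => A) _ ⟨w, hw, rfl⟩ ⟨c, hg⟩
    · rintro A ⟨p, hp, rfl⟩ B ⟨q, hq, rfl⟩
      by_cases h : om p q = 0
      · exact Or.inl (commutator_eq_bot h)
      · exact Or.inr (Or.inl (rankOne h).1)
  have hrank : ∀ p q : Fin (m + 1) ⊕ Fin (m + 1) → F, p ≠ 0 → q ≠ 0 →
      IsRankOnePair (spGroup p) (spGroup q) → om p q ≠ 0 := by
    intro p q hp hq hpq h
    obtain ⟨x, hx', hx1⟩ := (Subgroup.bot_or_exists_ne_one _).resolve_left (spGroup_ne_bot hp)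
    obtain ⟨y, hy', hy1⟩ := (Subgroup.bot_or_exists_ne_one _).resolve_left (spGroup_ne_bot hq)
    exact hx1 (eq_one_of_commute hpq hx' hy' hy1 (commute_of_commutator_eq_bot (commutator_eq_bot h) hx' hy'))
  refine ⟨⟨hset, ?_, ?_⟩, ?_, ⟨hset, ?_⟩, ?_⟩
  · obtain ⟨p, hp⟩ := exists_ne (0 : Fin (m + 1) ⊕ Fin (m + 1) → F)
    exact ⟨_, p, hp, rfl⟩
  · rintro A ⟨p, hp, rfl⟩ B ⟨q, hq, rfl⟩
    obtain ⟨t, -, ht⟩ := sp_transitive_ne_zero hA hB hp hq
    refine ⟨(symplecticEquiv (m + 1) F).symm t, ?_⟩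
    rw [conjBy_spGroup, symplecticEquiv_symm_mulVec, ht]
  · rintro A ⟨p, hp, rfl⟩ B ⟨q, hq, rfl⟩ ⟨⟨r, hr, hC⟩, hcen, -, -⟩
    by_cases h : om p q = 0
    · exact spGroup_ne_bot hr (hC.symm.trans (commutator_eq_bot h))
    · have hrq := (rankOne h).1
      obtain ⟨c, hc, hc1⟩ := (Subgroup.bot_or_exists_ne_one _).resolve_left (hC ▸ spGroup_ne_bot hr :
        ⁅spGroup p, spGroup q⁆ ≠ ⊥)
      obtain ⟨z, hz, hzv⟩ := exists_mem_spGroup r 1
      have hzc : z ∈ ⁅spGroup p, spGroup q⁆ := hC ▸ hz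
      have hcomm : ∀ s : Fin (m + 1) ⊕ Fin (m + 1) → F, s ≠ 0 → spGroup s ≤ spGroup p ⊔ spGroup q → om r s = 0 := by
        intro s hs hle
        by_contra hrs
        obtain ⟨w, hw, hw1⟩ := (Subgroup.bot_or_exists_ne_one _).resolve_left (spGroup_ne_bot hs)
        have hz1 := eq_one_of_commute (rankOne hrs).1 hz hw hw1 (hcen z hzc w (hle hw))
        rw [hz1, Submonoid.coe_one, one_smul, left_eq_add] at hzv
        exact dyJ_ne_zero hr hzv
      have hrp := hcomm p hp le_sup_left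
      have hrq' := hcomm q hq le_sup_right
      have hdy : dyJ r * dyJ p = 0 ∧ dyJ r * dyJ q = 0 := by
        simp [dyJ_mul, hrp, hrq']
      have hall : ∀ g ∈ spGroup p ⊔ spGroup q,
          dyJ r * (g : Matrix (Fin (m + 1) ⊕ Fin (m + 1)) (Fin (m + 1) ⊕ Fin (m + 1)) F) = dyJ r ∧
          (g : Matrix (Fin (m + 1) ⊕ Fin (m + 1)) (Fin (m + 1) ⊕ Fin (m + 1)) F) *ᵥ r = r := by
        intro g hg
        rw [Subgroup.sup_eq_closure] at hg
        have hr' : ∀ s : Fin (m + 1) ⊕ Fin (m + 1) → F, om r s = 0 → ∀ g ∈ spGroup s,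
            dyJ r * (g : Matrix (Fin (m + 1) ⊕ Fin (m + 1)) (Fin (m + 1) ⊕ Fin (m + 1)) F) = dyJ r ∧
            (g : Matrix (Fin (m + 1) ⊕ Fin (m + 1)) (Fin (m + 1) ⊕ Fin (m + 1)) F) *ᵥ r = r := by
          rintro s hs g ⟨e, he⟩
          constructor
          · rw [he, mul_add, mul_one, mul_smul_comm, dyJ_mul, hs, zero_smul, smul_zero, add_zero]
          · rw [he, add_mulVec, one_mulVec, smul_mulVec, dyJ, vecMulVec_mulVec]
            have : (J (Fin (m + 1)) F *ᵥ s) ⬝ᵥ r = 0 := by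
              show om s r = 0
              rw [om_swap, hs, neg_zero]
            simp [this]
        induction hg using Subgroup.closure_induction with
        | mem x hx' =>
          rcases hx' with hx' | hx'
          exacts [hr' p hrp x hx', hr' q hrq' x hx']
        | one => simp
        | mul x y _ _ hx' hy' =>
          rw [Submonoid.coe_mul, ← mul_assoc, hx'.1, hy'.1, ← mulVec_mulVec, hy'.2, hx'.2]
          exact ⟨rfl, rfl⟩
        | inv x _ hx' =>
          have e1 : (x : Matrix (Fin (m + 1) ⊕ Fin (m + 1)) (Fin (m + 1) ⊕ Fin (m + 1)) F) *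
              ((x⁻¹ : ↥(Matrix.symplecticGroup (Fin (m + 1)) F)) :
                Matrix (Fin (m + 1) ⊕ Fin (m + 1)) (Fin (m + 1) ⊕ Fin (m + 1)) F) = 1 := by
            rw [← Submonoid.coe_mul, mul_inv_cancel, Submonoid.coe_one]
          have e2 : ((x⁻¹ : ↥(Matrix.symplecticGroup (Fin (m + 1)) F)) :
                Matrix (Fin (m + 1) ⊕ Fin (m + 1)) (Fin (m + 1) ⊕ Fin (m + 1)) F) *
              (x : Matrix (Fin (m + 1) ⊕ Fin (m + 1)) (Fin (m + 1) ⊕ Fin (m + 1)) F) = 1 := by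
            rw [← Submonoid.coe_mul, inv_mul_cancel, Submonoid.coe_one]
          constructor
          · conv_lhs => rw [← hx'.1, mul_assoc, e1, mul_one]
          · conv_lhs => rw [← hx'.2, mulVec_mulVec, e2, one_mulVec]
      -- `z` lies in the group generated by `p, q`, so `dyJ r * z = dyJ r` is automatic; use a commutator
      have hle : spGroup r ≤ spGroup p ⊔ spGroup q := by
        rw [← hC, Subgroup.commutator_le]
        intro x hx y hy
        exact mul_mem (mul_mem (mul_mem (Subgroup.mem_sup_left hx) (Subgroup.mem_sup_right hy))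
          (inv_mem (Subgroup.mem_sup_left hx))) (inv_mem (Subgroup.mem_sup_right hy))
      have hspan : ∀ g ∈ spGroup p ⊔ spGroup q, ∀ v, ∃ a b : F,
          (g : Matrix (Fin (m + 1) ⊕ Fin (m + 1)) (Fin (m + 1) ⊕ Fin (m + 1)) F) *ᵥ v = v + a • p + b • q := by
        intro g hg
        rw [Subgroup.sup_eq_closure] at hg
        induction hg using Subgroup.closure_induction with
        | mem x hx' =>
          intro v
          rcases hx' with ⟨e, he⟩ | ⟨e, he⟩
          · refine ⟨e * om p v, 0, ?_⟩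
            rw [he, add_mulVec, one_mulVec, smul_mulVec, dyJ, vecMulVec_mulVec]
            simp [om, smul_smul]
          · refine ⟨0, e * om q v, ?_⟩
            rw [he, add_mulVec, one_mulVec, smul_mulVec, dyJ, vecMulVec_mulVec]
            simp [om, smul_smul]
        | one => exact fun v => ⟨0, 0, by simp⟩
        | mul x y _ _ hx' hy' =>
          intro v
          obtain ⟨a, b, e⟩ := hy' v
          obtain ⟨a', b', e'⟩ := hx' (v + a • p + b • q)
          refine ⟨a + a', b + b', ?_⟩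
          rw [Submonoid.coe_mul, ← mulVec_mulVec, e, e']
          module
        | inv x _ hx' =>
          intro v
          obtain ⟨a, b, e⟩ := hx' (((x⁻¹ : ↥(Matrix.symplecticGroup (Fin (m + 1)) F)) :
            Matrix (Fin (m + 1) ⊕ Fin (m + 1)) (Fin (m + 1) ⊕ Fin (m + 1)) F) *ᵥ v)
          rw [mulVec_mulVec, ← Submonoid.coe_mul, mul_inv_cancel, Submonoid.coe_one, one_mulVec] at e
          exact ⟨-a, -b, by linear_combination (norm := module) (-1 : F) • e⟩
      obtain ⟨v, hv⟩ : ∃ v, om r v ≠ 0 := by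
        by_contra hall'
        push Not at hall'
        exact hr (hB.2 r fun v => by rw [← om_eq]; exact hall' v)
      obtain ⟨a, b, hab⟩ := hspan z (hle hz) v
      rw [hzv, one_smul, add_mulVec, one_mulVec, dyJ, vecMulVec_mulVec, add_assoc, add_right_inj] at hab
      have hr0 : om r v • r = a • p + b • q := by rw [← hab]; simp [om]
      have hp0 : om p (om r v • r) = 0 := by
        rw [om, dotProduct_smul]
        have : om p r = 0 := by rw [om_swap, hrp, neg_zero]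
        rw [show (J (Fin (m + 1)) F *ᵥ p) ⬝ᵥ r = 0 from this, smul_zero]
      have hq0 : om q (om r v • r) = 0 := by
        rw [om, dotProduct_smul]
        have : om q r = 0 := by rw [om_swap, hrq', neg_zero]
        rw [show (J (Fin (m + 1)) F *ᵥ q) ⬝ᵥ r = 0 from this, smul_zero]
      rw [hr0, om, dotProduct_add, dotProduct_smul, dotProduct_smul] at hp0 hq0
      change a • om p p + b • om p q = 0 at hp0
      change a • om q p + b • om q q = 0 at hq0
      rw [om_self, smul_zero, zero_add, smul_eq_zero] at hp0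
      rw [om_self, smul_zero, add_zero, smul_eq_zero, om_swap, neg_eq_zero] at hq0
      rw [hp0.resolve_right h, hq0.resolve_right h, zero_smul, zero_smul, add_zero, smul_eq_zero] at hr0
      exact hr (hr0.resolve_left hv)
  · rintro A ⟨p, hp, rfl⟩ B ⟨q, hq, rfl⟩ hAB
    exact (rankOne (hrank p q hp hq hAB)).2
  · rintro A ⟨p, hp, rfl⟩ B ⟨q, hq, rfl⟩
    have key : ∀ x : Fin (m + 1) ⊕ Fin (m + 1) → F, x ≠ 0 → ∃ a ∈ (⊤ : Submodule F _), sympBil (m + 1) F x a ≠ 0 := by
      intro x hx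
      obtain ⟨a, ha, h⟩ := exists_partner (nondeg_top hB) trivial hx
      exact ⟨a, ha, by simp [h]⟩
    obtain ⟨c, -, hc, hc'⟩ := exists_apply_ne_zero_both (key p hp) (key q hq)
    rw [← om_eq] at hc hc'
    have hcne : c ≠ 0 := fun e => hc (by simp [e, om])
    exact (Relation.ReflTransGen.single
      ⟨⟨p, hp, rfl⟩, ⟨c, hcne, rfl⟩, RankOnePair_symm (rankOne hc).1⟩).tail
      ⟨⟨c, hcne, rfl⟩, ⟨q, hq, rfl⟩, (rankOne hc').1⟩

end CfsgLib.ThreeTrans.SympTrans
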