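import Cfsg.Agent.Lib.ThreeTrans.RootRestrict
import Cfsg.Agent.Lib.Classical.Unitary.Transvection
import Cfsg.Agent.Lib.Classical.Unitary.Matrix

/-!
The groups of unitary transvections as abstract transvection groups.
-/

set_option autoImplicit false
set_option linter.unusedSimpArgs false

namespace CfsgLib.ThreeTrans.UnitaryTrans

open Cfsg Matrix CfsgLib.ThreeTrans.RankOneSL2 CfsgLib.Classical.Herm
open scoped commutatorElement

variable {F : Type*} [Field F] {N q : ℕ}

/-- The centre-`p` matrix. -/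
def um (q : ℕ) (p : Fin N → F) : Matrix (Fin N) (Fin N) F := vecMulVec p fun i => (p i) ^ q

theorem um_mulVec (p v : Fin N → F) : um q p *ᵥ v = Cfsg.hermForm N F q v p • p := by
  rw [um, vecMulVec_mulVec, op_smul_eq_smul]
  congr 1
  simp only [dotProduct, Cfsg.hermForm]
  exact Finset.sum_congr rfl fun i _ => mul_comm _ _

theorem dot_pow (p r : Fin N → F) : (fun i => (p i) ^ q) ⬝ᵥ r = Cfsg.hermForm N F q r p := by
  simp only [dotProduct, Cfsg.hermForm]
  exact Finset.sum_congr rfl fun i _ => mul_comm _ _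

theorem um_mul (p r : Fin N → F) :
    um q p * um q r = Cfsg.hermForm N F q r p • vecMulVec p (fun i => (r i) ^ q) := by
  simp only [um, vecMulVec_mul_vecMulVec, vecMulVec_smul, dot_pow]

theorem um_triple (p r : Fin N → F) :
    um q p * um q r * um q p = (Cfsg.hermForm N F q r p * Cfsg.hermForm N F q p r) • um q p := by
  rw [um_mul, smul_mul_assoc]
  simp only [um, vecMulVec_mul_vecMulVec, vecMulVec_smul, dot_pow, smul_smul]

theorem um_sq {p : Fin N → F} (hp : Cfsg.hermForm N F q p p = 0) : um q p * um q p = 0 := by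
  rw [um_mul, hp, zero_smul]

variable [Fintype F] (hF : Fintype.card F = q ^ 2)

theorem skew_exists : ∃ θ : F, θ ≠ 0 ∧ θ + powHom hF θ = 0 := by
  obtain ⟨θ, h0, h1⟩ := (powHom_isInvol hF).exists_skew
  exact ⟨θ, h0, by rw [h1, add_neg_cancel]⟩

theorem exists_su {p : Fin N → F} (hp : Cfsg.hermForm N F q p p = 0) {c : F} (hc : c + powHom hF c = 0) :
    ∃ g : Cfsg.SU N F q, g.1.1 = 1 + c • um q p := by
  have h := hermStd_isHerm (n := N) hF
  have hpp : hermStd N hF p p = 0 := (hermStd_apply hF p p).trans hp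
  refine ⟨(suEquiv N hF).symm ⟨h.tr hpp hc, h.trGroup_le (h.tr_mem hpp hc)⟩,
    Matrix.toLin'.injective (LinearMap.ext fun v => ?_)⟩
  rw [Matrix.toLin'_apply, Matrix.toLin'_apply, ← suEquiv_apply hF, MulEquiv.apply_symm_apply, h.tr_apply hpp hc,
    add_mulVec, one_mulVec, smul_mulVec, um_mulVec, smul_smul, hermStd_apply]

/-- The transvections with a given centre, as a set. -/
def trSet (q : ℕ) (p : Fin N → F) : Set (Cfsg.SU N F q) :=
  {g | (∀ v : Fin N → F, ∃ c : F, g.1.1 *ᵥ v = v + c • p) ∧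
    ∀ v : Fin N → F, Cfsg.hermForm N F q v p = 0 → g.1.1 *ᵥ v = v}

include hF

theorem mem_trSet {p : Fin N → F} (hp : Cfsg.hermForm N F q p p = 0) (hp0 : p ≠ 0) {g : Cfsg.SU N F q} :
    g ∈ trSet q p ↔ ∃ c : F, c + powHom hF c = 0 ∧ g.1.1 = 1 + c • um q p := by
  have h := hermStd_isHerm (n := N) hF
  constructor
  · rintro ⟨h1, h2⟩
    obtain ⟨f, hf⟩ := h.exists_apply_eq_one hp0
    obtain ⟨c, hc⟩ := h1 f
    have hval : ∀ v, g.1.1 *ᵥ v = v + (c * hermStd N hF p v) • p := by
      intro v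
      have hfix := h2 (v - hermStd N hF p v • f) (by
        rw [← hermStd_apply hF, map_sub, smul_right, hf, mul_one, sub_self])
      rw [mulVec_sub, mulVec_smul, hc, sub_eq_iff_eq_add] at hfix
      rw [hfix]
      module
    refine ⟨c, ?_, Matrix.toLin'.injective (LinearMap.ext fun v => ?_)⟩
    · have hpres : hermStd N hF (g.1.1 *ᵥ f) (g.1.1 *ᵥ f) = hermStd N hF f f := by
        rw [hermStd_apply, hermStd_apply]
        exact g.2 f f
      have hfp : hermStd N hF f p = 1 := by rw [← h.symm, hf, map_one]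
      have hpp : hermStd N hF p p = 0 := (hermStd_apply hF p p).trans hp
      rw [hval, hf, mul_one] at hpres
      simp only [map_add, LinearMap.add_apply, CfsgLib.Classical.Herm.smul_left,
        CfsgLib.Classical.Herm.smul_right, hf, hfp, hpp] at hpres
      linear_combination hpres
    · rw [Matrix.toLin'_apply, Matrix.toLin'_apply, hval, add_mulVec, one_mulVec, smul_mulVec, um_mulVec,
        smul_smul, hermStd_apply]
  · rintro ⟨c, -, hg⟩
    refine ⟨fun v => ⟨c * Cfsg.hermForm N F q v p, ?_⟩, fun v hv => ?_⟩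
    · rw [hg, add_mulVec, one_mulVec, smul_mulVec, um_mulVec, smul_smul]
    · rw [hg, add_mulVec, one_mulVec, smul_mulVec, um_mulVec, hv, zero_smul, smul_zero, add_zero]

/-- The transvection group with a given centre. -/
theorem closure_trSet {p : Fin N → F} (hp : Cfsg.hermForm N F q p p = 0) (hp0 : p ≠ 0) :
    (Subgroup.closure (trSet q p) : Set (Cfsg.SU N F q)) = trSet q p := by
  have hmul : ∀ c d : F, (1 + c • um q p) * (1 + d • um q p) = 1 + (c + d) • um q p := fun c d => by
    simp only [mul_add, add_mul, mul_one, one_mul, smul_mul_assoc, mul_smul_comm, um_sq hp, smul_zero, add_zero,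
      add_smul, add_assoc]
  let K : Subgroup (Cfsg.SU N F q) :=
    { carrier := trSet q p
      one_mem' := (mem_trSet hF hp hp0).2 ⟨0, by rw [map_zero, add_zero], by simp⟩
      mul_mem' := fun {x y} hx hy => by
        obtain ⟨c, hc, hxc⟩ := (mem_trSet hF hp hp0).1 hx
        obtain ⟨d, hd, hyd⟩ := (mem_trSet hF hp hp0).1 hy
        refine (mem_trSet hF hp hp0).2 ⟨c + d, by rw [map_add]; linear_combination hc + hd, ?_⟩
        show x.1.1 * y.1.1 = _
        rw [hxc, hyd, hmul]
      inv_mem' := fun {x} hx => by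
        obtain ⟨c, hc, hxc⟩ := (mem_trSet hF hp hp0).1 hx
        refine (mem_trSet hF hp hp0).2 ⟨-c, by rw [map_neg]; linear_combination -hc, ?_⟩
        have e1 : x.1.1 * (x⁻¹).1.1 = 1 := congrArg (fun z : Cfsg.SU N F q => z.1.1) (mul_inv_cancel x)
        refine (left_inv_eq_right_inv ?_ e1).symm
        rw [hxc, hmul, neg_add_cancel, zero_smul, add_zero] }
  exact congrArg (fun X : Subgroup (Cfsg.SU N F q) => (X : Set (Cfsg.SU N F q))) (Subgroup.closure_eq K)

omit hF in
/-- The transvection groups. -/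
def trFam (N : ℕ) (F : Type*) [Field F] (q : ℕ) : Set (Subgroup (Cfsg.SU N F q)) :=
  {A | ∃ p : Fin N → F, p ≠ 0 ∧ Cfsg.hermForm N F q p p = 0 ∧ A = Subgroup.closure (trSet q p)}

theorem mem_group {p : Fin N → F} (hp : Cfsg.hermForm N F q p p = 0) (hp0 : p ≠ 0) {g : Cfsg.SU N F q} :
    g ∈ Subgroup.closure (trSet q p) ↔ ∃ c : F, c + powHom hF c = 0 ∧ g.1.1 = 1 + c • um q p := by
  rw [← SetLike.mem_coe, closure_trSet hF hp hp0]
  exact mem_trSet hF hp hp0

theorem um_ne_zero {p : Fin N → F} (hp0 : p ≠ 0) : um q p ≠ 0 := by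
  intro e
  rcases vecMulVec_eq_zero.1 e with e | e
  · exact hp0 e
  · refine hp0 (funext fun i => ?_)
    exact eq_zero_of_pow_eq_zero (congrFun e i)

/-- The transvection groups satisfy the hypotheses, over the fixed field. -/
theorem family {L : Type} [Field L] (ι : L →+* F) (hι : ∀ x : F, powHom hF x = x ↔ ∃ t, ι t = x) :
    RootRestrict.SL2Family L (trFam N F q) := by
  let _ : Algebra L F := ι.toAlgebra
  have hsmul : ∀ (t : L) (X : Matrix (Fin N) (Fin N) F), t • X = ι t • X := fun t X => algebra_compatible_smul F t X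
  have h := hermStd_isHerm (n := N) hF
  have hfix : ∀ t, powHom hF (ι t) = ι t := fun t => (hι _).2 ⟨t, rfl⟩
  have hsymm : ∀ x y : Fin N → F, powHom hF (Cfsg.hermForm N F q x y) = Cfsg.hermForm N F q y x := fun x y => by
    have := h.symm y x
    rwa [hermStd_apply, hermStd_apply] at this
  refine ⟨?_, ?_, ?_, ?_, ?_⟩
  · rintro A ⟨p, hp0, hp, rfl⟩
    refine ⟨⟨fun x y => Subtype.ext (Subtype.ext (Subtype.ext ?_))⟩⟩
    obtain ⟨c, -, hc⟩ := (mem_group hF hp hp0).1 x.2
    obtain ⟨d, -, hd⟩ := (mem_group hF hp hp0).1 y.2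
    show x.1.1.1 * y.1.1.1 = y.1.1.1 * x.1.1.1
    rw [hc, hd]
    simp only [mul_add, add_mul, mul_one, one_mul, smul_mul_assoc, mul_smul_comm, um_sq hp, smul_zero]
    abel
  · rintro A ⟨p, hp0, hp, rfl⟩ e
    obtain ⟨θ, hθ0, hθ⟩ := skew_exists hF
    obtain ⟨g, hg⟩ := exists_su hF hp hθ
    have hmem : g ∈ Subgroup.closure (trSet q p) := (mem_group hF hp hp0).2 ⟨θ, hθ, hg⟩
    rw [e, Subgroup.mem_bot] at hmem
    rw [hmem] at hg
    exact smul_ne_zero hθ0 (um_ne_zero hF hp0) (left_eq_add.1 hg)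
  · rintro A ⟨p, hp0, hp, rfl⟩ g
    have hgp : Cfsg.hermForm N F q (g.1.1 *ᵥ p) (g.1.1 *ᵥ p) = 0 := (g.2 p p).trans hp
    refine ⟨g.1.1 *ᵥ p, fun e => hp0 ?_, hgp, ?_⟩
    · exact Matrix.eq_zero_of_mulVec_eq_zero (by rw [g.1.2]; exact one_ne_zero) e
    · have key : ∀ (g : Cfsg.SU N F q) (x : Cfsg.SU N F q) (p : Fin N → F), x ∈ trSet q p →
          g * x * g⁻¹ ∈ trSet q (g.1.1 *ᵥ p) := by
        intro g x p hx
        have e1 : ∀ w, g.1.1 *ᵥ ((g⁻¹).1.1 *ᵥ w) = w := fun w => by
          rw [mulVec_mulVec, show g.1.1 * (g⁻¹).1.1 = 1 from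
            congrArg (fun z : Cfsg.SU N F q => z.1.1) (mul_inv_cancel g), one_mulVec]
        constructor
        · intro v
          obtain ⟨c, hc⟩ := hx.1 ((g⁻¹).1.1 *ᵥ v)
          refine ⟨c, ?_⟩
          show (g.1.1 * x.1.1 * (g⁻¹).1.1) *ᵥ v = _
          rw [← mulVec_mulVec, ← mulVec_mulVec, hc, mulVec_add, mulVec_smul, e1]
        · intro v hv
          show (g.1.1 * x.1.1 * (g⁻¹).1.1) *ᵥ v = _
          rw [← mulVec_mulVec, ← mulVec_mulVec, hx.2 _ ?_, e1]
          rw [← g.2 ((g⁻¹).1.1 *ᵥ v) p]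
          show Cfsg.hermForm N F q (g.1.1 *ᵥ ((g⁻¹).1.1 *ᵥ v)) (g.1.1 *ᵥ p) = 0
          rw [e1]; exact hv
      have hp0' : g.1.1 *ᵥ p ≠ 0 := fun e => hp0 (Matrix.eq_zero_of_mulVec_eq_zero (by rw [g.1.2]; exact one_ne_zero) e)
      ext x
      rw [mem_conjBy, ← SetLike.mem_coe, ← SetLike.mem_coe, closure_trSet hF hp hp0, closure_trSet hF hgp hp0']
      constructor
      · intro hx
        have := key g _ p hx
        rwa [show g * (g⁻¹ * x * g) * g⁻¹ = x by group] at this
      · intro hx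
        have := key g⁻¹ x _ hx
        rw [inv_inv, mulVec_mulVec, show (g⁻¹).1.1 * g.1.1 = 1 from
          congrArg (fun z : Cfsg.SU N F q => z.1.1) (inv_mul_cancel g), one_mulVec] at this
        exact this
  · rintro A ⟨p, hp0, hp, rfl⟩ B ⟨r, hr0, hr, rfl⟩
    by_cases hpr : Cfsg.hermForm N F q r p = 0
    · left
      have hrp : Cfsg.hermForm N F q p r = 0 := by rw [← hsymm, hpr, map_zero]
      refine Subgroup.commutator_eq_bot_iff_le_centralizer.2 fun x hx => Subgroup.mem_centralizer_iff.2 fun y hy => ?_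
      obtain ⟨c, -, hc⟩ := (mem_group hF hp hp0).1 hx
      obtain ⟨d, -, hd⟩ := (mem_group hF hr hr0).1 hy
      refine Subtype.ext (Subtype.ext ?_)
      show y.1.1 * x.1.1 = x.1.1 * y.1.1
      rw [hc, hd]
      simp only [mul_add, add_mul, mul_one, one_mul, smul_mul_assoc, mul_smul_comm, um_mul, hpr, hrp, zero_smul,
        smul_zero]
      abel
    · right
      obtain ⟨θ, hθ0, hθ⟩ := skew_exists hF
      set τ := Cfsg.hermForm N F q r p * Cfsg.hermForm N F q p r with hτd
      have hrp : Cfsg.hermForm N F q p r ≠ 0 := fun e => hpr (by rw [← hsymm, e, map_zero])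
      have hτ : τ ≠ 0 := mul_ne_zero hpr hrp
      have hτf : powHom hF τ = τ := by rw [hτd, map_mul, hsymm, hsymm, mul_comm]
      set μ := (θ * τ)⁻¹ with hμd
      have hμ : μ + powHom hF μ = 0 := by
        rw [hμd, map_inv₀, map_mul, hτf, show powHom hF θ = -θ by linear_combination hθ, neg_mul, inv_neg,
          add_neg_cancel]
      have hμ0 : μ ≠ 0 := inv_ne_zero (mul_ne_zero hθ0 hτ)
      have hABA : θ • um q p * μ • um q r * θ • um q p = θ • um q p := by
        simp only [smul_mul_assoc, mul_smul_comm, um_triple, smul_smul]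
        congr 1
        rw [← hτd, hμd]; field_simp
      have hBAB : μ • um q r * θ • um q p * μ • um q r = μ • um q r := by
        simp only [smul_mul_assoc, mul_smul_comm, um_triple, smul_smul]
        congr 1
        rw [show Cfsg.hermForm N F q p r * Cfsg.hermForm N F q r p = τ by rw [hτd, mul_comm], hμd]
        field_simp
      obtain ⟨f₀, hf₀, hu, hl, hcen⟩ := RootRestrict.exists_repr (k := L) (A := θ • um q p) (B := μ • um q r)
        (by rw [smul_mul_assoc, mul_smul_comm, um_sq hp, smul_zero, smul_zero])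
        (by rw [smul_mul_assoc, mul_smul_comm, um_sq hr, smul_zero, smul_zero])
        hABA hBAB (smul_ne_zero hθ0 (um_ne_zero hF hp0))
      have hsk : ∀ (t : L) (c : F), c + powHom hF c = 0 → ι t * c + powHom hF (ι t * c) = 0 := fun t c hc => by
        rw [map_mul, hfix]; linear_combination (ι t) * hc
      have hmem : ∀ g, ∃ x : Cfsg.SU N F q, x.1.1 = f₀ g := by
        intro g
        have hg : g ∈ lowerUnipotentSL2 L ⊔ upperUnipotentSL2 L := by rw [sup_eq_top]; trivial
        rw [Subgroup.sup_eq_closure] at hg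
        induction hg using Subgroup.closure_induction with
        | mem x hx' =>
          rcases hx' with hx' | hx'
          · obtain ⟨t, rfl⟩ := mem_lower.1 hx'
            rw [hl, hsmul, smul_smul]
            exact exists_su hF hr (hsk t μ hμ)
          · obtain ⟨t, rfl⟩ := mem_upper.1 hx'
            rw [hu, hsmul, smul_smul]
            exact exists_su hF hp (hsk t θ hθ)
        | one => exact ⟨1, (map_one f₀).symm⟩
        | mul x y _ _ hx' hy' =>
          obtain ⟨a, ha⟩ := hx'
          obtain ⟨b, hb⟩ := hy'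
          exact ⟨a * b, by rw [map_mul, ← ha, ← hb]; rfl⟩
        | inv x _ hx' =>
          obtain ⟨a, ha⟩ := hx'
          refine ⟨a⁻¹, left_inv_eq_right_inv (a := f₀ x) ?_ (by rw [← map_mul, mul_inv_cancel, map_one])⟩
          rw [← ha]
          exact congrArg (fun z : Cfsg.SU N F q => z.1.1) (inv_mul_cancel a)
      choose f hfv using hmem
      have hinj : Function.Injective (fun z : Cfsg.SU N F q => z.1.1) := fun x y e => Subtype.ext (Subtype.ext e)
      let φ : SpecialLinearGroup (Fin 2) L →* Cfsg.SU N F q :=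
        { toFun := f
          map_one' := hinj (by simp only [hfv, map_one]; rfl)
          map_mul' := fun x y => hinj (by
            show (f (x * y)).1.1 = (f x).1.1 * (f y).1.1
            rw [hfv, hfv, hfv, map_mul]) }
      have hφv : ∀ g, (φ g).1.1 = f₀ g := hfv
      have himg : ∀ (s : Fin N → F) (hs : Cfsg.hermForm N F q s s = 0) (hs0 : s ≠ 0) (e : F)
          (he : e + powHom hF e = 0) (he0 : e ≠ 0) (U : Subgroup (SpecialLinearGroup (Fin 2) L))
          (el : L → SpecialLinearGroup (Fin 2) L) (hU : ∀ g, g ∈ U ↔ ∃ t, g = el t)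
          (hel : ∀ t, f₀ (el t) = 1 + t • (e • um q s)), U.map φ = Subgroup.closure (trSet q s) := by
        intro s hs hs0 e he he0 U el hU hel
        ext x
        rw [Subgroup.mem_map, mem_group hF hs hs0]
        constructor
        · rintro ⟨g, hg, rfl⟩
          obtain ⟨t, rfl⟩ := (hU g).1 hg
          exact ⟨ι t * e, hsk t e he, by rw [hφv, hel, hsmul, smul_smul]⟩
        · rintro ⟨c, hc, hxc⟩
          obtain ⟨t, ht⟩ := (hι (c / e)).1 (by
            rw [map_div₀, show powHom hF c = -c by linear_combination hc,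
              show powHom hF e = -e by linear_combination he, neg_div_neg_eq])
          refine ⟨el t, (hU _).2 ⟨t, rfl⟩, hinj ?_⟩
          show (φ (el t)).1.1 = x.1.1
          rw [hφv, hel, hsmul, smul_smul, ht, div_mul_cancel₀ _ he0, hxc]
      refine ⟨φ, fun a b e => hf₀ (by rw [← hφv, ← hφv, e]),
        himg p hp hp0 θ hθ hθ0 _ upperEl (fun g => mem_upper) hu,
        himg r hr hr0 μ hμ hμ0 _ lowerEl (fun g => mem_lower) hl, ?_⟩
      rintro C ⟨s, hs0, hs, rfl⟩ g hg hgC
      obtain ⟨c, -, hc⟩ := (mem_group hF hs hs0).1 hgC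
      refine hinj ?_
      show (φ g).1.1 = 1
      rw [hφv]
      refine hcen g hg ?_
      rw [← hφv, hc, add_sub_cancel_left, smul_mul_assoc, mul_smul_comm, um_sq hs, smul_zero, smul_zero]
  · have adj : ∀ p r : Fin N → F, p ≠ 0 → Cfsg.hermForm N F q p p = 0 → r ≠ 0 → Cfsg.hermForm N F q r r = 0 →
        Cfsg.hermForm N F q r p ≠ 0 → ⁅Subgroup.closure (trSet q p), Subgroup.closure (trSet q r)⁆ ≠ ⊥ := by
      intro p r hp0 hp hr0 hr hpr e
      obtain ⟨θ, hθ0, hθ⟩ := skew_exists hF
      obtain ⟨x, hx⟩ := exists_su hF hp hθ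
      obtain ⟨y, hy⟩ := exists_su hF hr hθ
      have hc := congrArg (fun z : Cfsg.SU N F q => z.1.1) (commute_of_commutator_eq_bot e
        ((mem_group hF hp hp0).2 ⟨θ, hθ, hx⟩) ((mem_group hF hr hr0).2 ⟨θ, hθ, hy⟩))
      change x.1.1 * y.1.1 = y.1.1 * x.1.1 at hc
      rw [hx, hy] at hc
      have hc2 := congrArg (fun M => um q p * M) hc
      simp only [mul_add, add_mul, mul_one, one_mul, smul_mul_assoc, mul_smul_comm, ← mul_assoc, um_sq hp,
        zero_mul, smul_zero, add_zero, um_triple, smul_add, smul_smul] at hc2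
      have hz : (θ * θ * (Cfsg.hermForm N F q r p * Cfsg.hermForm N F q p r)) • um q p = 0 := by
        linear_combination (norm := module) -hc2
      rcases smul_eq_zero.1 hz with h0 | h0
      · simp only [mul_eq_zero, hθ0, hpr, false_or] at h0
        exact hpr (by rw [← hsymm, h0, map_zero])
      · exact um_ne_zero hF hp0 h0
    rintro A ⟨p, hp0, hp, rfl⟩ B ⟨r, hr0, hr, rfl⟩
    have hp' : hermStd N hF p p = 0 := (hermStd_apply hF p p).trans hp
    have hr' : hermStd N hF r r = 0 := (hermStd_apply hF r r).trans hr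
    by_cases hpr : Cfsg.hermForm N F q r p = 0
    · obtain ⟨c, hcc, hcp, hcr⟩ : ∃ c, hermStd N hF c c = 0 ∧ hermStd N hF p c ≠ 0 ∧ hermStd N hF r c ≠ 0 := by
        obtain ⟨p', hpp', hp'p'⟩ := h.exists_isotropic_partner hp0 hp'
        obtain ⟨r', hrr', hr'r'⟩ := h.exists_isotropic_partner hr0 hr'
        by_cases h1 : hermStd N hF r p' = 0
        · by_cases h2 : hermStd N hF p r' = 0
          · set v := p' + r'
            obtain ⟨a, ha⟩ := h.invol.exists_trace_eq (μ := -hermStd N hF v v) (by rw [map_neg, h.self_fixed])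
            have e1 : hermStd N hF p v = 1 := by rw [map_add, hpp', h2, add_zero]
            have e2 : hermStd N hF r v = 1 := by rw [map_add, hrr', h1, zero_add]
            have e3 : hermStd N hF v p = 1 := by rw [← h.symm, e1, map_one]
            have e4 : hermStd N hF r p = 0 := by
              rw [hermStd_apply, ← hsymm, hpr, map_zero]
            refine ⟨v + a • p, ?_, ?_, ?_⟩
            · simp only [map_add, LinearMap.add_apply, CfsgLib.Classical.Herm.smul_left,
                CfsgLib.Classical.Herm.smul_right, hp', e1, e3]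
              linear_combination ha
            · rw [map_add, CfsgLib.Classical.Herm.smul_right, hp', mul_zero, add_zero, e1]; exact one_ne_zero
            · rw [map_add, CfsgLib.Classical.Herm.smul_right, e4, mul_zero, add_zero, e2]; exact one_ne_zero
          · exact ⟨r', hr'r', h2, by rw [hrr']; exact one_ne_zero⟩
        · exact ⟨p', hp'p', by rw [hpp']; exact one_ne_zero, h1⟩
      have hc0 : c ≠ 0 := fun e => hcp (by rw [e, map_zero])
      rw [hermStd_apply] at hcc hcp hcr
      have hrc : Cfsg.hermForm N F q r c ≠ 0 := fun e => hcr (by rw [← hsymm, e, map_zero])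
      exact (Relation.ReflTransGen.single ⟨⟨p, hp0, hp, rfl⟩, ⟨c, hc0, hcc, rfl⟩, adj p c hp0 hp hc0 hcc hcp⟩).tail
        ⟨⟨c, hc0, hcc, rfl⟩, ⟨r, hr0, hr, rfl⟩, adj c r hc0 hcc hr0 hr hrc⟩
    · exact Relation.ReflTransGen.single ⟨⟨p, hp0, hp, rfl⟩, ⟨r, hr0, hr, rfl⟩, adj p r hp0 hp hr0 hr hpr⟩

omit hF in
/-- A copy of `Fin q` to carry a field structure. -/
def FixF (q : ℕ) : Type := Fin q

theorem main (n : ℕ) :
    IsRootSubgroupClass ((fun A => A.subgroupOf (⨆ B ∈ trFam (n + 2) F q, B)) '' trFam (n + 2) F q) ∧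
      IsDegenerateRootSet ((fun A => A.subgroupOf (⨆ B ∈ trFam (n + 2) F q, B)) '' trFam (n + 2) F q) ∧
      (∃ (L : Type) (_ : Field L) (_ : Fintype L), Fintype.card L = q ∧
        IsKRootSubgroupSet L ((fun A => A.subgroupOf (⨆ B ∈ trFam (n + 2) F q, B)) '' trFam (n + 2) F q)) ∧
      IsConnectedFamily (FAdj ((fun A => A.subgroupOf (⨆ B ∈ trFam (n + 2) F q, B)) '' trFam (n + 2) F q))
        ((fun A => A.subgroupOf (⨆ B ∈ trFam (n + 2) F q, B)) '' trFam (n + 2) F q) := by
  let K := fixedSub (powHom hF)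
  let e : FixF q ≃ K := (Finite.equivFinOfCardEq (card_fixed_powHom hF)).symm
  let _ : Field (FixF q) := e.field
  let _ : Fintype (FixF q) := inferInstanceAs (Fintype (Fin q))
  let ι : FixF q →+* F := K.subtype.comp e.ringEquiv.toRingHom
  have hι : ∀ x : F, powHom hF x = x ↔ ∃ t, ι t = x := fun x =>
    ⟨fun hx => ⟨e.symm ⟨x, hx⟩, congrArg Subtype.val (e.apply_symm_apply _)⟩, fun ⟨t, ht⟩ => ht ▸ (e t).2⟩
  have h := hermStd_isHerm (n := n + 2) hF
  obtain ⟨u, hu0, hu⟩ := h.exists_isotropic (by rw [finrank_std]; omega)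
  have hM := RootRestrict.main (family (N := n + 2) hF ι hι)
    ⟨_, u, hu0, (hermStd_apply hF u u).symm.trans hu, rfl⟩
  exact ⟨hM.1, hM.2.1, ⟨FixF q, _, _, Fintype.card_fin q, hM.2.2.1⟩, hM.2.2.2⟩

end CfsgLib.ThreeTrans.UnitaryTrans
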