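import Cfsg.Agent.Lib.ThreeTrans.WidthOneStructure
import Cfsg.Agent.Lib.LocalEven.Generation
import Cfsg.Agent.Lib.Components.FStar
import Cfsg.Agent.Lib.ThreeTrans.Basic

set_option autoImplicit false

/-!
3-transposition groups which are faithful on their 2-radical and have width one modulo it
(owner: helper28).
-/

namespace CfsgLib.ThreeTrans.Radical

open Cfsg CfsgLib.ThreeTrans
open scoped commutatorElement

variable {H : Type*} [Group H] {E : Set H}

/-- The projection modulo the 2-core. -/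
abbrev bar (H : Type*) [Group H] : H →* H ⧸ pCore 2 H := QuotientGroup.mk' (pCore 2 H)

theorem bar_eq_one {g : H} : bar H g = 1 ↔ g ∈ pCore 2 H := QuotientGroup.eq_one_iff g

theorem eq_one_of_two_three {g : H} (hQ : g ∈ pCore 2 H) (h3 : g ^ 3 = 1) : g = 1 := by
  obtain ⟨n, hn⟩ := CfsgLib.Core.isPGroup_pCore 2 H ⟨g, hQ⟩
  have hn' : g ^ 2 ^ n = 1 := congrArg Subtype.val hn
  have hdvd : orderOf g ∣ Nat.gcd (2 ^ n) 3 :=
    Nat.dvd_gcd (orderOf_dvd_of_pow_eq_one hn') (orderOf_dvd_of_pow_eq_one h3)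
  rw [((Nat.coprime_primes Nat.prime_two Nat.prime_three).2 (by norm_num)).pow_left n] at hdvd
  exact orderOf_eq_one_iff.1 (Nat.dvd_one.1 hdvd)

/-- A centralized element of a pair of non-commuting transpositions centralizes each. -/
theorem fixed_of_pair (hE : IsThreeTranspositionSet E) (hconj : ∀ g : H, ∀ t ∈ E, g * t * g⁻¹ ∈ E)
    {d e v : H} (hd : d ∈ E) (he : e ∈ E) (h3 : ∀ a ∈ E, bar H (a * e) = bar H (d * e) → (a * e) ^ 3 = 1)
    (hv : v ∈ pCore 2 H) (hcomm : Commute v (d * e)) : Commute v d := by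
  have hd2 := mul_self hE hd
  have he2 := mul_self hE he
  have hd' : v⁻¹ * d * v ∈ E := by
    have := hconj v⁻¹ d hd
    rwa [inv_inv] at this
  set d' := v⁻¹ * d * v with hd'def
  have hu : d' * d ∈ pCore 2 H := by
    rw [show d' * d = v⁻¹ * (d * v * d⁻¹) * (d * d) by rw [hd'def]; group, hd2, mul_one]
    exact mul_mem (inv_mem hv) ((inferInstance : (pCore 2 H).Normal).conj_mem v hv d)
  have hbar : bar H (d' * e) = bar H (d * e) := by
    rw [show d' * e = (d' * d) * (d * e) by rw [mul_assoc d', ← mul_assoc d d, hd2, one_mul], map_mul,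
      bar_eq_one.2 hu, one_mul]
  have h1 := h3 d' hd' hbar
  have h2 := h3 d hd rfl
  set t := d * e
  have htinv : d * t * d⁻¹ = t⁻¹ := by
    show d * (d * e) * d⁻¹ = (d * e)⁻¹
    rw [mul_inv_rev, inv_eq hE he, ← mul_assoc, hd2, one_mul]
  have hcu : Commute (d' * d) t := by
    show d' * d * t = t * (d' * d)
    have e1 : d * t = t⁻¹ * d := by rw [← htinv]; group
    have hd't : d' * t⁻¹ = t * d' := by
      rw [hd'def]
      calc v⁻¹ * d * v * t⁻¹ = v⁻¹ * (d * t⁻¹) * v := by rw [mul_assoc _ v, hcomm.inv_right.eq]; group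
        _ = (v⁻¹ * t) * d * v := by
          have : d * t⁻¹ = t * d := by
            calc d * t⁻¹ = (d * t * d⁻¹)⁻¹ * d := by group
              _ = t * d := by rw [htinv, inv_inv]
          rw [this]; group
        _ = t * (v⁻¹ * d * v) := by rw [hcomm.inv_left.eq]; group
    calc d' * d * t = (d' * t⁻¹) * d := by rw [mul_assoc, e1, ← mul_assoc]
      _ = t * (d' * d) := by rw [hd't, mul_assoc]
  have h3' : (d' * d) ^ 3 = 1 := by
    have : d' * e = (d' * d) * t := by
      show d' * e = d' * d * (d * e)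
      rw [mul_assoc d', ← mul_assoc d d, hd2, one_mul]
    rw [this, hcu.mul_pow, h2, mul_one] at h1
    exact h1
  have h := eq_one_of_two_three hu h3'
  have : d' = d := by
    have := eq_inv_of_mul_eq_one_left h
    rwa [inv_eq hE hd] at this
  rw [hd'def] at this
  show v * d = d * v
  calc v * d = v * (v⁻¹ * d * v) := by rw [this]
    _ = d * v := by group

theorem unit_cube : ∀ i j : ZMod 3,
    mul54 (mul54 (0, i, j, i * j) (0, i, j, i * j)) (0, i, j, i * j) = (0, 0, 0, 0) := by decide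

theorem exp_three : ∀ z : Multiplicative (ZMod 3), z ^ 3 = 1 := by decide

/-- The ambient hypotheses. -/
structure Data (E : Set H) (d : H) (P : Subgroup (H ⧸ pCore 2 H)) : Prop where
  set : IsThreeTranspositionSet E
  conj : ∀ g : H, ∀ t ∈ E, g * t * g⁻¹ ∈ E
  mem : d ∈ E
  cent : Subgroup.centralizer (pCore 2 H : Set H) ≤ pCore 2 H
  normal : P.Normal
  pgroup : IsPGroup 3 P
  index : P.index = 2
  not_mem : bar H d ∉ P
  allP : ∀ t ∈ E, bar H t ∉ P

namespace Data

variable {d : H} {P : Subgroup (H ⧸ pCore 2 H)} (S : Data E d P)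
include S

theorem sq_eq_one {q : H ⧸ pCore 2 H} (hq : q ∈ P) (h : q ^ 2 = 1) : q = 1 := by
  obtain ⟨n, hn⟩ := S.pgroup ⟨q, hq⟩
  have hn' : q ^ 3 ^ n = 1 := congrArg Subtype.val hn
  have hdvd : orderOf q ∣ Nat.gcd (3 ^ n) 2 :=
    Nat.dvd_gcd (orderOf_dvd_of_pow_eq_one hn') (orderOf_dvd_of_pow_eq_one h)
  rw [((Nat.coprime_primes Nat.prime_three Nat.prime_two).2 (by norm_num)).pow_left n] at hdvd
  exact orderOf_eq_one_iff.1 (Nat.dvd_one.1 hdvd)

theorem not_commute {a b : H} (ha : a ∈ E) (hb : b ∈ E) (h : bar H (a * b) ≠ 1) : ¬ Commute a b := by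
  intro hc
  refine h (S.sq_eq_one ?_ ?_)
  · rw [map_mul, Subgroup.mul_mem_iff_of_index_two S.index]
    exact iff_of_false (S.allP a ha) (S.allP b hb)
  · rw [← map_pow, hc.mul_pow, pow_two, pow_two, mul_self S.set ha, mul_self S.set hb, one_mul, map_one]

theorem cube {a b : H} (ha : a ∈ E) (hb : b ∈ E) (h : bar H (a * b) ≠ 1) : (a * b) ^ 3 = 1 :=
  pow_three S.set ha hb (S.not_commute ha hb h)

theorem fixed {k v : H} (hk : d * k ∈ E) (hk1 : bar H k ≠ 1) (hv : v ∈ pCore 2 H) (hc : Commute v k) :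
    Commute v d := by
  have hd2 := mul_self S.set S.mem
  have e : d * (d * k) = k := by rw [← mul_assoc, hd2, one_mul]
  refine fixed_of_pair S.set S.conj S.mem hk (fun a ha hbar => S.cube ha hk ?_) hv (e.symm ▸ hc)
  rw [hbar, e]; exact hk1

theorem exists_lift {x : H ⧸ pCore 2 H} (hx : x ∈ inverted P (bar H d)) : ∃ e ∈ E, bar H (d * e) = x := by
  obtain ⟨n, hn⟩ := S.pgroup ⟨x, hx.1⟩
  have hn' : x ^ 3 ^ n = 1 := congrArg Subtype.val hn
  obtain ⟨j, hj⟩ : Odd (3 ^ n) := Odd.pow (by decide)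
  set u := x ^ (j + 1) with hu
  obtain ⟨g, hg⟩ := QuotientGroup.mk'_surjective (pCore 2 H) u
  have hu2 : u * u = x := by
    rw [hu, ← pow_add, show j + 1 + (j + 1) = 3 ^ n + 1 by omega, pow_succ, hn', one_mul]
  refine ⟨g⁻¹ * d * g, by simpa using S.conj g⁻¹ d S.mem, ?_⟩
  have hdu : bar H d * u * (bar H d)⁻¹ = u⁻¹ := by
    rw [hu, ← conj_pow, hx.2, inv_pow]
  have hdd : (bar H d)⁻¹ = bar H d := by rw [← map_inv, inv_eq S.set S.mem]
  rw [map_mul, map_mul, map_mul, map_inv, show bar H g = u from hg]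
  calc bar H d * (u⁻¹ * bar H d * u) = (bar H d * u * (bar H d)⁻¹)⁻¹ * (bar H d * bar H d) * u := by group
    _ = u * u := by rw [hdu, inv_inv, ← map_mul, mul_self S.set S.mem, map_one, mul_one]
    _ = x := hu2

theorem cube_inverted {x : H ⧸ pCore 2 H} (hx : x ∈ inverted P (bar H d)) : x ^ 3 = 1 := by
  obtain ⟨e, he, rfl⟩ := S.exists_lift hx
  by_cases h : bar H (d * e) = 1
  · rw [h, one_pow]
  · rw [← map_pow, S.cube S.mem he h, map_one]

theorem exists_gen {x y : H ⧸ pCore 2 H} (hx : x ∈ inverted P (bar H d)) (hy : y ∈ inverted P (bar H d))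
    (hx1 : x ≠ 1) (hy1 : y ≠ 1) (hne : x ≠ y) (hne' : x ≠ y⁻¹) :
    ∃ a b : H, Gen54 d a b ∧ d * a ∈ E ∧ d * b ∈ E ∧ bar H a = x ∧ bar H b = y := by
  obtain ⟨e, he, hxe⟩ := S.exists_lift hx
  obtain ⟨f, hf, hyf⟩ := S.exists_lift hy
  have hd2 := mul_self S.set S.mem
  have hd' := inv_eq S.set S.mem
  have hmem : ∀ {t : H}, t ∈ E → d * (d * t) ∈ E := fun {t} ht => by rwa [← mul_assoc, hd2, one_mul]
  refine ⟨d * e, d * f, ⟨hd2, ?_, ?_, S.cube S.mem he (hxe.symm ▸ hx1), S.cube S.mem hf (hyf.symm ▸ hy1),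
    ?_, ?_⟩, hmem he, hmem hf, hxe, hyf⟩
  · rw [mul_inv_rev, inv_eq S.set he, ← mul_assoc, hd2, one_mul]
  · rw [mul_inv_rev, inv_eq S.set hf, ← mul_assoc, hd2, one_mul]
  · have e1 : d * e * (d * f) = (d * e * d⁻¹) * f := by rw [hd', ← mul_assoc]
    rw [e1]
    refine S.cube (S.conj d e he) hf ?_
    rw [← e1, map_mul, hxe, hyf]
    exact fun h => hne' (eq_inv_of_mul_eq_one_left h)
  · have e1 : d * e * (d * f)⁻¹ = d * (e * f) * d⁻¹ := by rw [mul_inv_rev, inv_eq S.set hf]; group
    rw [e1, conj_pow, S.cube he hf ?_, mul_one, mul_inv_cancel]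
    intro h
    refine hne ?_
    have : bar H (d * e * (d * f)⁻¹) = 1 := by rw [e1, map_mul, map_mul, h, mul_one, map_inv, mul_inv_cancel]
    rwa [map_mul, map_inv, hxe, hyf, mul_inv_eq_one] at this

omit S in
theorem unit_code : ∀ i j : ZMod 3,
    ∃ p : Code54, mul54 (mul54 p (1, 0, 0, 0)) (inv54 p) = (1, i, j, i * j) := by decide

theorem unit_mem {a b : H} (hg : Gen54 d a b) (i j : ZMod 3) : d * val54 d a b (0, i, j, i * j) ∈ E := by
  have h0 : d * val54 d a b (0, i, j, i * j) = val54 d a b (1, i, j, i * j) := by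
    simp [val54]
  obtain ⟨p, hp⟩ := unit_code i j
  rw [h0, ← hp, ← hg.val54_mul, ← hg.val54_mul, Gen54.val54_gen.1]
  have hinv : val54 d a b (inv54 p) = (val54 d a b p)⁻¹ :=
    eq_inv_of_mul_eq_one_right (by rw [hg.val54_mul, mul54_inv54, Gen54.val54_zero])
  rw [hinv]
  exact S.conj _ d S.mem

/-- No two independent commuting inverted elements. -/
theorem commuting_dependent [Finite H] {x y : H ⧸ pCore 2 H} (hx : x ∈ inverted P (bar H d))
    (hy : y ∈ inverted P (bar H d)) (hx1 : x ≠ 1) (hc : Commute x y) : y ∈ Subgroup.zpowers x := by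
  by_contra hne
  have hy1 : y ≠ 1 := fun e => hne (e ▸ one_mem _)
  obtain ⟨a, b, hg, -, -, ha, hb⟩ := S.exists_gen hx hy hx1 hy1
    (fun e => hne (e ▸ Subgroup.mem_zpowers _))
    (fun e => hne (by rw [e, Subgroup.zpowers_inv]; exact Subgroup.mem_zpowers _))
  have hz : comm54 a b = 1 := by
    refine eq_one_of_two_three (bar_eq_one.1 ?_) hg.comm_cube
    simp only [comm54, map_mul, map_inv, ha, hb]
    rw [hc.eq, mul_inv_cancel_right, mul_inv_cancel]
  have hab : Commute a b := by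
    rw [← commutatorElement_eq_one_iff_commute]
    exact hz
  let f : Multiplicative (ZMod 3) × Multiplicative (ZMod 3) →* H :=
    { toFun := fun t => pw a (Multiplicative.toAdd t.1) * pw b (Multiplicative.toAdd t.2)
      map_one' := by simp [pw_zero]
      map_mul' := fun s t => by
        show pw a (Multiplicative.toAdd s.1 + Multiplicative.toAdd t.1) *
          pw b (Multiplicative.toAdd s.2 + Multiplicative.toAdd t.2) = _
        rw [pw_add hg.cubex, pw_add hg.cubey]
        exact Commute.mul_mul_mul_comm (hab.pow_pow _ _) _ _ }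
  have hbar1 : ∀ t, bar H (f t) = 1 → t = 1 := by
    rintro ⟨i, j⟩ ht
    obtain ⟨i, rfl⟩ := Multiplicative.ofAdd.surjective i
    obtain ⟨j, rfl⟩ := Multiplicative.ofAdd.surjective j
    have ht' : x ^ i.val * y ^ j.val = 1 := by
      rw [← ha, ← hb, ← map_pow, ← map_pow, ← map_mul]; exact ht
    have hj : y ^ j.val ∈ Subgroup.zpowers x := by
      rw [eq_inv_of_mul_eq_one_right ht']
      exact inv_mem (pow_mem (Subgroup.mem_zpowers _) _)
    have key : ∀ k : ZMod 3, k = 0 ∨ k = 1 ∨ k = 2 := by decide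
    rcases key j with rfl | rfl | rfl
    · rw [ZMod.val_zero, pow_zero, mul_one] at ht'
      rcases key i with rfl | rfl | rfl
      · rfl
      · exact absurd (by simpa [ZMod.val_one] using ht') hx1
      · exact absurd (S.sq_eq_one hx.1 ht') hx1
    · exact absurd (by simpa [ZMod.val_one] using hj) hne
    · refine absurd ?_ hne
      have := mul_mem hj hj
      rw [← pow_add, show (2 : ZMod 3).val + (2 : ZMod 3).val = 3 + 1 from rfl, pow_succ, S.cube_inverted hy,
        one_mul] at this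
      exact this
  have hinj : Function.Injective f :=
    (injective_iff_map_eq_one f).2 fun t ht => hbar1 t (by rw [ht, map_one])
  haveI : Fact (Nat.Prime 3) := ⟨Nat.prime_three⟩
  haveI : IsMulCommutative f.range := ⟨⟨fun s t => by
    obtain ⟨_, s, rfl⟩ := s
    obtain ⟨_, t, rfl⟩ := t
    exact Subtype.ext (show f s * f t = f t * f s by rw [← map_mul, ← map_mul, mul_comm])⟩⟩
  have hle : pCore 2 H ≤ pCore 2 H ⊓ Subgroup.centralizer ({d} : Set H) := by
    refine CfsgLib.LocalEven.le_of_centralizers_le (p := 3) (A := f.range) ?_ ?_ ?_ ?_ ?_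
    · rintro _ ⟨t, rfl⟩
      rw [← map_pow, show t ^ 3 = 1 from ?_, map_one]
      exact Prod.ext (exp_three _) (exp_three _)
    · rw [Nat.card_congr (MonoidHom.ofInjective hinj).toEquiv.symm, Nat.card_prod]
      simp
    · rw [Subgroup.normalizer_eq_top_iff.2 inferInstance]; exact le_top
    · intro hd
      obtain ⟨n, hn⟩ := (CfsgLib.Core.isPGroup_pCore 2 H).exists_card_eq
      rw [hn] at hd
      have := (Nat.prime_dvd_prime_iff_eq Nat.prime_three Nat.prime_two).1 (Nat.prime_three.dvd_of_dvd_pow hd)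
      omega
    · rintro _ ⟨⟨i, j⟩, rfl⟩ ht v ⟨hv, hvc⟩
      refine ⟨hv, Subgroup.mem_centralizer_singleton_iff.2 ?_⟩
      have hk : f (i, j) = val54 d a b (0, Multiplicative.toAdd i, Multiplicative.toAdd j,
          Multiplicative.toAdd i * Multiplicative.toAdd j) := by
        simp [f, val54, hz, pw]
      refine S.fixed (S.unit_mem hg _ _) ?_ hv (hk ▸ Subgroup.mem_centralizer_singleton_iff.1 hvc)
      rw [← hk]
      exact fun h => ht (by rw [hbar1 _ h, map_one])
  exact S.not_mem (bar_eq_one.2 (S.cent (Subgroup.mem_centralizer_iff.2 fun v hv =>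
    Subgroup.mem_centralizer_singleton_iff.1 (hle hv).2)) ▸ one_mem P)

set_option maxHeartbeats 2000000 in
/-- A central commutator of two inverted elements has its fixed points centralized by `d`. -/
theorem fixed_of_commutator [Finite H] {x y : H ⧸ pCore 2 H} (hx : x ∈ inverted P (bar H d))
    (hy : y ∈ inverted P (bar H d)) (hz : ⁅x, y⁆ ≠ 1) :
    ∃ z : H, bar H z = ⁅x, y⁆ ∧ z ^ 3 = 1 ∧ Commute d z ∧
      ∀ v ∈ pCore 2 H, Commute v z → Commute v d := by
  have hx1 : x ≠ 1 := fun e => hz (by rw [e, commutatorElement_one_left])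
  have hy1 : y ≠ 1 := fun e => hz (by rw [e, commutatorElement_one_right])
  obtain ⟨a, b, hg, -, -, ha, hb⟩ := S.exists_gen hx hy hx1 hy1
    (fun e => hz (by rw [e, commutatorElement_self]))
    (fun e => hz (commutatorElement_eq_one_iff_commute.2 (by rw [e]; exact (Commute.refl y).inv_left)))
  set z := comm54 a b with hzdef
  have hzb : bar H z = ⁅x, y⁆ := by
    rw [hzdef, comm54, map_mul, map_mul, map_mul, map_inv, map_inv, ha, hb, commutatorElement_def]
  have hdz : Commute d z := mul_inv_eq_iff_eq_mul.1 hg.conj_comm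
  refine ⟨z, hzb, hg.comm_cube, hdz, ?_⟩
  set C := Subgroup.centralizer ({z} : Set H)
  have hCmem : ∀ {g : H}, g ∈ C ↔ Commute g z := fun {g} => by
    rw [Subgroup.mem_centralizer_singleton_iff]; exact Iff.rfl
  have haC : a ∈ C := hCmem.2 hg.comm_left
  have hbC : b ∈ C := hCmem.2 hg.comm_right
  have hdC : d ∈ C := hCmem.2 hdz
  set Z0 := (Subgroup.zpowers z).subgroupOf C with hZ0
  haveI : Z0.Normal := ⟨fun n hn g => by
    rw [hZ0, Subgroup.mem_subgroupOf] at hn ⊢
    obtain ⟨i, hi⟩ := Subgroup.mem_zpowers_iff.1 hn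
    have hgn : Commute (g : H) (n : H) := hi ▸ (hCmem.1 g.2).zpow_right i
    rw [Subgroup.coe_mul, Subgroup.coe_mul, InvMemClass.coe_inv, hgn.eq, mul_inv_cancel_right]
    exact hn⟩
  let π : C →* C ⧸ Z0 := QuotientGroup.mk' Z0
  let a' : C := ⟨a, haC⟩
  let b' : C := ⟨b, hbC⟩
  have hπz : π ⟨z, hCmem.2 (Commute.refl z)⟩ = 1 := (QuotientGroup.eq_one_iff _).2 (Subgroup.mem_zpowers z)
  have hab : Commute (π a') (π b') := by
    rw [← commutatorElement_eq_one_iff_commute, ← map_commutatorElement, ← hπz]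
    rfl
  have ha3 : π a' ^ 3 = 1 := by
    rw [← map_pow, show a' ^ 3 = 1 from Subtype.ext hg.cubex, map_one]
  have hb3 : π b' ^ 3 = 1 := by
    rw [← map_pow, show b' ^ 3 = 1 from Subtype.ext hg.cubey, map_one]
  let f : Multiplicative (ZMod 3) × Multiplicative (ZMod 3) →* C ⧸ Z0 :=
    { toFun := fun t => pw (π a') (Multiplicative.toAdd t.1) * pw (π b') (Multiplicative.toAdd t.2)
      map_one' := by simp [pw_zero]
      map_mul' := fun s t => by
        show pw (π a') (Multiplicative.toAdd s.1 + Multiplicative.toAdd t.1) *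
          pw (π b') (Multiplicative.toAdd s.2 + Multiplicative.toAdd t.2) = _
        rw [pw_add ha3, pw_add hb3]
        exact Commute.mul_mul_mul_comm (hab.pow_pow _ _) _ _ }
  have hinj : Function.Injective f := by
    refine (injective_iff_map_eq_one f).2 ?_
    rintro ⟨i, j⟩ ht
    obtain ⟨i, rfl⟩ := Multiplicative.ofAdd.surjective i
    obtain ⟨j, rfl⟩ := Multiplicative.ofAdd.surjective j
    have ht1 : π (a' ^ i.val * b' ^ j.val) = 1 := by rw [map_mul, map_pow, map_pow]; exact ht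
    have h0 : a' ^ i.val * b' ^ j.val ∈ Z0 := (QuotientGroup.eq_one_iff (N := Z0) _).1 ht1
    rw [hZ0, Subgroup.mem_subgroupOf, Subgroup.coe_mul, SubmonoidClass.coe_pow, SubmonoidClass.coe_pow] at h0
    obtain ⟨m, hm'⟩ := Subgroup.mem_zpowers_iff.1 h0
    replace hm' : z ^ m = a ^ i.val * b ^ j.val := hm'
    have hne : ¬ Commute a b := fun hc => hz (by
      rw [← hzb, hzdef, comm54, hc.eq, mul_inv_cancel_right, mul_inv_cancel, map_one])
    have key : ∀ k : ZMod 3, k = 0 ∨ k = 1 ∨ k = 2 := by decide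
    have hcase : j = 0 := by
      by_contra hj
      refine hne ?_
      have h1 : Commute a (b ^ j.val) := by
        have : b ^ j.val = (a ^ i.val)⁻¹ * z ^ m := by rw [hm']; group
        rw [this]
        exact ((Commute.refl a).pow_right _).inv_right.mul_right (hg.comm_left.zpow_right m)
      rcases key j with rfl | rfl | rfl
      · exact absurd rfl hj
      · rwa [ZMod.val_one, pow_one] at h1
      · have := h1.mul_right h1
        rwa [← pow_add, show (2 : ZMod 3).val + (2 : ZMod 3).val = 3 + 1 from rfl, pow_succ, hg.cubey,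
          one_mul] at this
    subst hcase
    rw [ZMod.val_zero, pow_zero, mul_one] at hm'
    rcases key i with rfl | rfl | rfl
    · rfl
    · exfalso
      rw [ZMod.val_one, pow_one] at hm'
      exact hne (hm' ▸ hg.comm_right.symm.zpow_left m)
    · exfalso
      have h1 : Commute (a ^ (2 : ZMod 3).val) b := hm' ▸ hg.comm_right.symm.zpow_left m
      have := h1.mul_left h1
      rw [← pow_add, show (2 : ZMod 3).val + (2 : ZMod 3).val = 3 + 1 from rfl, pow_succ, hg.cubex,
        one_mul] at this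
      exact hne this
  haveI : Fact (Nat.Prime 3) := ⟨Nat.prime_three⟩
  haveI : IsMulCommutative f.range := ⟨⟨fun s t => by
    obtain ⟨_, s, rfl⟩ := s
    obtain ⟨_, t, rfl⟩ := t
    exact Subtype.ext (show f s * f t = f t * f s by rw [← map_mul, ← map_mul, mul_comm])⟩⟩
  set N := ((pCore 2 H).subgroupOf C).map π with hN
  haveI : N.Normal := Subgroup.Normal.map inferInstance π (QuotientGroup.mk'_surjective Z0)
  set Y := ((Subgroup.centralizer ({d} : Set H)).subgroupOf C).map π with hY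
  have hle : N ≤ Y := by
    refine CfsgLib.LocalEven.le_of_centralizers_le (p := 3) (A := f.range) ?_ ?_ ?_ ?_ ?_
    · rintro _ ⟨t, rfl⟩
      rw [← map_pow, show t ^ 3 = 1 from ?_, map_one]
      exact Prod.ext (exp_three _) (exp_three _)
    · rw [Nat.card_congr (MonoidHom.ofInjective hinj).toEquiv.symm, Nat.card_prod]
      simp
    · rw [Subgroup.normalizer_eq_top_iff.2 inferInstance]; exact le_top
    · intro hd
      have hp : IsPGroup 2 N :=
        ((CfsgLib.Core.isPGroup_pCore 2 H).comap_of_injective C.subtype C.subtype_injective).map π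
      obtain ⟨n, hn⟩ := hp.exists_card_eq
      rw [hn] at hd
      have := (Nat.prime_dvd_prime_iff_eq Nat.prime_three Nat.prime_two).1 (Nat.prime_three.dvd_of_dvd_pow hd)
      omega
    · rintro _ ⟨⟨i, j⟩, rfl⟩ ht _ ⟨⟨u, hu, rfl⟩, huc⟩
      refine Subgroup.mem_map_of_mem π (Subgroup.mem_centralizer_singleton_iff.2 ?_)
      set k := val54 d a b (0, Multiplicative.toAdd i, Multiplicative.toAdd j,
          Multiplicative.toAdd i * Multiplicative.toAdd j) with hk
      have hkC : k ∈ C := by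
        rw [hk, val54]
        exact mul_mem (pow_mem hdC _) (mul_mem (mul_mem (pow_mem haC _) (pow_mem hbC _))
          (pow_mem (hCmem.2 (Commute.refl z)) _))
      have hkeq : π ⟨k, hkC⟩ = f (i, j) := by
        have e : (⟨k, hkC⟩ : C) = a' ^ (Multiplicative.toAdd i).val * b' ^ (Multiplicative.toAdd j).val *
            (⟨z, hCmem.2 (Commute.refl z)⟩ : C) ^ (Multiplicative.toAdd i * Multiplicative.toAdd j).val :=
          Subtype.ext (by simp [hk, val54, pw, a', b', hzdef])
        rw [e, map_mul, map_mul, map_pow, map_pow, map_pow, hπz, one_pow, mul_one]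
        rfl
      have hcz : ⁅k, (u : H)⁆ ∈ Subgroup.zpowers z := by
        have h1 : π ⁅(⟨k, hkC⟩ : C), u⁆ = 1 := by
          rw [map_commutatorElement, commutatorElement_eq_one_iff_commute, hkeq]
          exact (Subgroup.mem_centralizer_singleton_iff.1 huc).symm
        have h2 := (QuotientGroup.eq_one_iff (N := Z0) _).1 h1
        rw [hZ0, Subgroup.mem_subgroupOf] at h2
        exact h2
      have hcQ : ⁅k, (u : H)⁆ ∈ pCore 2 H :=
        mul_mem ((inferInstance : (pCore 2 H).Normal).conj_mem _ hu k) (inv_mem hu)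
      have hc1 : ⁅k, (u : H)⁆ = 1 := by
        refine eq_one_of_two_three hcQ ?_
        obtain ⟨m, hm⟩ := Subgroup.mem_zpowers_iff.1 hcz
        rw [← hm, ← zpow_natCast, ← zpow_mul, mul_comm, zpow_mul, zpow_natCast, hg.comm_cube, one_zpow]
      refine S.fixed (S.unit_mem hg _ _) (fun hb1 => ht ?_) hu
        (commutatorElement_eq_one_iff_commute.1 hc1).symm
      have : k = 1 := eq_one_of_two_three (bar_eq_one.1 hb1) (by
        rw [hk, pow_succ, pow_two, hg.val54_mul, hg.val54_mul, unit_cube, Gen54.val54_zero])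
      rw [← hkeq, show (⟨k, hkC⟩ : C) = 1 from Subtype.ext this, map_one]
  intro v hv hvz
  obtain ⟨c, hc, hcv⟩ := hle (Subgroup.mem_map_of_mem π (show (⟨v, hCmem.2 hvz⟩ : C) ∈
    (pCore 2 H).subgroupOf C from hv))
  have h1 := (QuotientGroup.eq (s := Z0)).1 hcv
  rw [hZ0, Subgroup.mem_subgroupOf, Subgroup.coe_mul, InvMemClass.coe_inv] at h1
  obtain ⟨m, hm⟩ := Subgroup.mem_zpowers_iff.1 h1
  have hv' : v = (c : H) * z ^ m := by rw [hm]; group
  rw [hv']
  exact (show Commute (c : H) d from Subgroup.mem_centralizer_singleton_iff.1 hc).mul_left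
    (hdz.zpow_right m).symm

set_option maxHeartbeats 2000000 in
/-- The commutators with a fixed element of the second centre form a cyclic group. -/
theorem commutators_cyclic [Finite H] {x y y' : H ⧸ pCore 2 H} (hx : x ∈ inverted P (bar H d))
    (hy : y ∈ inverted P (bar H d)) (hy' : y' ∈ inverted P (bar H d))
    (hxc : ∀ p ∈ P, ⁅x, p⁆ ∈ Subgroup.center (H ⧸ pCore 2 H)) (hz : ⁅x, y⁆ ≠ 1) :
    ⁅x, y'⁆ ∈ Subgroup.zpowers ⁅x, y⁆ := by
  haveI := S.normal
  by_contra hne
  set z := ⁅x, y⁆ with hzdef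
  set z' := ⁅x, y'⁆ with hz'def
  have hz' : z' ≠ 1 := fun e => hne (e ▸ one_mem _)
  have hzc : ∀ g : H ⧸ pCore 2 H, Commute g z := Subgroup.mem_center_iff.1 (hxc y hy.1)
  have hz'c : ∀ g : H ⧸ pCore 2 H, Commute g z' := Subgroup.mem_center_iff.1 (hxc y' hy'.1)
  have hbil : ∀ p ∈ P, ∀ p' ∈ P, ⁅x, p * p'⁆ = ⁅x, p⁆ * ⁅x, p'⁆ := by
    intro p hp p' hp'
    have e : ⁅x, p * p'⁆ = ⁅x, p⁆ * (p * ⁅x, p'⁆ * p⁻¹) := by simp only [commutatorElement_def]; group
    rw [e, Subgroup.mem_center_iff.1 (hxc p' hp') p, mul_inv_cancel_right]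
  have hpow : ∀ p ∈ P, ∀ n : ℕ, ⁅x, p ^ n⁆ = ⁅x, p⁆ ^ n := by
    intro p hp n
    induction n with
    | zero => simp
    | succ n ih => rw [pow_succ, hbil _ (pow_mem hp n) _ hp, ih, pow_succ]
  have hz3 : z ^ 3 = 1 := by
    rw [hzdef, ← hpow y hy.1, S.cube_inverted hy, commutatorElement_one_right]
  have hz'3 : z' ^ 3 = 1 := by
    rw [hz'def, ← hpow y' hy'.1, S.cube_inverted hy', commutatorElement_one_right]
  let f : Multiplicative (ZMod 3) × Multiplicative (ZMod 3) →* H ⧸ pCore 2 H :=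
    { toFun := fun t => pw z (Multiplicative.toAdd t.1) * pw z' (Multiplicative.toAdd t.2)
      map_one' := by simp [pw_zero]
      map_mul' := fun s t => by
        show pw z (Multiplicative.toAdd s.1 + Multiplicative.toAdd t.1) *
          pw z' (Multiplicative.toAdd s.2 + Multiplicative.toAdd t.2) = _
        rw [pw_add hz3, pw_add hz'3]
        exact Commute.mul_mul_mul_comm ((hz'c z).pow_pow _ _) _ _ }
  have hinj : Function.Injective f := by
    refine (injective_iff_map_eq_one f).2 ?_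
    rintro ⟨i, j⟩ ht
    obtain ⟨i, rfl⟩ := Multiplicative.ofAdd.surjective i
    obtain ⟨j, rfl⟩ := Multiplicative.ofAdd.surjective j
    have ht' : z ^ i.val * z' ^ j.val = 1 := ht
    have key : ∀ k : ZMod 3, k = 0 ∨ k = 1 ∨ k = 2 := by decide
    have hj : z' ^ j.val ∈ Subgroup.zpowers z := by
      rw [eq_inv_of_mul_eq_one_right ht']; exact inv_mem (pow_mem (Subgroup.mem_zpowers _) _)
    rcases key j with rfl | rfl | rfl
    · rw [ZMod.val_zero, pow_zero, mul_one] at ht'
      rcases key i with rfl | rfl | rfl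
      · rfl
      · exact absurd (by simpa [ZMod.val_one] using ht') hz
      · refine absurd ?_ hz
        rw [show (2 : ZMod 3).val = 2 from rfl] at ht'
        rwa [pow_succ, ht', one_mul] at hz3
    · exact absurd (by simpa [ZMod.val_one] using hj) hne
    · refine absurd ?_ hne
      have := mul_mem hj hj
      rwa [← pow_add, show (2 : ZMod 3).val + (2 : ZMod 3).val = 3 + 1 from rfl, pow_succ, hz'3,
        one_mul] at this
  -- every non-trivial element of the range is a commutator of inverted elements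
  have hrep : ∀ e ∈ f.range, ∃ w ∈ inverted P (bar H d), ⁅x, w⁆ = e := by
    rintro _ ⟨⟨i, j⟩, rfl⟩
    set p := y ^ (Multiplicative.toAdd i).val * y' ^ (Multiplicative.toAdd j).val with hp
    have hpP : p ∈ P := mul_mem (pow_mem hy.1 _) (pow_mem hy'.1 _)
    have hxp : ⁅x, p⁆ = f (i, j) := by
      rw [hp, hbil _ (pow_mem hy.1 _) _ (pow_mem hy'.1 _), hpow y hy.1, hpow y' hy'.1]; rfl
    have hdd : bar H d * bar H d = 1 := by rw [← map_mul, mul_self S.set S.mem, map_one]
    refine ⟨(p * (bar H d * p⁻¹ * (bar H d)⁻¹))⁻¹, inverted.inv (inverted.mul_conj hdd hpP), ?_⟩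
    set u := p * (bar H d * p⁻¹ * (bar H d)⁻¹)
    have hpinv : ∀ r ∈ P, ⁅x, r⁻¹⁆ = ⁅x, r⁆⁻¹ := fun r hr =>
      eq_inv_of_mul_eq_one_left (by rw [← hbil _ (inv_mem hr) _ hr, inv_mul_cancel, commutatorElement_one_right])
    have hq := (inferInstance : P.Normal).conj_mem _ (inv_mem hpP) (bar H d)
    have e1 : bar H d * ⁅x, p⁻¹⁆ * (bar H d)⁻¹ = ⁅x⁻¹, bar H d * p⁻¹ * (bar H d)⁻¹⁆ := by
      rw [← hx.2]; simp only [commutatorElement_def]; group
    have e2 : ∀ r, ⁅x⁻¹, r⁆ = x⁻¹ * ⁅x, r⁆⁻¹ * x := fun r => by simp only [commutatorElement_def]; group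
    rw [Subgroup.mem_center_iff.1 (hxc _ (inv_mem hpP)) (bar H d), mul_inv_cancel_right, e2, mul_assoc,
      ← Subgroup.mem_center_iff.1 (inv_mem (hxc _ hq)) x, inv_mul_cancel_left, hpinv p hpP, inv_inj] at e1
    have hu : ⁅x, u⁆ = f (i, j) * f (i, j) := by
      rw [hbil p hpP _ hq, ← e1, hxp]
    rw [hpinv _ (mul_mem hpP hq), hu]
    refine inv_eq_of_mul_eq_one_right ?_
    rw [← map_mul, ← map_mul, show (i, j) * (i, j) * (i, j) = 1 from ?_, map_one]
    have h3 : ∀ k : Multiplicative (ZMod 3), k * k * k = 1 := by decide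
    exact Prod.ext (h3 i) (h3 j)
  obtain ⟨Z, hZ, -, hdZ, -⟩ := S.fixed_of_commutator hx hy hz
  obtain ⟨Z', hZ', -, hdZ', -⟩ := S.fixed_of_commutator hx hy' hz'
  haveI : Fact (Nat.Prime 3) := ⟨Nat.prime_three⟩
  set G0 := Subgroup.closure ({Z, Z'} : Set H) with hG0
  have hG0d : G0 ≤ Subgroup.centralizer ({d} : Set H) := by
    rw [hG0, Subgroup.closure_le]
    rintro t (rfl | rfl)
    · exact Subgroup.mem_centralizer_singleton_iff.2 hdZ.symm.eq
    · exact Subgroup.mem_centralizer_singleton_iff.2 hdZ'.symm.eq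
  have hmap : G0.map (bar H) = f.range := by
    rw [hG0, MonoidHom.map_closure, Set.image_pair, hZ, hZ', ← hzdef, ← hz'def]
    refine le_antisymm ((Subgroup.closure_le _).2 ?_) ?_
    · rintro t (rfl | rfl)
      · exact ⟨(Multiplicative.ofAdd 1, 1), by show pw z _ * pw z' _ = _; simp [pw, ZMod.val_one]⟩
      · exact ⟨(1, Multiplicative.ofAdd 1), by show pw z _ * pw z' _ = _; simp [pw, ZMod.val_one]⟩
    · rintro _ ⟨⟨i, j⟩, rfl⟩
      have h1 : z ∈ Subgroup.closure ({z, z'} : Set (H ⧸ pCore 2 H)) :=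
        Subgroup.subset_closure (Set.mem_insert z _)
      have h2 : z' ∈ Subgroup.closure ({z, z'} : Set (H ⧸ pCore 2 H)) :=
        Subgroup.subset_closure (Set.mem_insert_of_mem z (Set.mem_singleton z'))
      exact mul_mem (pow_mem h1 (Multiplicative.toAdd i).val) (pow_mem h2 (Multiplicative.toAdd j).val)
  have hcard : Nat.card f.range = 3 ^ 2 := by
    rw [Nat.card_congr (MonoidHom.ofInjective hinj).toEquiv.symm, Nat.card_prod]
    simp
  obtain ⟨T0⟩ := (inferInstance : Nonempty (Sylow 3 G0))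
  set T := (T0 : Subgroup G0).map G0.subtype with hT
  have hTp : IsPGroup 3 T := T0.isPGroup'.map _
  have hTker : ∀ t ∈ T, bar H t = 1 → t = 1 := by
    intro t ht h1
    obtain ⟨n, hn⟩ := hTp ⟨t, ht⟩
    obtain ⟨m, hm⟩ := CfsgLib.Core.isPGroup_pCore 2 H ⟨t, bar_eq_one.1 h1⟩
    have hdvd : orderOf t ∣ Nat.gcd (3 ^ n) (2 ^ m) :=
      Nat.dvd_gcd (orderOf_dvd_of_pow_eq_one (congrArg Subtype.val hn))
        (orderOf_dvd_of_pow_eq_one (congrArg Subtype.val hm))
    rw [((Nat.coprime_primes Nat.prime_three Nat.prime_two).2 (by norm_num)).pow n m] at hdvd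
    exact orderOf_eq_one_iff.1 (Nat.dvd_one.1 hdvd)
  have hTG : T ≤ G0 := Subgroup.map_subtype_le _
  have hTf : ∀ t ∈ T, bar H t ∈ f.range := fun t ht => hmap ▸ Subgroup.mem_map_of_mem _ (hTG ht)
  have hfr : ∀ s ∈ f.range, ∀ t ∈ f.range, s * t = t * s := by
    rintro _ ⟨s, rfl⟩ _ ⟨t, rfl⟩
    rw [← map_mul, ← map_mul, mul_comm]
  haveI : IsMulCommutative T := ⟨⟨fun s t => Subtype.ext (commutatorElement_eq_one_iff_commute.1
    (hTker _ (⁅s, t⁆ : T).2 (by
      show bar H ⁅(s : H), (t : H)⁆ = 1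
      rw [map_commutatorElement, commutatorElement_eq_one_iff_commute]
      exact hfr _ (hTf _ s.2) _ (hTf _ t.2))) : (s : H) * t = t * s)⟩⟩
  have hexp : ∀ t ∈ T, t ^ 3 = 1 := by
    intro t ht
    refine hTker _ (pow_mem ht 3) ?_
    obtain ⟨s, hs⟩ := hTf t ht
    rw [map_pow, ← hs, ← map_pow, show s ^ 3 = 1 from Prod.ext (exp_three _) (exp_three _), map_one]
  have hnc : 3 ^ 2 ≤ Nat.card T := by
    have h1 : 3 ^ 2 ∣ Nat.card G0 := by
      rw [← hcard, ← hmap]
      exact G0.card_map_dvd _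
    rw [Nat.card_congr ((T0 : Subgroup G0).equivMapOfInjective G0.subtype G0.subtype_injective).toEquiv.symm]
    exact Nat.le_of_dvd Nat.card_pos (T0.pow_dvd_card_of_pow_dvd_card h1)
  have hle : pCore 2 H ≤ pCore 2 H ⊓ Subgroup.centralizer ({d} : Set H) := by
    refine CfsgLib.LocalEven.le_of_centralizers_le (p := 3) (A := T) hexp hnc ?_ ?_ ?_
    · rw [Subgroup.normalizer_eq_top_iff.2 inferInstance]; exact le_top
    · intro hd
      obtain ⟨n, hn⟩ := (CfsgLib.Core.isPGroup_pCore 2 H).exists_card_eq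
      rw [hn] at hd
      have := (Nat.prime_dvd_prime_iff_eq Nat.prime_three Nat.prime_two).1 (Nat.prime_three.dvd_of_dvd_pow hd)
      omega
    · intro t ht ht1
      have hbt : bar H t ≠ 1 := fun e => ht1 (hTker t ht e)
      obtain ⟨w, hw, hwe⟩ := hrep _ (hTf t ht)
      obtain ⟨W, hW, hW3, hdW, hWfix⟩ := S.fixed_of_commutator hx hw (hwe.symm ▸ hbt)
      set D := pCore 2 H ⊓ Subgroup.centralizer ({d} : Set H) with hD
      have hdt : t * d = d * t := Subgroup.mem_centralizer_singleton_iff.1 (hG0d (hTG ht))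
      have hA : Subgroup.zpowers W ≤ Subgroup.normalizer (D : Set H) := by
        rw [Subgroup.zpowers_le]
        have hWd : W ∈ Subgroup.centralizer ({d} : Set H) :=
          Subgroup.mem_centralizer_singleton_iff.2 hdW.symm.eq
        refine Subgroup.mem_normalizer_fintype fun v hv => ?_
        exact ⟨(inferInstance : (pCore 2 H).Normal).conj_mem v hv.1 W,
          (Subgroup.centralizer ({d} : Set H)).mul_mem ((Subgroup.centralizer ({d} : Set H)).mul_mem hWd hv.2)
            ((Subgroup.centralizer ({d} : Set H)).inv_mem hWd)⟩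
      have hK : Subgroup.zpowers t ≤ Subgroup.zpowers W ⊔ D := by
        rw [Subgroup.zpowers_le, show t = W * (W⁻¹ * t) by group]
        refine mul_mem (Subgroup.mem_sup_left (Subgroup.mem_zpowers W)) (Subgroup.mem_sup_right ⟨?_, ?_⟩)
        · exact QuotientGroup.eq.1 (show bar H W = bar H t by rw [hW, hwe])
        · exact (Subgroup.centralizer ({d} : Set H)).mul_mem
            ((Subgroup.centralizer ({d} : Set H)).inv_mem (Subgroup.mem_centralizer_singleton_iff.2 hdW.symm.eq))
            (Subgroup.mem_centralizer_singleton_iff.2 hdt)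
      have hW1 : W ≠ 1 := fun e => hbt (by rw [← hwe, ← hW, e, map_one])
      have hoW : orderOf W = 3 := orderOf_eq_prime hW3 hW1
      have hot : orderOf t = 3 := orderOf_eq_prime (hexp t ht) ht1
      have hcop : (Nat.card (Subgroup.zpowers W)).Coprime (Nat.card D) := by
        obtain ⟨n, hn⟩ := ((CfsgLib.Core.isPGroup_pCore 2 H).to_le (inf_le_left : D ≤ _)).exists_card_eq
        rw [Nat.card_zpowers, hoW, hn]
        exact ((Nat.coprime_primes Nat.prime_three Nat.prime_two).2 (by norm_num)).pow_right n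
      haveI : Group.IsSolvable (Subgroup.zpowers W) := Group.isSolvable_of_comm fun a b => mul_comm' a b
      obtain ⟨n, hn, hconj⟩ := CfsgLib.Core.exists_conj_eq_of_coprime hA hK
        (by rw [Nat.card_zpowers, Nat.card_zpowers, hot, hoW]) hcop (Or.inr inferInstance)
      have hnt : n * W * n⁻¹ = t := by
        have h1 : n * W * n⁻¹ ∈ Subgroup.zpowers t :=
          hconj ▸ CfsgLib.Core.conj_mem_conj_smul (Subgroup.mem_zpowers W)
        have hT' : n * W * n⁻¹ ∈ T := (Subgroup.zpowers_le.2 ht) h1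
        have h2 : bar H (n * W * n⁻¹ * t⁻¹) = 1 := by
          rw [map_mul, map_mul, map_mul, bar_eq_one.2 hn.1, map_inv, map_inv, hW, hwe]
          rw [bar_eq_one.2 hn.1, inv_one, one_mul, mul_one, mul_inv_cancel]
        exact mul_inv_eq_one.1 (hTker _ (mul_mem hT' (inv_mem ht)) h2)
      rintro v ⟨hv, hvc⟩
      refine ⟨hv, Subgroup.mem_centralizer_singleton_iff.2 ?_⟩
      have hvt : Commute v t := Subgroup.mem_centralizer_singleton_iff.1 hvc
      have hnd : Commute n d := Subgroup.mem_centralizer_singleton_iff.1 hn.2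
      have h1 : Commute (n⁻¹ * v * n) W := by
        have := hvt.map (MulAut.conj n⁻¹).toMonoidHom
        simpa [← hnt, mul_assoc] using this
      have h2 := hWfix _ (by
        have := (inferInstance : (pCore 2 H).Normal).conj_mem v hv n⁻¹
        rwa [inv_inv] at this) h1
      have h3 := ((hnd.mul_left h2).mul_left hnd.inv_left)
      rwa [show n * (n⁻¹ * v * n) * n⁻¹ = v by group] at h3
  exact S.not_mem (bar_eq_one.2 (S.cent (Subgroup.mem_centralizer_iff.2 fun v hv =>
    Subgroup.mem_centralizer_singleton_iff.1 (hle hv).2)) ▸ one_mem P)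

end Data

theorem eq_top_of_class {G : Type*} [Group G] [Finite G] [Group.IsNilpotent G] {d : G}
    (h : Subgroup.closure (conjugatesOf d) = ⊤) : Subgroup.zpowers d = ⊤ := by
  by_contra hne
  obtain ⟨M, hM, hle⟩ := (eq_top_or_exists_le_coatom (Subgroup.zpowers d)).resolve_left hne
  haveI : M.Normal :=
    Subgroup.NormalizerCondition.normal_of_coatom M Group.normalizerCondition_of_isNilpotent hM
  refine hM.1 (eq_top_iff.2 (h ▸ (Subgroup.closure_le _).2 ?_))
  intro x hx
  obtain ⟨g, rfl⟩ := isConj_iff.1 hx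
  exact (inferInstance : M.Normal).conj_mem _ (hle (Subgroup.mem_zpowers _)) _

/-- The dichotomy. -/
theorem structure_quotient {H : Type*} [Group H] [Finite H] {E : Set H} (hE : IsThreeTranspositionClass E)
    (hE2 : ∃ a ∈ E, ∃ b ∈ E, a ≠ b) (hF : generalizedFittingSubgroup H = pCore 2 H)
    {P : Subgroup (H ⧸ pCore 2 H)} (hPn : P.Normal) (hP : IsPGroup 3 P) {k : ℕ} (hk : P.index = 2 ^ k) :
    ∃ d : H ⧸ pCore 2 H, d * d = 1 ∧ d ≠ 1 ∧
      ((∃ x, x ≠ 1 ∧ x ^ 3 = 1 ∧ d * x * d⁻¹ = x⁻¹ ∧ Subgroup.closure ({d, x} : Set _) = ⊤) ∨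
        ∃ x y, Gen54 d x y ∧ Subgroup.closure ({d, x, y} : Set _) = ⊤ ∧ 54 ≤ Nat.card (H ⧸ pCore 2 H)) := by
  haveI := hPn
  haveI : Fact (Nat.Prime 2) := ⟨Nat.prime_two⟩
  obtain ⟨hset, ⟨d, hd, rfl⟩, hgen⟩ := hE
  have hconj : ∀ g : H, ∀ t ∈ conjugatesOf d, g * t * g⁻¹ ∈ conjugatesOf d :=
    fun g t ht => IsConj.trans ht (isConj_iff.2 ⟨g, rfl⟩)
  have hcent : Subgroup.centralizer (pCore 2 H : Set H) ≤ pCore 2 H := by
    rw [← hF]; exact CfsgLib.Components.centralizer_gFitting_le
  have hnot2 : ¬ IsPGroup 2 H := by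
    intro h2
    haveI : Group.IsNilpotent H := h2.isNilpotent
    have hz := eq_top_of_class hgen
    obtain ⟨a, ha, b, hb, hab⟩ := hE2
    refine hab ?_
    have key : ∀ t ∈ conjugatesOf d, t = d := by
      intro t ht
      obtain ⟨g, rfl⟩ := isConj_iff.1 ht
      obtain ⟨i, hi⟩ := Subgroup.mem_zpowers_iff.1 (hz ▸ Subgroup.mem_top g : g ∈ Subgroup.zpowers d)
      rw [← hi, ((Commute.refl d).zpow_left i).eq, mul_inv_cancel_right]
    rw [key a ha, key b hb]
  have hgenX : Subgroup.closure (conjugatesOf (bar H d)) = ⊤ := by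
    rw [eq_top_iff, ← Subgroup.map_top_of_surjective (bar H) (QuotientGroup.mk'_surjective _), ← hgen,
      MonoidHom.map_closure]
    refine Subgroup.closure_mono ?_
    rintro _ ⟨t, ht, rfl⟩
    obtain ⟨g, rfl⟩ := isConj_iff.1 ht
    exact isConj_iff.2 ⟨bar H g, by simp⟩
  have hdd : bar H d * bar H d = 1 := by rw [← map_mul, mul_self hset hd, map_one]
  have hlift : IsPGroup 2 (H ⧸ pCore 2 H) → IsPGroup 2 H := by
    intro h g
    obtain ⟨n, hn⟩ := h (bar H g)
    rw [← map_pow, bar_eq_one] at hn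
    obtain ⟨m, hm⟩ := CfsgLib.Core.isPGroup_pCore 2 H ⟨g ^ 2 ^ n, hn⟩
    exact ⟨n + m, by rw [pow_add, pow_mul]; exact congrArg Subtype.val hm⟩
  have hdP : bar H d ∉ P := by
    intro hd'
    have htop : P = ⊤ := by
      rw [eq_top_iff, ← hgenX, Subgroup.closure_le]
      intro t ht
      obtain ⟨g, rfl⟩ := isConj_iff.1 ht
      exact hPn.conj_mem _ hd' _
    obtain ⟨n, hn⟩ := hP ⟨_, hd'⟩
    have hn' : (bar H d) ^ 3 ^ n = 1 := congrArg Subtype.val hn
    obtain ⟨j, hj⟩ : Odd (3 ^ n) := Odd.pow (by decide)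
    have h1 : bar H d = 1 := by
      rw [hj, pow_succ, pow_mul, pow_two, hdd, one_pow, one_mul] at hn'
      exact hn'
    refine hnot2 (hlift ?_)
    have : (⊤ : Subgroup (H ⧸ pCore 2 H)) = ⊥ := by
      rw [← hgenX, Subgroup.closure_eq_bot_iff]
      intro t ht
      obtain ⟨g, rfl⟩ := isConj_iff.1 ht
      simp [h1]
    intro g
    exact ⟨0, by rw [pow_zero, pow_one]; exact Subgroup.mem_bot.1 (this ▸ Subgroup.mem_top g)⟩
  have hidx := index_two_of_class hk hdd hdP hgenX
  have hPne : P ≠ ⊥ := by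
    intro hbot
    refine hnot2 (hlift (IsPGroup.of_card (n := 1) ?_))
    rw [← P.card_mul_index, hidx, hbot, Subgroup.card_bot]
    norm_num
  have S : Data (conjugatesOf d) d P := {
    set := hset, conj := hconj, mem := hd, cent := hcent, normal := hPn, pgroup := hP, index := hidx,
    not_mem := hdP,
    allP := fun t ht h => by
      obtain ⟨g, rfl⟩ := isConj_iff.1 ht
      rw [map_mul, map_mul, map_inv] at h
      exact hdP (by simpa [mul_assoc] using hPn.conj_mem _ h (bar H g)⁻¹) }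
  exact ⟨bar H d, hdd, fun e => hdP (e ▸ one_mem P), structure_six_or_fiftyfour hP hk hdd hdP hgenX hPne
    (fun x hx => S.cube_inverted hx) (fun x hx y hy hx1 hc => S.commuting_dependent hx hy hx1 hc)
    (fun x hx y hy y' hy' hxc hz => S.commutators_cyclic hx hy hy' hxc hz)⟩

end CfsgLib.ThreeTrans.Radical
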