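import Cfsg.Agent.Lib.ThreeTrans.FiftyFour
import Cfsg.Agent.Lib.PGroups.Basic

set_option autoImplicit false

/-!
An involution acting on a 3-group generated by inverted elements, under the restrictions coming from
an action on a 2-group: the group has order 6 or 54 (owner: helper28).
-/

namespace CfsgLib.ThreeTrans

open scoped commutatorElement

variable {X : Type*} [Group X]

theorem index_two_of_class [Finite X] {P : Subgroup X} [P.Normal] {k : ℕ} (hk : P.index = 2 ^ k) {d : X}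
    (hd : d * d = 1) (hdP : d ∉ P) (hgen : Subgroup.closure (conjugatesOf d) = ⊤) : P.index = 2 := by
  haveI : Fact (Nat.Prime 2) := ⟨Nat.prime_two⟩
  have hQ : IsPGroup 2 (X ⧸ P) := IsPGroup.of_card (n := k) (by rw [← Subgroup.index_eq_card, hk])
  haveI : Group.IsNilpotent (X ⧸ P) := hQ.isNilpotent
  set q := QuotientGroup.mk' P with hq
  have htop : Subgroup.zpowers (q d) = ⊤ := by
    by_contra hne
    obtain ⟨M, hM, hle⟩ := (eq_top_or_exists_le_coatom (Subgroup.zpowers (q d))).resolve_left hne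
    haveI : M.Normal :=
      Subgroup.NormalizerCondition.normal_of_coatom M Group.normalizerCondition_of_isNilpotent hM
    refine hM.1 (eq_top_iff.2 ?_)
    rw [← Subgroup.map_top_of_surjective q (QuotientGroup.mk'_surjective P), ← hgen, MonoidHom.map_closure,
      Subgroup.closure_le]
    rintro _ ⟨x, hx, rfl⟩
    obtain ⟨g, rfl⟩ := isConj_iff.1 hx
    rw [map_mul, map_mul, map_inv]
    exact (inferInstance : M.Normal).conj_mem _ (hle (Subgroup.mem_zpowers _)) _
  have hne1 : q d ≠ 1 := fun e => hdP ((QuotientGroup.eq_one_iff d).1 e)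
  have ho : orderOf (q d) = 2 := orderOf_eq_prime (by rw [pow_two, ← map_mul, hd, map_one]) hne1
  rw [Subgroup.index_eq_card, ← ho, ← Nat.card_zpowers, htop, Subgroup.card_top]

/-- The inverted elements of `P`. -/
def inverted (P : Subgroup X) (d : X) : Set X := {x | x ∈ P ∧ d * x * d⁻¹ = x⁻¹}

variable {P : Subgroup X} {d : X}

theorem inverted.mul_conj [P.Normal] (hd : d * d = 1) {p : X} (hp : p ∈ P) :
    p * (d * p⁻¹ * d⁻¹) ∈ inverted P d := by
  refine ⟨mul_mem hp ((inferInstance : P.Normal).conj_mem _ (inv_mem hp) d), ?_⟩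
  have hd' : d⁻¹ = d := inv_eq_of_mul_eq_one_right hd
  rw [mul_inv_rev, mul_inv_rev, mul_inv_rev, inv_inv, inv_inv, hd']
  simp only [← mul_assoc]
  rw [mul_assoc _ d d, hd, mul_one]

theorem inverted.inv {x : X} (hx : x ∈ inverted P d) : x⁻¹ ∈ inverted P d :=
  ⟨inv_mem hx.1, by rw [← conj_inv, hx.2]⟩

theorem inverted.pow {x : X} (hx : x ∈ inverted P d) (n : ℕ) : x ^ n ∈ inverted P d :=
  ⟨pow_mem hx.1 n, by rw [← conj_pow, hx.2, inv_pow]⟩

theorem closure_inverted [Finite X] [P.Normal] (hd : d * d = 1) (hdP : d ∉ P) (hidx : P.index = 2)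
    (hgen : Subgroup.closure (conjugatesOf d) = ⊤) : Subgroup.closure (inverted P d) = P := by
  set J := Subgroup.closure (inverted P d) with hJ
  have hJP : J ≤ P := (Subgroup.closure_le P).2 fun x hx => hx.1
  have hd' : d⁻¹ = d := inv_eq_of_mul_eq_one_right hd
  have hJd : ∀ x ∈ J, d * x * d⁻¹ ∈ J := by
    intro x hx
    induction hx using Subgroup.closure_induction with
    | mem t ht => rw [ht.2]; exact inv_mem (Subgroup.subset_closure ht)
    | one => simp
    | mul a b _ _ ha hb => rw [← conj_mul]; exact mul_mem ha hb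
    | inv a _ ha => rw [← conj_inv]; exact inv_mem ha
  let U : Subgroup X :=
    { carrier := {g | g ∈ J ∨ d * g ∈ J}
      one_mem' := Or.inl (one_mem J)
      mul_mem' := by
        rintro a b (ha | ha) (hb | hb)
        · exact Or.inl (mul_mem ha hb)
        · refine Or.inr ?_
          have e : d * (a * b) = (d * a * d⁻¹) * (d * b) := by group
          rw [e]; exact mul_mem (hJd a ha) hb
        · exact Or.inr (by rw [← mul_assoc]; exact mul_mem ha hb)
        · refine Or.inl ?_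
          have e : a * b = (d * (d * a) * d⁻¹) * (d * b) := by
            rw [← mul_assoc d d, hd, one_mul, mul_assoc, inv_mul_cancel_left]
          rw [e]; exact mul_mem (hJd _ ha) hb
      inv_mem' := by
        rintro a (ha | ha)
        · exact Or.inl (inv_mem ha)
        · refine Or.inr ?_
          have e : d * a⁻¹ = d * (d * a)⁻¹ * d⁻¹⁻¹⁻¹ * d * d := by rw [mul_inv_rev]; group
          rw [e, mul_assoc, hd, mul_one, inv_inv]
          exact hJd _ (inv_mem ha) }
  have hUtop : U = ⊤ := by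
    rw [eq_top_iff, ← hgen, Subgroup.closure_le]
    intro x hx
    obtain ⟨g, rfl⟩ := isConj_iff.1 hx
    refine Or.inr (Subgroup.subset_closure ⟨?_, ?_⟩)
    · rw [Subgroup.mul_mem_iff_of_index_two hidx]
      exact iff_of_false hdP fun h => hdP
        (by have := (inferInstance : P.Normal).conj_mem _ h g⁻¹; simpa [mul_assoc] using this)
    · have e : (d * (g * d * g⁻¹))⁻¹ = (g * d * g⁻¹) * d := by
        rw [mul_inv_rev, mul_inv_rev, mul_inv_rev, inv_inv, hd', mul_assoc g d g⁻¹]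
      rw [e, hd', ← mul_assoc d d, hd, one_mul]
  refine le_antisymm hJP fun p hp => ?_
  rcases (hUtop ▸ Subgroup.mem_top p : p ∈ U) with h | h
  · exact h
  · exact absurd ((mul_mem_cancel_right hp).1 (hJP h)) hdP

theorem exists_inverted_ne_one (hJ : Subgroup.closure (inverted P d) = P)
    (hP : P ≠ ⊥) : ∃ x ∈ inverted P d, x ≠ 1 := by
  by_contra hno
  push Not at hno
  refine hP ?_
  rw [← hJ, eq_bot_iff, Subgroup.closure_le]
  exact fun t ht => Subgroup.mem_bot.2 (hno t ht)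

/-- The alternatives. -/
theorem structure_six_or_fiftyfour [Finite X] {P : Subgroup X} [P.Normal] {d : X} {k : ℕ}
    (hP : IsPGroup 3 P) (hk : P.index = 2 ^ k) (hd : d * d = 1) (hdP : d ∉ P)
    (hgen : Subgroup.closure (conjugatesOf d) = ⊤) (hPne : P ≠ ⊥)
    (h3 : ∀ x ∈ inverted P d, x ^ 3 = 1)
    (hA : ∀ x ∈ inverted P d, ∀ y ∈ inverted P d, x ≠ 1 → Commute x y → y ∈ Subgroup.zpowers x)
    (hE : ∀ x ∈ inverted P d, ∀ y ∈ inverted P d, ∀ y' ∈ inverted P d,
      (∀ p ∈ P, ⁅x, p⁆ ∈ Subgroup.center X) → ⁅x, y⁆ ≠ 1 → ⁅x, y'⁆ ∈ Subgroup.zpowers ⁅x, y⁆) :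
    (∃ x : X, x ≠ 1 ∧ x ^ 3 = 1 ∧ d * x * d⁻¹ = x⁻¹ ∧ Subgroup.closure ({d, x} : Set X) = ⊤) ∨
      ∃ x y : X, Gen54 d x y ∧ Subgroup.closure ({d, x, y} : Set X) = ⊤ ∧ 54 ≤ Nat.card X := by
  haveI : Fact (Nat.Prime 3) := ⟨Nat.prime_three⟩
  have hidx := index_two_of_class hk hd hdP hgen
  have hJ := closure_inverted hd hdP hidx hgen
  have hd' : d⁻¹ = d := inv_eq_of_mul_eq_one_right hd
  have hsup : ∀ S : Set X, P ≤ Subgroup.closure S → Subgroup.closure (insert d S) = ⊤ := by
    intro S hS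
    refine eq_top_iff.2 fun g _ => ?_
    have hdc : d ∈ Subgroup.closure (insert d S) := Subgroup.subset_closure (Set.mem_insert _ _)
    have hPc : P ≤ Subgroup.closure (insert d S) :=
      hS.trans (Subgroup.closure_mono (Set.subset_insert _ _))
    by_cases hg : g ∈ P
    · exact hPc hg
    · have : d * g ∈ P := by rw [Subgroup.mul_mem_iff_of_index_two hidx]; exact iff_of_false hdP hg
      have := mul_mem hdc (hPc this)
      rwa [← mul_assoc, hd, one_mul] at this
  have sq_eq_one : ∀ q ∈ P, q * q = 1 → q = 1 := by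
    intro q hq h
    obtain ⟨n, hn⟩ := hP ⟨q, hq⟩
    have hn' : q ^ 3 ^ n = 1 := congrArg Subtype.val hn
    have hdvd : orderOf q ∣ Nat.gcd (3 ^ n) 2 :=
      Nat.dvd_gcd (orderOf_dvd_of_pow_eq_one hn') (orderOf_dvd_of_pow_eq_one (by rw [pow_two, h]))
    rw [((Nat.coprime_primes Nat.prime_three Nat.prime_two).2 (by norm_num)).pow_left n] at hdvd
    exact orderOf_eq_one_iff.1 (Nat.dvd_one.1 hdvd)
  by_cases hab : ∀ a ∈ P, ∀ b ∈ P, Commute a b
  · refine Or.inl ?_
    obtain ⟨x, hx, hx1⟩ : ∃ x ∈ inverted P d, x ≠ 1 := by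
      exact exists_inverted_ne_one hJ hPne
    refine ⟨x, hx1, h3 x hx, hx.2, hsup {x} ?_⟩
    rw [← hJ, Subgroup.closure_le]
    intro y hy
    rw [← Subgroup.zpowers_eq_closure]
    exact hA x hx y hy hx1 (hab x hx.1 y hy.1)
  refine Or.inr ?_
  push Not at hab
  obtain ⟨a₀, ha₀, b₀, hb₀, hab⟩ := hab
  -- the centre of `P` is centralized by `d`
  have hfix : ∀ z ∈ P, (∀ p ∈ P, Commute z p) → d * z * d⁻¹ = z := by
    intro z hz hzc
    have hdz : ∀ p ∈ P, Commute (d * z⁻¹ * d⁻¹) p := by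
      intro p hp
      have h := (hzc _ ((inferInstance : P.Normal).conj_mem p hp d⁻¹)).inv_left
      have := h.map (MulAut.conj d).toMonoidHom
      simpa [mul_assoc] using this
    have hu : z * (d * z⁻¹ * d⁻¹) ∈ inverted P d := inverted.mul_conj hd hz
    by_contra hne
    have hu1 : z * (d * z⁻¹ * d⁻¹) ≠ 1 := by
      intro e
      rw [← conj_inv, mul_inv_eq_one] at e
      exact hne e.symm
    have hle : P ≤ Subgroup.zpowers (z * (d * z⁻¹ * d⁻¹)) := by
      rw [← hJ, Subgroup.closure_le]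
      exact fun y hy => hA _ hu y hy hu1 ((hzc y hy.1).mul_left (hdz y hy.1))
    obtain ⟨i, hi⟩ := Subgroup.mem_zpowers_iff.1 (hle ha₀)
    obtain ⟨j, hj⟩ := Subgroup.mem_zpowers_iff.1 (hle hb₀)
    exact hab (hi ▸ hj ▸ Commute.zpow_zpow_self _ i j)
  have hcentral : ∀ z ∈ P, (∀ p ∈ P, Commute z p) → z ∈ Subgroup.center X := by
    intro z hz hzc
    rw [Subgroup.mem_center_iff]
    intro g
    by_cases hg : g ∈ P
    · exact (hzc g hg).symm
    · have hdg : d * g ∈ P := by rw [Subgroup.mul_mem_iff_of_index_two hidx]; exact iff_of_false hdP hg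
      have h1 : d * z = z * d := mul_inv_eq_iff_eq_mul.1 (hfix z hz hzc)
      calc g * z = d * ((d * g) * z) := by rw [mul_assoc d g, ← mul_assoc d d, hd, one_mul]
        _ = d * (z * (d * g)) := by rw [(hzc _ hdg).eq]
        _ = z * g := by rw [← mul_assoc d z, h1, mul_assoc z, ← mul_assoc d d, hd, one_mul]
  -- an element of the second centre
  obtain ⟨q, hqnc, hq⟩ : ∃ q : P, q ∉ Subgroup.center P ∧ ∀ p : P, ⁅q, p⁆ ∈ Subgroup.center P := by
    haveI : Nontrivial (P ⧸ Subgroup.center P) := by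
      refine ⟨(⟨a₀, ha₀⟩ : P), 1, fun e => hab ?_⟩
      exact (congrArg Subtype.val (Subgroup.mem_center_iff.1 ((QuotientGroup.eq_one_iff _).1 e) ⟨b₀, hb₀⟩)).symm
    haveI : Nontrivial (Subgroup.center (P ⧸ Subgroup.center P)) := (hP.to_quotient _).center_nontrivial
    obtain ⟨⟨c, hc⟩, hc1⟩ := exists_ne (1 : Subgroup.center (P ⧸ Subgroup.center P))
    obtain ⟨q, rfl⟩ := QuotientGroup.mk'_surjective _ c
    refine ⟨q, fun h => hc1 (Subtype.ext ((QuotientGroup.eq_one_iff q).2 h)), fun p => ?_⟩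
    rw [← QuotientGroup.eq_one_iff]
    show QuotientGroup.mk' _ ⁅q, p⁆ = 1
    rw [map_commutatorElement, commutatorElement_eq_one_iff_commute]
    exact (Subgroup.mem_center_iff.1 hc _).symm
  have hZ2 : ∀ p ∈ P, ⁅(q : X), p⁆ ∈ Subgroup.center X := fun p hp =>
    hcentral _ (⁅q, ⟨p, hp⟩⁆ : P).2 fun r hr =>
      (congrArg Subtype.val (Subgroup.mem_center_iff.1 (hq ⟨p, hp⟩) ⟨r, hr⟩)).symm
  set x := (q : X) * (d * (q : X)⁻¹ * d⁻¹) with hxdef
  have hx : x ∈ inverted P d := inverted.mul_conj hd q.2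
  have hxq : ∀ p ∈ P, ⁅x, p⁆ ∈ Subgroup.center X := by
    intro p hp
    have h1 : ⁅d * (q : X)⁻¹ * d⁻¹, p⁆ ∈ Subgroup.center X := by
      have h2 : ⁅(q : X)⁻¹, d⁻¹ * p * d⁆ ∈ Subgroup.center X := by
        have hp' : d⁻¹ * p * d ∈ P := by
          have := (inferInstance : P.Normal).conj_mem p hp d⁻¹
          rwa [inv_inv] at this
        have e : ⁅(q : X)⁻¹, d⁻¹ * p * d⁆ = (q : X)⁻¹ * (⁅(q : X), d⁻¹ * p * d⁆)⁻¹ * (q : X) := by
          simp only [commutatorElement_def]; group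
        rw [e, mul_assoc, ← Subgroup.mem_center_iff.1 (inv_mem (hZ2 _ hp')) (q : X), inv_mul_cancel_left]
        exact inv_mem (hZ2 _ hp')
      have e : ⁅d * (q : X)⁻¹ * d⁻¹, p⁆ = d * ⁅(q : X)⁻¹, d⁻¹ * p * d⁆ * d⁻¹ := by
        simp only [commutatorElement_def]; group
      rw [e, Subgroup.mem_center_iff.1 h2 d, mul_inv_cancel_right]
      exact h2
    have e : ⁅x, p⁆ = (q : X) * ⁅d * (q : X)⁻¹ * d⁻¹, p⁆ * (q : X)⁻¹ * ⁅(q : X), p⁆ := by
      rw [hxdef]; simp only [commutatorElement_def]; group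
    rw [e, Subgroup.mem_center_iff.1 h1 (q : X), mul_inv_cancel_right]
    exact mul_mem h1 (hZ2 p hp)
  -- bilinearity
  have hbil : ∀ p ∈ P, ∀ p' ∈ P, ⁅x, p * p'⁆ = ⁅x, p⁆ * ⁅x, p'⁆ := by
    intro p hp p' hp'
    have e : ⁅x, p * p'⁆ = ⁅x, p⁆ * (p * ⁅x, p'⁆ * p⁻¹) := by simp only [commutatorElement_def]; group
    rw [e, Subgroup.mem_center_iff.1 (hxq p' hp') p, mul_inv_cancel_right]
  have hbinv : ∀ p ∈ P, ⁅x, p⁻¹⁆ = ⁅x, p⁆⁻¹ := fun p hp =>
    eq_inv_of_mul_eq_one_left (by rw [← hbil _ (inv_mem hp) _ hp, inv_mul_cancel, commutatorElement_one_right])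
  have hdfix : ∀ p ∈ P, d * ⁅x, p⁆ * d⁻¹ = ⁅x, p⁆ := fun p hp => by
    rw [Subgroup.mem_center_iff.1 (hxq p hp) d, mul_inv_cancel_right]
  have hxconj : ∀ p ∈ P, ⁅x, d * p * d⁻¹⁆ = ⁅x, p⁆⁻¹ := by
    intro p hp
    have e1 : d * ⁅x, p⁆ * d⁻¹ = ⁅x⁻¹, d * p * d⁻¹⁆ := by
      rw [← hx.2]; simp only [commutatorElement_def]; group
    have hp' := (inferInstance : P.Normal).conj_mem p hp d
    have e2 : ⁅x⁻¹, d * p * d⁻¹⁆ = x⁻¹ * ⁅x, d * p * d⁻¹⁆⁻¹ * x := by simp only [commutatorElement_def]; group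
    rw [hdfix p hp, e2, mul_assoc, ← Subgroup.mem_center_iff.1 (inv_mem (hxq _ hp')) x, inv_mul_cancel_left] at e1
    rw [e1, inv_inv]
  have hqP := q.2
  have hxnc : ∃ y ∈ inverted P d, ⁅x, y⁆ ≠ 1 := by
    by_contra hno
    push Not at hno
    have hxc : ∀ p ∈ P, Commute x p := by
      intro p hp
      rw [← hJ] at hp
      have : Subgroup.closure (inverted P d) ≤ Subgroup.centralizer ({x} : Set X) := by
        rw [Subgroup.closure_le]
        exact fun t ht => Subgroup.mem_centralizer_singleton_iff.2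
          (commutatorElement_eq_one_iff_commute.1 (hno t ht)).symm
      exact (Subgroup.mem_centralizer_singleton_iff.1 (this hp)).symm
    -- so `x = 1` and `q` is fixed
    have hx1 : x = 1 := by
      refine sq_eq_one x hx.1 ?_
      have := hfix x hx.1 hxc
      rw [hx.2] at this
      nth_rewrite 1 [← this]
      rw [inv_mul_cancel]
    have hqd : d * (q : X) * d⁻¹ = q := by
      rw [hxdef, ← conj_inv, mul_inv_eq_one] at hx1
      exact hx1.symm
    refine hqnc (Subgroup.mem_center_iff.2 fun r => Subtype.ext ?_)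
    suffices hh : Commute (q : X) r from hh.symm
    have hle : P ≤ Subgroup.centralizer ({(q : X)} : Set X) := by
      refine hJ.ge.trans ((Subgroup.closure_le _).2 ?_)
      intro y hy
      rw [SetLike.mem_coe, Subgroup.mem_centralizer_singleton_iff]
      refine (commutatorElement_eq_one_iff_commute.1 (sq_eq_one _ ?_ ?_)).symm
      · exact mul_mem (mul_mem (mul_mem hqP hy.1) (inv_mem hqP)) (inv_mem hy.1)
      · have h1 : d * ⁅(q : X), y⁆ * d⁻¹ = ⁅(q : X), y⁻¹⁆ := by
          rw [← hy.2]; conv_rhs => rw [← hqd]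
          simp only [commutatorElement_def]; group
        have h2 : ⁅(q : X), y⁻¹⁆ = y⁻¹ * ⁅(q : X), y⁆⁻¹ * y := by simp only [commutatorElement_def]; group
        rw [Subgroup.mem_center_iff.1 (hZ2 y hy.1) d, mul_inv_cancel_right, h2, mul_assoc,
          ← Subgroup.mem_center_iff.1 (inv_mem (hZ2 y hy.1)) y, inv_mul_cancel_left] at h1
        nth_rewrite 1 [h1]
        rw [inv_mul_cancel]
    exact (Subgroup.mem_centralizer_singleton_iff.1 (hle r.2)).symm
  obtain ⟨y, hy, hxy⟩ := hxnc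
  have hx1 : x ≠ 1 := fun e => hxy (by rw [e, commutatorElement_one_left])
  set z := ⁅x, y⁆ with hzdef
  have hzc : ∀ g, Commute g z := Subgroup.mem_center_iff.1 (hxq y hy.1)
  have hz3 : z ^ 3 = 1 := by
    have key : ∀ n : ℕ, ⁅x, y ^ n⁆ = z ^ n := by
      intro n
      induction n with
      | zero => simp
      | succ n ih => rw [pow_succ, hbil _ (pow_mem hy.1 n) _ hy.1, ih, pow_succ]
    rw [← key, h3 y hy, commutatorElement_one_right]
  -- `P` is generated by `x` and `y`
  have hsplit : ∀ p ∈ P, ∃ f ∈ P, d * f * d⁻¹ = f ∧ p * f⁻¹ ∈ Subgroup.closure ({x, y} : Set X) := by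
    intro p hp
    have hxm : x ∈ Subgroup.closure ({x, y} : Set X) := Subgroup.subset_closure (by simp)
    have hym : y ∈ Subgroup.closure ({x, y} : Set X) := Subgroup.subset_closure (by simp)
    -- replace `p` by an element commuting with `x`
    obtain ⟨s, hs, hsc⟩ : ∃ s ∈ Subgroup.closure ({x, y} : Set X), s ∈ P ∧ Commute x (s⁻¹ * p) := by
      set u := p * (d * p⁻¹ * d⁻¹) with hu
      have hui : u ∈ inverted P d := inverted.mul_conj hd hp
      have hxu : ⁅x, u⁆ = ⁅x, p⁆ * ⁅x, p⁆ := by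
        rw [hu, hbil p hp _ ((inferInstance : P.Normal).conj_mem _ (inv_mem hp) d),
          hxconj _ (inv_mem hp), hbinv p hp, inv_inv]
      obtain ⟨i, hi⟩ := Subgroup.mem_zpowers_iff.1 (hE x hx y hy u hui hxq hxy)
      have hp3 : ⁅x, p⁆ ^ 3 = 1 := by
        have key : ∀ n : ℕ, ⁅x ^ n, p⁆ = ⁅x, p⁆ ^ n := by
          intro n
          induction n with
          | zero => simp
          | succ n ih =>
            have e : ⁅x ^ (n + 1), p⁆ = x * ⁅x ^ n, p⁆ * x⁻¹ * ⁅x, p⁆ := by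
              simp only [commutatorElement_def, pow_succ']; group
            rw [e, ih, Subgroup.mem_center_iff.1 (pow_mem (hxq p hp) n) x, mul_inv_cancel_right, pow_succ]
        rw [← key, h3 x hx, commutatorElement_one_left]
      have hpz : ⁅x, p⁆ = z ^ (i * 2) := by
        rw [zpow_mul, hi, hxu, zpow_ofNat, ← pow_two, ← pow_mul]
        calc ⁅x, p⁆ = ⁅x, p⁆ ^ 3 * ⁅x, p⁆ := by rw [hp3, one_mul]
          _ = ⁅x, p⁆ ^ (2 * 2) := by rw [← pow_succ]
      have keyz : ∀ n : ℤ, ⁅x, y ^ n⁆ = z ^ n := by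
        intro n
        induction n using Int.induction_on with
        | zero => simp
        | succ n ih => rw [zpow_add_one, hbil _ (zpow_mem hy.1 _) _ hy.1, ih, zpow_add_one]
        | pred n ih => rw [zpow_sub_one, hbil _ (zpow_mem hy.1 _) _ (inv_mem hy.1), ih, hbinv y hy.1, zpow_sub_one]
      refine ⟨y ^ (i * 2), zpow_mem hym _, zpow_mem hy.1 _, commutatorElement_eq_one_iff_commute.1 ?_⟩
      rw [hbil _ (inv_mem (zpow_mem hy.1 _)) _ hp, hbinv _ (zpow_mem hy.1 _), keyz, hpz, inv_mul_cancel]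
    obtain ⟨hsP, hsc⟩ := hsc
    set r := s⁻¹ * p with hr
    have hrP : r ∈ P := mul_mem (inv_mem hsP) hp
    set u := r * (d * r⁻¹ * d⁻¹) with hu
    have hui : u ∈ inverted P d := inverted.mul_conj hd hrP
    have hxu : Commute x u := by
      rw [← commutatorElement_eq_one_iff_commute, hu,
        hbil r hrP _ ((inferInstance : P.Normal).conj_mem _ (inv_mem hrP) d), hxconj _ (inv_mem hrP),
        hbinv r hrP, inv_inv, commutatorElement_eq_one_iff_commute.2 hsc, one_mul]
    obtain ⟨j, hj⟩ := Subgroup.mem_zpowers_iff.1 (hA x hx u hui hx1 hxu)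
    -- `d r d⁻¹ = x ^ (-j) r`
    have hdr : d * r * d⁻¹ = x ^ (-j) * r := by
      rw [zpow_neg, hj, hu]; group
    refine ⟨x ^ j * r, mul_mem (zpow_mem hx.1 _) hrP, ?_, ?_⟩
    · rw [← conj_mul, ← conj_zpow, hx.2, hdr, inv_zpow', ← mul_assoc, ← zpow_add]
      congr 1
      rw [show -j + -j = -(2 * j) by ring]
      have h3' : x ^ (3 : ℤ) = 1 := by rw [zpow_ofNat, h3 x hx]
      calc x ^ (-(2 * j)) = x ^ (j + 3 * (-j)) := by ring_nf
        _ = x ^ j := by rw [zpow_add, zpow_mul, h3', one_zpow, mul_one]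
    · have e : p * (x ^ j * r)⁻¹ = s * (x ^ j)⁻¹ := by rw [hr]; group
      rw [e]; exact mul_mem hs (inv_mem (zpow_mem hxm _))
  have hPgen : P ≤ Subgroup.closure ({x, y} : Set X) := by
    haveI : Group.IsNilpotent P := hP.isNilpotent
    set K := (Subgroup.closure ({x, y} : Set X)).subgroupOf P with hK
    have hfix' : ∀ f : P, d * (f : X) * d⁻¹ = f → f ∈ commutator P := by
      intro f hf
      let Ab := P ⧸ commutator P
      let c : Ab →* Ab := QuotientGroup.map _ _ (MulAut.conjNormal d : P ≃* P).toMonoidHom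
        (Subgroup.map_le_iff_le_comap.1 (by
          rw [commutator_def, Subgroup.map_commutator, Subgroup.map_top_of_surjective _ (MulEquiv.surjective _)]))
      haveI : IsMulCommutative Ab := ⟨⟨fun a b => by
        obtain ⟨a, rfl⟩ := QuotientGroup.mk'_surjective _ a
        obtain ⟨b, rfl⟩ := QuotientGroup.mk'_surjective _ b
        rw [← commute_iff_eq, ← commutatorElement_eq_one_iff_commute, ← map_commutatorElement]
        exact (QuotientGroup.eq_one_iff _).2
          (Subgroup.commutator_mem_commutator (Subgroup.mem_top _) (Subgroup.mem_top _))⟩⟩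
      let S : Subgroup P :=
        { carrier := {r | c (r : Ab) = (r : Ab)⁻¹}
          one_mem' := by simp
          mul_mem' := by
            intro a b ha hb
            show c ((a : Ab) * b) = ((a : Ab) * b)⁻¹
            rw [map_mul, ha, hb, mul_inv_rev, mul_comm']
          inv_mem' := by
            intro a ha
            show c ((a : Ab)⁻¹) = ((a : Ab)⁻¹)⁻¹
            rw [map_inv, ha] }
      have hS : P ≤ S.map P.subtype := by
        refine hJ.ge.trans ((Subgroup.closure_le _).2 ?_)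
        intro t ht
        refine ⟨⟨t, ht.1⟩, ?_, rfl⟩
        show c _ = _
        have : (MulAut.conjNormal d : P ≃* P) ⟨t, ht.1⟩ = (⟨t, ht.1⟩ : P)⁻¹ := Subtype.ext ht.2
        exact congrArg (fun r : P => (r : Ab)) this
      obtain ⟨f', hf', e⟩ := hS f.2
      obtain rfl : f' = f := Subtype.ext e
      have h1 : c (f' : Ab) = (f' : Ab) := congrArg (fun r : P => (r : Ab)) (Subtype.ext hf : (MulAut.conjNormal d : P ≃* P) f' = f')
      have h2 : (f' : Ab) = (f' : Ab)⁻¹ := h1.symm.trans hf'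
      rw [← QuotientGroup.eq_one_iff]
      obtain ⟨n, hn⟩ := hP f'
      have hpow : (f' : Ab) ^ 3 ^ n = 1 := by rw [← QuotientGroup.mk_pow, hn]; rfl
      have hsq : (f' : Ab) ^ 2 = 1 := by rw [pow_two]; exact mul_eq_one_iff_eq_inv.2 h2
      have hdvd : orderOf (f' : Ab) ∣ Nat.gcd (3 ^ n) 2 :=
        Nat.dvd_gcd (orderOf_dvd_of_pow_eq_one hpow) (orderOf_dvd_of_pow_eq_one hsq)
      rw [((Nat.coprime_primes Nat.prime_three Nat.prime_two).2 (by norm_num)).pow_left n] at hdvd
      exact orderOf_eq_one_iff.1 (Nat.dvd_one.1 hdvd)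
    have hsupK : K ⊔ frattini P = ⊤ := by
      refine eq_top_iff.2 fun r _ => ?_
      obtain ⟨f, hf, hfd, hrf⟩ := hsplit r r.2
      have h1 : r * (⟨f, hf⟩ : P)⁻¹ ∈ K := hrf
      have h2 : (⟨f, hf⟩ : P) ∈ frattini P :=
        CfsgLib.PGroups.commutator_le_frattini (hfix' ⟨f, hf⟩ hfd)
      have := mul_mem (Subgroup.mem_sup_left h1 : _ ∈ K ⊔ frattini P) (Subgroup.mem_sup_right h2)
      rwa [inv_mul_cancel_right] at this
    exact Subgroup.subgroupOf_eq_top.1 (frattini_nongenerating hsupK)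
  have hcube : ∀ a b : X, a ^ 3 = 1 → b ^ 3 = 1 → b * a = ⁅b, a⁆ * a * b :=
    fun a b _ _ => by simp only [commutatorElement_def]; group
  have hyx : y * x = z⁻¹ * x * y := by rw [hzdef]; simp only [commutatorElement_def]; group
  have hg54 : Gen54 d x y := by
    refine ⟨hd, hx.2, hy.2, h3 x hx, h3 y hy, cube_mul_of_twist (h3 x hx) (h3 y hy)
      (by rw [inv_pow, hz3, inv_one]) (hzc x).symm.inv_left (hzc y).symm.inv_left hyx, ?_⟩
    refine cube_mul_of_twist (c := z) (h3 x hx) (by rw [inv_pow, h3 y hy, inv_one]) hz3 (hzc x).symm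
      (hzc _).symm ?_
    calc y⁻¹ * x = y⁻¹ * (z * (z⁻¹ * x * y)) * y⁻¹ := by group
      _ = y⁻¹ * (z * (y * x)) * y⁻¹ := by rw [hyx]
      _ = z * x * y⁻¹ := by rw [← mul_assoc z, ← (hzc y).eq]; group
  refine ⟨x, y, hg54, hsup {x, y} hPgen, ?_⟩
  obtain ⟨n, hn⟩ := hP.exists_card_eq
  have h27 : 27 ≤ Nat.card P := by
    by_contra hlt
    refine hab ?_
    have hn2 : n ≤ 2 := by
      by_contra h
      exact hlt (hn ▸ Nat.pow_le_pow_right (by norm_num : 0 < 3) (by omega : 3 ≤ n))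
    rcases Nat.lt_or_ge n 2 with h | h
    · haveI : IsCyclic P := by
        rcases (by omega : n = 0 ∨ n = 1) with rfl | rfl
        · haveI : Subsingleton P := (Nat.card_eq_one_iff_unique.1 (by simpa using hn)).1
          exact isCyclic_of_subsingleton
        · exact isCyclic_of_prime_card (p := 3) (by simpa using hn)
      exact congrArg Subtype.val (mul_comm' (⟨a₀, ha₀⟩ : P) ⟨b₀, hb₀⟩)
    · obtain rfl : n = 2 := by omega
      exact congrArg Subtype.val (IsPGroup.commutative_of_card_eq_prime_sq hn (⟨a₀, ha₀⟩ : P) ⟨b₀, hb₀⟩)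
  rw [← P.card_mul_index, hidx]
  omega

end CfsgLib.ThreeTrans
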